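import Cfsg.Statements.S0136
import Mathlib
import Cfsg.Agent.CharLib.Orth

set_option autoImplicit false
open Cfsg

namespace Cfsg.Agent.S0136

/-- Two elements of a finite group are conjugate if and only if no irreducible complex character separates them. -/
theorem result {G : Type*} [Group G] [Finite G] (g h : G) : IsConj g h ↔ ∀ χ : Cfsg.IrrCharacter G, (χ : G → ℂ) g = (χ : G → ℂ) h := by
  cases nonempty_fintype G
  constructor
  · intro hc χ
    exact Cfsg.Agent.CharLib.isClassFunction_apply_of_isConj
      (Cfsg.Agent.CharLib.isClassFunction_of_irr χ.2) hc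
  · intro hall
    by_contra hn
    have h1 := Cfsg.Agent.CharLib.sum_irr_mul_conj_of_not_isConj hn
    have h2 := Cfsg.Agent.CharLib.sum_irr_mul_conj_self h
    have h3 : ∑ χ : IrrCharacter G, (χ : G → ℂ) g * (starRingEnd ℂ) ((χ : G → ℂ) h) =
        ∑ χ : IrrCharacter G, (χ : G → ℂ) h * (starRingEnd ℂ) ((χ : G → ℂ) h) :=
      Finset.sum_congr rfl fun χ _ => by rw [hall χ]
    rw [h3, h2] at h1
    have h4 : Nat.card (Subgroup.centralizer ({h} : Set G)) = 0 := by exact_mod_cast h1
    exact Nat.card_pos.ne' h4

end Cfsg.Agent.S0136
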