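import Mathlib
import Cfsg.Statements.S0319
import Cfsg.Agent.Lib.Helper3.BNPair2

set_option autoImplicit false
open Cfsg

namespace Cfsg.Agent.S0319

open Cfsg.Agent.Lib.Helper3.BN

theorem len_SS {G : Type*} [Group G] {P : Cfsg.BNPair G} {s s' : G} (hs : s ∈ P.S) (hs' : s' ∈ P.S)
    (hne : s' ≠ s) : len P (s' * s) = 2 := by
  have h1 := len_s_mul_ne hs' (S_mem_N hs)
  have h2 := len_s_mul_le hs' (S_mem_N hs)
  rw [len_S hs] at h1 h2
  have h3 : len P (s' * s) ≠ 0 := by
    intro h0
    rw [len_eq_zero_iff (mul_mem (S_mem_N hs') (S_mem_N hs))] at h0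
    apply hne
    apply P.inj s' hs' s hs
    have e : s'⁻¹ * s = (s' * s')⁻¹ * (s' * s) := by simp [mul_assoc]
    rw [e]
    exact mul_mem (inv_mem (P.sq_mem s' hs')) h0
  omega

/-- the commuting lemma for a normal subgroup -/
theorem comm_of_normal {G : Type*} [Group G] {P : Cfsg.BNPair G} (H : Subgroup G) [H.Normal]
    {s s' : G} (hs : s ∈ P.S) (hsM : s ∈ P.B ⊔ H) (hs' : s' ∈ P.S) (hs'M : s' ∉ P.B ⊔ H) :
    s * s' * s⁻¹ * s'⁻¹ ∈ P.B := by
  have hBM : P.B ≤ P.B ⊔ H := le_sup_left
  have hHM : H ≤ P.B ⊔ H := le_sup_right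
  have hsN := S_mem_N hs
  have hs'N := S_mem_N hs'
  have hne : s' ≠ s := by rintro rfl; exact hs'M hsM
  obtain ⟨b, hb, h, hh, e⟩ := Subgroup.mem_sup_of_normal_right.1 hsM
  have hh' : h = b⁻¹ * s * 1 := by rw [← e]; simp
  have hlen1 := len_SS hs hs' hne
  have hlen2 := len_SS hs' hs hne.symm
  -- s' h ∈ C (s' s)
  have h1 : s' * h ∈ C P (s' * s) := by
    have := sBn_subset hs' hsN (by rw [len_S hs, hlen1]; omega) (inv_mem hb)
    rw [hh']; simpa [mul_assoc] using this
  have h2 := right_mul_inv hs' (mul_mem hs'N hsN) h1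
  have h3 : s' * h * s'⁻¹ ∈ P.B ⊔ H := hHM (Subgroup.Normal.conj_mem inferInstance h hh s')
  have hmemM : ∀ n, s' * h * s'⁻¹ ∈ C P n → n ∈ P.B ⊔ H := by
    intro n hn
    obtain ⟨b1, hb1, b2, hb2, e1⟩ := mem_C.1 hn
    have e2 : n = b1⁻¹ * (s' * h * s'⁻¹) * b2⁻¹ := by rw [e1]; simp [mul_assoc]
    rw [e2]
    exact mul_mem (mul_mem (hBM (inv_mem hb1)) h3) (hBM (inv_mem hb2))
  have hrel : Rel P (s' * s) (s * s') := by
    rcases h2 with h2 | h2
    · have hn := hmemM _ h2
      rcases le_or_gt (len P (s' * (s * s'))) (len P (s * s')) with hle | hlt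
      · exact rel_of_len_lt hs' hs' hsN (by rw [len_S hs, hlen1]; omega) hle
      · exfalso
        apply hs'M
        have hnN : s' * (s * s') ∈ P.N := mul_mem hs'N (mul_mem hsN hs'N)
        have hrep : Rep P P.S [s', s, s'] (s' * (s * s')) := by
          refine ⟨?_, by simp [Rel.refl]⟩
          intro x hx
          simp only [List.mem_cons, List.not_mem_nil, or_false] at hx
          rcases hx with rfl | rfl | rfl <;> assumption
        have hl := len_le hrep
        simp only [List.length_cons, List.length_nil] at hl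
        rw [mul_assoc] at hn
        refine letters_mem hBM [s', s, s'] _ hnN hrep ?_ ?_ s' (by simp)
        · simp only [List.length_cons, List.length_nil]; omega
        · intro b hb
          exact mul_mem (mul_mem hn (hBM hb)) (inv_mem hn)
    · exfalso
      apply hs'M
      have hn := hmemM _ h2
      have e3 : s' = (s' * s) * s⁻¹ := by simp
      rw [e3]
      exact mul_mem hn (inv_mem hsM)
  have h4 := conj_mem₁ (mul_mem hs'N hsN) hrel
    (mul_mem (inv_mem (mul_mem hs'N hsN)) (mul_mem hsN hs'N))
  have e4 : s * s' * s⁻¹ * s'⁻¹ = s' * s * ((s' * s)⁻¹ * (s * s')) * (s' * s)⁻¹ := by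
    simp [mul_assoc]
  rw [e4]; exact h4

/-- Simplicity criterion for groups with a (B,N)-pair: if the distinguished generators admit no
splitting into two non-empty mutually commuting parts, `B` is solvable, `G` is perfect and the intersection
of all conjugates of `B` is trivial, then `G` is simple. -/
theorem result {G : Type*} [Group G] [Nontrivial G]
    (P : Cfsg.BNPair G) (hirr : P.Irreducible) (hsolv : Group.IsSolvable P.B) (hperf : commutator G = ⊤)
    (hcore : P.B.normalCore = ⊥) : IsSimpleGroup G := by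
  refine IsSimpleGroup.mk (fun H hH => ?_)
  have hBM : P.B ≤ P.B ⊔ H := le_sup_left
  have hpar := eq_parabolic hBM
  set X := P.S ∩ ((P.B ⊔ H : Subgroup G) : Set G) with hX
  have hXS : X ⊆ P.S := Set.inter_subset_left
  by_cases h1 : X.Nonempty
  · by_cases h2 : (P.S \ X).Nonempty
    · exfalso
      obtain ⟨s, hs, s', hs', hn⟩ := hirr X hXS h1 h2
      apply hn
      apply comm_of_normal H hs.1 hs.2 hs'.1
      intro h
      exact hs'.2 ⟨hs'.1, h⟩
    · right
      have hXeq : X = P.S := by
        apply Set.Subset.antisymm hXS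
        intro s hs
        by_contra hsX
        exact h2 ⟨s, hs, hsX⟩
      rw [hXeq, parabolic_S] at hpar
      -- B ⊔ H = ⊤
      apply QuotientGroup.subgroup_eq_top_of_subsingleton
      by_contra hns
      rw [not_subsingleton_iff_nontrivial] at hns
      have hsurj : Function.Surjective ((QuotientGroup.mk' H).comp P.B.subtype) := by
        intro q
        obtain ⟨g, rfl⟩ := QuotientGroup.mk'_surjective H q
        have hg : g ∈ P.B ⊔ H := by rw [hpar]; trivial
        obtain ⟨b, hb, h, hh, rfl⟩ := Subgroup.mem_sup_of_normal_right.1 hg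
        refine ⟨⟨b, hb⟩, ?_⟩
        show (QuotientGroup.mk' H) b = (QuotientGroup.mk' H) (b * h)
        have h1 : (QuotientGroup.mk' H) h = 1 := (QuotientGroup.eq_one_iff h).2 hh
        rw [map_mul, h1, mul_one]
      have hsol : Group.IsSolvable (G ⧸ H) := Group.isSolvable_of_surjective hsurj
      have hlt := Group.IsSolvable.commutator_lt_top_of_nontrivial (G ⧸ H)
      apply hlt.ne
      have := Subgroup.map_commutator (⊤ : Subgroup G) ⊤ (QuotientGroup.mk' H)
      rw [← commutator_def, hperf, Subgroup.map_top_of_surjective _ (QuotientGroup.mk'_surjective H),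
        ← commutator_def] at this
      exact this.symm
  · left
    rw [Set.not_nonempty_iff_eq_empty] at h1
    rw [h1, parabolic_empty] at hpar
    have hHB : H ≤ P.B := by rw [← hpar]; exact le_sup_right
    have := Subgroup.normal_le_normalCore.2 hHB
    rw [hcore] at this
    exact le_bot_iff.1 this

end Cfsg.Agent.S0319
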