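import Cfsg.Statements.S1051
import Cfsg.Agent.Chev.All2
import Cfsg.Agent.Chev.Thy7

set_option autoImplicit false
open Cfsg

namespace Cfsg.Agent.S1051

/-- `⋂_g g B g⁻¹ = 1`: the normal core of `B` in the Chevalley group is trivial. -/
theorem result {F : Type*} [Field F] (D : Cfsg.Lie.ChevalleyDatum) (hD : D ∈ [Cfsg.Lie.chevG2, Cfsg.Lie.chevB2, Cfsg.Lie.chevD4, Cfsg.Lie.chevF4, Cfsg.Lie.chevE6, Cfsg.Lie.chevE7, Cfsg.Lie.chevE8]) : ((D.borelSubgroup F).subgroupOf (D.group F)).normalCore = ⊥ := by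
  obtain ⟨G, G2, hG⟩ := Cfsg.Agent.Chev.exists_good2 hD
  have R := hG F
  obtain ⟨n0, hn0, hopp⟩ := R.exists_opposition G2
  -- every element all of whose conjugates lie in `B` lies in `H`
  have key : ∀ g : GL D.Idx F, (∀ x ∈ D.group F, x * g * x⁻¹ ∈ D.borelSubgroup F) → g ∈ D.diagonalSubgroup F := by
    intro g hg
    have h1 : g ∈ D.borelSubgroup F := by simpa using hg 1 (Subgroup.one_mem _)
    have h2 := hg n0⁻¹ (Subgroup.inv_mem _ (R.N_le_group hn0))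
    rw [inv_inv] at h2
    obtain ⟨u, hu, h, hh, e⟩ := Cfsg.Agent.Chev.exists_mul_of_mem_sup R.H_le_normalizer_U h2
    have h3 : n0 * u * n0⁻¹ ∈ D.negUnipotent F := by
      rw [← hopp]; exact ⟨u, hu, rfl⟩
    have h4 : n0 * h * n0⁻¹ ∈ D.diagonalSubgroup F :=
      (Subgroup.mem_normalizer_iff.mp (R.N_le_normalizer_H G2 hn0) _).mp hh
    have h5 : g = (n0 * u * n0⁻¹) * (n0 * h * n0⁻¹) := by
      have : g = n0 * (n0⁻¹ * g * n0) * n0⁻¹ := by group
      rw [this, e]; group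
    have h6 : g ∈ D.borelSubgroup F ⊓ (D.negUnipotent F ⊔ D.diagonalSubgroup F) :=
      ⟨h1, h5 ▸ Subgroup.mul_mem _ (Subgroup.mem_sup_left h3) (Subgroup.mem_sup_right h4)⟩
    rwa [R.B_inf_VH] at h6
  rw [eq_bot_iff]
  intro g hg
  rw [Subgroup.mem_bot]
  have hg' : ∀ x ∈ D.group F, x * (g : GL D.Idx F) * x⁻¹ ∈ D.borelSubgroup F := by
    intro x hx
    have : (⟨x, hx⟩ : ↥(D.group F)) * g * (⟨x, hx⟩ : ↥(D.group F))⁻¹ ∈ (D.borelSubgroup F).subgroupOf (D.group F) := hg ⟨x, hx⟩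
    rwa [Subgroup.mem_subgroupOf] at this
  have hH := key g hg'
  obtain ⟨χ, c1, c2, c3⟩ := R.H_le_Tor hH
  have hχ : ∀ s : Fin D.nroots, χ (Sum.inr s) = 1 := by
    intro s
    have h1 : R.xg s 1 * (g : GL D.Idx F) * (R.xg s 1)⁻¹ ∈ D.diagonalSubgroup F := by
      apply key
      intro x hx
      have := hg' (x * R.xg s 1) (Subgroup.mul_mem _ hx (R.xg_mem_group _ _))
      have e : x * (R.xg s 1 * (g : GL D.Idx F) * (R.xg s 1)⁻¹) * x⁻¹ = x * R.xg s 1 * g * (x * R.xg s 1)⁻¹ := by group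
      rwa [e]
    have h2 : R.xg s 1 * (g : GL D.Idx F) * (R.xg s 1)⁻¹ = R.xg s (1 - χ (Sum.inr s)) * g := by
      rw [R.xg_inv, mul_assoc, c3, ← mul_assoc, R.xg_add]
      congr 2; ring
    rw [h2] at h1
    have h3 : R.xg s (1 - χ (Sum.inr s)) ∈ D.diagonalSubgroup F := by
      have := Subgroup.mul_mem _ h1 (Subgroup.inv_mem _ hH)
      rwa [mul_inv_cancel_right] at this
    have h4 : R.xg s (1 - χ (Sum.inr s)) = 1 := by
      by_cases hs : D.nroots / 2 ≤ (s : ℕ)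
      · have : R.xg s (1 - χ (Sum.inr s)) ∈ D.posUnipotent F ⊓ D.diagonalSubgroup F := ⟨R.xg_mem_U _ hs s.2 _, h3⟩
        rwa [R.U_inf_H] at this
      · have : R.xg s (1 - χ (Sum.inr s)) ∈ D.borelSubgroup F ⊓ D.negUnipotent F :=
          ⟨R.H_le_B h3, R.xg_mem_V _ (by omega) _⟩
        rwa [R.B_inf_V] at this
    rw [R.xg_eq_one_iff s.2, sub_eq_zero] at h4
    exact Units.ext h4.symm
  apply Subtype.ext
  apply Units.ext
  rw [c2]
  have : (fun a => ((χ a : Fˣ) : F)) = fun _ => 1 := by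
    funext a
    rcases a with i | s
    · rw [c1]; rfl
    · rw [hχ]; rfl
  rw [this]
  simp

end Cfsg.Agent.S1051
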