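import Cfsg.Statements.S1052
import Cfsg.Agent.Chev.All2
import Cfsg.Agent.Chev.PerfSmall
import Cfsg.Agent.Chev.Tab.D4Perf
import Cfsg.Agent.Chev.Tab.F4Perf
import Cfsg.Agent.Chev.Tab.E6Perf
import Cfsg.Agent.Chev.Tab.E7Perf
import Cfsg.Agent.Chev.Tab.E8Perf

set_option autoImplicit false
open Cfsg

namespace Cfsg.Agent.S1052

/-- `G = G'` for every type G₂, B₂, D₄, F₄, E₆, E₇, E₈ over every field, except G₂ and B₂ over the field with two elements. -/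
theorem result {F : Type*} [Field F] (D : Cfsg.Lie.ChevalleyDatum) (hD : D ∈ [Cfsg.Lie.chevG2, Cfsg.Lie.chevB2, Cfsg.Lie.chevD4, Cfsg.Lie.chevF4, Cfsg.Lie.chevE6, Cfsg.Lie.chevE7, Cfsg.Lie.chevE8]) (h2 : D = Cfsg.Lie.chevG2 ∨ D = Cfsg.Lie.chevB2 → ∃ a : F, a ≠ 0 ∧ a ≠ 1) :
    commutator ↥(D.group F) = ⊤ := by
  simp only [List.mem_cons, List.not_mem_nil, or_false] at hD
  rcases hD with rfl | rfl | rfl | rfl | rfl | rfl | rfl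
  · exact (Cfsg.Agent.Chev.relsG2 F).perfect_small Cfsg.Agent.Chev.pairDiagG2 Cfsg.Agent.Chev.oddReachG2 (h2 (Or.inl rfl))
  · exact (Cfsg.Agent.Chev.relsB2 F).perfect_small Cfsg.Agent.Chev.pairDiagB2 Cfsg.Agent.Chev.oddReachB2 (h2 (Or.inr rfl))
  · exact (Cfsg.Agent.Chev.relsD4 F).perfect_of_sumA2 Cfsg.Agent.Chev.sumA2D4
  · exact (Cfsg.Agent.Chev.relsF4 F).perfect_of_sumA2 Cfsg.Agent.Chev.sumA2F4
  · exact (Cfsg.Agent.Chev.relsE6 F).perfect_of_sumA2 Cfsg.Agent.Chev.sumA2E6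
  · exact (Cfsg.Agent.Chev.relsE7 F).perfect_of_sumA2 Cfsg.Agent.Chev.sumA2E7
  · exact (Cfsg.Agent.Chev.relsE8 F).perfect_of_sumA2 Cfsg.Agent.Chev.sumA2E8

end Cfsg.Agent.S1052
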