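import Cfsg.Statements.S3741
import Cfsg.Agent.H4.Nilp
import Cfsg.Agent.H20.PGroup

set_option autoImplicit false
open Cfsg

namespace Cfsg.Agent.S3741

open Subgroup

section aux

variable {G : Type*} [Group G]

/-- In a finite `p`-group a subgroup of order at most `p` is centralized by its normalizer. -/
theorem normalizer_le_centralizer_of_card_le [Finite G] {p : ℕ} [Fact p.Prime] (hG : IsPGroup p G)
    (Z : Subgroup G) (hZ : Nat.card Z ≤ p) : normalizer (Z : Set G) ≤ centralizer (Z : Set G) := by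
  by_cases hbot : Z = ⊥
  · subst hbot
    intro x _
    rw [mem_centralizer_iff]
    intro z hz
    have : z = 1 := hz
    rw [this]; simp
  set L := normalizer (Z : Set G) with hL
  have hLp : IsPGroup p L := hG.to_subgroup L
  have : Group.IsNilpotent L := hLp.isNilpotent
  have hZL : Z ≤ L := le_normalizer
  have hn : (Z.subgroupOf L).Normal := (normal_subgroupOf_iff_le_normalizer hZL).2 le_rfl
  have hne : Z.subgroupOf L ≠ ⊥ := by
    intro h
    rw [subgroupOf_eq_bot, disjoint_iff, inf_eq_left.2 hZL] at h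
    exact hbot h
  have h1 := Cfsg.Agent.H4.normal_inf_center_ne_bot (Z.subgroupOf L) hne
  have h2 : IsPGroup p ↥(Z.subgroupOf L ⊓ center L) := hLp.to_subgroup _
  have h3 : p ∣ Nat.card ↥(Z.subgroupOf L ⊓ center L) := by
    obtain ⟨n, hn⟩ := IsPGroup.iff_card.1 h2
    rw [hn]
    cases n with
    | zero =>
      exfalso; apply h1
      rw [pow_zero] at hn
      exact (Subgroup.card_eq_one).1 hn
    | succ n => exact dvd_pow_self p (Nat.succ_ne_zero n)
  have h4 : Nat.card (Z.subgroupOf L) = Nat.card Z :=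
    Nat.card_congr (subgroupOfEquivOfLe hZL).toEquiv
  have h5 : Z.subgroupOf L ⊓ center L = Z.subgroupOf L := by
    apply Subgroup.eq_of_le_of_card_ge inf_le_left
    rw [h4]
    exact hZ.trans (Nat.le_of_dvd Nat.card_pos h3)
  have h6 : Z.subgroupOf L ≤ center L := inf_eq_left.1 h5
  intro x hx
  rw [mem_centralizer_iff]
  intro z hz
  have hz' : (⟨z, hZL hz⟩ : L) ∈ center L := h6 (by simpa [mem_subgroupOf] using hz)
  have := (mem_center_iff.1 hz') ⟨x, hx⟩
  exact (congrArg Subtype.val this).symm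

/-- The commutator map `b ↦ [a,b]` as a homomorphism `B → Z`. -/
def commHom (B Z : Subgroup G) (a : G) (h1 : ∀ b ∈ B, a * b * a⁻¹ * b⁻¹ ∈ Z)
    (h2 : ∀ z ∈ Z, ∀ b ∈ B, z * b = b * z) : B →* Z where
  toFun b := ⟨a * b * a⁻¹ * b⁻¹, h1 b b.2⟩
  map_one' := by ext; simp
  map_mul' x y := by
    ext
    have := h2 _ (h1 y y.2) x x.2
    change a * (↑x * ↑y) * a⁻¹ * ((x:G) * (y:G))⁻¹ =
      (a * x * a⁻¹ * (x:G)⁻¹) * (a * y * a⁻¹ * (y:G)⁻¹)
    rw [mul_inv_rev]
    calc a * (↑x * ↑y) * a⁻¹ * ((y:G)⁻¹ * (x:G)⁻¹)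
        = a * x * a⁻¹ * (x:G)⁻¹ * (x * (a * y * a⁻¹ * (y:G)⁻¹)) * (x:G)⁻¹ := by group
      _ = a * x * a⁻¹ * (x:G)⁻¹ * ((a * y * a⁻¹ * (y:G)⁻¹) * x) * (x:G)⁻¹ := by rw [this]
      _ = _ := by group

theorem card_cent [Finite G] {p : ℕ} [hp : Fact p.Prime] (B Z : Subgroup G) (hZ : Nat.card Z = p) (a : G)
    (h1 : ∀ b ∈ B, a * b * a⁻¹ * b⁻¹ ∈ Z) (h2 : ∀ z ∈ Z, ∀ b ∈ B, z * b = b * z)
    (ha : a ∉ centralizer (B : Set G)) :
    p * Nat.card {b : B // a * (b:G) = b * a} = Nat.card B := by
  set f := commHom B Z a h1 h2 with hf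
  have hker : ∀ b : B, b ∈ f.ker ↔ a * (b:G) = b * a := by
    intro b
    rw [MonoidHom.mem_ker]
    constructor
    · intro h
      have : a * (b:G) * a⁻¹ * (b:G)⁻¹ = 1 := congrArg Subtype.val h
      calc a * (b:G) = (a * (b:G) * a⁻¹ * (b:G)⁻¹) * (b * a) := by group
        _ = b * a := by rw [this, one_mul]
    · intro h
      ext
      change a * (b:G) * a⁻¹ * (b:G)⁻¹ = 1
      rw [h]; group
  have hcard : Nat.card {b : B // a * (b:G) = b * a} = Nat.card f.ker :=
    Nat.card_congr (Equiv.subtypeEquivRight (fun b => (hker b).symm))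
  have hrange : Nat.card f.range = p := by
    have hd : Nat.card f.range ∣ p := hZ ▸ Subgroup.card_subgroup_dvd_card f.range
    rcases (Nat.dvd_prime hp.out).1 hd with h | h
    · exfalso
      apply ha
      rw [mem_centralizer_iff]
      intro b hb
      have hb1 : f ⟨b, hb⟩ = 1 := by
        have : f.range = ⊥ := (Subgroup.card_eq_one).1 h
        have h3 : f ⟨b, hb⟩ ∈ f.range := ⟨_, rfl⟩
        rw [this, mem_bot] at h3
        exact h3
      exact ((hker ⟨b, hb⟩).1 hb1).symm
    · exact h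
  rw [hcard, ← hrange, mul_comm]
  have := f.ker.card_mul_index
  rwa [Subgroup.index_ker] at this

open Classical in
theorem count [Finite G] {p : ℕ} [hp : Fact p.Prime] (A B Z : Subgroup G) (hZ : Nat.card Z = p)
    (h1 : ∀ a ∈ A, ∀ b ∈ B, a * b * a⁻¹ * b⁻¹ ∈ Z) (h2 : ∀ z ∈ Z, ∀ b ∈ B, z * b = b * z)
    [Fintype A] [Fintype B] :
    p * ∑ a : A, ∑ b : B, (if (a:G) * (b:G) = b * a then 1 else 0)
      = Nat.card A * Nat.card B +
        Nat.card ↥(A ⊓ centralizer (B : Set G)) * ((p - 1) * Nat.card B) := by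
  have hp1 : 1 ≤ p := hp.out.one_lt.le
  have key : ∀ a : A, p * ∑ b : B, (if (a:G) * (b:G) = b * a then 1 else 0)
      = Nat.card B + if (a:G) ∈ centralizer (B : Set G) then (p - 1) * Nat.card B else 0 := by
    intro a
    have e1 : ∑ b : B, (if (a:G) * (b:G) = b * a then 1 else 0)
        = Nat.card {b : B // (a:G) * (b:G) = b * a} := by
      rw [Finset.sum_boole, Nat.cast_id, Nat.card_eq_fintype_card, Fintype.card_subtype]
    rw [e1]
    by_cases ha : (a:G) ∈ centralizer (B : Set G)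
    · rw [if_pos ha]
      have : Nat.card {b : B // (a:G) * (b:G) = b * a} = Nat.card B := by
        apply Nat.card_congr
        refine Equiv.subtypeUnivEquiv ?_
        intro b
        exact ((mem_centralizer_iff.1 ha) b b.2).symm
      rw [this]
      obtain ⟨k, rfl⟩ : ∃ k, p = k + 1 := ⟨p - 1, by omega⟩
      simp only [Nat.add_sub_cancel]
      ring
    · rw [if_neg ha, add_zero]
      exact card_cent B Z hZ a (h1 a a.2) h2 ha
  rw [Finset.mul_sum, Finset.sum_congr rfl (fun a _ => key a), Finset.sum_add_distrib]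
  congr 1
  · simp [Nat.card_eq_fintype_card]
  · rw [← Finset.sum_filter, Finset.sum_const, smul_eq_mul]
    congr 1
    rw [← Fintype.card_subtype, ← Nat.card_eq_fintype_card]
    apply Nat.card_congr
    exact
      { toFun := fun x => ⟨x.1.1, x.1.2, x.2⟩
        invFun := fun x => ⟨⟨x.1, x.2.1⟩, x.2.2⟩
        left_inv := fun x => rfl
        right_inv := fun x => rfl }

end aux

/-- Let A and B be subgroups of a finite p-group with [A, B] ≤ A ∩ B and [A, B] of order at most p. Then |A : C_A(B)| = |B : C_B(A)|. -/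
theorem result {G : Type*} [Group G] [Finite G] {p : ℕ} [Fact p.Prime] (hG : IsPGroup p G) (A B : Subgroup G) (hAB : ⁅A, B⁆ ≤ A ⊓ B) (hcard : Nat.card ↥⁅A, B⁆ ≤ p) : (A ⊓ Subgroup.centralizer (B : Set G)).relIndex A = (B ⊓ Subgroup.centralizer (A : Set G)).relIndex B := by
  classical
  have hp : p.Prime := Fact.out
  set Z := ⁅A, B⁆ with hZdef
  have hcomm : ∀ a ∈ A, ∀ b ∈ B, a * b * a⁻¹ * b⁻¹ ∈ Z := fun a ha b hb =>
    Subgroup.commutator_mem_commutator ha hb
  have hcomm' : ∀ b ∈ B, ∀ a ∈ A, b * a * b⁻¹ * a⁻¹ ∈ Z := fun b hb a ha => by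
    have := Z.inv_mem (hcomm a ha b hb)
    simpa [mul_assoc] using this
  have hZA : Z ≤ A := hAB.trans inf_le_left
  have hZB : Z ≤ B := hAB.trans inf_le_right
  have hcz := normalizer_le_centralizer_of_card_le hG Z hcard
  have hAn : A ≤ normalizer (Z : Set G) := by
    intro a ha
    rw [mem_normalizer_iff]
    intro z
    constructor
    · intro hz
      have := Z.mul_mem (hcomm a ha z (hZB hz)) hz
      simpa [mul_assoc] using this
    · intro hz
      have h1 := hcomm a⁻¹ (A.inv_mem ha) _ (hZB hz)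
      have := Z.mul_mem h1 hz
      simpa [mul_assoc] using this
  have hBn : B ≤ normalizer (Z : Set G) := by
    intro a ha
    rw [mem_normalizer_iff]
    intro z
    constructor
    · intro hz
      have := Z.mul_mem (hcomm' a ha z (hZA hz)) hz
      simpa [mul_assoc] using this
    · intro hz
      have h1 := hcomm' a⁻¹ (B.inv_mem ha) _ (hZA hz)
      have := Z.mul_mem h1 hz
      simpa [mul_assoc] using this
  have hzA : ∀ z ∈ Z, ∀ a ∈ A, z * a = a * z := fun z hz a ha =>
    (mem_centralizer_iff.1 (hcz (hAn ha))) z hz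
  have hzB : ∀ z ∈ Z, ∀ a ∈ B, z * a = a * z := fun z hz a ha =>
    (mem_centralizer_iff.1 (hcz (hBn ha))) z hz
  by_cases hbot : Z = ⊥
  · have h1 : A ≤ centralizer (B : Set G) := by
      intro a ha
      rw [mem_centralizer_iff]
      intro b hb
      have := hcomm a ha b hb
      rw [hbot, mem_bot] at this
      calc b * a = (a * b * a⁻¹ * b⁻¹)⁻¹ * (a * b) := by group
        _ = a * b := by rw [this]; simp
    have h2 : B ≤ centralizer (A : Set G) := by
      rw [le_centralizer_iff]; exact h1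
    rw [inf_eq_left.2 h1, inf_eq_left.2 h2, relIndex_self, relIndex_self]
  have hZp : Nat.card Z = p := by
    obtain ⟨n, hn⟩ := IsPGroup.iff_card.1 (hG.to_subgroup Z)
    cases n with
    | zero => exact absurd ((Subgroup.card_eq_one).1 (by simpa using hn)) hbot
    | succ n =>
      apply le_antisymm hcard
      rw [hn]
      exact Nat.le_self_pow (Nat.succ_ne_zero n) p
  have := Fintype.ofFinite A
  have := Fintype.ofFinite B
  have c1 := count A B Z hZp hcomm hzB
  have c2 := count B A Z hZp hcomm' hzA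
  have c3 : ∑ a : A, ∑ b : B, (if (a:G) * (b:G) = b * a then 1 else 0)
      = ∑ b : B, ∑ a : A, (if (b:G) * (a:G) = a * b then 1 else 0) := by
    rw [Finset.sum_comm]
    apply Finset.sum_congr rfl; intro b _
    apply Finset.sum_congr rfl; intro a _
    simp only [eq_comm]
  rw [c3, c2] at c1
  have r1 := Cfsg.Agent.H20.card_mul_relIndex (inf_le_left : A ⊓ centralizer (B : Set G) ≤ A)
  have r2 := Cfsg.Agent.H20.card_mul_relIndex (inf_le_left : B ⊓ centralizer (A : Set G) ≤ B)
  set cA := Nat.card ↥(A ⊓ centralizer (B : Set G))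
  set cB := Nat.card ↥(B ⊓ centralizer (A : Set G))
  set rA := (A ⊓ centralizer (B : Set G)).relIndex A
  set rB := (B ⊓ centralizer (A : Set G)).relIndex B
  have hcA : 0 < cA := Nat.card_pos
  have hcB : 0 < cB := Nat.card_pos
  rw [← r1, ← r2] at c1
  have hp1 : 0 < p - 1 := by have := hp.one_lt; omega
  have e1 : cB * ((p - 1) * (cA * rA)) = cA * ((p - 1) * (cB * rB)) := by
    have : cB * rB * (cA * rA) = cA * rA * (cB * rB) := by ring
    rw [this] at c1
    exact Nat.add_left_cancel c1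
  have e2 : (cA * cB * (p - 1)) * rA = (cA * cB * (p - 1)) * rB := by
    calc (cA * cB * (p - 1)) * rA = cB * ((p - 1) * (cA * rA)) := by ring
      _ = cA * ((p - 1) * (cB * rB)) := e1
      _ = _ := by ring
  exact Nat.eq_of_mul_eq_mul_left (by positivity) e2

end Cfsg.Agent.S3741
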