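import Cfsg.Statements.S0199
import Mathlib
import Cfsg.Agent.Lib.Helper21.BaerSuzuki

set_option autoImplicit false
open Cfsg

namespace Cfsg.Agent.S0199

/-- Baer–Suzuki Theorem: a p-subgroup X of a finite group such that X and any of its conjugates generate a p-group is contained in a normal p-subgroup. -/
theorem result {G : Type*} [Group G] [Finite G] {p : ℕ} [Fact p.Prime] (X : Subgroup G) (hX : IsPGroup p X) (h : ∀ g : G, IsPGroup p ↥(X ⊔ X.map (MulAut.conj g).toMonoidHom)) : ∃ N : Subgroup G, N.Normal ∧ IsPGroup p N ∧ X ≤ N := by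
  obtain ⟨P, _⟩ := hX.exists_le_sylow
  let K : Set G := {k | ∃ x ∈ X, ∃ g : G, k = g * x * g⁻¹}
  have hKn : ∀ x ∈ K, ∀ g : G, g * x * g⁻¹ ∈ K := by
    rintro _ ⟨x, hx, a, rfl⟩ g
    exact ⟨x, hx, g * a, by simp [mul_assoc]⟩
  have hK : ∀ x ∈ K, ∀ y ∈ K, IsPGroup p (Subgroup.closure ({x, y} : Set G)) := by
    rintro _ ⟨x, hx, a, rfl⟩ _ ⟨y, hy, b, rfl⟩
    have h1 := (h (a⁻¹ * b)).map (MulAut.conj a).toMonoidHom
    apply h1.to_le
    rw [Subgroup.closure_le]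
    rintro z (rfl | rfl)
    · exact ⟨x, Subgroup.mem_sup_left hx, rfl⟩
    · refine ⟨a⁻¹ * b * y * (a⁻¹ * b)⁻¹, Subgroup.mem_sup_right ⟨y, hy, rfl⟩, ?_⟩
      simp [mul_assoc]
  have hsub := Cfsg.Agent.Lib.Helper21.baer_suzuki_set K hKn hK P
  refine ⟨(P : Subgroup G).normalCore, Subgroup.normalCore_normal _,
    P.isPGroup'.to_le (Subgroup.normalCore_le _), ?_⟩
  intro x hx
  exact hsub ⟨x, hx, 1, by simp⟩

end Cfsg.Agent.S0199
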