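import Cfsg.Statements.S1898
-- import your own Cfsg.Agent.* helpers here

set_option autoImplicit false
open Cfsg
open scoped commutatorElement

namespace Cfsg.Agent.S1898

/-- Let X be a finite 2-group whose derived subgroup is elementary abelian and central. Then the subgroup generated by the elements of order dividing 4 has exponent dividing 4, and every automorphism of X fixing each element of order dividing 4 has 2-power order. -/
theorem result {X : Type*} [Group X] [Finite X] (hX : IsPGroup 2 X)
    (hel : Cfsg.IsElementaryAbelian 2 (commutator X)) (hcen : commutator X ≤ Subgroup.center X) :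
    (∀ x ∈ Subgroup.closure {g : X | g ^ 4 = 1}, x ^ 4 = 1) ∧
      ∀ φ : MulAut X, (∀ g : X, g ^ 4 = 1 → φ g = g) → ∃ k : ℕ, φ ^ (2 ^ k) = 1 := by
  have hc : ∀ a b : X, ∃ c : X, (∀ z, c * z = z * c) ∧ c * c = 1 ∧ a * b = c * (b * a) := by
    intro a b
    have hmem : ⁅a, b⁆ ∈ commutator X := by
      rw [commutator_def]
      exact Subgroup.commutator_mem_commutator (Subgroup.mem_top a) (Subgroup.mem_top b)
    refine ⟨⁅a, b⁆, fun z => (Subgroup.mem_center_iff.mp (hcen hmem) z).symm, ?_, ?_⟩
    · rw [← pow_two]; exact hel.2 _ hmem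
    · rw [commutatorElement_def]; group
  have hsq : ∀ x y : X, (x * x) * y = y * (x * x) := by
    intro x y
    obtain ⟨c, hcz, hcc, e⟩ := hc x y
    calc x * x * y = x * (x * y) := by group
      _ = x * (c * (y * x)) := by rw [e]
      _ = (x * c) * y * x := by group
      _ = (c * x) * y * x := by rw [hcz x]
      _ = c * (x * y) * x := by group
      _ = c * (c * (y * x)) * x := by rw [e]
      _ = (c * c) * (y * (x * x)) := by group
      _ = y * (x * x) := by rw [hcc, one_mul]
  have hmul2 : ∀ x y : X, ∃ c : X, (∀ z, c * z = z * c) ∧ c * c = 1 ∧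
      (x * y) * (x * y) = c * ((x * x) * (y * y)) := by
    intro x y
    obtain ⟨c, hcz, hcc, e⟩ := hc y x
    refine ⟨c, hcz, hcc, ?_⟩
    calc x * y * (x * y) = x * (y * x) * y := by group
      _ = x * (c * (x * y)) * y := by rw [e]
      _ = (x * c) * (x * y * y) := by group
      _ = (c * x) * (x * y * y) := by rw [hcz x]
      _ = c * ((x * x) * (y * y)) := by group
  have hmul4 : ∀ x y : X, (x * y) ^ 4 = x ^ 4 * y ^ 4 := by
    intro x y
    obtain ⟨c, hcz, hcc, e⟩ := hmul2 x y
    have e4 : ∀ z : X, z ^ 4 = (z * z) * (z * z) := by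
      intro z; rw [show (4 : ℕ) = 2 + 2 from rfl, pow_add, pow_two]
    rw [e4, e4, e4, e]
    calc c * (x * x * (y * y)) * (c * (x * x * (y * y)))
        = c * ((x * x * (y * y)) * c) * (x * x * (y * y)) := by group
      _ = c * (c * (x * x * (y * y))) * (x * x * (y * y)) := by rw [← hcz (x * x * (y * y))]
      _ = (c * c) * ((x * x) * ((y * y) * (x * x)) * (y * y)) := by group
      _ = (c * c) * ((x * x) * ((x * x) * (y * y)) * (y * y)) := by rw [hsq y (x * x)]
      _ = x * x * (x * x) * (y * y * (y * y)) := by rw [hcc]; group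
  constructor
  · intro x hx
    induction hx using Subgroup.closure_induction with
    | mem g hg => exact hg
    | one => simp
    | mul a b _ _ ha hb => rw [hmul4, ha, hb, one_mul]
    | inv a _ ha => rw [inv_pow, ha, inv_one]
  · intro φ hφ
    have hpos : orderOf φ ≠ 0 := (orderOf_pos φ).ne'
    obtain ⟨k, m, hm, hkm⟩ := Nat.exists_eq_two_pow_mul_odd hpos
    refine ⟨k, ?_⟩
    set ψ := φ ^ (2 ^ k) with hψ
    have hψm : ψ ^ m = 1 := by rw [hψ, ← pow_mul, ← hkm]; exact pow_orderOf_eq_one φ
    have hφpow : ∀ (n : ℕ) (g : X), g ^ 4 = 1 → (φ ^ n) g = g := by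
      intro n g hg
      induction n with
      | zero => simp
      | succ n ih => rw [pow_succ, MulAut.mul_apply, hφ g hg, ih]
    have hψ4 : ∀ g : X, g ^ 4 = 1 → ψ g = g := fun g hg => hφpow _ g hg
    have key : ∀ (j : ℕ) (x : X), x ^ (2 ^ j) = 1 → ψ x = x := by
      intro j
      induction j with
      | zero => intro x hx; apply hψ4; rw [pow_zero, pow_one] at hx; rw [hx, one_pow]
      | succ j ih =>
        intro x hx
        have h2 : ψ (x * x) = x * x := by
          apply ih
          rw [← pow_two, ← pow_mul, ← pow_succ']; exact hx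
        set y := x⁻¹ * ψ x with hy
        have hxy : ψ x = x * y := by rw [hy]; group
        obtain ⟨c, hcz, hcc, e⟩ := hmul2 x y
        have h3 : (x * y) * (x * y) = x * x := by rw [← hxy, ← map_mul, h2]
        have h4 : c * (y * y) = 1 := by
          have h5 : x * x * (c * (y * y)) = x * x * 1 := by
            rw [mul_one]
            calc x * x * (c * (y * y)) = ((x * x) * c) * (y * y) := by group
              _ = (c * (x * x)) * (y * y) := by rw [← hcz (x * x)]
              _ = c * (x * x * (y * y)) := by group
              _ = x * x := by rw [← e, h3]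
          exact mul_left_cancel h5
        have hy4 : y ^ 4 = 1 := by
          have e4 : y ^ 4 = (y * y) * (y * y) := by
            rw [show (4 : ℕ) = 2 + 2 from rfl, pow_add, pow_two]
          have h6 : y * y = c := by
            calc y * y = (c * c) * (y * y) := by rw [hcc, one_mul]
              _ = c * (c * (y * y)) := by group
              _ = c := by rw [h4, mul_one]
          rw [e4, h6, hcc]
        have hψy : ψ y = y := hψ4 y hy4
        have hpow : ∀ n : ℕ, (ψ ^ n) x = x * y ^ n := by
          intro n
          induction n with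
          | zero => simp
          | succ n ihn =>
            rw [pow_succ', MulAut.mul_apply, ihn, map_mul, map_pow, hψy, hxy, pow_succ', mul_assoc]
        have h7 := hpow m
        rw [hψm, MulAut.one_apply] at h7
        have hym : y ^ m = 1 := by
          have : x * 1 = x * y ^ m := by rw [mul_one]; exact h7
          exact (mul_left_cancel this).symm
        have h8 : orderOf y ∣ Nat.gcd m 4 :=
          Nat.dvd_gcd (orderOf_dvd_of_pow_eq_one hym) (orderOf_dvd_of_pow_eq_one hy4)
        have h9 : Nat.gcd m 4 = 1 := by
          have : Nat.Coprime m (2 ^ 2) := Nat.Coprime.pow_right 2 (Nat.coprime_two_right.mpr hm)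
          exact this
        rw [h9] at h8
        have hy1 : y = 1 := orderOf_eq_one_iff.mp (Nat.dvd_one.mp h8)
        rw [hxy, hy1, mul_one]
    ext x
    obtain ⟨j, hj⟩ := hX x
    rw [MulAut.one_apply]
    exact key j x hj

end Cfsg.Agent.S1898
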