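import Cfsg.Statements.S0649
import Mathlib
-- import your own Cfsg.Agent.* helpers here

set_option autoImplicit false
open Cfsg

namespace Cfsg.Agent.S0649

/-- In the Glauberman replacement situation, if B does not normalize A then some element of B normalizes N_S(A) without normalizing A. -/
theorem result {S : Type*} [Group S] [Finite S] {p : ℕ} [Fact p.Prime] (hS : IsPGroup p S) (B : Subgroup S) [B.Normal] (hB2 : p = 2 → IsMulCommutative B) (A : Subgroup S) (hA : IsMulCommutative A) (hBA : ⁅B, B⁆ ≤ A) (hnot : ¬ B ≤ Subgroup.normalizer (A : Set S)) : ∃ b ∈ B, b ∈ Subgroup.normalizer ((Subgroup.normalizer (A : Set S)) : Set S) ∧ b ∉ Subgroup.normalizer (A : Set S) := by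
  set N := Subgroup.normalizer (A : Set S) with hN
  set M := N ⊔ B with hM
  have hNM : N ≤ M := le_sup_left
  have hBM : B ≤ M := le_sup_right
  have hpM : IsPGroup p M := hS.to_subgroup M
  haveI : Group.IsNilpotent M := hpM.isNilpotent
  have hnc : NormalizerCondition M := normalizerCondition_of_isNilpotent
  have hlt : N.subgroupOf M < ⊤ := by
    rw [lt_top_iff_ne_top]
    intro h
    rw [Subgroup.subgroupOf_eq_top] at h
    exact hnot (hBM.trans h)
  have h1 := hnc _ hlt
  rw [← Subgroup.subgroupOf_normalizer_eq hNM] at h1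
  obtain ⟨x, hx1, hx2⟩ := SetLike.exists_of_lt h1
  rw [Subgroup.mem_subgroupOf] at hx1 hx2
  obtain ⟨n, hn, b, hb, hnb⟩ := Subgroup.mem_sup_of_normal_right.mp x.2
  refine ⟨b, hb, ?_, ?_⟩
  · have : b = n⁻¹ * x := by rw [← hnb]; group
    rw [this]
    exact Subgroup.mul_mem _ (Subgroup.inv_mem _ (Subgroup.le_normalizer hn)) hx1
  · intro hbN
    apply hx2
    rw [← hnb]
    exact Subgroup.mul_mem _ hn hbN

end Cfsg.Agent.S0649
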