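import Cfsg.Statements.S0963
import Mathlib
import Cfsg.Agent.H25.IndCentral
import Cfsg.Agent.CharLib.Sub
import Cfsg.Agent.CharLib.Clifford

set_option autoImplicit false
open Cfsg

namespace Cfsg.Agent.S0963

open scoped ComplexConjugate

/-- a class function acts on an irreducible character by a scalar -/
theorem sum_mul_irr_shift {K : Type*} [Group K] [Fintype K] {f : K → ℂ}
    (hf : Cfsg.IsClassFunction K f) (η : Cfsg.IrrCharacter K) (y : K) :
    ∑ m : K, f m * (η : K → ℂ) (m * y) =
      ((∑ m : K, f m * (η : K → ℂ) m) / (η : K → ℂ) 1) * (η : K → ℂ) y := by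
  obtain ⟨n, ρ, hρ, hη⟩ := η.2
  have := hρ
  have h1 := CharLib.opSum_irr ρ hf
  have h2 := congrArg (fun T : Module.End ℂ (Fin n → ℂ) => LinearMap.trace ℂ (Fin n → ℂ) (T * ρ y)) h1
  simp only [CharLib.opSum, Finset.sum_mul, map_sum, smul_mul_assoc, map_smul, smul_eq_mul] at h2
  rw [← hη, Representation.char_one]
  refine Eq.trans ?_ (h2.trans ?_)
  · refine Finset.sum_congr rfl fun m _ => ?_
    rw [← map_mul]; rfl
  · rfl

/-- Let N be a normal subgroup of the finite group G, χ an irreducible character of G and θ an irreducible character of N. Then θ occurs in the restriction of χ to N if and only if, for every n ∈ N, the central character of χ at n (class size in G times χ n over χ 1) equals the sum of θ m / θ 1 over the elements m of N conjugate in G to n. -/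
theorem result {G : Type*} [Group G] [Fintype G] (N : Subgroup G) [N.Normal] [Fintype N] (χ : Cfsg.IrrCharacter G) (θ : Cfsg.IrrCharacter N) : Cfsg.classInner (fun n : N => (χ : G → ℂ) n) (θ : N → ℂ) ≠ 0 ↔ ∀ n : N, Cfsg.centralChar (χ : G → ℂ) (n : G) = Cfsg.inducedCentralChar N (θ : N → ℂ) (n : G) := by
  classical
  have hNn : N.Normal := inferInstance
  set ψ := Cfsg.indFun N (θ : N → ℂ) with hψ
  have hχ1 : (χ : G → ℂ) 1 ≠ 0 := CharLib.irr_apply_one_ne_zero χ
  have hθ1 : (θ : N → ℂ) 1 ≠ 0 := CharLib.irr_apply_one_ne_zero θ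
  have hidx : (N.index : ℂ) ≠ 0 := by
    exact_mod_cast (Subgroup.index_ne_zero_of_finite : N.index ≠ 0)
  have hψ1 : ψ 1 ≠ 0 := by
    rw [hψ, CharLib.H2.indFun_apply_one]
    exact mul_ne_zero hidx hθ1
  constructor
  · intro hne n
    -- the indicator of the class of n
    set F : G → ℂ := fun g => if IsConj (n : G) g then 1 else 0 with hF
    have hFcl : Cfsg.IsClassFunction G F := by
      intro g c
      have : IsConj (n : G) (c * g * c⁻¹) ↔ IsConj (n : G) g := by
        have hz : IsConj g (c * g * c⁻¹) := isConj_iff.2 ⟨c, rfl⟩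
        exact ⟨fun h => h.trans hz.symm, fun h => h.trans hz⟩
      simp only [hF, this]
    have hFsupp : ∀ g : G, g ∉ N → F g = 0 := by
      intro g hg
      simp only [hF]
      rw [if_neg]
      intro hc
      obtain ⟨c, hc⟩ := isConj_iff.1 hc
      apply hg
      rw [← hc]
      exact hNn.conj_mem _ n.2 c
    set f : N → ℂ := fun m => F m with hf
    have hfcl : Cfsg.IsClassFunction N f := by
      intro m c
      exact hFcl m c
    have hsumN : ∀ Φ : G → ℂ, ∑ g : G, F g * Φ g = ∑ m : N, f m * Φ m := by
      intro Φ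
      have h1 := CharLib.H2.sum_extendByZero_mul N f Φ
      rw [← h1]
      refine Finset.sum_congr rfl fun g _ => ?_
      by_cases hg : g ∈ N
      · rw [CharLib.H2.extendByZero_of_mem N f hg]
      · rw [CharLib.H2.extendByZero_of_not_mem N f hg, hFsupp g hg]
    have hω : (∑ g : G, F g * (χ : G → ℂ) g) / (χ : G → ℂ) 1 = Cfsg.centralChar (χ : G → ℂ) (n : G) := by
      rw [CharLib.sum_indicator_mul (n : G) (CharLib.isClassFunction_of_irr χ.2)]
      rfl
    have hc : (∑ m : N, f m * (θ : N → ℂ) m) / (θ : N → ℂ) 1 =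
        Cfsg.inducedCentralChar N (θ : N → ℂ) (n : G) := by
      rw [H25.inducedCentralChar_eq]
      congr 1
      refine Finset.sum_congr (by ext; simp) fun m _ => ?_
      simp only [hf, hF]
      split_ifs <;> simp
    obtain ⟨mult, hmult, hmult2⟩ := CharLib.H2.exists_mult
      (CharLib.isCharacter_restrict (CharLib.isCharacter_of_irr χ.2) N)
    -- two expansions of the same function on N
    have e1 : (Cfsg.centralChar (χ : G → ℂ) (n : G)) • (fun y : N => (χ : G → ℂ) y) =
        ∑ η : Cfsg.IrrCharacter N, ((mult η : ℂ) *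
          ((∑ m : N, f m * (η : N → ℂ) m) / (η : N → ℂ) 1)) • (η : N → ℂ) := by
      funext y
      rw [Pi.smul_apply, smul_eq_mul, ← hω, ← sum_mul_irr_shift hFcl χ (y : G),
        hsumN (fun g => (χ : G → ℂ) (g * y))]
      have h3 : ∀ m : N, (χ : G → ℂ) ((m : G) * (y : G)) =
          ∑ η : Cfsg.IrrCharacter N, (mult η : ℂ) * (η : N → ℂ) (m * y) := by
        intro m
        have := congrFun hmult (m * y)
        simp only [Finset.sum_apply, Pi.smul_apply, smul_eq_mul, Subgroup.coe_mul] at this
        exact this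
      simp only [h3, Finset.mul_sum]
      rw [Finset.sum_comm, Finset.sum_apply]
      refine Finset.sum_congr rfl fun η _ => ?_
      rw [Pi.smul_apply, smul_eq_mul, mul_assoc, ← sum_mul_irr_shift hfcl η y, Finset.mul_sum]
      refine Finset.sum_congr rfl fun m _ => ?_
      ring
    have e2 := congrArg (fun φ : N → ℂ => Cfsg.classInner φ (θ : N → ℂ)) e1
    rw [CharLib.classInner_smul_left, CharLib.classInner_sum_smul_irr, hmult2 θ, hc] at e2
    have hm0 : (mult θ : ℂ) ≠ 0 := by rw [← hmult2 θ]; exact hne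
    have e3 : (mult θ : ℂ) * Cfsg.centralChar (χ : G → ℂ) (n : G) =
        (mult θ : ℂ) * Cfsg.inducedCentralChar N (θ : N → ℂ) (n : G) := by
      rw [← e2]; ring
    exact mul_left_cancel₀ hm0 e3
  · intro hall hzero
    have hprop : ∀ g : G, ψ g * conj ((χ : G → ℂ) g) =
        ((χ : G → ℂ) 1 / ψ 1) * (ψ g * conj (ψ g)) := by
      intro g
      by_cases hg : g ∈ N
      · have h1 := hall ⟨g, hg⟩
        rw [H25.inducedCentralChar_eq_centralChar] at h1
        unfold Cfsg.centralChar at h1
        have hi : ((Subgroup.centralizer ({g} : Set G)).index : ℂ) ≠ 0 := by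
          exact_mod_cast (Subgroup.index_ne_zero_of_finite :
            (Subgroup.centralizer ({g} : Set G)).index ≠ 0)
        simp only at h1
        rw [mul_div_assoc, mul_div_assoc] at h1
        have h2 : (χ : G → ℂ) g / (χ : G → ℂ) 1 = ψ g / ψ 1 := mul_left_cancel₀ hi h1
        have h3 : (χ : G → ℂ) g = ((χ : G → ℂ) 1 / ψ 1) * ψ g := by
          field_simp at h2 ⊢
          linear_combination h2
        have hreal : conj ((χ : G → ℂ) 1 / ψ 1) = (χ : G → ℂ) 1 / ψ 1 := by
          rw [map_div₀, CharLib.conj_irr_apply_one, hψ, CharLib.H2.indFun_apply_one, map_mul,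
            map_natCast, CharLib.conj_irr_apply_one]
        rw [h3, map_mul, hreal]
        ring
      · rw [hψ, CharLib.H2.indFun_of_not_mem hNn _ hg]
        simp
    have h1 : Cfsg.classInner ψ (χ : G → ℂ) = ((χ : G → ℂ) 1 / ψ 1) * Cfsg.classInner ψ ψ := by
      rw [CharLib.classInner_def, CharLib.classInner_def, Finset.sum_congr rfl (fun g _ => hprop g),
        ← Finset.mul_sum]
      ring
    have h2 : Cfsg.classInner ψ (χ : G → ℂ) = 0 := by
      rw [hψ, CharLib.H2.frobenius_reciprocity N _ (CharLib.isClassFunction_of_irr χ.2),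
        ← CharLib.classInner_conj_symm, hzero, map_zero]
    rw [h2] at h1
    rcases mul_eq_zero.1 h1.symm with h3 | h3
    · exact (div_ne_zero hχ1 hψ1) h3
    · have := CharLib.classInner_self_eq_zero h3
      apply hψ1
      rw [this]; rfl

end Cfsg.Agent.S0963
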