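import Cfsg.Statements.S1487
import Mathlib
import Cfsg.Agent.Lib.Helper10.Cliff
-- import your own Cfsg.Agent.* helpers here

set_option autoImplicit false
open Cfsg

namespace Cfsg.Agent.S1487

theorem norm_le_apply_one {G : Type*} [Group G] [Finite G] {χ : G → ℂ} (h : Cfsg.IsCharacter G χ) :
    ∃ n : ℕ, χ 1 = n ∧ ∀ g, ‖χ g‖ ≤ n := by
  obtain ⟨n, ρ, rfl⟩ := h
  refine ⟨n, ?_, ?_⟩
  · simp [Representation.char_one]
  · intro g
    have := Cfsg.Agent.CharLib.norm_character_le ρ g
    simpa using this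

theorem eq_of_re_eq_of_norm_le {z : ℂ} {n : ℝ} (h1 : z.re = n) (h2 : ‖z‖ ≤ n) : z = n := by
  have hn : 0 ≤ n := le_trans (norm_nonneg z) h2
  have h3 : ‖z‖ ^ 2 ≤ n ^ 2 := by gcongr
  rw [Complex.sq_norm, Complex.normSq_apply, h1] at h3
  have h4 : z.im = 0 := by nlinarith
  apply Complex.ext
  · simpa using h1
  · simpa using h4

/-- Let A ≤ H be normal subgroups of the finite group G and θ an irreducible character of H. Then θ takes the value θ 1 on all of A if and only if the function induced from θ to G takes its value at 1 on all of A. -/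
theorem result {G : Type*} [Group G] [Fintype G] (A H : Subgroup G) [A.Normal] [H.Normal] (hAH : A ≤ H) (θ : H → ℂ) (hθ : Cfsg.IsIrrCharacter H θ) : (∀ a : H, (a : G) ∈ A → θ a = θ 1) ↔ (∀ a : G, a ∈ A → Cfsg.indFun H θ a = Cfsg.indFun H θ 1) := by
  classical
  have hN : H.Normal := inferInstance
  have hA : A.Normal := inferInstance
  obtain ⟨n, hn1, hn⟩ := norm_le_apply_one (Cfsg.Agent.CharLib.isCharacter_of_irr hθ)
  have h1 : Cfsg.indFun H θ 1 = (Nat.card H : ℂ)⁻¹ * ∑ x : G, θ 1 := by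
    have := Cfsg.Agent.CharLib.H2.indFun_coe hN θ 1
    rw [OneMemClass.coe_one] at this
    rw [this]
    congr 1
    refine Finset.sum_congr rfl fun x _ => ?_
    rw [Cfsg.Agent.CharLib.H2.conjFun_apply]
    congr 1
    apply Subtype.ext
    simp
  have hH0 : (Nat.card H : ℂ)⁻¹ ≠ 0 := inv_ne_zero (Cfsg.Agent.CharLib.H2.card_subgroup_ne_zero H)
  constructor
  · intro h a ha
    have := Cfsg.Agent.CharLib.H2.indFun_coe hN θ ⟨a, hAH ha⟩
    simp only at this
    rw [this, h1]
    congr 1
    refine Finset.sum_congr rfl fun x _ => ?_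
    rw [Cfsg.Agent.CharLib.H2.conjFun_apply]
    exact h _ (hA.conj_mem a ha x)
  · intro h a ha
    have h2 := h a ha
    rw [Cfsg.Agent.CharLib.H2.indFun_coe hN θ a, h1] at h2
    have h3 := mul_left_cancel₀ hH0 h2
    have h4 : ∑ x : G, (Cfsg.Agent.CharLib.H2.conjFun hN θ x a).re = ∑ x : G, (n : ℝ) := by
      have := congrArg Complex.re h3
      rw [Complex.re_sum, Complex.re_sum] at this
      rw [this]
      refine Finset.sum_congr rfl fun x _ => ?_
      rw [hn1]; simp
    have h5 : ∀ x ∈ (Finset.univ : Finset G), (Cfsg.Agent.CharLib.H2.conjFun hN θ x a).re ≤ (n : ℝ) := by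
      intro x _
      exact le_trans (Complex.re_le_norm _) (hn _)
    have h6 := (Finset.sum_eq_sum_iff_of_le h5).1 h4 1 (Finset.mem_univ 1)
    rw [Cfsg.Agent.CharLib.H2.conjFun_one] at h6
    rw [hn1]
    have := eq_of_re_eq_of_norm_le h6 (hn a)
    simpa using this

end Cfsg.Agent.S1487
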