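import Mathlib
import Cfsg.Prelude.Def_Characters
import Cfsg.Agent.H6.CliffCorr

set_option autoImplicit false

namespace Cfsg.Agent.S0854

open Cfsg Cfsg.Agent.CharLib Cfsg.Agent.CharLib.H2 Cfsg.Agent.H6
open scoped ComplexConjugate

theorem result {G : Type*} [Group G] [Fintype G] (H : Subgroup G) [hN : H.Normal] [Fintype H] (ϑ : H → ℂ) (hϑ : Cfsg.IsIrrCharacter H ϑ) (T : Subgroup G) [Fintype T] (hT : ∀ g : G, g ∈ T ↔ ∀ n : H, ϑ ⟨g * n * g⁻¹, hN.conj_mem (n : G) n.2 g⟩ = ϑ n) (hHT : H ≤ T) (χ : G → ℂ) (hχ : Cfsg.IsIrrCharacter G χ) (hcon : Cfsg.classInner (fun n : H => χ n) ϑ ≠ 0) : ∃ ψ : T → ℂ, Cfsg.IsIrrCharacter T ψ ∧ Cfsg.indFun T ψ = χ ∧ Cfsg.classInner (fun n : H => ψ ⟨(n : G), hHT n.2⟩) ϑ = Cfsg.classInner (fun n : H => χ n) ϑ := by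
  classical
  have hχch := isCharacter_of_irr hχ
  have hχc := isClassFunction_of_irr hχ
  have hϑch := isCharacter_of_irr hϑ
  let mG : (G → ℂ) → ℂ := fun α => classInner (fun n : H => α n) ϑ
  let mT : (T → ℂ) → ℂ := fun β => classInner (fun n : H => β ⟨(n : G), hHT n.2⟩) ϑ
  have mG_nat : ∀ α, IsCharacter G α → ∃ k : ℕ, mG α = k :=
    fun α hα => classInner_char_nat (isCharacter_restrict hα H) hϑch
  have mT_nat : ∀ β, IsCharacter T β → ∃ k : ℕ, mT β = k :=
    fun β hβ => classInner_char_nat (isCharacter_comp hβ (Subgroup.inclusion hHT)) hϑch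
  have mG_sub : ∀ α β, mG (α - β) = mG α - mG β := fun α β => classInner_sub_left _ _ _
  have mT_sub : ∀ α β, mT (α - β) = mT α - mT β := fun α β => classInner_sub_left _ _ _
  have mTG : ∀ α : G → ℂ, mT (fun t : T => α t) = mG α := fun α => rfl
  -- Step 0 : choose ψ
  obtain ⟨m, hm, hm2⟩ := exists_mult (isCharacter_restrict hχch T)
  have hsum : mG χ = ∑ ψ : IrrCharacter T, (m ψ : ℂ) * mT ψ := by
    have h1 : (fun n : H => χ n) =
        ∑ ψ : IrrCharacter T, (m ψ : ℂ) • (fun n : H => (ψ : T → ℂ) ⟨n, hHT n.2⟩) := by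
      funext n
      have := congrFun hm ⟨n, hHT n.2⟩
      simpa [Finset.sum_apply] using this
    show classInner (fun n : H => χ n) ϑ = _
    rw [h1, classInner_sum_left]
    exact Finset.sum_congr rfl fun ψ _ => classInner_smul_left _ _ _
  obtain ⟨ψ, hψ⟩ : ∃ ψ : IrrCharacter T, (m ψ : ℂ) * mT ψ ≠ 0 := by
    by_contra h
    push Not at h
    apply hcon
    show mG χ = 0
    rw [hsum]
    exact Finset.sum_eq_zero (fun ψ _ => h ψ)
  have hmψ : classInner (fun t : T => χ t) ψ ≠ 0 := by rw [hm2]; exact left_ne_zero_of_mul hψ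
  have hf : mT ψ ≠ 0 := right_ne_zero_of_mul hψ
  have hψch := isCharacter_of_irr ψ.2
  -- Step 1
  have hinvT : ∀ g ∈ T, ∀ n : H, ϑ ⟨g * n * g⁻¹, hN.conj_mem (n : G) n.2 g⟩ = ϑ n :=
    fun g hg => (hT g).mp hg
  have hψH := restrict_eq_smul_of_invariant_le H T hN hHT ψ.2 hϑ hf hinvT
  -- Step 2
  have hind : mG (indFun T ψ) = mT ψ := by
    have h1 : (fun n : H => indFun T (ψ : T → ℂ) n) =
        ((Nat.card T : ℂ)⁻¹ * mT ψ) • ∑ x : G, conjFun hN ϑ x := by
      funext n
      rw [indFun_apply]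
      have h2 : ∀ x : G, extendByZero T (ψ : T → ℂ) (x⁻¹ * n * x) = mT ψ * conjFun hN ϑ x⁻¹ n := by
        intro x
        have hmem : x⁻¹ * n * x ∈ H := by simpa using hN.conj_mem n n.2 x⁻¹
        rw [extendByZero_of_mem T _ (hHT hmem)]
        have := congrFun hψH ⟨x⁻¹ * n * x, hmem⟩
        simp only [Pi.smul_apply, smul_eq_mul] at this
        rw [this, conjFun_apply]
        congr 3
        simp
      simp only [h2]
      rw [← Finset.mul_sum, Pi.smul_apply, Finset.sum_apply, smul_eq_mul, mul_assoc]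
      congr 2
      exact Fintype.sum_equiv (Equiv.inv G) _ _ (fun _ => rfl)
    show classInner (fun n : H => indFun T (ψ : T → ℂ) n) ϑ = _
    rw [h1, classInner_smul_left, classInner_sum_left]
    have h3 : ∀ x : G, classInner (conjFun hN ϑ x) ϑ = if x ∈ T then 1 else 0 := by
      intro x
      rw [classInner_irr (isIrrCharacter_conjFun hN hϑ x) hϑ]
      by_cases hx : x ∈ T
      · rw [if_pos hx, if_pos]
        funext n
        exact (hT x).mp hx n
      · rw [if_neg hx, if_neg]
        intro h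
        apply hx
        rw [hT]
        intro n
        exact congrFun h n
    simp only [h3]
    rw [Finset.sum_boole]
    have h4 : (Finset.univ.filter (fun x : G => x ∈ T)).card = Nat.card T := by
      rw [Nat.card_eq_fintype_card, Fintype.card_subtype]
    rw [h4]
    have := card_subgroup_ne_zero T
    field_simp
  -- Step 3
  have hΔ1 : IsCharacter T ((fun t : T => χ t) - ψ) :=
    isCharacter_sub_irr (isCharacter_restrict hχch T) ψ.2 hmψ
  obtain ⟨a, ha⟩ := mT_nat _ hΔ1
  rw [mT_sub, mTG] at ha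
  have hindch : IsCharacter G (indFun T ψ) := isCharacter_indFun T hψch
  have hcon2 : classInner (indFun T ψ) χ ≠ 0 := by
    rw [frobenius_reciprocity T _ hχc, ← classInner_conj_symm]
    simpa using hmψ
  have hΔ : IsCharacter G (indFun T ψ - χ) := isCharacter_sub_irr hindch hχ hcon2
  obtain ⟨b, hb⟩ := mG_nat _ hΔ
  have hb' := hb
  rw [mG_sub, hind] at hb
  obtain ⟨f, hf'⟩ := mT_nat ψ hψch
  obtain ⟨e, he⟩ := mG_nat χ hχch
  rw [hf', he] at ha hb
  have ha1 : e = f + a := by
    have : (e : ℂ) = f + a := by linear_combination ha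
    exact_mod_cast this
  have hb1 : f = e + b := by
    have : (f : ℂ) = e + b := by linear_combination hb
    exact_mod_cast this
  have hb0 : b = 0 := by omega
  have hef : e = f := by omega
  have hf0 : f ≠ 0 := by
    intro h
    apply hf
    rw [hf', h]; simp
  -- Step 4
  have hΔ0 : indFun T ψ - χ = 0 := by
    obtain ⟨mΔ, hmΔ, hmΔ2⟩ := exists_mult hΔ
    rw [hmΔ]
    apply Finset.sum_eq_zero
    intro χ' _
    have hz : mΔ χ' = 0 := by
      by_contra hne
      have hχ'ch := isCharacter_of_irr χ'.2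
      have h1 : classInner (indFun T ψ - χ) χ' ≠ 0 := by rw [hmΔ2]; exact_mod_cast hne
      have hc1 := isCharacter_sub_irr hΔ χ'.2 h1
      obtain ⟨c, hc⟩ := mG_nat _ hc1
      obtain ⟨d, hd⟩ := mG_nat χ' hχ'ch
      rw [mG_sub, hb', hd, hb0] at hc
      have hd0 : d = 0 := by
        have : ((d + c : ℕ) : ℂ) = 0 := by push_cast; linear_combination -hc
        have : d + c = 0 := by exact_mod_cast this
        omega
      have h2 : classInner (indFun T ψ) χ' ≠ 0 := by
        have h3 : indFun T (ψ : T → ℂ) = χ + (indFun T ψ - χ) := by simp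
        rw [h3, classInner_add_left]
        obtain ⟨u, hu⟩ := classInner_char_nat hχch hχ'ch
        rw [hu, hmΔ2]
        have : u + mΔ χ' ≠ 0 := by omega
        exact_mod_cast this
      rw [frobenius_reciprocity T _ (isClassFunction_of_irr χ'.2)] at h2
      have h3 : classInner (fun t : T => (χ' : G → ℂ) t) ψ ≠ 0 := by
        rw [← classInner_conj_symm]
        simpa using h2
      have hc2 := isCharacter_sub_irr (isCharacter_restrict hχ'ch T) ψ.2 h3
      obtain ⟨c', hc'⟩ := mT_nat _ hc2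
      rw [mT_sub, mTG, hd, hf', hd0] at hc'
      have : ((f + c' : ℕ) : ℂ) = 0 := by push_cast; linear_combination -hc'
      have : f + c' = 0 := by exact_mod_cast this
      omega
    rw [hz]; simp
  refine ⟨ψ, ψ.2, sub_eq_zero.mp hΔ0, ?_⟩
  show mT ψ = mG χ
  rw [hf', he, hef]

end Cfsg.Agent.S0854
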