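import Mathlib
import Cfsg.Statements.S0887
import Cfsg.Agent.H6.Inertia
import Cfsg.Agent.S0854
import Cfsg.Agent.CharLib.Ind

set_option autoImplicit false
open Cfsg

namespace Cfsg.Agent.S0887

open Cfsg.Agent.CharLib Cfsg.Agent.CharLib.H2 Cfsg.Agent.H6

/-- Let N be a normal subgroup of the finite group G, χ an irreducible character of G and ϑ an irreducible character of N having nonzero inner product with the restriction of χ. If χ 1 = c and ϑ 1 = d as natural numbers, then d divides c and c / d divides the index of N. -/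
theorem result {G : Type*} [Group G] [Fintype G] (N : Subgroup G) [N.Normal] [Fintype N] (χ : G → ℂ) (hχ : Cfsg.IsIrrCharacter G χ) (ϑ : N → ℂ) (hϑ : Cfsg.IsIrrCharacter N ϑ) (hcon : Cfsg.classInner (fun n : N => χ n) ϑ ≠ 0) (c d : ℕ) (hc : χ 1 = c) (hd : ϑ 1 = d) : d ∣ c ∧ c / d ∣ N.index := by
  classical
  have hN : N.Normal := inferInstance
  set T : Subgroup G := inertia N ϑ with hTdef
  letI : Fintype T := Fintype.ofFinite T
  have hNT : N ≤ T := le_inertia N (isClassFunction_of_char (isCharacter_of_irr hϑ))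
  obtain ⟨ψ, hψ, hind, hinner⟩ := Cfsg.Agent.S0854.result N ϑ hϑ T (mem_inertia_iff N ϑ) hNT χ hχ hcon
  let N' : Subgroup T := N.subgroupOf T
  haveI hN' : N'.Normal := hN.subgroupOf T
  letI : Fintype N' := Fintype.ofFinite _
  let e : N' ≃* N := Subgroup.subgroupOfEquivOfLe hNT
  let ϑ' : N' → ℂ := fun a => ϑ (e a)
  have hϑ' : IsIrrCharacter N' ϑ' := isIrrCharacter_comp_of_surjective hϑ e.toMonoidHom e.surjective
  have hres : (fun n : N' => ψ n) = fun a => (fun n : N => ψ ⟨(n : G), hNT n.2⟩) (e a) := by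
    funext a
    rfl
  have hci : classInner (fun n : N' => ψ n) ϑ' = classInner (fun n : N => ψ ⟨(n : G), hNT n.2⟩) ϑ := by
    rw [hres]
    exact classInner_comp_mulEquiv e (fun n : N => ψ ⟨(n : G), hNT n.2⟩) ϑ
  have hcon' : classInner (fun n : N' => ψ n) ϑ' ≠ 0 := by rw [hci, hinner]; exact hcon
  have hinv' : ∀ (g : T) (n : N'), ϑ' ⟨g * n * g⁻¹, hN'.conj_mem (n : T) n.2 g⟩ = ϑ' n := by
    intro g n
    exact (mem_inertia_iff N ϑ g).mp g.2 (e n)
  obtain ⟨m, hm, hmres⟩ := mult_dvd_index_of_invariant N' hψ hϑ' hcon' hinv'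
  have h1 := congrFun hmres 1
  have hψ1 : ψ 1 = (m : ℂ) * d := by
    simp only [Pi.smul_apply, smul_eq_mul, OneMemClass.coe_one, ϑ', map_one, hd] at h1
    exact h1
  have hχ1 : (c : ℂ) = (T.index : ℂ) * ((m : ℂ) * d) := by
    rw [← hc, ← hind, indFun_apply_one, hψ1]
  have hcn : c = T.index * m * d := by
    have : (c : ℂ) = ((T.index * m * d : ℕ) : ℂ) := by rw [hχ1]; push_cast; ring
    exact_mod_cast this
  have hd0 : 0 < d := by
    rcases Nat.eq_zero_or_pos d with h | h
    · exfalso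
      obtain ⟨b, σ, hσ, rfl⟩ := hϑ
      rw [Representation.char_one, h] at hd
      have := ProjLift.finrank_pos' N σ
      have h2 : Module.finrank ℂ (Fin b → ℂ) = 0 := by exact_mod_cast hd
      omega
    · exact h
  refine ⟨⟨T.index * m, by rw [hcn]; ring⟩, ?_⟩
  rw [hcn, Nat.mul_div_cancel _ hd0, ← Subgroup.relIndex_mul_index hNT, mul_comm]
  exact Nat.mul_dvd_mul hm dvd_rfl

end Cfsg.Agent.S0887
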