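import Cfsg.Statements.S4713
import Cfsg.Agent.Lib.Helper10.ItoMichler
import Cfsg.Agent.H20.PSolvHall
-- import your own Cfsg.Agent.* helpers here

set_option autoImplicit false
open Cfsg Cfsg.Agent.CharLib Cfsg.Agent.Lib.Helper10

namespace Cfsg.Agent.S4713

theorem exists_normal_of_isPSolvable {G : Type*} [Group G] [Finite G] [Nontrivial G] (p : ℕ)
    [Fact p.Prime] (hs : Cfsg.IsPSolvable p G) :
    ∃ N : Subgroup G, N.Normal ∧ N ≠ ⊥ ∧ (IsPGroup p N ∨ (Nat.card N).Coprime p) := by
  obtain ⟨n, H, h0, hn, hmono, hnorm, hstep⟩ := hs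
  by_contra hcon
  push Not at hcon
  have hall : ∀ i : Fin (n + 1), H i = ⊥ := by
    intro i
    induction i using Fin.induction with
    | zero => exact h0
    | succ i ih =>
      by_contra hne
      have h3 := hcon (H i.succ) (hnorm _) hne
      rcases hstep i with ⟨m, hm⟩ | hm
      · rw [ih, Subgroup.relIndex_bot_left] at hm
        exact h3.1 (IsPGroup.of_card hm)
      · rw [ih, Subgroup.relIndex_bot_left] at hm
        exact h3.2 hm
  have h4 := hall (Fin.last n)
  rw [hn] at h4
  exact top_ne_bot h4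

/-- Let p be a prime and G a finite p-solvable group. Then G has a normal abelian Sylow p-subgroup if and only if the degree of every irreducible character of G is prime to p. -/
theorem result {G : Type*} [Group G] [Finite G] (p : ℕ) [Fact p.Prime] (hsolv : Cfsg.IsPSolvable p G) (P : Sylow p G) : ((P : Subgroup G).Normal ∧ IsMulCommutative P) ↔ ∀ χ : Cfsg.IrrCharacter G, ¬ p ∣ Cfsg.charDegree (χ : G → ℂ) := by
  have hp : p.Prime := Fact.out
  constructor
  · rintro ⟨hPn, hab⟩ χ
    refine not_dvd_degree_of_normal_abelian p (P : Subgroup G) ?_ P.not_dvd_index χ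
    intro a ha b hb
    exact congrArg Subtype.val (hab.is_comm.comm (⟨a, ha⟩ : P) ⟨b, hb⟩)
  · intro hdeg
    obtain ⟨S, hSn, hSp, hSi⟩ := exists_normal_sylow_of_class p
      (fun G _ => Cfsg.IsPSolvable p G)
      (fun G _ _ N _ h => Cfsg.Agent.H20.isPSolvable_quotient hp h N)
      (fun G _ _ _ h => exists_normal_of_isPSolvable p h)
      _ G rfl hsolv hdeg
    have hPS : (P : Subgroup G) ≤ S := by
      intro x hx
      obtain ⟨k, hk⟩ := P.2 ⟨x, hx⟩
      have hk' : x ^ (p ^ k) = 1 := congrArg Subtype.val hk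
      have h1 : ((x : G ⧸ S)) ^ (p ^ k) = 1 := by
        rw [← QuotientGroup.mk_pow, hk']
        rfl
      have h2 : ((x : G ⧸ S)) ^ S.index = 1 := by
        rw [Subgroup.index]
        exact pow_card_eq_one'
      have h3 : orderOf (x : G ⧸ S) ∣ Nat.gcd (p ^ k) S.index :=
        Nat.dvd_gcd (orderOf_dvd_of_pow_eq_one h1) (orderOf_dvd_of_pow_eq_one h2)
      have h4 : Nat.gcd (p ^ k) S.index = 1 :=
        Nat.Coprime.pow_left k ((Nat.Prime.coprime_iff_not_dvd hp).2 hSi)
      rw [h4, Nat.dvd_one, orderOf_eq_one_iff] at h3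
      exact (QuotientGroup.eq_one_iff x).1 h3
    have hSP : S = (P : Subgroup G) := P.is_maximal' hSp hPS
    have hcomm := comm_of_normal_pGroup p S hSp hdeg
    rw [hSP] at hcomm hSn
    exact ⟨hSn, ⟨⟨fun a b => Subtype.ext (hcomm a a.2 b b.2)⟩⟩⟩

end Cfsg.Agent.S4713
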