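import Mathlib
import Cfsg.Prelude.Def_Characters
import Cfsg.Agent.Lib.Helper23.FS

set_option autoImplicit false

namespace Cfsg.Agent.S0895

open Cfsg Cfsg.Agent.CharLib Cfsg.Agent.Lib.Helper23.FS

theorem result {G : Type*} [Group G] [Fintype G] (χ : G → ℂ) (hχ : Cfsg.IsIrrCharacter G χ) (hreal : ∀ g : G, (χ g).im = 0) (d : ℕ) (hd : χ 1 = d) (hodd : Odd d) : (Nat.card G : ℂ)⁻¹ * ∑ s : G, χ (s * s) = 1 := by
  classical
  obtain ⟨n, ρ, hirr, rfl⟩ := hχ
  haveI := hirr
  have hnd : n = d := by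
    rw [Representation.char_one, Module.finrank_fin_fun] at hd
    exact_mod_cast hd
  subst hnd
  obtain ⟨M, hM0, hM⟩ := exists_isInv_of_real (ρ := ρ) hreal
  obtain ⟨ε, hε1, hε⟩ := hM.exists_sign hM0
  have hu : IsUnit M := hM.eq_zero_or_isUnit.resolve_left hM0
  have hdet : IsUnit M.det := (Matrix.isUnit_iff_isUnit_det M).1 hu
  have hε' : ε = 1 := by
    rcases hε1 with h | h
    · exact h
    · exfalso
      have h1 := congrArg Matrix.det hε
      rw [Matrix.det_transpose, Matrix.det_smul, Fintype.card_fin, h, hodd.neg_one_pow] at h1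
      have h2 : M.det = 0 := by linear_combination h1 / 2
      exact hdet.ne_zero h2
  have h1 := hM.sum_char hM0 hε
  rw [sum_char_sq_of_real (ρ := ρ) hreal, hε', one_mul] at h1
  rw [h1]
  exact inv_mul_cancel₀ card_ne_zero_complex

end Cfsg.Agent.S0895
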