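import Mathlib
import Cfsg.Prelude.Def_Characters
import Cfsg.Prelude.Def_CharExt
import Cfsg.Agent.H6.Det
import Cfsg.Agent.H6.Gallagher
import Cfsg.Agent.H6.LinChar

set_option autoImplicit false

namespace Cfsg.Agent.S0862

open Cfsg Module Cfsg.Agent.CharLib Cfsg.Agent.CharLib.H2 Cfsg.Agent.H6

theorem result {G : Type*} [Group G] [Finite G] (N : Subgroup G) [N.Normal] (ϑ : N → ℂ) (hϑ : Cfsg.IsIrrCharacter N ϑ) (d : ℕ) (hd : ϑ 1 = d) (hcop : Nat.Coprime N.index d) (hext : ∃ η : G → ℂ, Cfsg.IsIrrCharacter G η ∧ (∀ n : N, η n = ϑ n)) (μ : G → ℂ) (hμ : Cfsg.IsCharacter G μ ∧ μ 1 = 1) (hμN : ∀ n : N, μ n = Cfsg.detChar ϑ n) : ∃! χ : G → ℂ, Cfsg.IsIrrCharacter G χ ∧ (∀ n : N, χ n = ϑ n) ∧ Cfsg.detChar χ = μ := by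
  classical
  cases nonempty_fintype G
  letI : Fintype N := Fintype.ofFinite N
  have hN : N.Normal := inferInstance
  obtain ⟨η, hη, hηN⟩ := hext
  have hηch := isCharacter_of_irr hη
  have hηres : (fun n : N => η n) = ϑ := funext hηN
  have hηNirr : IsIrrCharacter N (fun n : N => η n) := by rw [hηres]; exact hϑ
  have hgal := gallagher N hη hηNirr
  have hη1 : η 1 = d := by rw [← hd]; exact hηN 1
  have hd0 : (d : ℂ) ≠ 0 := by rw [← hd]; exact irr_apply_one_ne_zero ⟨ϑ, hϑ⟩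
  set k := N.index with hk
  obtain ⟨D, hD⟩ := exists_detHom hηch
  let M : G →* ℂˣ := linCharHom μ hμ
  have htriv : ∀ W : G →* ℂˣ, (∀ n : N, W n = 1) → ∀ g : G, W g ^ k = 1 := by
    intro W hW g
    rw [← map_pow]
    exact hW ⟨g ^ k, N.pow_index_mem g⟩
  let Λ : G →* ℂˣ := M * D⁻¹
  have hΛN : ∀ n : N, Λ n = 1 := by
    intro n
    show M (n : G) * (D (n : G))⁻¹ = 1
    rw [mul_inv_eq_one]
    apply Units.ext
    rw [hD]
    show μ n = _
    rw [hμN, ← hηres, detChar_restrict hηch N]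
  have hΛk := htriv Λ hΛN
  -- Bezout
  have hbez : (d : ℤ) * Nat.gcdA d k + (k : ℤ) * Nat.gcdB d k = 1 := by
    have := Nat.gcd_eq_gcd_ab d k
    rw [Nat.Coprime.symm hcop] at this
    simpa using this.symm
  set a := Nat.gcdA d k
  set c := Nat.gcdB d k
  let β : G →* ℂˣ := Λ ^ a
  have hβd : ∀ g, β g ^ d = Λ g := by
    intro g
    show ((Λ ^ a) g) ^ d = Λ g
    rw [MonoidHom.zpow_apply, ← zpow_natCast, ← zpow_mul]
    have h1 : a * (d : ℤ) = 1 - (k : ℤ) * c := by linear_combination hbez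
    rw [h1, zpow_sub, zpow_one, zpow_mul, zpow_natCast, hΛk]
    simp
  have hβN : ∀ n : N, β n = 1 := by
    intro n
    show (Λ ^ a) (n : G) = 1
    rw [MonoidHom.zpow_apply, hΛN, one_zpow]
  -- homs trivial on N lie in the Gallagher domain
  have hdom : ∀ f : G →* ℂˣ, (∀ n : N, f n = 1) →
      (fun g => ((f g : ℂˣ) : ℂ)) ∈ {β : G → ℂ | IsIrrCharacter G β ∧
        classInner (indFun N (fun _ => (1 : ℂ))) β ≠ 0} := by
    intro f hf
    refine ⟨isIrrCharacter_of_hom f, ?_⟩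
    rw [frobenius_reciprocity N _ (isClassFunction_of_irr (isIrrCharacter_of_hom f))]
    have : (fun h : N => ((f (h : G) : ℂˣ) : ℂ)) = fun _ => 1 := by
      funext n; rw [hf n]; rfl
    rw [this, classInner_irr_self (isIrrCharacter_one (G := N))]
    exact one_ne_zero
  have hdet : ∀ f : G →* ℂˣ, detChar (fun g => ((f g : ℂˣ) : ℂ) * η g) =
      fun g => ((f g : ℂˣ) : ℂ) ^ d * ((D g : ℂˣ) : ℂ) := by
    intro f
    rw [detChar_twist f hηch hη1]
    funext g
    rw [hD]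
  refine ⟨fun g => ((β g : ℂˣ) : ℂ) * η g, ⟨(hgal.mapsTo (hdom β hβN)).1, ?_, ?_⟩, ?_⟩
  · intro n
    show ((β (n : G) : ℂˣ) : ℂ) * η n = ϑ n
    rw [hβN, hηN]; simp
  · rw [hdet]
    funext g
    have h1 : ((β g : ℂˣ) : ℂ) ^ d * ((D g : ℂˣ) : ℂ) = ((β g ^ d * D g : ℂˣ) : ℂ) := by
      push_cast; rfl
    rw [h1, hβd]
    show ((M g * (D g)⁻¹ * D g : ℂˣ) : ℂ) = μ g
    rw [inv_mul_cancel_right]
    rfl
  · rintro χ' ⟨hχ', hχ'N, hχ'det⟩
    have hmem : χ' ∈ {ψ : G → ℂ | IsIrrCharacter G ψ ∧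
        classInner (indFun N (fun n : N => η n)) ψ ≠ 0} := by
      refine ⟨hχ', ?_⟩
      rw [frobenius_reciprocity N _ (isClassFunction_of_irr hχ'), hηres]
      have : (fun h : N => χ' h) = ϑ := funext hχ'N
      rw [this, classInner_irr_self hϑ]
      exact one_ne_zero
    obtain ⟨β', ⟨hβ', hβ'0⟩, hmul⟩ := hgal.surjOn hmem
    simp only at hmul
    have hβ'1 : β' 1 = 1 := by
      have h1 := congrFun hmul 1
      rw [Pi.mul_apply, hη1] at h1
      have h2 : χ' 1 = d := by rw [← hd]; exact hχ'N 1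
      rw [h2] at h1
      exact mul_right_cancel₀ hd0 (by rw [h1, one_mul])
    let B : G →* ℂˣ := linCharHom β' ⟨isCharacter_of_irr hβ', hβ'1⟩
    have hBfun : ∀ g, ((B g : ℂˣ) : ℂ) = β' g := fun g => rfl
    have hBN : ∀ n : N, B n = 1 := by
      intro n
      apply Units.ext
      rw [hBfun]
      have hcon : classInner (fun n : N => β' n) (fun _ => (1 : ℂ)) ≠ 0 := by
        intro h0
        apply hβ'0
        rw [frobenius_reciprocity N _ (isClassFunction_of_irr hβ'), ← classInner_conj_symm, h0,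
          map_zero]
      have h3 := restrict_eq_smul_of_invariant N hN hβ' (isIrrCharacter_one (G := N)) hcon
        (fun _ _ => rfl)
      have h4 := congrFun h3 1
      have h5 := congrFun h3 n
      simp only [Pi.smul_apply, smul_eq_mul, mul_one, OneMemClass.coe_one] at h4 h5
      rw [h5, ← h4, hβ'1]
      rfl
    have hχ'eq : χ' = fun g => ((B g : ℂˣ) : ℂ) * η g := by
      rw [← hmul]; rfl
    have hBd : ∀ g, B g ^ d = Λ g := by
      intro g
      have h1 := hχ'det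
      rw [hχ'eq, hdet] at h1
      have h2 := congrFun h1 g
      show B g ^ d = M g * (D g)⁻¹
      rw [eq_mul_inv_iff_mul_eq]
      apply Units.ext
      push_cast
      exact h2
    have hBβ : ∀ g, B g = β g := by
      intro g
      have h1 : (B * β⁻¹) g ^ k = 1 := by
        apply htriv
        intro n
        rw [MonoidHom.mul_apply, MonoidHom.inv_apply, hBN, hβN]; simp
      have h2 : (B * β⁻¹) g ^ d = 1 := by
        rw [MonoidHom.mul_apply, MonoidHom.inv_apply, mul_pow, inv_pow, hBd, hβd, mul_inv_cancel]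
      have h3 : orderOf ((B * β⁻¹) g) ∣ Nat.gcd k d :=
        Nat.dvd_gcd (orderOf_dvd_of_pow_eq_one h1) (orderOf_dvd_of_pow_eq_one h2)
      rw [hcop, Nat.dvd_one, orderOf_eq_one_iff, MonoidHom.mul_apply, MonoidHom.inv_apply,
        mul_inv_eq_one] at h3
      exact h3
    rw [hχ'eq]
    funext g
    rw [hBβ]

end Cfsg.Agent.S0862
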