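import Mathlib
import Cfsg.Prelude.Def_Characters
import Cfsg.Agent.H6.CyclicExt
import Cfsg.Agent.CharLib.Orth

set_option autoImplicit false

namespace Cfsg.Agent.S0886

open Cfsg Module Cfsg.Agent.CharLib Cfsg.Agent.H6

theorem result {G : Type*} [Group G] [Finite G] (N : Subgroup G) [hN : N.Normal] (hcyc : IsCyclic (G ⧸ N)) (ϑ : N → ℂ) (hϑ : Cfsg.IsIrrCharacter N ϑ) (hinv : ∀ (g : G) (n : N), ϑ ⟨g * n * g⁻¹, hN.conj_mem (n : G) n.2 g⟩ = ϑ n) : ∃ χ : G → ℂ, Cfsg.IsIrrCharacter G χ ∧ ∀ n : N, χ n = ϑ n := by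
  classical
  letI : Fintype N := Fintype.ofFinite N
  obtain ⟨d, ρ, hirr, hρ⟩ := hϑ
  haveI := hirr
  obtain ⟨q, hq⟩ := hcyc.exists_generator
  obtain ⟨g₀, rfl⟩ := QuotientGroup.mk_surjective q
  let c : MulAut N := MulAut.conjNormal g₀
  let σ : Representation ℂ N (Fin d → ℂ) := (ρ : N →* End ℂ (Fin d → ℂ)).comp c.toMonoidHom
  haveI hσ : σ.IsIrreducible := isIrreducible_comp_of_surjective ρ hirr c.toMonoidHom c.surjective
  have hchar : ρ.character = σ.character := by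
    funext n
    show ρ.character n = ρ.character (c n)
    rw [hρ]
    exact (hinv g₀ n).symm
  obtain ⟨φ⟩ := nonempty_equiv_of_char_eq_of_irr ρ σ hchar
  let R : N →* (End ℂ (Fin d → ℂ))ˣ := MonoidHom.toHomUnits ρ
  have hR : ∀ n, ((R n : (End ℂ (Fin d → ℂ))ˣ) : End ℂ (Fin d → ℂ)) = ρ n := fun n => rfl
  let a₀ : (End ℂ (Fin d → ℂ))ˣ := LinearMap.GeneralLinearGroup.ofLinearEquiv φ.toLinearEquiv
  have ha₀ : ∀ n, a₀ * R n = R (c n) * a₀ := by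
    intro n
    apply Units.ext
    exact φ.toIntertwiningMap.isIntertwining' n
  -- the order of the generator
  set m := orderOf (QuotientGroup.mk g₀ : G ⧸ N) with hm
  have hmpos : 0 < m := orderOf_pos _
  have hg₀m : g₀ ^ m ∈ N := by
    rw [← QuotientGroup.eq_one_iff, QuotientGroup.mk_pow]
    exact pow_orderOf_eq_one _
  let n₀ : N := ⟨g₀ ^ m, hg₀m⟩
  have hcm : ∀ n : N, (c ^ m) n = n₀ * n * n₀⁻¹ := by
    intro n
    have : c ^ m = MulAut.conjNormal (g₀ ^ m) := (map_pow (MulAut.conjNormal (H := N)) g₀ m).symm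
    apply Subtype.ext
    rw [this, MulAut.conjNormal_apply]
    rfl
  have ha₀m : ∀ n, a₀ ^ m * R n = R (n₀ * n * n₀⁻¹) * a₀ ^ m := by
    intro n
    have := compat_zpow R c a₀ ha₀ (m : ℤ) n
    rw [zpow_natCast, zpow_natCast, hcm] at this
    exact this
  -- Schur
  let T : (End ℂ (Fin d → ℂ))ˣ := (R n₀)⁻¹ * a₀ ^ m
  have hT : ∀ n, T * R n = R n * T := by
    intro n
    show (R n₀)⁻¹ * a₀ ^ m * R n = R n * ((R n₀)⁻¹ * a₀ ^ m)
    rw [mul_assoc, ha₀m, map_mul, map_mul, map_inv]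
    group
  obtain ⟨s, hs⟩ := schur ρ (T : End ℂ (Fin d → ℂ)) (fun n => by
    have := congrArg (fun u : (End ℂ (Fin d → ℂ))ˣ => (u : End ℂ (Fin d → ℂ))) (hT n)
    exact this)
  have hnt : Nontrivial (Fin d → ℂ) := ((isIrreducible_iff ρ).mp hirr).1
  have hs0 : s ≠ 0 := by
    intro h0
    rw [h0, zero_smul] at hs
    exact T.ne_zero hs
  obtain ⟨t, ht⟩ := IsAlgClosed.exists_pow_nat_eq s hmpos
  have ht0 : t ≠ 0 := by
    intro h0
    rw [h0, zero_pow hmpos.ne'] at ht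
    exact hs0 ht.symm
  let Z : ℂˣ →* (End ℂ (Fin d → ℂ))ˣ := Units.map (algebraMap ℂ (End ℂ (Fin d → ℂ)) : ℂ →* End ℂ (Fin d → ℂ))
  have hZc : ∀ (u : ℂˣ) (x : (End ℂ (Fin d → ℂ))ˣ), Z u * x = x * Z u := by
    intro u x
    apply Units.ext
    exact Algebra.commutes (u : ℂ) (x : End ℂ (Fin d → ℂ))
  let tu : ℂˣ := Units.mk0 t ht0
  have hTZ : T = Z (tu ^ m) := by
    apply Units.ext
    rw [hs]
    show s • LinearMap.id = algebraMap ℂ (End ℂ (Fin d → ℂ)) ((tu ^ m : ℂˣ) : ℂ)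
    rw [Units.val_pow_eq_pow_val, Units.val_mk0, ht, Algebra.algebraMap_eq_smul_one]
    rfl
  let a : (End ℂ (Fin d → ℂ))ˣ := Z tu⁻¹ * a₀
  have ha : ∀ n, a * R n = R (c n) * a := by
    intro n
    show Z tu⁻¹ * a₀ * R n = R (c n) * (Z tu⁻¹ * a₀)
    rw [mul_assoc, ha₀, ← mul_assoc, hZc, mul_assoc]
  have ham : a ^ m = R n₀ := by
    show (Z tu⁻¹ * a₀) ^ m = R n₀
    have hcomm : Commute (Z tu⁻¹) a₀ := hZc _ _
    rw [hcomm.mul_pow, ← map_pow]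
    have h1 : a₀ ^ m = R n₀ * T := by
      show a₀ ^ m = R n₀ * ((R n₀)⁻¹ * a₀ ^ m)
      rw [mul_inv_cancel_left]
    rw [h1, hTZ, hZc, mul_assoc, ← map_mul, inv_pow, mul_inv_cancel, map_one, mul_one]
  have hpow : ∀ (i : ℤ) (hi : g₀ ^ i ∈ N), a ^ i = R ⟨g₀ ^ i, hi⟩ := by
    intro i hi
    have h1 : (QuotientGroup.mk g₀ : G ⧸ N) ^ i = 1 := by
      rw [← QuotientGroup.mk_zpow]
      exact (QuotientGroup.eq_one_iff _).mpr hi
    obtain ⟨j, rfl⟩ := orderOf_dvd_iff_zpow_eq_one.mpr h1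
    rw [zpow_mul, zpow_natCast, ham, ← map_zpow]
    congr 1
    apply Subtype.ext
    rw [Subgroup.coe_zpow]
    show (g₀ ^ m) ^ j = g₀ ^ ((m : ℤ) * j)
    rw [zpow_mul, zpow_natCast]
  obtain ⟨F, hF⟩ := exists_extension_of_cyclic N g₀ hq R a ha hpow
  let ρ' : Representation ℂ G (Fin d → ℂ) := (Units.coeHom (End ℂ (Fin d → ℂ))).comp F
  have hρ' : ∀ n : N, ρ' n = ρ n := by
    intro n
    show ((F n : (End ℂ (Fin d → ℂ))ˣ) : End ℂ (Fin d → ℂ)) = ρ n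
    rw [hF, hR]
  refine ⟨ρ'.character, ⟨d, ρ', ?_, rfl⟩, fun n => ?_⟩
  · rw [isIrreducible_iff] at hirr ⊢
    refine ⟨hirr.1, fun U hU => hirr.2 U fun n v hv => ?_⟩
    rw [← hρ']
    exact hU n v hv
  · rw [← hρ]
    show LinearMap.trace ℂ _ (ρ' n) = LinearMap.trace ℂ _ (ρ n)
    rw [hρ']

end Cfsg.Agent.S0886
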