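import Mathlib
import Cfsg.Prelude.Def_Characters
import Cfsg.Prelude.Def_CharExt
import Cfsg.Agent.H6.SolvStep
import Cfsg.Agent.S0862
import Cfsg.Agent.S0886

set_option autoImplicit false

namespace Cfsg.Agent.S0863

open Cfsg Module Cfsg.Agent.CharLib Cfsg.Agent.CharLib.H2 Cfsg.Agent.H6

universe u

/-- the determinantal character of a composition with a homomorphism -/
theorem detChar_comp {G H : Type*} [Group G] [Group H] [Finite G] [Finite H] {χ : G → ℂ}
    (hχ : IsCharacter G χ) (f : H →* G) :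
    detChar (fun h : H => χ (f h)) = fun h : H => detChar χ (f h) := by
  obtain ⟨n, ρ, rfl⟩ := hχ
  let σ : Representation ℂ H (Fin n → ℂ) := (ρ : G →* End ℂ (Fin n → ℂ)).comp f
  have h1 : (fun x : H => ρ.character (f x)) = σ.character := rfl
  rw [h1, detChar_eq σ, detChar_eq ρ]
  rfl

theorem aux (k : ℕ) : ∀ (G : Type u) [Group G] [Finite G] (N : Subgroup G) [hN : N.Normal],
    N.index = k → Group.IsSolvable (G ⧸ N) → ∀ (ϑ : N → ℂ), IsIrrCharacter N ϑ →
    (∀ (g : G) (n : N), ϑ ⟨g * n * g⁻¹, hN.conj_mem (n : G) n.2 g⟩ = ϑ n) →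
    ∀ d : ℕ, ϑ 1 = d → Nat.Coprime N.index d → ∀ μ : G → ℂ, IsCharacter G μ → μ 1 = 1 →
    (∀ n : N, μ n = detChar ϑ n) → ∃ χ : G → ℂ, IsIrrCharacter G χ ∧ ∀ n : N, χ n = ϑ n := by
  induction k using Nat.strong_induction_on with
  | _ k ih =>
  intro G _ _ N hN hk hsolv ϑ hϑ hinv d hd hcop μ hμ hμ1 hμN
  classical
  by_cases hne : N = ⊤
  · subst hne
    refine ⟨fun g => ϑ (Subgroup.topEquiv.symm g), ?_, fun n => rfl⟩
    exact isIrrCharacter_comp_of_surjective hϑ
      ((Subgroup.topEquiv (G := G)).symm.toMonoidHom) (Subgroup.topEquiv (G := G)).symm.surjective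
  · obtain ⟨F, hNF, hF⟩ := exists_hom_of_solvable_quotient N hsolv hne
    set M : Subgroup G := F.ker with hMdef
    have hM : M.Normal := MonoidHom.normal_ker F
    let N' : Subgroup M := N.subgroupOf M
    have hN' : N'.Normal := hN.subgroupOf M
    let e : N' ≃* N := Subgroup.subgroupOfEquivOfLe hNF
    have he : ∀ x : N', ((e x : N) : G) = ((x : M) : G) := fun x => rfl
    let ϑ' : N' → ℂ := fun x => ϑ (e x)
    have hϑ' : IsIrrCharacter N' ϑ' := isIrrCharacter_comp_of_surjective hϑ e.toMonoidHom e.surjective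
    have hidx : N'.index * M.index = N.index := Subgroup.relIndex_mul_index hNF
    have hMi1 : M.index ≠ 1 := fun h => hF (Subgroup.index_eq_one.mp h)
    have hMi0 : M.index ≠ 0 := Subgroup.index_ne_zero_of_finite
    have hN'i0 : N'.index ≠ 0 := Subgroup.index_ne_zero_of_finite
    have hlt : N'.index < k := by
      rw [← hk, ← hidx]
      have h2 : 2 ≤ M.index := by omega
      have h1 : 1 ≤ N'.index := by omega
      nlinarith
    have hsolv' : Group.IsSolvable (M ⧸ N') := by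
      let j : M ⧸ N' →* G ⧸ N := QuotientGroup.map N' N M.subtype le_rfl
      have hj : Function.Injective j := by
        rw [injective_iff_map_eq_one]
        intro x hx
        induction x using QuotientGroup.induction_on with
        | H m =>
          have hx' : (QuotientGroup.mk ((m : M) : G) : G ⧸ N) = 1 := hx
          rw [QuotientGroup.eq_one_iff] at hx'
          rw [QuotientGroup.eq_one_iff]
          exact hx'
      exact Group.isSolvable_of_isSolvable_injective hj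
    have hinv' : ∀ (m : M) (x : N'), ϑ' ⟨m * x * m⁻¹, hN'.conj_mem (x : M) x.2 m⟩ = ϑ' x := by
      intro m x
      exact hinv (m : G) (e x)
    have hd' : ϑ' 1 = d := by
      show ϑ (e 1) = d
      rw [map_one, hd]
    have hcop' : Nat.Coprime N'.index d :=
      Nat.Coprime.coprime_dvd_left (Dvd.intro _ hidx) hcop
    let μ' : M → ℂ := fun m => μ m
    have hμ' : IsCharacter M μ' := isCharacter_restrict hμ M
    have hμ'1 : μ' 1 = 1 := hμ1
    have hdetϑ' : detChar ϑ' = fun x : N' => detChar ϑ (e x) :=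
      detChar_comp (isCharacter_of_irr hϑ) e.toMonoidHom
    have hμ'N : ∀ x : N', μ' x = detChar ϑ' x := by
      intro x
      rw [hdetϑ']
      exact hμN (e x)
    obtain ⟨η₀, hη₀, hη₀N⟩ := ih N'.index hlt M N' rfl hsolv' ϑ' hϑ' hinv' d hd' hcop' μ' hμ' hμ'1 hμ'N
    obtain ⟨η, ⟨hη, hηN, hηdet⟩, huniq⟩ := Cfsg.Agent.S0862.result N' ϑ' hϑ' d hd' hcop'
      ⟨η₀, hη₀, hη₀N⟩ μ' ⟨hμ', hμ'1⟩ hμ'N
    have hμc := isClassFunction_of_char hμ
    have hηinv : ∀ (g : G) (m : M), η ⟨g * m * g⁻¹, hM.conj_mem (m : G) m.2 g⟩ = η m := by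
      intro g m
      have h1 : conjFun hM η g = η := by
        apply huniq
        refine ⟨isIrrCharacter_conjFun hM hη g, ?_, ?_⟩
        · intro x
          rw [conjFun_apply]
          have hmem : g * ((x : M) : G) * g⁻¹ ∈ N := hN.conj_mem _ x.2 g
          have h2 := hηN ⟨⟨g * ((x : M) : G) * g⁻¹, hNF hmem⟩, hmem⟩
          have h3 : η ⟨g * ((x : M) : G) * g⁻¹, hNF hmem⟩ = ϑ ⟨g * ((x : M) : G) * g⁻¹, hmem⟩ := h2
          rw [h3]
          exact hinv g (e x)
        · rw [conjFun_eq_comp, detChar_comp (isCharacter_of_irr hη), hηdet]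
          funext m
          show μ (g * (m : G) * g⁻¹) = μ m
          exact hμc m g
      exact congrFun h1 m
    obtain ⟨χ, hχ, hχM⟩ := Cfsg.Agent.S0886.result M (isCyclic_quotient_ker F) η hη hηinv
    refine ⟨χ, hχ, fun n => ?_⟩
    have h1 := hχM ⟨n, hNF n.2⟩
    have h2 := hηN (e.symm n)
    have h3 : ((e.symm n : N') : M) = ⟨n, hNF n.2⟩ := by
      apply Subtype.ext
      rw [← he, MulEquiv.apply_symm_apply]
    rw [h3] at h2
    simp only at h1
    rw [h1, h2]
    show ϑ (e (e.symm n)) = ϑ n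
    rw [MulEquiv.apply_symm_apply]

theorem result {G : Type*} [Group G] [Finite G] (N : Subgroup G) [hN : N.Normal] (hsolv : Group.IsSolvable (G ⧸ N)) (ϑ : N → ℂ) (hϑ : Cfsg.IsIrrCharacter N ϑ) (hinv : ∀ (g : G) (n : N), ϑ ⟨g * n * g⁻¹, hN.conj_mem (n : G) n.2 g⟩ = ϑ n) (d : ℕ) (hd : ϑ 1 = d) (hcop : Nat.Coprime N.index d) : (∃ χ : G → ℂ, Cfsg.IsIrrCharacter G χ ∧ (∀ n : N, χ n = ϑ n)) ↔ ∃ μ : G → ℂ, Cfsg.IsCharacter G μ ∧ μ 1 = 1 ∧ ∀ n : N, μ n = Cfsg.detChar ϑ n := by
  constructor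
  · rintro ⟨χ, hχ, hres⟩
    have hχch := isCharacter_of_irr hχ
    obtain ⟨D, hD⟩ := exists_detHom hχch
    refine ⟨fun g => ((D g : ℂˣ) : ℂ), isCharacter_of_irr (isIrrCharacter_of_hom D), by simp, ?_⟩
    intro n
    show ((D (n : G) : ℂˣ) : ℂ) = _
    rw [hD]
    have h1 := detChar_restrict hχch N
    have h2 : (fun n : N => χ n) = ϑ := funext hres
    rw [h2] at h1
    rw [h1]
  · rintro ⟨μ, hμ, hμ1, hμN⟩
    exact aux N.index G N rfl hsolv ϑ hϑ hinv d hd hcop μ hμ hμ1 hμN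

end Cfsg.Agent.S0863
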