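import Mathlib
import Cfsg.Prelude.Def_Characters
import Cfsg.Agent.H6.TransferLin

set_option autoImplicit false

namespace Cfsg.Agent.S0865

open Cfsg Cfsg.Agent.CharLib Cfsg.Agent.H6

theorem result {G : Type*} [Group G] [Finite G] (N : Subgroup G) [hN : N.Normal] (lam : N → ℂ) (hlam : Cfsg.IsCharacter N lam ∧ lam 1 = 1) (hinv : ∀ (g : G) (n : N), lam ⟨g * n * g⁻¹, hN.conj_mem (n : G) n.2 g⟩ = lam n) (hcop : Nat.Coprime N.index (orderOf lam)) : ∃ μ : G → ℂ, (Cfsg.IsCharacter G μ ∧ μ 1 = 1 ∧ (∀ n : N, μ n = lam n) ∧ orderOf μ = orderOf lam) ∧ ∀ μ' : G → ℂ, Cfsg.IsCharacter G μ' ∧ μ' 1 = 1 → (∀ n : N, μ' n = lam n) → Nat.Coprime N.index (orderOf μ') → μ' = μ := by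
  classical
  let L : N →* ℂˣ := linCharHom lam hlam
  set k := N.index with hk
  set o := orderOf lam with ho
  have hLo : ∀ n : N, L n ^ o = 1 := by
    intro n
    apply Units.ext
    have := congrFun (pow_orderOf_eq_one lam) n
    simpa [L] using this
  -- homs trivial on N have exponent k
  have htriv : ∀ W : G →* ℂˣ, (∀ n : N, W n = 1) → ∀ g : G, W g ^ k = 1 := by
    intro W hW g
    rw [← map_pow]
    exact hW ⟨g ^ k, N.pow_index_mem g⟩
  let V : G →* ℂˣ := MonoidHom.transfer L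
  have hV : ∀ n : N, V n = L n ^ k := by
    intro n
    have hmem : ∀ g : G, g⁻¹ * (n : G) * g ∈ N := by
      intro g
      simpa using hN.conj_mem (n : G) n.2 g⁻¹
    have := transfer_eq_pow_of_invariant L (n : G) n.2 hmem (by
      intro g
      apply Units.ext
      show lam ⟨g⁻¹ * (n : G) * g, _⟩ = lam ⟨(n : G), _⟩
      have h1 := hinv g⁻¹ n
      rw [← h1]
      congr 2
      simp)
    exact this
  -- Bezout
  have hcop2 : Nat.Coprime (k * k) o := Nat.Coprime.mul_left hcop hcop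
  have hbez : ((k * k : ℕ) : ℤ) * Nat.gcdA (k * k) o + (o : ℤ) * Nat.gcdB (k * k) o = 1 := by
    have := Nat.gcd_eq_gcd_ab (k * k) o
    rw [hcop2] at this
    simpa using this.symm
  set a := Nat.gcdA (k * k) o
  set b := Nat.gcdB (k * k) o
  let μ : G →* ℂˣ := V ^ ((k : ℤ) * a)
  have hμN : ∀ n : N, μ n = L n := by
    intro n
    show (V ^ ((k : ℤ) * a)) (n : G) = L n
    rw [MonoidHom.zpow_apply, hV, ← zpow_natCast, ← zpow_mul]
    have h1 : (k : ℤ) * ((k : ℤ) * a) = 1 - (o : ℤ) * b := by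
      push_cast at hbez
      linear_combination hbez
    rw [h1, zpow_sub, zpow_one, zpow_mul, zpow_natCast, hLo]
    simp
  have hμo : ∀ g : G, μ g ^ o = 1 := by
    intro g
    show ((V ^ ((k : ℤ) * a)) g) ^ o = 1
    rw [MonoidHom.zpow_apply, ← zpow_natCast, ← zpow_mul]
    have h1 : (k : ℤ) * a * (o : ℤ) = (o : ℤ) * (k : ℤ) * a := by ring
    rw [h1, zpow_mul, zpow_mul, zpow_natCast, zpow_natCast]
    have := htriv (V ^ o) (fun n => by
      rw [MonoidHom.pow_apply, hV, ← pow_mul, mul_comm, pow_mul, hLo, one_pow]) g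
    rw [MonoidHom.pow_apply] at this
    rw [this, one_zpow]
  have hfun_pow : ∀ (f : G →* ℂˣ) (j : ℕ), (fun g => ((f g : ℂˣ) : ℂ)) ^ j = 1 ↔ ∀ g, f g ^ j = 1 := by
    intro f j
    constructor
    · intro h g
      apply Units.ext
      have := congrFun h g
      simpa using this
    · intro h
      funext g
      have := congrArg (fun u : ℂˣ => (u : ℂ)) (h g)
      simpa using this
  have hordμ : orderOf (fun g => ((μ g : ℂˣ) : ℂ)) = o := by
    apply Nat.dvd_antisymm
    · exact orderOf_dvd_of_pow_eq_one ((hfun_pow μ o).mpr hμo)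
    · apply orderOf_dvd_of_pow_eq_one
      funext n
      have h1 := (hfun_pow μ _).mp (pow_orderOf_eq_one (fun g => ((μ g : ℂˣ) : ℂ))) (n : G)
      rw [hμN] at h1
      have := congrArg (fun u : ℂˣ => (u : ℂ)) h1
      simpa [L] using this
  refine ⟨fun g => (μ g : ℂ), ⟨isCharacter_of_irr (isIrrCharacter_of_hom μ), by simp, fun n => ?_,
    hordμ⟩, ?_⟩
  · show ((μ (n : G) : ℂˣ) : ℂ) = lam n
    rw [hμN]; rfl
  · intro μ' hμ' hres hcop'
    let M' : G →* ℂˣ := linCharHom μ' hμ'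
    have hM'fun : (fun g => ((M' g : ℂˣ) : ℂ)) = μ' := rfl
    set o' := orderOf μ' with ho'
    have hM'o : ∀ g, M' g ^ o' = 1 := by
      apply (hfun_pow M' o').mp
      rw [hM'fun]
      exact pow_orderOf_eq_one μ'
    have hD : ∀ g, (M' * μ⁻¹) g ^ k = 1 := by
      apply htriv
      intro n
      rw [MonoidHom.mul_apply, MonoidHom.inv_apply, hμN]
      have : M' (n : G) = L n := by
        apply Units.ext
        exact hres n
      rw [this, mul_inv_cancel]
    funext g
    have h1 : (M' * μ⁻¹) g ^ (o' * o) = 1 := by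
      rw [MonoidHom.mul_apply, MonoidHom.inv_apply, mul_pow, inv_pow, pow_mul, hM'o, one_pow,
        mul_comm o' o, pow_mul, hμo, one_pow]
      simp
    have h2 : orderOf ((M' * μ⁻¹) g) ∣ Nat.gcd k (o' * o) :=
      Nat.dvd_gcd (orderOf_dvd_of_pow_eq_one (hD g)) (orderOf_dvd_of_pow_eq_one h1)
    have h3 : Nat.gcd k (o' * o) = 1 := Nat.Coprime.mul_right hcop' hcop
    rw [h3, Nat.dvd_one, orderOf_eq_one_iff, MonoidHom.mul_apply, MonoidHom.inv_apply,
      mul_inv_eq_one] at h2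
    show ((M' g : ℂˣ) : ℂ) = ((μ g : ℂˣ) : ℂ)
    rw [h2]

end Cfsg.Agent.S0865
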