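import Mathlib
import Cfsg.Statements.S0866
import Cfsg.Agent.H6.ProjExt
import Cfsg.Agent.H6.Det
import Cfsg.Agent.H6.LinChar

set_option autoImplicit false
open Cfsg

namespace Cfsg.Agent.S0866

open Cfsg.Agent.CharLib Cfsg.Agent.H6 Cfsg.Agent.H6.ProjLift Module

/-- Let N be a normal subgroup of the finite group G and ϑ an irreducible character of N, invariant under conjugation by G, of degree d coprime to the index of N. Then ϑ is the restriction of an irreducible character of G if and only if the determinantal character of ϑ is the restriction of a character of G of degree 1. -/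
theorem result {G : Type*} [Group G] [Finite G] (N : Subgroup G) [hN : N.Normal] (ϑ : N → ℂ) (hϑ : Cfsg.IsIrrCharacter N ϑ) (hinv : ∀ (g : G) (n : N), ϑ ⟨g * n * g⁻¹, hN.conj_mem (n : G) n.2 g⟩ = ϑ n) (d : ℕ) (hd : ϑ 1 = d) (hcop : Nat.Coprime N.index d) : (∃ χ : G → ℂ, Cfsg.IsIrrCharacter G χ ∧ (∀ n : N, χ n = ϑ n)) ↔ ∃ μ : G → ℂ, Cfsg.IsCharacter G μ ∧ μ 1 = 1 ∧ ∀ n : N, μ n = Cfsg.detChar ϑ n := by
  constructor
  · rintro ⟨χ, hχ, hres⟩
    obtain ⟨D, hD⟩ := exists_detHom (isCharacter_of_irr hχ)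
    refine ⟨detChar χ, ?_, ?_, ?_⟩
    · have := isCharacter_of_irr (isIrrCharacter_of_hom D)
      have h2 : (fun g => ((D g : ℂˣ) : ℂ)) = detChar χ := funext hD
      rwa [h2] at this
    · rw [← hD, map_one, Units.val_one]
    · intro n
      have h1 := detChar_restrict (isCharacter_of_irr hχ) N
      have h2 : (fun n : N => χ n) = ϑ := funext hres
      rw [h2] at h1
      rw [h1]
  · rintro ⟨μ, hμ, hμ1, hμres⟩
    obtain ⟨b, σ, hσ, rfl⟩ := hϑ
    have hinv' : ∀ (g : G) (n : N), σ.character (MulAut.conjNormal g n) = σ.character n :=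
      fun g n => hinv g n
    have hbd : finrank ℂ (Fin b → ℂ) = d := by
      rw [Representation.char_one] at hd
      exact_mod_cast hd
    set δ : G →* ℂˣ := linCharHom μ ⟨hμ, hμ1⟩ with hδ
    have hone : (1 : ℤ) ∈ LinExt.extExp (N.comap (proj N σ δ)) (lamHom N σ δ) := by
      refine LinExt.one_mem_of_coprime _ (index_mem_extExp N σ δ hinv' N le_rfl σ (fun _ => rfl))
        (LinExt.mem_extExp_of_pow_eq_one _ _ (k := d) ?_) hcop
      intro x
      have hx := lamHom_spec N σ δ x
      have hdet := ((mem_lift N σ).mp x.1.2).2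
      rw [hx, LinearMap.det_smul, hbd] at hdet
      have h3 := hμres ⟨x.1.1.1, x.2⟩
      rw [detChar_eq] at h3
      have h3' : ((δ x.1.1.1 : ℂˣ) : ℂ) = LinearMap.det (σ ⟨x.1.1.1, x.2⟩) := h3
      rw [h3'] at hdet
      have hne : LinearMap.det (σ ⟨x.1.1.1, x.2⟩) ≠ 0 := by
        intro h0
        have h4 : σ ⟨x.1.1.1, x.2⟩ * σ (⟨x.1.1.1, x.2⟩ : N)⁻¹ = 1 := by
          rw [← map_mul, mul_inv_cancel, map_one]
        have h5 := congrArg LinearMap.det h4
        rw [map_mul, h0, zero_mul, map_one] at h5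
        exact zero_ne_one h5
      apply Units.ext
      rw [Units.val_pow_eq_pow_val, Units.val_one]
      exact mul_right_cancel₀ hne (by rw [hdet, one_mul])
    obtain ⟨σ', hσ'⟩ := exists_rep_of_one_mem N σ δ hinv' hone
    exact ⟨σ'.character, isIrr_of_rep_ext N σ σ' hσ'⟩

end Cfsg.Agent.S0866
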