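import Cfsg.Statements.S4487
import Cfsg.Agent.Lib.Helper23.WeakOrth
import Cfsg.Agent.BlockLib.KG.Support
import Cfsg.Agent.H1.Fit

set_option autoImplicit false
open Cfsg

namespace Cfsg.Agent.S4487

open scoped ComplexConjugate
open Cfsg.Agent.Lib.Helper23 Cfsg.Agent.CharLib Cfsg.Agent.BlockLib

/-- Let G be a finite group and p a prime such that G has no non-trivial normal subgroup of order prime to p and C_G(O_p(G)) ≤ O_p(G). Then G has a single p-block: any two irreducible characters lie in the same block relative to every maximal ideal M of the algebraic integers containing p. -/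
theorem result {G : Type*} [Group G] [Finite G] (p : ℕ) [Fact p.Prime] (M : Ideal Cfsg.AlgInt) (hM : Cfsg.IsPModular p M) (hcore : Cfsg.pPrimeCore p G = ⊥) (hconstr : Subgroup.centralizer ((Cfsg.pCore p G) : Set G) ≤ Cfsg.pCore p G) (χ ψ : Cfsg.IrrCharacter G) : Cfsg.SameBlock M (χ : G → ℂ) (ψ : G → ℂ) := by
  classical
  cases nonempty_fintype G
  have hprime := isPrime_of_isPModular hM
  have hchar := charP_resField hM
  have hPn : (Cfsg.pCore p G).Normal := Cfsg.H1.pCore_normal p
  have hPp : IsPGroup p (Cfsg.pCore p G) := Cfsg.H1.pCore_isPGroup p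
  set B := Cfsg.blockOf M (χ : G → ℂ) with hBdef
  have hB : Cfsg.IsPBlock M B := ⟨χ, rfl⟩
  have h1 : eps M B ∈ CA.supp (Cfsg.pCore p G) := by
    apply CA.supp_mono hconstr
    exact CA.idem_mem_supp_centralizer (p := p) (H := ⊤) hPp le_top
      (by rw [Subgroup.normalizer_eq_top]) (eps_mem_cen B) (eps_mul_self hB)
  have h2 : ∀ g : G, g ≠ 1 → idemSet B g = 0 := by
    intro g hg
    rw [← blockCoeff_eq_idemSet]
    by_cases hgP : g ∈ Cfsg.pCore p G
    · have hgp : p ∣ orderOf g := by
        obtain ⟨k, hk⟩ := (IsPGroup.iff_orderOf.1 hPp) ⟨g, hgP⟩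
        rw [Subgroup.orderOf_mk] at hk
        rw [hk]
        apply dvd_pow_self
        rintro rfl
        rw [pow_zero, orderOf_eq_one_iff] at hk
        exact hg hk
      have h3 := weak_orth hM B hB 1 g (by
        rw [orderOf_one]
        exact fun h => (Fact.out : p.Prime).one_lt.ne' (Nat.dvd_one.1 h)) hgp
      unfold Cfsg.blockCoeff
      rw [finsum_mem_eq_sum_filter', h3, mul_zero]
    · exact blockCoeff_eq_zero_of_eps_mem_supp hB _ h1 hgP
  have h3 : idemSet B = (idemSet B 1) • (delta : G → ℂ) := by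
    funext g
    by_cases hg : g = 1
    · subst hg; simp [delta_apply]
    · rw [h2 g hg]; simp [delta_apply, hg]
  have h4 : ∀ θ : Cfsg.IrrCharacter G, omega (θ : G → ℂ) (idemSet B) = idemSet B 1 := by
    intro θ
    conv_lhs => rw [h3]
    rw [omega_smul, omega_delta (irr_apply_one_ne_zero θ), mul_one]
  have h5 := omega_idemSet B χ
  have h6 := omega_idemSet B ψ
  rw [h4] at h5 h6
  rw [if_pos (mem_blockOf_self χ)] at h5
  by_contra hcon
  have hcon' : ψ ∉ B := hcon
  rw [if_neg hcon', h5] at h6
  exact one_ne_zero h6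

end Cfsg.Agent.S4487
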