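import Cfsg.Statements.S1465
import Cfsg.Agent.Lib.Helper13.OddQuad2
import Cfsg.Agent.H12.Cores

set_option autoImplicit false
open Cfsg

namespace Cfsg.Agent.S1465

/-- Let p be an odd prime, G a solvable group of odd order, P a normal p-subgroup of G, and X the subgroup generated by a family of abelian p-subgroups of G each normalized by P. Then the image of X in G/C_G(P) lies in O_p(G/C_G(P)); and if O_{p'}(G) = 1 and O_p(G) ∩ C_G(P) ≤ P then X ≤ O_p(G). -/
theorem result {G : Type*} [Group G] [Finite G] [Group.IsSolvable G] (hodd : Odd (Nat.card G)) (p : ℕ) [Fact p.Prime] (hp : p ≠ 2) (P : Subgroup G) [P.Normal] (hP : IsPGroup p P)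
    (S : Set (Subgroup G)) (hS : ∀ B ∈ S, IsMulCommutative B ∧ IsPGroup p B ∧ P ≤ Subgroup.normalizer (B : Set G)) :
    (sSup S).map (QuotientGroup.mk' (Subgroup.centralizer (P : Set G))) ≤ Cfsg.pCore p (G ⧸ Subgroup.centralizer (P : Set G)) ∧
      (Cfsg.pPrimeCore p G = ⊥ → Cfsg.pCore p G ⊓ Subgroup.centralizer (P : Set G) ≤ P → sSup S ≤ Cfsg.pCore p G) := by
  have hst : Cfsg.IsPStableOn p P := Cfsg.Agent.H17.isPStableOn_of_normalizerPStable
    (Cfsg.Agent.Lib.Helper13.isNormalizerPStable_of_odd hodd p hp) P hP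
  have key : sSup S ≤ Cfsg.Agent.Lib.Helper13.stabD p P := by
    apply sSup_le
    intro B hB z hz
    obtain ⟨hBc, -, hBn⟩ := hS B hB
    have hzz : Subgroup.zpowers z ≤ B := Subgroup.zpowers_le.mpr hz
    have h1 : ⁅P, Subgroup.zpowers z⁆ ≤ B :=
      (Subgroup.commutator_mono le_rfl hzz).trans (Subgroup.le_normalizer_iff_commutator_le_right.mp hBn)
    have h2 : ⁅B, B⁆ = ⊥ := by
      rw [Subgroup.commutator_eq_bot_iff_le_centralizer]
      intro u hu
      rw [Subgroup.mem_centralizer_iff]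
      intro v hv
      exact congrArg Subtype.val (hBc.is_comm.comm ⟨v, hv⟩ ⟨u, hu⟩)
    exact hst z (le_bot_iff.mp (h2 ▸ Subgroup.commutator_mono h1 hzz))
  refine ⟨Subgroup.map_le_iff_le_comap.mpr key, ?_⟩
  intro hO hQ
  refine key.trans ?_
  set C := Subgroup.centralizer (P : Set G) with hC
  have hOC : Cfsg.pPrimeCore p C = ⊥ := by
    have h1 := Cfsg.Agent.H12.pPrimeCore_map_le p C
    rw [hO, le_bot_iff] at h1
    exact (Subgroup.map_eq_bot_iff_of_injective _ C.subtype_injective).mp h1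
  have hcc := Cfsg.Agent.Lib.Helper13.constrained_of_solvable hOC
  have htop : Subgroup.centralizer (Cfsg.pCore p C : Set C) = ⊤ := by
    rw [eq_top_iff]
    intro c _
    rw [Subgroup.mem_centralizer_iff]
    intro x hx
    have hxP : (x : G) ∈ P :=
      hQ (Subgroup.mem_inf.mpr ⟨Cfsg.Agent.H12.pCore_map_le p C ⟨x, hx, rfl⟩, x.2⟩)
    apply Subtype.ext
    exact (Subgroup.mem_centralizer_iff.mp c.2) x hxP
  rw [htop, top_le_iff] at hcc
  have hCp : IsPGroup p C := by
    have h1 : IsPGroup p (Cfsg.pCore p C) := Cfsg.H1.pCore_isPGroup p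
    rw [hcc] at h1
    exact h1.of_equiv Subgroup.topEquiv
  apply Cfsg.H1.le_pCore (Cfsg.Agent.Lib.Helper13.stabD_normal _)
  unfold Cfsg.Agent.Lib.Helper13.stabD
  apply (Cfsg.H1.pCore_isPGroup p).comap_of_ker_isPGroup
  rw [QuotientGroup.ker_mk']
  exact hCp

end Cfsg.Agent.S1465
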