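import Cfsg.Statements.S0765
import Mathlib
-- import your own Cfsg.Agent.* helpers here
import Cfsg.Agent.H5.Symp

set_option autoImplicit false
open Cfsg

namespace Cfsg.Agent.S0765

open Cfsg.Agent.H5Symp Matrix

variable {F : Type*} [Field F] {m : ℕ}

/-- vectors vanishing on the first `k` coordinate pairs -/
def Wk (F : Type*) [Field F] (m k : ℕ) : Submodule F (Fin m ⊕ Fin m → F) where
  carrier := {x | ∀ i : Fin m, (i : ℕ) < k → x (Sum.inl i) = 0 ∧ x (Sum.inr i) = 0}
  add_mem' := by
    intro a b ha hb i hi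
    simp [ha i hi, hb i hi]
  zero_mem' := by
    intro i _
    simp
  smul_mem' := by
    intro c x hx i hi
    simp [hx i hi]

theorem nondeg_Wk (k : ℕ) : ∀ u ∈ Wk F m k, u ≠ 0 → ∃ z ∈ Wk F m k, sympForm m F u z ≠ 0 := by
  intro u huW hu
  have : ∃ j, u j ≠ 0 := by
    by_contra hcon
    push Not at hcon
    exact hu (funext hcon)
  obtain ⟨j, hj⟩ := this
  rcases j with i | i
  · refine ⟨Pi.single (Sum.inr i) 1, ?_, by rw [form_single_inr]; exact neg_ne_zero.mpr hj⟩
    intro i' hi'
    have : i' ≠ i := by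
      rintro rfl
      exact hj (huW i' hi').1
    simp [Pi.single_apply, this]
  · refine ⟨Pi.single (Sum.inl i) 1, ?_, by rw [form_single_inl]; exact hj⟩
    intro i' hi'
    have : i' ≠ i := by
      rintro rfl
      exact hj (huW i' hi').2
    simp [Pi.single_apply, this]

theorem key (A : symplecticGroup (Fin m) F) (k : ℕ) (hk : k ≤ m) :
    ∃ t ∈ TW (⊤ : Submodule F (Fin m ⊕ Fin m → F)), ∀ i : Fin m, (i : ℕ) < k →
      ((t * A : symplecticGroup (Fin m) F) : Matrix (Fin m ⊕ Fin m) (Fin m ⊕ Fin m) F) *ᵥ (Pi.single (Sum.inl i) 1) = Pi.single (Sum.inl i) 1 ∧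
      ((t * A : symplecticGroup (Fin m) F) : Matrix (Fin m ⊕ Fin m) (Fin m ⊕ Fin m) F) *ᵥ (Pi.single (Sum.inr i) 1) = Pi.single (Sum.inr i) 1 := by
  induction k with
  | zero => exact ⟨1, Subgroup.one_mem _, fun i hi => absurd hi (Nat.not_lt_zero _)⟩
  | succ k ih =>
    obtain ⟨t, ht, hfix⟩ := ih (by omega)
    set B := t * A with hB
    have hpres := (mem_symp_iff (B : Matrix (Fin m ⊕ Fin m) (Fin m ⊕ Fin m) F)).mp B.2
    let kk : Fin m := ⟨k, by omega⟩
    set e : Fin m ⊕ Fin m → F := Pi.single (Sum.inl kk) 1 with he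
    set f : Fin m ⊕ Fin m → F := Pi.single (Sum.inr kk) 1 with hf
    have hmemW : ∀ x : Fin m ⊕ Fin m → F, x ∈ Wk F m k →
        (B : Matrix (Fin m ⊕ Fin m) (Fin m ⊕ Fin m) F) *ᵥ x ∈ Wk F m k := by
      intro x hx i hi
      constructor
      · have h1 := hpres x (Pi.single (Sum.inr i) 1)
        rw [(hfix i hi).2, form_single_inr, form_single_inr, (hx i hi).1] at h1
        simpa using h1
      · have h1 := hpres x (Pi.single (Sum.inl i) 1)
        rw [(hfix i hi).1, form_single_inl, form_single_inl, (hx i hi).2] at h1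
        exact h1
    have heW : e ∈ Wk F m k := by
      intro i hi
      have : i ≠ kk := by
        rintro rfl
        exact absurd hi (lt_irrefl _)
      simp [he, Pi.single_apply, this]
    have hfW : f ∈ Wk F m k := by
      intro i hi
      have : i ≠ kk := by
        rintro rfl
        exact absurd hi (lt_irrefl _)
      simp [hf, Pi.single_apply, this]
    have hfe : sympForm m F f e = 1 := by
      rw [he, form_single_inl, hf]; simp
    have hfe' : sympForm m F ((B : Matrix (Fin m ⊕ Fin m) (Fin m ⊕ Fin m) F) *ᵥ f) ((B : Matrix (Fin m ⊕ Fin m) (Fin m ⊕ Fin m) F) *ᵥ e) = 1 := by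
      rw [hpres, hfe]
    obtain ⟨s, hs, e₁, e₂⟩ := trans_pairs (nondeg_Wk k) (hmemW f hfW) (hmemW e heW) hfW heW hfe' hfe
    refine ⟨s * t, Subgroup.mul_mem _ (TW_mono le_top hs.mem) ht, ?_⟩
    intro i hi
    rw [mul_assoc, ← hB, Submonoid.coe_mul, ← mulVec_mulVec, ← mulVec_mulVec]
    rcases Nat.lt_succ_iff_lt_or_eq.mp hi with hlt | heq
    · rw [(hfix i hlt).1, (hfix i hlt).2]
      constructor
      · apply hs.fix
        intro w hw
        rw [form_swap, form_single_inl, (hw i hlt).2, neg_zero]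
      · apply hs.fix
        intro w hw
        rw [form_swap, form_single_inr, (hw i hlt).1]; simp
    · have : i = kk := Fin.ext heq
      subst this
      exact ⟨e₂, e₁⟩


/-- Generation of the symplectic group by symplectic transvections: the subgroup of Sp_2m(F) generated by all matrices of maps x ↦ x + c f(x, w) w is the whole group. -/
theorem result {F : Type*} [Field F] (m : ℕ) : Subgroup.closure {A : Matrix.symplecticGroup (Fin m) F | ∃ (w : Fin m ⊕ Fin m → F) (c : F), (A : Matrix (Fin m ⊕ Fin m) (Fin m ⊕ Fin m) F) = Cfsg.sympTransvection m w c} = ⊤ := by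
  rw [eq_top_iff]
  intro A _
  obtain ⟨t, ht, hfix⟩ := key A m le_rfl
  have h1 : t * A = 1 := by
    apply Subtype.ext
    apply mat_ext
    intro x
    rw [Submonoid.coe_one, Matrix.one_mulVec]
    have hx : x = ∑ j, x j • (Pi.single j 1 : Fin m ⊕ Fin m → F) := by
      ext j
      simp [Finset.sum_apply, Pi.single_apply]
    conv_lhs => rw [hx]
    conv_rhs => rw [hx]
    rw [Matrix.mulVec_sum]
    apply Finset.sum_congr rfl
    intro j _
    rw [Matrix.mulVec_smul]
    rcases j with i | i
    · rw [(hfix i i.2).1]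
    · rw [(hfix i i.2).2]
  have h2 : A = t⁻¹ := by
    rw [eq_inv_iff_mul_eq_one, ← h1]
    have := mul_eq_one_iff_eq_inv.mp h1
    rw [this]; simp
  rw [h2]
  apply Subgroup.inv_mem
  have := ht
  unfold TW at this
  simpa using this

end Cfsg.Agent.S0765
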