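import Cfsg.Statements.S0754
import Mathlib
-- import your own Cfsg.Agent.* helpers here

set_option autoImplicit false
open Cfsg

namespace Cfsg.Agent.S0754

/-- In a field F with q^2 elements, every non-zero μ with μ^q = μ (that is, μ in the subfield of order q) has exactly q + 1 solutions λ of λ^(q+1) = μ. -/
theorem result {F : Type*} [Field F] [Fintype F] {q : ℕ} (hF : Fintype.card F = q ^ 2) (μ : F) (hμ : μ ≠ 0) (hμq : μ ^ q = μ) : Nat.card {x : F // x ^ (q + 1) = μ} = q + 1 := by
  classical
  have hq : 2 ≤ q := by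
    have := Fintype.one_lt_card (α := F)
    rw [hF] at this
    by_contra h
    have : q ≤ 1 := by omega
    interval_cases q <;> simp_all
  obtain ⟨g, hg⟩ := IsCyclic.exists_generator (α := Fˣ)
  have hord : orderOf g = q ^ 2 - 1 := by
    rw [orderOf_eq_card_of_forall_mem_zpowers hg, Nat.card_eq_fintype_card, Fintype.card_units, hF]
  have hfac : q ^ 2 - 1 = (q - 1) * (q + 1) := by
    obtain ⟨r, rfl⟩ : ∃ r, q = r + 1 := ⟨q - 1, by omega⟩
    simp only [Nat.add_sub_cancel]
    have : (r + 1) ^ 2 = r * (r + 1 + 1) + 1 := by ring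
    omega
  have hpos : 0 < q ^ 2 - 1 := by
    rw [hfac]; apply Nat.mul_pos <;> omega
  have hprim : IsPrimitiveRoot (g : F) (q ^ 2 - 1) := by
    have := IsPrimitiveRoot.orderOf g
    rw [hord] at this
    exact IsPrimitiveRoot.coe_units_iff.mpr this
  have hζ : IsPrimitiveRoot ((g : F) ^ (q - 1)) (q + 1) := hprim.pow hpos hfac
  -- existence of a root
  have hex : ∃ x : F, x ^ (q + 1) = μ := by
    have hmem : Units.mk0 μ hμ ∈ Submonoid.powers g := by
      rw [mem_powers_iff_mem_zpowers]; exact hg _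
    obtain ⟨k, hk⟩ := hmem
    have hk' : (g : F) ^ k = μ := by
      have := congrArg Units.val hk
      simpa using this
    have hμ1 : μ ^ (q - 1) = 1 := by
      have h1 : μ ^ (q - 1) * μ = μ := by
        rw [← pow_succ, Nat.sub_add_cancel (by omega)]; exact hμq
      exact mul_right_cancel₀ hμ (by rw [h1, one_mul])
    rw [← hk', ← pow_mul] at hμ1
    have hdvd := hprim.dvd_of_pow_eq_one _ hμ1
    rw [hfac, mul_comm k] at hdvd
    have hdvd' : (q + 1) ∣ k := Nat.dvd_of_mul_dvd_mul_left (by omega) hdvd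
    obtain ⟨j, rfl⟩ := hdvd'
    refine ⟨(g : F) ^ j, ?_⟩
    rw [← pow_mul, mul_comm j, hk']
  have hcard := hζ.card_nthRoots μ
  rw [if_pos hex] at hcard
  have hnodup := hζ.nthRoots_nodup hμ
  have : Nat.card {x : F // x ^ (q + 1) = μ} = (Polynomial.nthRoots (q + 1) μ).toFinset.card := by
    rw [Nat.card_eq_fintype_card, Fintype.card_subtype]
    congr 1
    ext x
    simp [Polynomial.mem_nthRoots (Nat.succ_pos q)]
  rw [this, Multiset.toFinset_card_of_nodup hnodup, hcard]

end Cfsg.Agent.S0754
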