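import Cfsg.Statements.S0751
import Mathlib
-- import your own Cfsg.Agent.* helpers here

set_option autoImplicit false
open Cfsg

namespace Cfsg.Agent.S0751

variable {F V : Type*} [Field F] [AddCommGroup V] [Module F V]

theorem B_three {σ : F →+* F} (B : V →ₛₗ[σ] V →ₗ[F] F) (z z' p u : V) (s t s' t' : F) :
    B (z + s • p + t • u) (z' + s' • p + t' • u) = B z z' + s' * B z p + t' * B z u + σ s * B p z' +
      σ s * s' * B p p + σ s * t' * B p u + σ t * B u z' + σ t * s' * B u p + σ t * t' * B u u := by
  simp only [map_add, LinearMap.add_apply, LinearMap.map_smulₛₗ, LinearMap.smul_apply, map_smul, smul_eq_mul]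
  ring

/-- the map `z ↦ z + f₁ z • p + f₂ z • u` -/
noncomputable def three (f₁ f₂ : V →ₗ[F] F) (p u : V) : V →ₗ[F] V :=
  LinearMap.id + f₁.smulRight p + f₂.smulRight u

theorem three_apply (f₁ f₂ : V →ₗ[F] F) (p u z : V) : three f₁ f₂ p u z = z + f₁ z • p + f₂ z • u := by
  simp [three]

theorem equiv_of_isom [FiniteDimensional F V] {σ : F →+* F} (B : V →ₛₗ[σ] V →ₗ[F] F) (hB : B.Nondegenerate)
    (T : V →ₗ[F] V) (hT : ∀ z z', B (T z) (T z') = B z z') : ∃ t : V ≃ₗ[F] V, (∀ z, t z = T z) := by
  have hinj : Function.Injective T := by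
    rw [← LinearMap.ker_eq_bot, LinearMap.ker_eq_bot']
    intro z hz
    apply hB.1
    intro w
    have := hT z w
    rw [hz, map_zero, LinearMap.zero_apply] at this
    exact this.symm
  exact ⟨LinearEquiv.ofInjectiveEndo T hinj, fun z => rfl⟩

theorem trace_surj (σ : F →+* F) (hσ : σ ≠ RingHom.id F) (hσ2 : ∀ a : F, σ (σ a) = a) (ν : F) (hν : σ ν = ν) :
    ∃ μ : F, μ + σ μ = -ν := by
  have : ∃ θ : F, θ + σ θ ≠ 0 := by
    by_contra hcon
    push Not at hcon
    apply hσ
    ext a
    have h3 := hcon 1
    rw [map_one] at h3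
    have h4 := hcon a
    have h5 : σ a = -a := by linear_combination h4
    have h6 : -a = a := by linear_combination (-a) * h3
    simp [h5, h6]
  obtain ⟨θ, hθ⟩ := this
  set t := θ + σ θ with ht
  have hσt : σ t = t := by rw [ht, map_add, hσ2, add_comm]
  refine ⟨-ν * θ / t, ?_⟩
  rw [map_div₀, map_mul, map_neg, hν, hσt]
  field_simp
  rw [ht]; ring

theorem exists_perp [Finite F] [FiniteDimensional F V] {σ : F →+* F} (B : V →ₛₗ[σ] V →ₗ[F] F)
    (hS : B.IsSymm) (hB : B.Nondegenerate)
    (K : Submodule F V) (a : V) (ha : a ∉ K) : ∃ w, (∀ k ∈ K, B k w = 0) ∧ B a w = 1 := by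
  have hsymm : ∀ x y, σ (B x y) = B y x := LinearMap.isSymm_def.mp hS
  obtain ⟨f, hfx, hfZ⟩ := Submodule.exists_le_ker_of_notMem ha
  have : Finite V := Module.finite_of_finite F
  have : Finite (Module.Dual F V) := Module.finite_of_finite F
  have hinj : Function.Injective (fun w : V => B w) := by
    intro w w' hww
    have h1 : B (w - w') = 0 := by rw [map_sub]; exact sub_eq_zero.mpr hww
    have h2 := hB.1 (w - w') (fun y => by rw [h1]; rfl)
    exact sub_eq_zero.mp h2
  have hcard : Nat.card (Module.Dual F V) ≤ Nat.card V := by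
    rw [Module.natCard_eq_pow_finrank (K := F) (V := V), Module.natCard_eq_pow_finrank (K := F) (V := Module.Dual F V),
      Subspace.dual_finrank_eq]
  have hbij := hinj.bijective_of_nat_card_le hcard
  obtain ⟨w, hw⟩ := hbij.2 ((f a)⁻¹ • f)
  have hw' : ∀ z, B w z = (f a)⁻¹ * f z := by
    intro z
    have := congrArg (fun g : Module.Dual F V => g z) hw
    simpa using this
  refine ⟨w, ?_, ?_⟩
  · intro k hk
    have : f k = 0 := hfZ hk
    rw [← hsymm, hw', this, mul_zero, map_zero]
  · rw [← hsymm, hw', inv_mul_cancel₀ hfx, map_one]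

theorem move [Finite F] [FiniteDimensional F V] (σ : F →+* F) (hσ : σ ≠ RingHom.id F) (hσ2 : ∀ a : F, σ (σ a) = a)
    (B : V →ₛₗ[σ] V →ₗ[F] F) (hS : B.IsSymm) (hB : B.Nondegenerate)
    (H : Submodule F V) (a y : V) (hperp : ∀ h ∈ H, B h (y - a) = 0) (hN : B y y = B a a)
    (ha : a ∉ H) (hy : y ∉ H) :
    ∃ t : V ≃ₗ[F] V, (∀ z z', B (t z) (t z') = B z z') ∧ (∀ h ∈ H, t h = h) ∧ t a = y := by
  have hsymm : ∀ x y, σ (B x y) = B y x := LinearMap.isSymm_def.mp hS
  set p := y - a with hp
  have hyp : y = a + p := by rw [hp]; abel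
  have hperp' : ∀ h ∈ H, B p h = 0 := fun h hh => by rw [← hsymm, hperp h hh, map_zero]
  have hpp : B p p = -(B a p + B p a) := by
    rw [hyp] at hN
    simp only [map_add, LinearMap.add_apply] at hN
    linear_combination hN
  by_cases h1 : B p a ≠ 0
  · -- quasi-reflection
    have h1' : B a p ≠ 0 := by
      rw [← hsymm]
      exact (map_ne_zero σ).mpr h1
    set c := (B p a)⁻¹ with hc
    have hσc : σ c = (B a p)⁻¹ := by rw [hc, map_inv₀, hsymm]
    have hcc : c + σ c + σ c * c * B p p = 0 := by
      rw [hσc, hc, hpp]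
      field_simp
      ring
    set T := three (c • B p) 0 p 0 with hT
    have hTa : ∀ z, T z = z + (c * B p z) • p + (0 : F) • (0 : V) := by
      intro z
      rw [hT, three_apply]
      simp
    have hiso : ∀ z z', B (T z) (T z') = B z z' := by
      intro z z'
      rw [hTa, hTa, B_three]
      simp only [map_mul, hsymm, map_zero, zero_mul, mul_zero, add_zero, LinearMap.zero_apply]
      linear_combination (B z p * B p z') * hcc
    obtain ⟨t, ht⟩ := equiv_of_isom B hB T hiso
    refine ⟨t, fun z z' => by rw [ht, ht, hiso], ?_, ?_⟩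
    · intro h hh
      rw [ht, hTa, hperp' h hh]; simp
    · rw [ht, hTa, hyp, hc, inv_mul_cancel₀ h1]; simp
  · push Not at h1
    have h1' : B a p = 0 := by rw [← hsymm, h1, map_zero]
    have hpp0 : B p p = 0 := by rw [hpp, h1, h1']; simp
    by_cases h2 : a ∈ H ⊔ Submodule.span F {p}
    · -- hyperbolic rotation
      obtain ⟨h₀, hh₀, x, hx, hax⟩ := Submodule.mem_sup.mp h2
      obtain ⟨l, rfl⟩ := Submodule.mem_span_singleton.mp hx
      have hl0 : l ≠ 0 := by
        rintro rfl
        apply ha
        rw [← hax]; simpa using hh₀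
      have hpH : p ∉ H := by
        intro hpH
        apply ha
        rw [← hax]
        exact H.add_mem hh₀ (H.smul_mem _ hpH)
      have hl1 : l + 1 ≠ 0 := by
        intro h0
        apply hy
        have : y = h₀ + (l + 1) • p := by rw [hyp, ← hax]; module
        rw [this, h0]; simpa using hh₀
      obtain ⟨u, huH, hpu⟩ := exists_perp B hS hB H p hpH
      have hup : B u p = 1 := by rw [← hsymm, hpu, map_one]
      obtain ⟨μ, hμ⟩ := trace_surj σ hσ hσ2 (B u u) (hsymm u u)
      set q := u + μ • p with hq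
      have hqq : B q q = 0 := by
        rw [hq]
        simp only [map_add, LinearMap.add_apply, LinearMap.map_smulₛₗ, LinearMap.smul_apply, map_smul, smul_eq_mul,
          hpu, hup, hpp0]
        linear_combination hμ
      have hpq : B p q = 1 := by
        rw [hq, map_add, map_smul, hpu, hpp0]; simp
      have hqp : B q p = 1 := by rw [← hsymm, hpq, map_one]
      have hqH : ∀ h ∈ H, B h q = 0 := by
        intro h hh
        rw [hq, map_add, map_smul, huH h hh, hperp h hh]; simp
      have hqH' : ∀ h ∈ H, B q h = 0 := fun h hh => by rw [← hsymm, hqH h hh, map_zero]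
      set c := 1 + l⁻¹ with hc
      have hc0 : c ≠ 0 := by
        rw [hc]
        have : 1 + l⁻¹ = (l + 1) / l := by field_simp
        rw [this]
        exact div_ne_zero hl1 hl0
      have hσc0 : σ c ≠ 0 := (map_ne_zero σ).mpr hc0
      set d := (σ c)⁻¹ with hd
      have hσd : σ d = c⁻¹ := by rw [hd, map_inv₀, hσ2]
      set T := three ((c - 1) • B q) ((d - 1) • B p) p q with hT
      have hTa : ∀ z, T z = z + ((c - 1) * B q z) • p + ((d - 1) * B p z) • q := by
        intro z
        rw [hT, three_apply]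
        simp
      have hiso : ∀ z z', B (T z) (T z') = B z z' := by
        intro z z'
        rw [hTa, hTa, B_three]
        simp only [map_mul, map_sub, map_one, hsymm, hpp0, hqq, hpq, hqp, hσd, mul_zero, add_zero, mul_one]
        rw [hd]
        field_simp
        ring
      obtain ⟨t, ht⟩ := equiv_of_isom B hB T hiso
      refine ⟨t, fun z z' => by rw [ht, ht, hiso], ?_, ?_⟩
      · intro h hh
        rw [ht, hTa, hperp' h hh, hqH' h hh]; simp
      · rw [ht, hTa, h1]
        have haq : B q a = l := by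
          rw [← hax, map_add, map_smul, hqH' h₀ hh₀, hqp]; simp
        rw [haq, hyp]
        have : (c - 1) * l = 1 := by rw [hc]; field_simp; ring
        rw [this]; simp
    · -- Eichler / Siegel transformation
      obtain ⟨u, huK, hau⟩ := exists_perp B hS hB _ a h2
      have huH : ∀ h ∈ H, B h u = 0 := fun h hh => huK h (Submodule.mem_sup_left hh)
      have huH' : ∀ h ∈ H, B u h = 0 := fun h hh => by rw [← hsymm, huH h hh, map_zero]
      have hpu : B p u = 0 := huK p (Submodule.mem_sup_right (Submodule.mem_span_singleton_self p))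
      have hup : B u p = 0 := by rw [← hsymm, hpu, map_zero]
      have hua : B u a = 1 := by rw [← hsymm, hau, map_one]
      obtain ⟨μ, hμ⟩ := trace_surj σ hσ hσ2 (B u u) (hsymm u u)
      set T := three (B u + μ • B p) (- B p) p u with hT
      have hTa : ∀ z, T z = z + (B u z + μ * B p z) • p + (- B p z) • u := by
        intro z
        rw [hT, three_apply]
        simp
      have hiso : ∀ z z', B (T z) (T z') = B z z' := by
        intro z z'
        rw [hTa, hTa, B_three]
        simp only [map_mul, map_add, map_neg, hsymm, hpp0, hpu, hup, mul_zero, add_zero]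
        linear_combination (B z p * B p z') * hμ
      obtain ⟨t, ht⟩ := equiv_of_isom B hB T hiso
      refine ⟨t, fun z z' => by rw [ht, ht, hiso], ?_, ?_⟩
      · intro h hh
        rw [ht, hTa, hperp' h hh, huH' h hh]; simp
      · rw [ht, hTa, h1, hua, hyp]; simp

theorem witt_aux [Finite F] [FiniteDimensional F V] (σ : F →+* F) (hσ : σ ≠ RingHom.id F) (hσ2 : ∀ a : F, σ (σ a) = a)
    (B : V →ₛₗ[σ] V →ₗ[F] F) (hS : B.IsSymm) (hB : B.Nondegenerate)
    (s : Finset V) : ∀ ψ : V →ₗ[F] V,
    (∀ x ∈ Submodule.span F (s : Set V), ∀ x' ∈ Submodule.span F (s : Set V), B (ψ x) (ψ x') = B x x') →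
    (∀ x ∈ Submodule.span F (s : Set V), ψ x = 0 → x = 0) →
    ∃ g : V ≃ₗ[F] V, (∀ u v, B (g u) (g v) = B u v) ∧ ∀ x ∈ Submodule.span F (s : Set V), g x = ψ x := by
  classical
  induction s using Finset.induction_on with
  | empty =>
    intro ψ _ _
    refine ⟨LinearEquiv.refl F V, fun u v => rfl, ?_⟩
    intro x hx
    simp only [Finset.coe_empty, Submodule.span_empty, Submodule.mem_bot] at hx
    subst hx
    simp
  | insert a s _ ih =>
    intro ψ hiso hinj
    have hle : Submodule.span F (s : Set V) ≤ Submodule.span F ((insert a s : Finset V) : Set V) := by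
      apply Submodule.span_mono
      simp
    have haX : a ∈ Submodule.span F ((insert a s : Finset V) : Set V) :=
      Submodule.subset_span (by simp)
    obtain ⟨g₀, hg₀, hg₀'⟩ := ih ψ (fun x hx x' hx' => hiso x (hle hx) x' (hle hx')) (fun x hx => hinj x (hle hx))
    by_cases ha : a ∈ Submodule.span F (s : Set V)
    · refine ⟨g₀, hg₀, ?_⟩
      intro x hx
      rw [Finset.coe_insert, Submodule.span_insert_eq_span ha] at hx
      exact hg₀' x hx
    · set y := g₀.symm (ψ a) with hy
      have hgy : g₀ y = ψ a := by rw [hy, LinearEquiv.apply_symm_apply]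
      have hperp : ∀ h ∈ Submodule.span F (s : Set V), B h (y - a) = 0 := by
        intro h hh
        rw [map_sub, ← hg₀ h y, hgy, hg₀' h hh, hiso h (hle hh) a haX, sub_self]
      have hN : B y y = B a a := by rw [← hg₀ y y, hgy, hiso a haX a haX]
      have hyH : y ∉ Submodule.span F (s : Set V) := by
        intro hyH
        have h1 : ψ (a - y) = 0 := by
          rw [map_sub, ← hg₀' y hyH, hgy, sub_self]
        have h2 := hinj (a - y) (Submodule.sub_mem _ haX (hle hyH)) h1
        rw [sub_eq_zero] at h2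
        exact ha (h2 ▸ hyH)
      obtain ⟨t, it, ft, et⟩ := move σ hσ hσ2 B hS hB _ a y hperp hN ha hyH
      refine ⟨t.trans g₀, ?_, ?_⟩
      · intro u v
        simp only [LinearEquiv.trans_apply, hg₀, it]
      · intro x hx
        rw [Finset.coe_insert, Submodule.mem_span_insert] at hx
        obtain ⟨c, h, hh, rfl⟩ := hx
        simp only [LinearEquiv.trans_apply, map_add, map_smul, et, ft h hh, hgy, hg₀' h hh]


/-- Witt's Lemma for Hermitian forms. Let σ be a non-identity involutive automorphism of a finite field F and B a non-degenerate σ-sesquilinear form on a finite-dimensional F-space V which is conjugate-symmetric (σ (B x y) = B y x). Then every linear equivalence between subspaces X, Y of V preserving B extends to a B-preserving linear automorphism of V. -/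
theorem result {F V : Type*} [Field F] [Finite F] [AddCommGroup V] [Module F V] [FiniteDimensional F V] (σ : F →+* F) (hσ : σ ≠ RingHom.id F) (hσ2 : ∀ a : F, σ (σ a) = a) (B : V →ₛₗ[σ] V →ₗ[F] F) (hS : B.IsSymm) (hB : B.Nondegenerate) (X Y : Submodule F V) (φ : X ≃ₗ[F] Y) (hφ : ∀ x x' : X, B (φ x : V) (φ x' : V) = B (x : V) (x' : V)) : ∃ g : V ≃ₗ[F] V, (∀ u v : V, B (g u) (g v) = B u v) ∧ ∀ x : X, g (x : V) = (φ x : V) := by
  obtain ⟨ψ, hψ⟩ := LinearMap.exists_extend (Y.subtype.comp φ.toLinearMap)
  have hψ' : ∀ x : X, ψ (x : V) = (φ x : V) := by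
    intro x
    have := congrArg (fun f => f x) hψ
    simpa using this
  obtain ⟨s, hs⟩ : X.FG := IsNoetherian.noetherian X
  obtain ⟨g, hg, hg'⟩ := witt_aux σ hσ hσ2 B hS hB s ψ (by
    intro x hx x' hx'
    rw [hs] at hx hx'
    rw [hψ' ⟨x, hx⟩, hψ' ⟨x', hx'⟩, hφ]) (by
    intro x hx h0
    rw [hs] at hx
    rw [hψ' ⟨x, hx⟩] at h0
    have : φ ⟨x, hx⟩ = 0 := Subtype.ext h0
    have h2 := φ.map_eq_zero_iff.mp this
    exact congrArg Subtype.val h2)
  refine ⟨g, hg, ?_⟩
  intro x
  rw [hg' x (hs ▸ x.2), hψ']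

end Cfsg.Agent.S0751
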