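import Cfsg.Statements.S2824
import Cfsg.Agent.Lib.Helper16.YL

set_option autoImplicit false
open Cfsg

namespace Cfsg.Agent.S2824

open Cfsg.Agent.Lib.Helper16
open scoped commutatorElement


/-- Let H be a finite group, p a prime, T a Sylow p-subgroup, L and M subgroups of characteristic p containing T, Y_L the largest p-reduced normal subgroup of L and T₀ = C_T(Y_L). If M·C_H(Y_L) = L·C_H(Y_L), then L* := N_M(T₀) has Y_{L*} = Y_L and L·C_H(Y_L) = L*·C_H(Y_L). -/
theorem result {H : Type*} [Group H] [Finite H] {p : ℕ} [Fact p.Prime] (T : Sylow p H) (L M : Subgroup H) (hTL : (T : Subgroup H) ≤ L) (hTM : (T : Subgroup H) ≤ M) (hL : Subgroup.centralizer (Cfsg.pCore p ↥L : Set ↥L) ≤ Cfsg.pCore p ↥L) (hM : Subgroup.centralizer (Cfsg.pCore p ↥M : Set ↥M) ≤ Cfsg.pCore p ↥M) (T₀ : Subgroup H) (hT₀ : T₀ = (T : Subgroup H) ⊓ Subgroup.centralizer (((Cfsg.largestPReducedOf p L) : Subgroup H) : Set H)) (hfac : M ⊔ Subgroup.centralizer (((Cfsg.largestPReducedOf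 p L) : Subgroup H) : Set H) = L ⊔ Subgroup.centralizer (((Cfsg.largestPReducedOf p L) : Subgroup H) : Set H)) (Ls : Subgroup H) (hLs : Ls = M ⊓ Subgroup.normalizer ((T₀ : Subgroup H) : Set H)) : (Cfsg.largestPReducedOf p Ls) = (Cfsg.largestPReducedOf p L) ∧ L ⊔ Subgroup.centralizer (((Cfsg.largestPReducedOf p L) : Subgroup H) : Set H) = Ls ⊔ Subgroup.centralizer (((Cfsg.largestPReducedOf p L) : Subgroup H) : Set H) := by
  set Y := Cfsg.largestPReducedOf p L with hY
  set C := Subgroup.centralizer (Y : Set H) with hC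
  have hTL' : IsSyl p (T : Subgroup H) L := (isSyl_sylow T).of_le hTL le_top
  have hTM' : IsSyl p (T : Subgroup H) M := (isSyl_sylow T).of_le hTM le_top
  have hLY : L ≤ Subgroup.normalizer (Y : Set H) := le_normalizer_yOf p L
  have hNC : Subgroup.normalizer (Y : Set H) ≤ Subgroup.normalizer (C : Set H) :=
    normalizer_le_normalizer_centralizer Y
  have hMY : M ≤ Subgroup.normalizer (Y : Set H) := by
    refine le_trans (le_sup_left : M ≤ M ⊔ C) ?_
    rw [hfac]
    exact sup_le hLY (Subgroup.centralizer_le_normalizer _)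
  have hYe : Cfsg.IsElementaryAbelian p Y := yOf_isElementaryAbelian L
  have hYT : Y ≤ (T : Subgroup H) := (yOf_le_pCoreOf L).trans (pCoreOf_le_isSyl hTL')
  have hYC : Y ≤ C := Subgroup.le_centralizer_iff_isMulCommutative.2 hYe.1
  have hYT₀ : Y ≤ T₀ := by rw [hT₀]; exact le_inf hYT hYC
  have hT₀T : T₀ ≤ (T : Subgroup H) := by rw [hT₀]; exact inf_le_left
  -- `T₀` is Sylow in `M ∩ C`
  have hs : IsSyl p T₀ (M ⊓ C) := by
    have h1 := hTM'.inf_normal (N := M ⊓ C) inf_le_left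
      ((le_inf Subgroup.le_normalizer (hMY.trans hNC)).trans (normalizer_inf_le _ _))
    have h2 : (T : Subgroup H) ⊓ (M ⊓ C) = T₀ := by
      rw [hT₀, ← inf_assoc, inf_eq_left.2 hTM]
    rwa [h2] at h1
  have hMLs : M ≤ Ls ⊔ C := by
    intro m hm
    obtain ⟨n, hn, hnm⟩ := frattini_arg hs (M := M)
      ((le_inf Subgroup.le_normalizer (hMY.trans hNC)).trans (normalizer_inf_le _ _)) hm
    have e : m = n⁻¹ * (n * m) := by group
    rw [e, sup_comm]
    apply Subgroup.mul_mem_sup (C.inv_mem hn.2)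
    rw [hLs]
    exact ⟨M.mul_mem hn.1 hm, hnm⟩
  have hLsM : Ls ≤ M := by rw [hLs]; exact inf_le_left
  have hfac2 : L ⊔ C = Ls ⊔ C := by
    rw [← hfac]
    apply le_antisymm
    · exact sup_le hMLs le_sup_right
    · exact sup_le_sup_right hLsM C
  refine ⟨?_, hfac2⟩
  have hYLs : Y ≤ Ls := by
    rw [hLs]
    exact le_inf (hYT.trans hTM) (hYT₀.trans Subgroup.le_normalizer)
  apply le_antisymm
  · -- `Y_{L*} ≤ Ω₁ Z(T₀) = Y_L`
    set Ys := Cfsg.largestPReducedOf p Ls with hYs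
    have hTLs : (T : Subgroup H) ≤ Ls := by
      rw [hLs]
      refine le_inf hTM ?_
      rw [hT₀]
      exact (le_inf Subgroup.le_normalizer ((hTL.trans hLY).trans hNC)).trans (normalizer_inf_le _ _)
    have hTLs' : IsSyl p (T : Subgroup H) Ls := (isSyl_sylow T).of_le hTLs le_top
    have hT₀O : T₀ ≤ Cfsg.pCoreOf p Ls := by
      apply le_pCoreOf (hT₀T.trans hTLs) _ (T.isPGroup'.to_le hT₀T)
      rw [hLs]; exact inf_le_right
    have hYsc : Ys ≤ Subgroup.centralizer (T₀ : Set H) :=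
      (Subgroup.le_centralizer_iff.1 (pCoreOf_le_centralizer_yOf Ls)).trans
        (Subgroup.centralizer_le (SetLike.coe_subset_coe.2 hT₀O))
    have hYsT : Ys ≤ (T : Subgroup H) := (yOf_le_pCoreOf Ls).trans (pCoreOf_le_isSyl hTLs')
    have hYsT₀ : Ys ≤ T₀ := by
      rw [hT₀]
      exact le_inf hYsT (hYsc.trans (Subgroup.centralizer_le (SetLike.coe_subset_coe.2 hYT₀)))
    rw [hY, yOf_eq_omega hTL' hL, ← hY, ← hC, ← hT₀]
    intro y hy
    exact mem_omegaOne ⟨hYsT₀ hy, hYsc hy⟩ ((yOf_isElementaryAbelian Ls).2 y hy)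
  · apply le_yOf hYLs
    rw [isPReducedNormal_subgroupOf_iff' hYLs]
    exact ⟨hLsM.trans hMY, hYe, (yOf_redFor L).of_sup_eq hLY hfac2⟩

end Cfsg.Agent.S2824
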