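import Cfsg.Statements.S0160
import Mathlib
import Cfsg.Agent.CharLib.PermLemma

set_option autoImplicit false
open Cfsg

namespace Cfsg.Agent.S0160

/-- A finite group has as many real-valued irreducible complex characters as conjugacy classes closed under taking inverses. -/
theorem result {G : Type*} [Group G] [Finite G] : Nat.card {χ : Cfsg.IrrCharacter G // ∀ g : G, ((χ : G → ℂ) g).im = 0} = Nat.card {C : ConjClasses G // ∀ g : G, ConjClasses.mk g = C → IsConj g g⁻¹} := by
  cases nonempty_fintype G
  have key := Cfsg.Agent.CharLib.card_fixed_irr_eq_card_fixed_classes (G := G)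
    (fun χ => ⟨fun g => (starRingEnd ℂ) ((χ : G → ℂ) g), Cfsg.Agent.CharLib.isIrrCharacter_conj χ.2⟩)
    (fun g => g⁻¹)
    (fun χ g => (Cfsg.Agent.CharLib.isCharacter_inv
      (Cfsg.Agent.CharLib.isCharacter_of_irr χ.2) g).symm)
  have e1 : Nat.card {χ : Cfsg.IrrCharacter G // ∀ g : G, ((χ : G → ℂ) g).im = 0} =
      Nat.card {χ : IrrCharacter G // (⟨fun g => (starRingEnd ℂ) ((χ : G → ℂ) g),
        Cfsg.Agent.CharLib.isIrrCharacter_conj χ.2⟩ : IrrCharacter G) = χ} := by
    apply Nat.card_congr
    refine Equiv.subtypeEquivRight (fun χ => ?_)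
    constructor
    · intro h
      apply Subtype.ext
      funext g
      exact Complex.conj_eq_iff_im.mpr (h g)
    · intro h g
      have := congrFun (congrArg Subtype.val h) g
      exact Complex.conj_eq_iff_im.mp this
  rw [e1, key]
  apply Nat.card_congr
  refine Equiv.subtypeEquivRight (fun C => ?_)
  constructor
  · intro h g hg
    exact (h g hg).symm
  · intro h g hg
    exact (h g hg).symm

end Cfsg.Agent.S0160
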