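import Cfsg.Statements.S0239
import Mathlib

set_option autoImplicit false
open Cfsg

namespace Cfsg.Agent.S0239

/-- If some nontrivial element x of a finite group G is conjugate to x⁻¹, then |G| is even. -/
theorem result {G : Type*} [Group G] [Finite G] (x : G) (hx : x ≠ 1) (hreal : IsConj x x⁻¹) : Even (Nat.card G) := by
  by_contra hodd
  rw [Nat.not_even_iff_odd] at hodd
  obtain ⟨g, hg⟩ := isConj_iff.mp hreal
  -- g^2 centralizes x; g has odd order so g ∈ ⟨g^2⟩ centralizes x; so x = x⁻¹, x^2 = 1, x = 1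
  have hgo : Odd (orderOf g) := Odd.of_dvd_nat hodd (orderOf_dvd_natCard g)
  have hxo : Odd (orderOf x) := Odd.of_dvd_nat hodd (orderOf_dvd_natCard x)
  have h2 : ∀ n : ℕ, g ^ (2 * n) * x * (g ^ (2 * n))⁻¹ = x := by
    intro n
    induction n with
    | zero => simp
    | succ n ih =>
      have : g ^ (2 * (n + 1)) = g * g * g ^ (2 * n) := by
        rw [mul_add, pow_add, mul_one, pow_two, (Commute.pow_self g (2*n)).symm.mul_left (Commute.pow_self g (2*n)).symm |>.eq]
      rw [this]
      have : g * g * g ^ (2 * n) * x * (g * g * g ^ (2 * n))⁻¹ = g * (g * (g ^ (2 * n) * x * (g ^ (2 * n))⁻¹) * g⁻¹) * g⁻¹ := by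
        group
      rw [this, ih, hg]
      have : g * x⁻¹ * g⁻¹ = (g * x * g⁻¹)⁻¹ := by group
      rw [this, hg, inv_inv]
  obtain ⟨k, hk⟩ := hgo
  have h3 := h2 (k + 1)
  have h4 : g ^ (2 * (k + 1)) = g := by
    have : 2 * (k + 1) = orderOf g + 1 := by omega
    rw [this, pow_add, pow_orderOf_eq_one, one_mul, pow_one]
  rw [h4, hg] at h3
  have h5 : x ^ 2 = 1 := by
    rw [pow_two]
    nth_rewrite 1 [← h3]
    simp
  have h6 : orderOf x ∣ 2 := orderOf_dvd_of_pow_eq_one h5
  have h7 : orderOf x = 1 := by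
    rcases (Nat.dvd_prime Nat.prime_two).mp h6 with h | h
    · exact h
    · rw [h] at hxo; exact absurd hxo (by decide)
  exact hx (orderOf_eq_one_iff.mp h7)

end Cfsg.Agent.S0239
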