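import Cfsg.Statements.S0161
import Mathlib
import Cfsg.Agent.S0160
import Cfsg.Agent.S0239

set_option autoImplicit false
open Cfsg

namespace Cfsg.Agent.S0161

/-- In a finite group of odd order, a real-valued irreducible complex character is the trivial character. -/
theorem result {G : Type*} [Group G] [Finite G] (hodd : Odd (Nat.card G)) (χ : Cfsg.IrrCharacter G) (hreal : ∀ g : G, ((χ : G → ℂ) g).im = 0) : (χ : G → ℂ) = fun _ => 1 := by
  have h1 := Cfsg.Agent.S0160.result (G := G)
  -- only one real class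
  have h2 : Nat.card {C : ConjClasses G // ∀ g : G, ConjClasses.mk g = C → IsConj g g⁻¹} = 1 := by
    rw [Nat.card_eq_one_iff_unique]
    refine ⟨⟨?_⟩, ⟨⟨ConjClasses.mk 1, ?_⟩⟩⟩
    · rintro ⟨C, hC⟩ ⟨D, hD⟩
      apply Subtype.ext
      obtain ⟨c, rfl⟩ := ConjClasses.mk_surjective C
      obtain ⟨d, rfl⟩ := ConjClasses.mk_surjective D
      have hc : c = 1 := by
        by_contra hne
        have := Cfsg.Agent.S0239.result c hne (hC c rfl)
        exact (Nat.not_even_iff_odd.mpr hodd) this
      have hd : d = 1 := by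
        by_contra hne
        have := Cfsg.Agent.S0239.result d hne (hD d rfl)
        exact (Nat.not_even_iff_odd.mpr hodd) this
      show ConjClasses.mk c = ConjClasses.mk d
      rw [hc, hd]
    · intro g hg
      have : g = 1 := by
        have := ConjClasses.mk_eq_mk_iff_isConj.mp hg
        exact isConj_one_left.mp this
      rw [this]; simp
  rw [h2, Nat.card_eq_one_iff_unique] at h1
  obtain ⟨hs, _⟩ := h1
  have h3 := hs.elim (⟨χ, hreal⟩ : {χ : Cfsg.IrrCharacter G // ∀ g : G, ((χ : G → ℂ) g).im = 0})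
    ⟨⟨fun _ => 1, Cfsg.Agent.CharLib.isIrrCharacter_one⟩, fun g => by simp⟩
  exact congrArg (fun x => (x.1 : G → ℂ)) h3

end Cfsg.Agent.S0161
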