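import Mathlib
import Cfsg.Statements.S0901
import Cfsg.Agent.BlockLib.LocalRing

set_option autoImplicit false
open Cfsg

namespace Cfsg.Agent.S0901

open Cfsg.Agent.BlockLib

theorem inj_aux (p : ℕ) [Fact p.Prime] (M : Ideal Cfsg.AlgInt) (hM : Cfsg.IsPModular p M)
    (ε₁ ε₂ : Cfsg.AlgInt) (m : ℕ) (hpm : ¬ p ∣ m) (h1 : ε₁ ^ m = 1) (h2 : ε₂ ^ m = 1)
    (hmem : ε₁ - ε₂ ∈ M) : ε₁ = ε₂ := by
  have hm0 : m ≠ 0 := by
    rintro rfl
    exact hpm (dvd_zero p)
  obtain ⟨k, rfl⟩ : ∃ k, m = k + 1 := ⟨m - 1, by omega⟩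
  set ζ : AlgInt := ε₂ * ε₁ ^ k with hζ
  have hζm : ζ ^ (k + 1) = 1 := by
    rw [hζ, mul_pow, h2, one_mul, ← pow_mul, mul_comm, pow_mul, h1, one_pow]
  have hζ1 : ζ - 1 ∈ M := by
    have : ζ - 1 = - (ε₁ ^ k * (ε₁ - ε₂)) := by
      rw [hζ, ← h1]; ring
    rw [this]
    exact M.neg_mem (M.mul_mem_left _ hmem)
  have hone : ζ = 1 := by
    by_contra hne
    have hg : (∑ i ∈ Finset.range (k + 1), ζ ^ i) * (ζ - 1) = 0 := by
      rw [geom_sum_mul, hζm, sub_self]
    have hs : ∑ i ∈ Finset.range (k + 1), ζ ^ i = 0 := by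
      rcases mul_eq_zero.mp hg with h | h
      · exact h
      · exact absurd (sub_eq_zero.mp h) hne
    have hq : Ideal.Quotient.mk M ζ = 1 := by
      rw [← map_one (Ideal.Quotient.mk M)]
      exact Ideal.Quotient.eq.mpr hζ1
    have h3 : Ideal.Quotient.mk M ((k + 1 : ℕ) : AlgInt) = 0 := by
      have := congrArg (Ideal.Quotient.mk M) hs
      rw [map_sum] at this
      simp only [map_pow, hq, one_pow, map_zero, Finset.sum_const, Finset.card_range,
        nsmul_eq_mul, mul_one] at this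
      rw [map_natCast]
      exact this
    exact hpm ((natCast_mem_iff hM _).mp (Ideal.Quotient.eq_zero_iff_mem.mp h3))
  have hne : ε₁ ^ k ≠ 0 := by
    intro h
    rw [pow_succ, h, zero_mul] at h1
    exact zero_ne_one h1
  have : ε₁ * ε₁ ^ k = ε₂ * ε₁ ^ k := by
    rw [← hζ, hone, ← h1]; ring
  exact mul_right_cancel₀ hne this

theorem surj_aux (p : ℕ) [Fact p.Prime] (M : Ideal Cfsg.AlgInt) (hM : Cfsg.IsPModular p M)
    (a : Cfsg.AlgInt) (ha : a ∉ M) :
    ∃ k : ℕ, 0 < k ∧ a ^ (p ^ k - 1) - 1 ∈ M := by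
  haveI : M.IsMaximal := hM.2.1
  letI : Field (AlgInt ⧸ M) := Ideal.Quotient.field M
  haveI : CharP (AlgInt ⧸ M) p := charP_quotient hM
  letI : Algebra (ZMod p) (AlgInt ⧸ M) := ZMod.algebra _ p
  set b : AlgInt ⧸ M := Ideal.Quotient.mk M a with hb
  have hb0 : b ≠ 0 := fun h => ha (Ideal.Quotient.eq_zero_iff_mem.mp h)
  have haint : IsIntegral ℤ a := by
    have := a.2
    exact (isIntegral_algebraMap_iff (A := AlgInt) (B := ℂ) Subtype.val_injective).mp this
  have hbint : IsIntegral ℤ b := haint.map (Ideal.Quotient.mkₐ ℤ M)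
  have hbint' : IsIntegral (ZMod p) b := hbint.tower_top
  haveI : FiniteDimensional (ZMod p) (IntermediateField.adjoin (ZMod p) {b}) :=
    IntermediateField.adjoin.finiteDimensional hbint'
  haveI : Finite (IntermediateField.adjoin (ZMod p) {b}) :=
    Module.finite_of_finite (ZMod p)
  letI : Fintype (IntermediateField.adjoin (ZMod p) {b}) := Fintype.ofFinite _
  let b' : IntermediateField.adjoin (ZMod p) {b} :=
    ⟨b, IntermediateField.mem_adjoin_simple_self _ _⟩
  have hb'0 : b' ≠ 0 := fun h => hb0 (congrArg Subtype.val h)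
  have h1 := FiniteField.pow_card_sub_one_eq_one b' hb'0
  obtain ⟨n, hp, hn⟩ := FiniteField.card (IntermediateField.adjoin (ZMod p) {b}) p
  refine ⟨n, n.pos, ?_⟩
  rw [hn] at h1
  have h2 : b ^ (p ^ (n : ℕ) - 1) = 1 := by
    have := congrArg Subtype.val h1
    simpa [b'] using this
  rw [← Ideal.Quotient.eq, map_pow, map_one]
  exact h2

/-- Let M be a maximal ideal of the ring of algebraic integers containing the prime p, and let U be the set of complex roots of unity of order prime to p. Then reduction modulo M is injective on U, and every algebraic integer not in M is congruent modulo M to an element of U (so U maps bijectively onto the nonzero residues). -/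
theorem result (p : ℕ) [Fact p.Prime] (M : Ideal Cfsg.AlgInt) (hM : Cfsg.IsPModular p M) : (∀ ε₁ ε₂ : Cfsg.AlgInt, (∃ m : ℕ, ¬ p ∣ m ∧ (ε₁ : ℂ) ^ m = 1) → (∃ m : ℕ, ¬ p ∣ m ∧ (ε₂ : ℂ) ^ m = 1) → ε₁ - ε₂ ∈ M → ε₁ = ε₂) ∧ (∀ a : Cfsg.AlgInt, a ∉ M → ∃ ε : Cfsg.AlgInt, (∃ m : ℕ, ¬ p ∣ m ∧ (ε : ℂ) ^ m = 1) ∧ a - ε ∈ M) := by
  have hp : p.Prime := Fact.out
  constructor
  · rintro ε₁ ε₂ ⟨m₁, hm₁, h1⟩ ⟨m₂, hm₂, h2⟩ hmem
    have h1' : ε₁ ^ m₁ = 1 := Subtype.ext (by simpa using h1)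
    have h2' : ε₂ ^ m₂ = 1 := Subtype.ext (by simpa using h2)
    refine inj_aux p M hM ε₁ ε₂ (m₁ * m₂) ?_ ?_ ?_ hmem
    · intro h
      rcases hp.dvd_mul.mp h with h | h
      · exact hm₁ h
      · exact hm₂ h
    · rw [pow_mul, h1', one_pow]
    · rw [mul_comm, pow_mul, h2', one_pow]
  · intro a ha
    haveI : M.IsMaximal := hM.2.1
    haveI : M.IsPrime := Ideal.IsMaximal.isPrime hM.2.1
    obtain ⟨k, hk, hak⟩ := surj_aux p M hM a ha
    set m : ℕ := p ^ k - 1 with hm
    have hpk : 2 ≤ p ^ k := by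
      calc 2 ≤ p := hp.two_le
        _ = p ^ 1 := (pow_one p).symm
        _ ≤ p ^ k := Nat.pow_le_pow_right hp.pos hk
    have hm0 : m ≠ 0 := by omega
    haveI : NeZero m := ⟨hm0⟩
    have hpm : ¬ p ∣ m := by
      intro h
      have h2 : p ∣ p ^ k := dvd_pow_self p (by omega)
      have h3 : p ∣ p ^ k - m := Nat.dvd_sub h2 h
      have h4 : p ^ k - m = 1 := by omega
      rw [h4] at h3
      exact hp.one_lt.ne' (Nat.dvd_one.mp h3)
    -- primitive root
    have hprimC := Complex.isPrimitiveRoot_exp m hm0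
    set zC : ℂ := Complex.exp (2 * Real.pi * Complex.I / m) with hzC
    have hzint : IsIntegral ℤ zC :=
      isIntegral_of_pow_eq_one (Nat.pos_of_ne_zero hm0) hprimC.pow_eq_one
    let z : AlgInt := ⟨zC, hzint⟩
    have hprim : IsPrimitiveRoot z m := by
      refine IsPrimitiveRoot.of_map_of_injective (f := (algebraMap AlgInt ℂ)) (hf := ?_) ?_
      · exact hprimC
      · exact Subtype.val_injective
    have hfac := Polynomial.X_pow_sub_one_eq_prod (Nat.pos_of_ne_zero hm0) hprim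
    have hev := congrArg (Polynomial.eval a) hfac
    rw [Polynomial.eval_prod] at hev
    simp only [Polynomial.eval_sub, Polynomial.eval_pow, Polynomial.eval_X, Polynomial.eval_one,
      Polynomial.eval_C] at hev
    rw [hev] at hak
    obtain ⟨ε, hε, hmemε⟩ := (Ideal.IsPrime.prod_mem_iff).mp hak
    refine ⟨ε, ⟨m, hpm, ?_⟩, hmemε⟩
    have := (Polynomial.mem_nthRootsFinset (Nat.pos_of_ne_zero hm0) (1 : AlgInt)).mp hε
    have h5 := congrArg Subtype.val this
    simpa using h5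

end Cfsg.Agent.S0901
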