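import Mathlib
import Cfsg.Statements.S0909
import Cfsg.Agent.BlockLib.Idempotent

set_option autoImplicit false
open Cfsg

namespace Cfsg.Agent.S0909

open Cfsg.Agent.BlockLib Cfsg.Agent.CharLib

theorem result {G : Type*} [Group G] [Finite G] (p : ℕ) [Fact p.Prime] (M : Ideal Cfsg.AlgInt) (hM : Cfsg.IsPModular p M) (A : Set (Cfsg.IrrCharacter G)) (hA : ∀ g : G, Cfsg.MemLocalRing M (Cfsg.blockCoeff A g)) (χ : Cfsg.IrrCharacter G) (hχ : χ ∈ A) : Cfsg.blockOf M (χ : G → ℂ) ⊆ A := by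
  classical
  haveI := isPrime_of_isPModular hM
  haveI := Fintype.ofFinite G
  intro ψ hψ
  by_contra hne
  have hsb : SameBlock M (χ : G → ℂ) (ψ : G → ℂ) := hψ
  have h1 := memLocalIdeal_omega_sub (isClassFunction_of_irr χ.2) (isClassFunction_of_irr ψ.2) hsb
    (isClassFunction_idemSet A) (fun g => by rw [← blockCoeff_eq_idemSet]; exact hA g)
  rw [omega_idemSet, omega_idemSet, if_pos hχ, if_neg hne, sub_zero] at h1
  exact not_memLocalIdeal_one h1

end Cfsg.Agent.S0909
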