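import Cfsg.Statements.S4996
import Cfsg.Agent.H25.CosetAvg
import Cfsg.Agent.CharLib.Eigen

set_option autoImplicit false
open Cfsg

namespace Cfsg.Agent.S4996

/-- Let N be a normal subgroup of the finite group G and χ an irreducible complex character of G. Then the restriction of χ to N is not irreducible if and only if χ vanishes on some whole coset Nx of N in G. -/
theorem result {G : Type*} [Group G] [Finite G] (N : Subgroup G) [N.Normal] (χ : Cfsg.IrrCharacter G) : ¬ Cfsg.IsIrrCharacter ↥N (fun n : ↥N => (χ : G → ℂ) n) ↔ ∃ x : G, ∀ n : ↥N, (χ : G → ℂ) ((n : G) * x) = 0 := by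
  classical
  cases nonempty_fintype G
  have hχc : IsCharacter G (χ : G → ℂ) := Cfsg.Agent.CharLib.isCharacter_of_irr χ.2
  have hcl : IsClassFunction G (χ : G → ℂ) := Cfsg.Agent.CharLib.isClassFunction_of_char hχc
  have hΨ : IsCharacter G (Cfsg.Agent.H25.CosetAvg.avg N
      ((χ : G → ℂ) * (fun g => (starRingEnd ℂ) ((χ : G → ℂ) g)))) :=
    Cfsg.Agent.H25.CosetAvg.avg_isCharacter N
      (Cfsg.Agent.CharLib.isCharacter_mul hχc (Cfsg.Agent.CharLib.isCharacter_conj hχc))
  obtain ⟨d, ρ, hρ⟩ := hΨ
  have hN0 : (0 : ℝ) < (Nat.card N : ℝ) := by exact_mod_cast Nat.card_pos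
  have hG0 : (0 : ℝ) < (Nat.card G : ℝ) := by exact_mod_cast Nat.card_pos
  -- the real function
  let f : G → ℝ := fun g => ∑ x : G, (if x ∈ N then ‖(χ : G → ℂ) (g * x)‖ ^ 2 else 0)
  have hf0 : ∀ g, 0 ≤ f g := by
    intro g
    refine Finset.sum_nonneg (fun x _ => ?_)
    split_ifs
    · positivity
    · exact le_rfl
  have hsq : ∀ z : ℂ, z * (starRingEnd ℂ) z = ((‖z‖ ^ 2 : ℝ) : ℂ) := by
    intro z
    rw [Complex.mul_conj, Complex.normSq_eq_norm_sq]
  have hΨf : ∀ g, ρ.character g = (((Nat.card N : ℝ)⁻¹ * f g : ℝ) : ℂ) := by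
    intro g
    rw [hρ]
    unfold Cfsg.Agent.H25.CosetAvg.avg
    push_cast
    congr 1
    simp only [f]
    rw [Complex.ofReal_sum]
    refine Finset.sum_congr rfl (fun x _ => ?_)
    split_ifs
    · rw [Pi.mul_apply, hsq]
    · simp
  have hnorm : ∑ g : G, ‖(χ : G → ℂ) g‖ ^ 2 = (Nat.card G : ℝ) := by
    have h1 := Cfsg.Agent.CharLib.classInner_irr_self χ.2
    unfold classInner at h1
    have h2 : ∑ g : G, (χ : G → ℂ) g * (starRingEnd ℂ) ((χ : G → ℂ) g) =
        ((∑ g : G, ‖(χ : G → ℂ) g‖ ^ 2 : ℝ) : ℂ) := by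
      rw [Complex.ofReal_sum]
      exact Finset.sum_congr rfl (fun x _ => hsq _)
    rw [h2] at h1
    have h3 : ((Nat.card G : ℝ)⁻¹ * ∑ g : G, ‖(χ : G → ℂ) g‖ ^ 2 : ℝ) = 1 := by
      apply Complex.ofReal_injective
      rw [Complex.ofReal_one, ← h1]
      push_cast
      rfl
    field_simp at h3
    linarith
  have hsum : ∑ g : G, f g = (Nat.card N : ℝ) * (Nat.card G : ℝ) := by
    simp only [f]
    rw [Finset.sum_comm]
    have e : ∀ x : G, ∑ g : G, (if x ∈ N then ‖(χ : G → ℂ) (g * x)‖ ^ 2 else 0) =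
        (if x ∈ N then (1 : ℝ) else 0) * (Nat.card G : ℝ) := by
      intro x
      split_ifs
      · rw [one_mul, ← hnorm]
        exact Fintype.sum_equiv (Equiv.mulRight x) _ _ (fun g => rfl)
      · simp
    rw [Finset.sum_congr rfl (fun x _ => e x), ← Finset.sum_mul, Finset.sum_boole]
    have hc' : (Finset.univ.filter (fun x => x ∈ N)).card = Nat.card N := by
      rw [Nat.card_eq_fintype_card, Fintype.card_subtype]
    rw [hc']
  have hf1 : classInner (fun n : ↥N => (χ : G → ℂ) n) (fun n : ↥N => (χ : G → ℂ) n) =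
      (((Nat.card N : ℝ)⁻¹ * f 1 : ℝ) : ℂ) := by
    unfold classInner
    push_cast
    congr 1
    simp only [f, one_mul]
    rw [← Finset.sum_filter, Finset.sum_congr rfl (fun x _ => hsq _),
      ← Complex.ofReal_sum]
    congr 1
    exact (Finset.sum_subtype (Finset.univ.filter (fun x => x ∈ N)) (by simp)
      (fun x => ‖(χ : G → ℂ) x‖ ^ 2)).symm
  -- normalised function
  let F : G → ℝ := fun g => (Nat.card N : ℝ)⁻¹ * f g
  have hFre : ∀ g, (ρ.character g).re = F g := by
    intro g
    rw [hΨf g, Complex.ofReal_re]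
  have hFsum : ∑ g : G, F g = (Nat.card G : ℝ) := by
    simp only [F]
    rw [← Finset.mul_sum, hsum]
    field_simp
  have hcardG : (Finset.univ : Finset G).card = Nat.card G := by
    rw [Finset.card_univ, Nat.card_eq_fintype_card]
  constructor
  · intro hirr
    by_contra hno
    push Not at hno
    apply hirr
    apply Cfsg.Agent.CharLib.isIrrCharacter_of_norm_one
      (Cfsg.Agent.CharLib.isCharacter_restrict hχc N)
    rw [hf1]
    have hfpos : ∀ g, 0 < f g := by
      intro g
      obtain ⟨n, hn⟩ := hno g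
      have hmem : g⁻¹ * (n : G) * g ∈ N := by
        have := (inferInstance : N.Normal).conj_mem (n : G) n.2 g⁻¹
        simpa using this
      refine Finset.sum_pos' (fun x _ => ?_) ⟨g⁻¹ * (n : G) * g, Finset.mem_univ _, ?_⟩
      · split_ifs
        · positivity
        · exact le_rfl
      · rw [if_pos hmem]
        have : g * (g⁻¹ * (n : G) * g) = (n : G) * g := by group
        rw [this]
        have := norm_pos_iff.mpr hn
        positivity
    have hpos : ∀ x : G, ∃ r : ℝ, 0 < r ∧ ρ.character x = (r : ℂ) := by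
      intro x
      exact ⟨_, mul_pos (inv_pos.mpr hN0) (hfpos x), hΨf x⟩
    have hle : ∀ g : G, (Fintype.card (ZMod (Nat.card G))ˣ : ℝ) ≤
        ∑ u : (ZMod (Nat.card G))ˣ, F (g ^ (u : ZMod (Nat.card G)).val) := by
      intro g
      have := Cfsg.Agent.H25.CosetAvg.card_units_le_sum_re ρ g hpos
      simpa only [hFre] using this
    have htot : ∑ g : G, (∑ u : (ZMod (Nat.card G))ˣ, F (g ^ (u : ZMod (Nat.card G)).val) -
        (Fintype.card (ZMod (Nat.card G))ˣ : ℝ)) = 0 := by
      rw [Finset.sum_sub_distrib, Finset.sum_comm]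
      have e : ∀ u : (ZMod (Nat.card G))ˣ, ∑ g : G, F (g ^ (u : ZMod (Nat.card G)).val) =
          (Nat.card G : ℝ) := by
        intro u
        rw [← hFsum]
        have hcop : (Nat.card G).Coprime (u : ZMod (Nat.card G)).val :=
          (ZMod.val_coe_unit_coprime u).symm
        exact Fintype.sum_equiv (powCoprime hcop) _ _ (fun g => rfl)
      rw [Finset.sum_congr rfl (fun u _ => e u)]
      simp only [Finset.sum_const, nsmul_eq_mul, hcardG, Finset.card_univ]
      ring
    have h1 := (Finset.sum_eq_zero_iff_of_nonneg (fun g _ => sub_nonneg.mpr (hle g))).mp htot 1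
      (Finset.mem_univ _)
    simp only [one_pow, Finset.sum_const, nsmul_eq_mul, Finset.card_univ] at h1
    have hφ : (0 : ℝ) < (Fintype.card (ZMod (Nat.card G))ˣ : ℝ) := by
      exact_mod_cast Fintype.card_pos
    have h2 : F 1 = 1 := by
      have : (Fintype.card (ZMod (Nat.card G))ˣ : ℝ) * (F 1 - 1) = 0 := by linarith
      rcases mul_eq_zero.mp this with h | h
      · exact absurd h hφ.ne'
      · linarith
    have h3 : (Nat.card N : ℝ)⁻¹ * f 1 = 1 := h2
    rw [h3, Complex.ofReal_one]
  · rintro ⟨x, hx⟩ hirr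
    have h1 := Cfsg.Agent.CharLib.classInner_irr_self hirr
    rw [hf1] at h1
    have hF1 : F 1 = 1 := by
      apply Complex.ofReal_injective
      rw [Complex.ofReal_one, ← h1]
    have hdim : (Module.finrank ℂ (Fin d → ℂ) : ℝ) = 1 := by
      have h2 : ρ.character 1 = (Module.finrank ℂ (Fin d → ℂ) : ℂ) := Representation.char_one ρ
      rw [hΨf 1] at h2
      have h3 : ((F 1 : ℝ) : ℂ) = ((Module.finrank ℂ (Fin d → ℂ) : ℝ) : ℂ) := by
        rw [Complex.ofReal_natCast]; exact h2
      rw [← Complex.ofReal_injective h3, hF1]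
    have hle : ∀ g, F g ≤ 1 := by
      intro g
      have h2 := Cfsg.Agent.CharLib.norm_character_le ρ g
      rw [hdim] at h2
      rw [← hFre g]
      exact (Complex.re_le_norm _).trans h2
    have htot : ∑ g : G, (1 - F g) = 0 := by
      rw [Finset.sum_sub_distrib, hFsum]
      simp [hcardG]
    have h2 := (Finset.sum_eq_zero_iff_of_nonneg (fun g _ => sub_nonneg.mpr (hle g))).mp htot x
      (Finset.mem_univ _)
    have hfx : f x = 0 := by
      refine Finset.sum_eq_zero (fun y _ => ?_)
      split_ifs with hy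
      · have hmem : x * y * x⁻¹ ∈ N := (inferInstance : N.Normal).conj_mem y hy x
        have := hx ⟨_, hmem⟩
        have e : x * y * x⁻¹ * x = x * y := by group
        simp only [e] at this
        rw [this]
        simp
      · rfl
    have : F x = 0 := by
      simp only [F, hfx, mul_zero]
    rw [this] at h2
    norm_num at h2

end Cfsg.Agent.S4996
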