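import Mathlib
import Cfsg.Prelude.Def_Characters
import Cfsg.Agent.H6.Gallagher

set_option autoImplicit false

namespace Cfsg.Agent.S0868

open Cfsg Module Cfsg.Agent.CharLib Cfsg.Agent.CharLib.H2 Cfsg.Agent.H6
open scoped ComplexConjugate

theorem result {G : Type*} [Group G] [Fintype G] (N : Subgroup G) [N.Normal] [Fintype N] (χ : G → ℂ) (hχ : Cfsg.IsIrrCharacter G χ) (hχN : Cfsg.IsIrrCharacter N (fun n : N => χ n)) (ψ : G → ℂ) (hψ : Cfsg.IsIrrCharacter G ψ) (η : G → ℂ) (hη : η = fun g => (Nat.card N : ℂ)⁻¹ * ∑ n : N, ψ ((n : G) * g) * conj (χ ((n : G) * g))) : (Cfsg.classInner (fun n : N => ψ n) (fun n : N => χ n) ≠ 0 → Cfsg.IsIrrCharacter G η) ∧ (Cfsg.classInner (fun n : N => ψ n) (fun n : N => χ n) = 0 → η = 0) ∧ (ψ = χ → η = fun _ => 1) := by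
  classical
  have hN : N.Normal := inferInstance
  have hχc := isClassFunction_of_irr hχ
  have hψc := isClassFunction_of_irr hψ
  have hN0 := card_subgroup_ne_zero N
  have hgal := gallagher N hχ hχN
  -- η is a class function
  have hηc : IsClassFunction G η := by
    intro g h
    rw [hη]
    simp only
    congr 1
    refine Fintype.sum_equiv (MulAut.conjNormal h⁻¹ : N ≃* N).toEquiv _ _ ?_
    intro n
    have h1 : (n : G) * (h * g * h⁻¹) = h * (((MulAut.conjNormal h⁻¹ : N ≃* N) n : N) * g) * h⁻¹ := by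
      rw [MulAut.conjNormal_apply]; group
    simp only [MulEquiv.toEquiv_eq_coe, MulEquiv.coe_toEquiv]
    rw [h1, hψc, hχc]
  -- inner products
  have hinner : ∀ β : G → ℂ, IsIrrCharacter G β → classInner η β =
      conj ((Nat.card N : ℂ)⁻¹ * ((∑ n : N, β n) / β 1)) * classInner ψ (β * χ) := by
    intro β hβ
    rw [classInner, classInner, hη]
    have h1 : ∑ g : G, ((Nat.card N : ℂ)⁻¹ * ∑ n : N, ψ ((n : G) * g) * conj (χ ((n : G) * g))) *
        conj (β g) = (Nat.card N : ℂ)⁻¹ * ∑ n : N, ∑ g : G,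
          ψ ((n : G) * g) * conj (χ ((n : G) * g)) * conj (β g) := by
      rw [Finset.sum_comm, Finset.mul_sum]
      refine Finset.sum_congr rfl fun g _ => ?_
      rw [mul_assoc, Finset.sum_mul]
    have h2 : ∀ n : N, ∑ g : G, ψ ((n : G) * g) * conj (χ ((n : G) * g)) * conj (β g) =
        ∑ g : G, ψ g * conj (χ g) * conj (β ((n⁻¹ : N) * g)) := by
      intro n
      refine Fintype.sum_equiv (Equiv.mulLeft (n : G)) _ _ ?_
      intro g
      simp
    have h3 : ∑ n : N, ∑ g : G, ψ g * conj (χ g) * conj (β ((n⁻¹ : N) * g)) =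
        ∑ g : G, ψ g * conj (χ g) * conj ((∑ n : N, β n) / β 1 * β g) := by
      rw [Finset.sum_comm]
      refine Finset.sum_congr rfl fun g _ => ?_
      rw [← Finset.mul_sum, ← map_sum, ← sum_normal_irr_mul N hβ g]
      congr 2
      exact Fintype.sum_equiv (Equiv.inv N) _ _ (fun _ => rfl)
    rw [h1]
    simp only [h2]
    rw [h3]
    simp only [map_mul, Pi.mul_apply]
    rw [Finset.mul_sum, Finset.mul_sum, Finset.mul_sum, Finset.mul_sum]
    refine Finset.sum_congr rfl fun g _ => ?_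
    simp only [map_inv₀, map_natCast]
    ring
  have hcoef0 : ∀ β : G → ℂ, IsIrrCharacter G β →
      classInner (indFun N (fun _ => (1 : ℂ))) β = 0 → classInner η β = 0 := by
    intro β hβ h0
    rw [hinner β hβ, (sum_normal_irr N hβ).2 h0]
    simp
  have hcoef1 : ∀ β : G → ℂ, IsIrrCharacter G β →
      classInner (indFun N (fun _ => (1 : ℂ))) β ≠ 0 → classInner η β = classInner ψ (β * χ) := by
    intro β hβ h0
    have hβ1 : β 1 ≠ 0 := irr_apply_one_ne_zero ⟨β, hβ⟩
    rw [hinner β hβ, (sum_normal_irr N hβ).1 h0]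
    have : (Nat.card N : ℂ)⁻¹ * ((Nat.card N : ℂ) * β 1 / β 1) = 1 := by field_simp
    rw [this]; simp
  -- main claim
  have main : ∀ β₀ : G → ℂ, IsIrrCharacter G β₀ →
      classInner (indFun N (fun _ => (1 : ℂ))) β₀ ≠ 0 → β₀ * χ = ψ → η = β₀ := by
    intro β₀ hβ₀ h0 hmul
    have hexp := classFunction_eq_sum hηc
    rw [Finset.sum_eq_single (⟨β₀, hβ₀⟩ : IrrCharacter G)] at hexp
    · simp only at hexp
      rw [hcoef1 β₀ hβ₀ h0, hmul, classInner_irr_self hψ, one_smul] at hexp
      exact hexp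
    · intro β _ hne
      by_cases hb : classInner (indFun N (fun _ => (1 : ℂ))) (β : G → ℂ) = 0
      · rw [hcoef0 β β.2 hb, zero_smul]
      · rw [hcoef1 β β.2 hb]
        have hirr : IsIrrCharacter G ((β : G → ℂ) * χ) := (hgal.mapsTo ⟨β.2, hb⟩).1
        have hne2 : ψ ≠ (β : G → ℂ) * χ := by
          intro h
          apply hne
          apply Subtype.ext
          exact hgal.injOn ⟨β.2, hb⟩ ⟨hβ₀, h0⟩ (by show (β : G → ℂ) * χ = β₀ * χ; rw [hmul, h])
        rw [classInner_irr_ne hψ hirr hne2, zero_smul]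
    · intro h; exact absurd (Finset.mem_univ _) h
  have hfrob : classInner (indFun N (fun n : N => χ n)) ψ =
      conj (classInner (fun n : N => ψ n) (fun n : N => χ n)) := by
    rw [frobenius_reciprocity N _ hψc, classInner_conj_symm]
  refine ⟨?_, ?_, ?_⟩
  · intro hne
    have hmem : ψ ∈ {ψ : G → ℂ | IsIrrCharacter G ψ ∧ classInner (indFun N (fun n : N => χ n)) ψ ≠ 0} := by
      refine ⟨hψ, ?_⟩
      rw [hfrob]
      simpa using hne
    obtain ⟨β₀, ⟨hβ₀, h0⟩, hmul⟩ := hgal.surjOn hmem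
    rw [main β₀ hβ₀ h0 hmul]
    exact hβ₀
  · intro h0
    have hexp := classFunction_eq_sum hηc
    rw [hexp]
    apply Finset.sum_eq_zero
    intro β _
    by_cases hb : classInner (indFun N (fun _ => (1 : ℂ))) (β : G → ℂ) = 0
    · rw [hcoef0 β β.2 hb, zero_smul]
    · rw [hcoef1 β β.2 hb]
      have hm := hgal.mapsTo ⟨β.2, hb⟩
      have hne2 : ψ ≠ (β : G → ℂ) * χ := by
        intro h
        apply hm.2
        show classInner (indFun N (fun n : N => χ n)) ((β : G → ℂ) * χ) = 0
        rw [← h, hfrob, h0, map_zero]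
      rw [classInner_irr_ne hψ hm.1 hne2, zero_smul]
  · intro heq
    apply main (fun _ => 1) isIrrCharacter_one
    · rw [frobenius_reciprocity N _ (isClassFunction_of_irr isIrrCharacter_one)]
      rw [classInner_irr_self (isIrrCharacter_one (G := N))]
      exact one_ne_zero
    · rw [heq]; funext g; simp

end Cfsg.Agent.S0868
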