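import Cfsg.Statements.S4444
import Mathlib
import Cfsg.Agent.Lib.Helper2.GlauP

set_option autoImplicit false
open Cfsg

namespace Cfsg.Agent.S4444

/-- The Glauberman correspondence for a p-group of operators. Inside a finite group Γ let S normalise G with the orders of G and S coprime, S a p-group, and let C = G ⊓ C(S) be the fixed points. Call an irreducible character χ of G S-invariant when χ(s g s⁻¹) = χ(g) for s ∈ S, g ∈ G. Then: (i) for every S-invariant χ there is exactly one irreducible character β of C whose multiplicity [χ_C, β] in the restriction of χ is not divisible by p; (ii) that multiplicity is ≡ 1 or ≡ −1 (mod p); (iii) distinct S-invariant χ give distinct β; (iv) every irreducible character of C arises in this way. So χ ↦ β is a bijection from the S-invariant irreducible characters of G onto the irreducible characters of C. -/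
theorem result {Γ : Type*} [Group Γ] [Fintype Γ] (G S : Subgroup Γ) [Fintype G] (hnorm : ∀ s ∈ S, ∀ g ∈ G, s * g * s⁻¹ ∈ G) (hcop : (Nat.card G).Coprime (Nat.card S)) (p : ℕ) (hp : p.Prime) (hS : IsPGroup p S) (C : Subgroup Γ) [Fintype C] (hC : C = G ⊓ Subgroup.centralizer (S : Set Γ)) (hCG : C ≤ G) : (∀ χ : Cfsg.IrrCharacter G, (∀ s ∈ S, ∀ g g' : G, (g' : Γ) = s * g * s⁻¹ → (χ : G → ℂ) g' = (χ : G → ℂ) g) → ∃! β : Cfsg.IrrCharacter C, ∃ m : ℕ, Cfsg.classInner (fun c : C => (χ : G → ℂ) ⟨c, hCG c.2⟩) (β : C → ℂ) = (m : ℂ) ∧ ¬ p ∣ m) ∧ (∀ χ : Cfsg.IrrCharacter G, (∀ s ∈ S, ∀ g g' : G, (g' : Γ) = s * g * s⁻¹ → (χ : G → ℂ) g' = (χ : G → ℂ) g) → ∀ β : Cfsg.IrrCharacter C, ∀ m : ℕ, Cfsg.classInner (fun c : C => (χ : G → ℂ) ⟨c, hCG c.2⟩) (β : C → ℂ) = (m : ℂ) → ¬ p ∣ m → ((m : ℤ) ≡ 1 [ZMOD p] ∨ (m : ℤ) ≡ -1 [ZMOD p])) ∧ (∀ χ χ' : Cfsg.IrrCharacter G, (∀ s ∈ S, ∀ g g' : G, (g' : Γ) = s * g * s⁻¹ → (χ :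 G → ℂ) g' = (χ : G → ℂ) g) → (∀ s ∈ S, ∀ g g' : G, (g' : Γ) = s * g * s⁻¹ → (χ' : G → ℂ) g' = (χ' : G → ℂ) g) → ∀ β : Cfsg.IrrCharacter C, ∀ m m' : ℕ, Cfsg.classInner (fun c : C => (χ : G → ℂ) ⟨c, hCG c.2⟩) (β : C → ℂ) = (m : ℂ) → ¬ p ∣ m → Cfsg.classInner (fun c : C => (χ' : G → ℂ) ⟨c, hCG c.2⟩) (β : C → ℂ) = (m' : ℂ) → ¬ p ∣ m' → χ = χ') ∧ (∀ β : Cfsg.IrrCharacter C, ∃ χ : Cfsg.IrrCharacter G, (∀ s ∈ S, ∀ g g' : G, (g' : Γ) = s * g * s⁻¹ → (χ : G → ℂ) g' = (χ : G → ℂ) g) ∧ ∃ m : ℕ, Cfsg.classInner (fun c : C => (χ : G → ℂ) ⟨c, hCG c.2⟩) (β : C → ℂ) = (m : ℂ) ∧ ¬ p ∣ m) := by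
  classical
  open Cfsg.Agent.Lib.Helper2 Cfsg.Agent.CharLib in
  by_cases hpG : p ∣ Nat.card G
  · -- then `S` is trivial
    haveI : Fact p.Prime := ⟨hp⟩
    have hS1 : S = ⊥ := by
      obtain ⟨k, hk⟩ := (IsPGroup.iff_card (p := p) (G := S)).mp hS
      rcases Nat.eq_zero_or_pos k with rfl | hk0
      · rw [pow_zero] at hk
        exact Subgroup.card_eq_one.mp hk
      · exfalso
        have h1 : p ∣ Nat.card S := by rw [hk]; exact dvd_pow_self p hk0.ne'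
        have h2 := Nat.dvd_gcd hpG h1
        rw [hcop] at h2
        exact hp.one_lt.ne' (Nat.dvd_one.mp h2)
    have hCG' : C = G := by
      rw [hC, hS1]
      refine le_antisymm inf_le_left (le_inf le_rfl fun g _ =>
        Subgroup.mem_centralizer_iff.mpr fun s hs => ?_)
      have hs1 : s = 1 := Subgroup.mem_bot.mp hs
      rw [hs1, one_mul, mul_one]
    subst hCG'
    rename_i i1 i2 i3 i4
    obtain rfl : i3 = i4 := Subsingleton.elim _ _
    have key : ∀ (χ β : Cfsg.IrrCharacter C) (m : ℕ),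
        Cfsg.classInner (fun c : C => (χ : C → ℂ) ⟨c, hCG c.2⟩) (β : C → ℂ) = (m : ℂ) → ¬ p ∣ m →
          χ = β ∧ m = 1 := by
      intro χ β m hm hpm
      have h1 : (fun c : C => (χ : C → ℂ) ⟨c, hCG c.2⟩) = (χ : C → ℂ) := rfl
      rw [h1, classInner_irr χ.2 β.2] at hm
      split_ifs at hm with h2
      · exact ⟨Subtype.ext h2, by exact_mod_cast hm.symm⟩
      · exfalso
        have : m = 0 := by exact_mod_cast hm.symm
        exact hpm (this ▸ dvd_zero p)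
    have key2 : ∀ χ : Cfsg.IrrCharacter C,
        Cfsg.classInner (fun c : C => (χ : C → ℂ) ⟨c, hCG c.2⟩) (χ : C → ℂ) = ((1 : ℕ) : ℂ) := by
      intro χ
      have h1 : (fun c : C => (χ : C → ℂ) ⟨c, hCG c.2⟩) = (χ : C → ℂ) := rfl
      rw [h1, classInner_irr χ.2 χ.2, if_pos rfl, Nat.cast_one]
    have hp1 : ¬ p ∣ 1 := fun h => hp.one_lt.ne' (Nat.dvd_one.mp h)
    refine ⟨?_, ?_, ?_, ?_⟩
    · intro χ _
      refine ⟨χ, ⟨1, key2 χ, hp1⟩, ?_⟩
      rintro β ⟨m, hm, hpm⟩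
      exact (key χ β m hm hpm).1.symm
    · intro χ _ β m hm hpm
      left
      rw [(key χ β m hm hpm).2]
      rfl
    · intro χ χ' _ _ β m m' hm hpm hm' hpm'
      rw [(key χ β m hm hpm).1, (key χ' β m' hm' hpm').1]
    · intro β
      refine ⟨β, ?_, 1, key2 β, hp1⟩
      intro s hs g g' hg
      rw [hS1, Subgroup.mem_bot] at hs
      subst hs
      have hgg : g' = g := Subtype.ext (by simpa using hg)
      rw [hgg]
  · obtain ⟨M, hM⟩ := Cfsg.Agent.Lib.Helper23.exists_isPModular p hp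
    have h : GP G S C p M := ⟨hnorm, inferInstance, hS, hM, hpG, hC⟩
    refine ⟨?_, ?_, ?_, ?_⟩
    · intro χ hχ
      obtain ⟨β, hβ⟩ := h.exists_beta χ
      obtain ⟨m, hm⟩ := GP.exists_mult h.le χ β
      refine ⟨β, ⟨m, hm, fun hd => hβ ((h.aCoef_mem_iff χ β hm).mpr hd)⟩, ?_⟩
      rintro β' ⟨m', hm', hpm'⟩
      exact h.beta_unique hχ (fun hh => hpm' ((h.aCoef_mem_iff χ β' hm').mp hh)) hβ
    · intro χ hχ β m hm hpm
      exact h.mult_pm_one hχ β hm hpm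
    · intro χ χ' hχ hχ' β m m' hm hpm hm' hpm'
      exact h.chi_unique hχ hχ' β (fun hh => hpm ((h.aCoef_mem_iff χ β hm).mp hh))
        (fun hh => hpm' ((h.aCoef_mem_iff χ' β hm').mp hh))
    · intro β
      obtain ⟨χ, hχ, hA⟩ := h.exists_chi β
      obtain ⟨m, hm⟩ := GP.exists_mult h.le χ β
      exact ⟨χ, hχ, m, hm, fun hd => hA ((h.aCoef_mem_iff χ β hm).mpr hd)⟩

end Cfsg.Agent.S4444
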