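import Cfsg.Statements.S4447
import Cfsg.Agent.Lib.Helper10.InvCons
-- import your own Cfsg.Agent.* helpers here

set_option autoImplicit false
open Cfsg Cfsg.Agent.CharLib Cfsg.Agent.Lib.Helper2 Cfsg.Agent.Lib.Helper10

namespace Cfsg.Agent.S4447

/-- Inside a finite group Γ let S normalise G and also normalise a normal subgroup N of G, with the order of S coprime to the index of N in G and S or G/N solvable. Then for every S-invariant irreducible character χ of G, the restriction of χ to N has an S-invariant irreducible constituent. -/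
theorem result {Γ : Type*} [Group Γ] [Fintype Γ] (G S N : Subgroup Γ) [Fintype G] [Fintype N] (hnorm : ∀ s ∈ S, ∀ g ∈ G, s * g * s⁻¹ ∈ G) (hNG : N ≤ G) [hNn : (N.subgroupOf G).Normal] (hNS : ∀ s ∈ S, ∀ n ∈ N, s * n * s⁻¹ ∈ N) (hcop : (N.relIndex G).Coprime (Nat.card S)) (hsolv : Group.IsSolvable S ∨ Group.IsSolvable (G ⧸ N.subgroupOf G)) (χ : Cfsg.IrrCharacter G) (hinv : (∀ s ∈ S, ∀ g g' : G, (g' : Γ) = s * g * s⁻¹ → (χ : G → ℂ) g' = (χ : G → ℂ) g)) : ∃ θ : Cfsg.IrrCharacter N, Cfsg.classInner (fun n : N => (χ : G → ℂ) ⟨n, hNG n.2⟩) (θ : N → ℂ) ≠ 0 ∧ (∀ s ∈ S, ∀ g g' : N, (g' : Γ) = s * g * s⁻¹ → (θ : N → ℂ) g' = (θ : N → ℂ) g) := by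
  classical
  set f : N → ℂ := fun n => (χ : G → ℂ) ⟨n, hNG n.2⟩ with hf
  have hNrmS : Nrm N S := hNS
  have hNrmG : Nrm N G := by
    intro g hg n hn
    exact hNn.conj_mem ⟨n, hNG hn⟩ (Subgroup.mem_subgroupOf.2 hn) ⟨g, hg⟩
  have hfS : SInv N S f := by
    intro s hs n n' h
    exact hinv s hs ⟨n, hNG n.2⟩ ⟨n', hNG n'.2⟩ h
  have hfG : SInv N G f := by
    intro g hg n n' h
    have h1 := isClassFunction_of_char (isCharacter_of_irr χ.2) ⟨n, hNG n.2⟩ ⟨g, hg⟩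
    show (χ : G → ℂ) ⟨n', hNG n'.2⟩ = (χ : G → ℂ) ⟨n, hNG n.2⟩
    rw [← h1]
    exact congrArg _ (Subtype.ext h)
  have hne : Nonempty {θ : IrrCharacter N // classInner f (θ : N → ℂ) ≠ 0} := by
    obtain ⟨m, hm, hm2⟩ := H2.exists_mult
      (isCharacter_comp (isCharacter_of_irr χ.2) (Subgroup.inclusion hNG))
    by_contra hcon
    have hcon' : ∀ θ : IrrCharacter N, classInner f (θ : N → ℂ) = 0 := by
      intro θ
      by_contra h
      exact hcon ⟨⟨θ, h⟩⟩
    have h0 : ∀ θ, (m θ : ℂ) = 0 := fun θ => by rw [← hm2 θ]; exact hcon' θ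
    have h1 := congrFun hm 1
    simp only [Finset.sum_apply, h0, zero_smul, Pi.zero_apply, Finset.sum_const_zero] at h1
    exact irr_apply_one_ne_zero χ h1
  let φ : G →* Equiv.Perm {θ : IrrCharacter N // classInner f (θ : N → ℂ) ≠ 0} :=
    @MulAction.toPermHom G _ _ (consAct hNrmG hfG)
  let ψ : S →* Equiv.Perm {θ : IrrCharacter N // classInner f (θ : N → ℂ) ≠ 0} :=
    @MulAction.toPermHom S _ _ (consAct hNrmS hfS)
  have hφ : ∀ (g : G) (θ : {θ : IrrCharacter N // classInner f (θ : N → ℂ) ≠ 0}),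
      ((φ g θ).1 : IrrCharacter N) = irrConj hNrmG g θ.1 := fun _ _ => rfl
  have hψ : ∀ (g : S) (θ : {θ : IrrCharacter N // classInner f (θ : N → ℂ) ≠ 0}),
      ((ψ g θ).1 : IrrCharacter N) = irrConj hNrmS g θ.1 := fun _ _ => rfl
  have hcompat : ∀ (b : S) (a : G), ∃ a' : G, ψ b * φ a = φ a' * ψ b := by
    intro s g
    have hnrm : Nrm G S := hnorm
    refine ⟨cjEquiv hnrm s g, ?_⟩
    ext θ n
    rw [Equiv.Perm.mul_apply, Equiv.Perm.mul_apply, hψ, hφ, hφ, hψ]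
    simp only [irrConj_apply]
    refine congrArg _ (Subtype.ext ?_)
    simp only [cjEquiv_symm_coe, cjEquiv_coe]
    group
  have hker : N.subgroupOf G ≤ φ.ker := by
    intro g hg
    rw [MonoidHom.mem_ker]
    ext θ n
    rw [hφ, irrConj_apply, Equiv.Perm.one_apply]
    have h1 := isClassFunction_of_char (isCharacter_of_irr θ.1.2) n
      (⟨(g : Γ), Subgroup.mem_subgroupOf.1 hg⟩ : N)⁻¹
    rw [← h1]
    refine congrArg _ (Subtype.ext ?_)
    simp [cjEquiv_symm_coe]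
  have htrans : ∀ x y : {θ : IrrCharacter N // classInner f (θ : N → ℂ) ≠ 0},
      ∃ a : G, φ a x = y := by
    intro x y
    obtain ⟨t, ht⟩ := sub_clifford_conj N G hNG χ.2 x.1.2 y.1.2 x.2 y.2
    refine ⟨t⁻¹, ?_⟩
    ext n
    rw [hφ, irrConj_apply]
    refine (ht n _ ?_).symm
    simp [cjEquiv_symm_coe]
  obtain ⟨x, hx⟩ := glauberman_two φ ψ hcompat (N.subgroupOf G) hker hcop hsolv.symm htrans
  refine ⟨x.1, x.2, ?_⟩
  exact (sInv_iff_irrConj hNrmS x.1).2 fun s => by rw [← hψ, hx]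

end Cfsg.Agent.S4447
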