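import Mathlib
import Cfsg.Prelude.Def_Blocks
import Cfsg.Agent.Lib.Helper23.WeakOrth

set_option autoImplicit false

namespace Cfsg.Agent.S0907

open Cfsg
open scoped ComplexConjugate

theorem result {G : Type*} [Group G] [Finite G] (p : ℕ) [Fact p.Prime] (M : Ideal Cfsg.AlgInt) (hM : Cfsg.IsPModular p M) (B : Set (Cfsg.IrrCharacter G)) (hB : Cfsg.IsPBlock M B) (x y : G) (hx : ¬ p ∣ orderOf x) (hy : p ∣ orderOf y) : ∑ᶠ χ ∈ B, (χ : G → ℂ) x * conj ((χ : G → ℂ) y) = 0 := by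
  classical
  cases nonempty_fintype G
  rw [Cfsg.Agent.Lib.Helper23.finsum_mem_eq_sum_filter']
  exact Cfsg.Agent.Lib.Helper23.weak_orth hM B hB x y hx hy

end Cfsg.Agent.S0907
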