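import Mathlib
import Cfsg.Statements.S0356
import Cfsg.Agent.Lib.Helper3.Steiner

set_option autoImplicit false
open Cfsg

namespace Cfsg.Agent.S0356

open Cfsg.Agent.Lib.Helper3.Steiner

/-- In a Steiner system S(3, 6, 22), two distinct blocks intersect in 0 or 2 points. -/
theorem result {α : Type*} [Fintype α] [DecidableEq α] (hα : Fintype.card α = 22) {B : Set (Finset α)} (hB : Cfsg.IsSteinerSystem 3 6 B) {b c : Finset α} (hb : b ∈ B) (hc : c ∈ B) (hbc : b ≠ c) : (b ∩ c).card = 0 ∨ (b ∩ c).card = 2 := by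
  have e0 := sum_N hB (by norm_num) b 0 (by norm_num)
  have e1 := sum_N hB (by norm_num) b 1 (by norm_num)
  have e2 := sum_N hB (by norm_num) b 2 (by norm_num)
  have z3 := N_eq_zero hB hb (j := 3) (by norm_num) (by norm_num)
  have z4 := N_eq_zero hB hb (j := 4) (by norm_num) (by norm_num)
  have z5 := N_eq_zero hB hb (j := 5) (by norm_num) (by norm_num)
  have z6 := N_self hB hb
  rw [hα, hB.1 b hb] at e0 e1 e2
  simp only [Finset.sum_range_succ, Finset.sum_range_zero, z3, z4, z5, z6] at e0 e1 e2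
  norm_num [Nat.choose] at e0 e1 e2
  have n1 : N B b 1 = 0 := by omega
  have h1 := ne_of_N_eq_zero hc n1
  have h5 := card_inter_lt hB hb hc (Ne.symm hbc)
  rw [Finset.inter_comm] at h1 h5
  omega

end Cfsg.Agent.S0356
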