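import Cfsg.Statements.S0405
import Cfsg.Agent.Lib.Helper28.LeechHSMcL

set_option autoImplicit false
open Cfsg

namespace Cfsg.Agent.S0405

/-- Joint stabiliser of two vectors of sum of squares 48 with coordinate dot product −32 is simple of order 44352000. -/
theorem result (v w : Cfsg.leechLattice) (hv : Cfsg.sqNorm (v : Cfsg.GolayPt → ℤ) = 48) (hw : Cfsg.sqNorm (w : Cfsg.GolayPt → ℤ) = 48) (hvw : Cfsg.dotInt (v : Cfsg.GolayPt → ℤ) (w : Cfsg.GolayPt → ℤ) = -32) : Cfsg.IsHS ↥(MulAction.stabilizer Cfsg.Co0 v ⊓ MulAction.stabilizer Cfsg.Co0 w) := by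
  refine ⟨Cfsg.Agent.Lib.Helper28.hs_simple v w hv hw hvw, ?_⟩
  obtain ⟨g, h1, h2⟩ := Cfsg.Agent.Lib.Helper28.exists_to_std v w hv hw hvw
  have e : ((Cfsg.Agent.Lib.Helper28.u5 : leechLattice),
      (Cfsg.Agent.Lib.Helper28.vMinus - Cfsg.Agent.Lib.Helper28.u5 : leechLattice)) = g • (v, w) := by
    rw [Prod.smul_mk, h1, h2]
  have e2 : MulAction.stabilizer Co0 Cfsg.Agent.Lib.Helper28.u5 ⊓
      MulAction.stabilizer Co0 (Cfsg.Agent.Lib.Helper28.vMinus - Cfsg.Agent.Lib.Helper28.u5)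
      = Cfsg.Agent.Lib.Helper28.H5 := by
    ext x
    simp only [Cfsg.Agent.Lib.Helper28.H5, Subgroup.mem_inf, MulAction.mem_stabilizer_iff]
    constructor
    · rintro ⟨a, b⟩
      refine ⟨a, ?_⟩
      rw [Cfsg.Agent.Lib.Helper28.co0_sub, a] at b
      exact sub_left_injective b
    · rintro ⟨a, b⟩
      exact ⟨a, by rw [Cfsg.Agent.Lib.Helper28.co0_sub, a, b]⟩
  rw [← Cfsg.Agent.Lib.Helper28.card_H5]
  exact Nat.card_congr ((MulEquiv.subgroupCongr (Cfsg.Agent.Lib.Helper28.stabilizer_pairL v w).symm).trans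
    ((MulAction.stabilizerEquivStabilizer e).trans
      ((MulEquiv.subgroupCongr (Cfsg.Agent.Lib.Helper28.stabilizer_pairL _ _)).trans
        (MulEquiv.subgroupCongr e2)))).toEquiv

end Cfsg.Agent.S0405
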