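import Cfsg.Statements.S1584
import Cfsg.Agent.Lib.Helper28.LeechHS2

set_option autoImplicit false
open Cfsg

namespace Cfsg.Agent.S1584

/-- The Higman–Sims group acts with rank 3 and subdegrees 1, 22, 77 on its 100 points, the orbits of a point stabiliser being distinguished by customary inner product 1 with the fixed point. -/
theorem result (v w x : ↥Cfsg.leechLattice) (hv : Cfsg.sqNorm (v : Cfsg.GolayPt → ℤ) = 48) (hw : Cfsg.sqNorm (w : Cfsg.GolayPt → ℤ) = 48) (hvw : Cfsg.dotInt (v : Cfsg.GolayPt → ℤ) (w : Cfsg.GolayPt → ℤ) = -32) (hx : x ∈ {x : ↥Cfsg.leechLattice | Cfsg.sqNorm (x : Cfsg.GolayPt → ℤ) = 32 ∧ Cfsg.dotInt (v : Cfsg.GolayPt → ℤ) (x : Cfsg.GolayPt → ℤ) = 24 ∧ Cfsg.dotInt (w : Cfsg.GolayPt → ℤ) (x : Cfsg.GolayPt → ℤ) = -24}) : {y : ↥Cfsg.leechLattice | y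 ∈ {x : ↥Cfsg.leechLattice | Cfsg.sqNorm (x : Cfsg.GolayPt → ℤ) = 32 ∧ Cfsg.dotInt (v : Cfsg.GolayPt → ℤ) (x : Cfsg.GolayPt → ℤ) = 24 ∧ Cfsg.dotInt (w : Cfsg.GolayPt → ℤ) (x : Cfsg.GolayPt → ℤ) = -24} ∧ Cfsg.dotInt (x : Cfsg.GolayPt → ℤ) (y : Cfsg.GolayPt → ℤ) = 8}.ncard = 22 ∧ {y : ↥Cfsg.leechLattice | y ∈ {x : ↥Cfsg.leechLattice | Cfsg.sqNorm (x : Cfsg.GolayPt → ℤ) = 32 ∧ Cfsg.dotInt (v : Cfsg.GolayPt → ℤ) (x : Cfsg.GolayPt → ℤ) = 24 ∧ Cfsg.dotInt (w : Cfsg.GolayPt → ℤ) (x : Cfsg.GolayPt → ℤ) = -24} ∧ y ≠ x ∧ Cfsg.dotInt (x : Cfsg.GolayPt → ℤ) (y : Cfsg.GolayPt → ℤ) ≠ 8}.ncard = 77 ∧ ∀ y ∈ {x : ↥Cfsg.leechLattice | Cfsg.sqNorm (x : Cfsg.GolayPt → ℤ) = 32 ∧ Cfsg.dotInt (v : Cfsg.GolayPt → ℤ) (x : Cfsg.GolayPt → ℤ) = 24 ∧ Cfsg.dotInt (w : Cfsg.GolayPt → ℤ) (x : Cfsg.GolayPt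 → ℤ) = -24}, ∀ y' ∈ {x : ↥Cfsg.leechLattice | Cfsg.sqNorm (x : Cfsg.GolayPt → ℤ) = 32 ∧ Cfsg.dotInt (v : Cfsg.GolayPt → ℤ) (x : Cfsg.GolayPt → ℤ) = 24 ∧ Cfsg.dotInt (w : Cfsg.GolayPt → ℤ) (x : Cfsg.GolayPt → ℤ) = -24}, y ≠ x → y' ≠ x → (Cfsg.dotInt (x : Cfsg.GolayPt → ℤ) (y : Cfsg.GolayPt → ℤ) = 8 ↔ Cfsg.dotInt (x : Cfsg.GolayPt → ℤ) (y' : Cfsg.GolayPt → ℤ) = 8) → ∃ g : ↥Cfsg.Co0, g • v = v ∧ g • w = w ∧ g • x = x ∧ g • y = y' := by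
  obtain ⟨g1, h1, h2, h3⟩ := Cfsg.Agent.Lib.Helper28.exists_to_std3 v w x hv hw hvw hx
  have hT := Cfsg.Agent.Lib.Helper28.mem_T5_iff_of_std h1 h2
  have hd : ∀ y : ↥Cfsg.leechLattice, Cfsg.dotInt ((Cfsg.Agent.Lib.Helper28.vPlus : ↥Cfsg.leechLattice) : Cfsg.GolayPt → ℤ)
      ((g1 • y : ↥Cfsg.leechLattice) : Cfsg.GolayPt → ℤ) = Cfsg.dotInt (x : Cfsg.GolayPt → ℤ) (y : Cfsg.GolayPt → ℤ) := by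
    intro y
    rw [← h3, Cfsg.Agent.Lib.Helper28.co0_dot]
  have hne : ∀ y : ↥Cfsg.leechLattice, g1 • y ≠ Cfsg.Agent.Lib.Helper28.vPlus ↔ y ≠ x := by
    intro y
    rw [← h3]
    exact not_congr (MulAction.injective g1).eq_iff
  have h22 : ∀ y : ↥Cfsg.leechLattice, (y ∈ {x : ↥Cfsg.leechLattice | Cfsg.sqNorm (x : Cfsg.GolayPt → ℤ) = 32 ∧ Cfsg.dotInt (v : Cfsg.GolayPt → ℤ) (x : Cfsg.GolayPt → ℤ) = 24 ∧ Cfsg.dotInt (w : Cfsg.GolayPt → ℤ) (x : Cfsg.GolayPt → ℤ) = -24} ∧ Cfsg.dotInt (x : Cfsg.GolayPt → ℤ) (y : Cfsg.GolayPt → ℤ) = 8) ↔ g1 • y ∈ Cfsg.Agent.Lib.Helper28.Y22 := by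
    intro y
    show _ ↔ (g1 • y ∈ Cfsg.Agent.Lib.Helper28.T5 ∧ _ = 8)
    rw [hT, hd]
    rfl
  have h77 : ∀ y : ↥Cfsg.leechLattice, (y ∈ {x : ↥Cfsg.leechLattice | Cfsg.sqNorm (x : Cfsg.GolayPt → ℤ) = 32 ∧ Cfsg.dotInt (v : Cfsg.GolayPt → ℤ) (x : Cfsg.GolayPt → ℤ) = 24 ∧ Cfsg.dotInt (w : Cfsg.GolayPt → ℤ) (x : Cfsg.GolayPt → ℤ) = -24} ∧ y ≠ x ∧ Cfsg.dotInt (x : Cfsg.GolayPt → ℤ) (y : Cfsg.GolayPt → ℤ) ≠ 8) ↔ g1 • y ∈ Cfsg.Agent.Lib.Helper28.Y77 := by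
    intro y
    show _ ↔ (g1 • y ∈ Cfsg.Agent.Lib.Helper28.T5 ∧ g1 • y ≠ Cfsg.Agent.Lib.Helper28.vPlus ∧ _ ≠ 8)
    rw [hT, hd, hne]
    rfl
  refine ⟨?_, ?_, ?_⟩
  · exact (Cfsg.Agent.Lib.Helper28.ncard_smul_congr g1
      (Q' := fun y => y ∈ Cfsg.Agent.Lib.Helper28.Y22) h22).trans Cfsg.Agent.Lib.Helper28.ncard_Y22
  · exact (Cfsg.Agent.Lib.Helper28.ncard_smul_congr g1
      (Q' := fun y => y ∈ Cfsg.Agent.Lib.Helper28.Y77) h77).trans Cfsg.Agent.Lib.Helper28.ncard_Y77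
  · intro y hy y' hy' hyx hyx' hiff
    have key : ∃ k : ↥Cfsg.Co0, k • Cfsg.Agent.Lib.Helper28.u5 = Cfsg.Agent.Lib.Helper28.u5 ∧
        k • Cfsg.Agent.Lib.Helper28.vMinus = Cfsg.Agent.Lib.Helper28.vMinus ∧
        k • Cfsg.Agent.Lib.Helper28.vPlus = Cfsg.Agent.Lib.Helper28.vPlus ∧ k • (g1 • y) = g1 • y' := by
      by_cases h8 : Cfsg.dotInt (x : Cfsg.GolayPt → ℤ) (y : Cfsg.GolayPt → ℤ) = 8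
      · exact Cfsg.Agent.Lib.Helper28.M5_trans22 ((h22 y).1 ⟨hy, h8⟩) ((h22 y').1 ⟨hy', hiff.1 h8⟩)
      · exact Cfsg.Agent.Lib.Helper28.M5_trans77 ((h77 y).1 ⟨hy, hyx, h8⟩)
          ((h77 y').1 ⟨hy', hyx', fun h => h8 (hiff.2 h)⟩)
    obtain ⟨k, k1, k2, k3, k4⟩ := key
    refine ⟨g1⁻¹ * k * g1, ?_, ?_, ?_, ?_⟩
    · rw [mul_smul, mul_smul, h1, k1, ← h1, inv_smul_smul]
    · rw [mul_smul, mul_smul, h2, Cfsg.Agent.Lib.Helper28.co0_sub, k1, k2, ← h2, inv_smul_smul]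
    · rw [mul_smul, mul_smul, h3, k3, ← h3, inv_smul_smul]
    · rw [mul_smul, mul_smul, k4, inv_smul_smul]

end Cfsg.Agent.S1584
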