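import Mathlib
import Cfsg.Statements.S0354
import Cfsg.Agent.Lib.Helper3.Steiner

set_option autoImplicit false
open Cfsg

namespace Cfsg.Agent.S0354

open Cfsg.Agent.Lib.Helper3.Steiner

/-- In an S(5, 8, 24), each block is disjoint from exactly 30 blocks. -/
theorem result {α : Type*} [Fintype α] [DecidableEq α] (hα : Fintype.card α = 24) {B : Set (Finset α)} (hB : Cfsg.IsSteinerSystem 5 8 B) {b : Finset α} (hb : b ∈ B) : {c : Finset α | c ∈ B ∧ Disjoint b c}.ncard = 30 := by
  have e0 := sum_N hB (by norm_num) b 0 (by norm_num)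
  have e1 := sum_N hB (by norm_num) b 1 (by norm_num)
  have e2 := sum_N hB (by norm_num) b 2 (by norm_num)
  have e3 := sum_N hB (by norm_num) b 3 (by norm_num)
  have e4 := sum_N hB (by norm_num) b 4 (by norm_num)
  have z5 := N_eq_zero hB hb (j := 5) (by norm_num) (by norm_num)
  have z6 := N_eq_zero hB hb (j := 6) (by norm_num) (by norm_num)
  have z7 := N_eq_zero hB hb (j := 7) (by norm_num) (by norm_num)
  have z8 := N_self hB hb
  rw [hα, hB.1 b hb] at e0 e1 e2 e3 e4
  simp only [Finset.sum_range_succ, Finset.sum_range_zero, z5, z6, z7, z8] at e0 e1 e2 e3 e4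
  norm_num [Nat.choose] at e0 e1 e2 e3 e4
  have n0 : N B b 0 = 30 := by omega
  rw [ncard_setOf_eq, ← n0, N]
  congr 1
  ext c
  simp only [Finset.mem_filter, Finset.card_eq_zero, Finset.disjoint_iff_inter_eq_empty,
    Finset.inter_comm]

end Cfsg.Agent.S0354
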