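import Mathlib
import Cfsg.Statements.S0418
import Cfsg.Agent.Lib.Helper3.PermTools

set_option autoImplicit false
open Cfsg

namespace Cfsg.Agent.S0418

open MulAction Cfsg.Agent.Lib.Helper3.Perm

/-- general form: a finite group acting faithfully, 3-transitively on 11 points, of order 7920 is simple -/
theorem simple_of_card {G Ω : Type*} [Group G] [MulAction G Ω] [FaithfulSMul G Ω] [Finite Ω]
    (hΩ : Nat.card Ω = 11) (h3 : IsMultiplyPretransitive G Ω 3) (hG : Nat.card G = 7920) :
    IsSimpleGroup G := by
  have : Finite G := Nat.finite_of_card_ne_zero (by rw [hG]; norm_num)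
  have : Fact (Nat.Prime 11) := ⟨by norm_num⟩
  apply isSimpleGroup_of_prime_degree (p := 11) (k := 5) hΩ h3 <;> (try rw [hG]) <;> norm_num

/-- A sharply 4-transitive group of degree 11 is simple of order 7920. -/
theorem result {α : Type*} [Fintype α] [DecidableEq α] (hα : Fintype.card α = 11) (G : Subgroup (Equiv.Perm α)) [MulAction.IsMultiplyPretransitive G α 4] (hsharp : ∀ x : Fin 4 ↪ α, MulAction.stabilizer G x = ⊥) : Cfsg.IsM11 G := by
  have hΩ : Nat.card α = 11 := by rw [Nat.card_eq_fintype_card, hα]
  have h4 : IsMultiplyPretransitive G α 4 := inferInstance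
  have h3 : IsMultiplyPretransitive G α 3 :=
    isMultiplyPretransitive_of_le (n := 4) (by norm_num) (by rw [hΩ]; norm_num)
  obtain ⟨x⟩ : Nonempty (Fin 4 ↪ α) := by
    apply Function.Embedding.nonempty_of_card_le
    rw [Fintype.card_fin, hα]; norm_num
  have hG : Nat.card G = 7920 := by
    rw [card_of_sharply h4 x (hsharp x), hΩ]; rfl
  exact ⟨simple_of_card hΩ h3 hG, hG⟩

end Cfsg.Agent.S0418
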