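import Mathlib
import Cfsg.Statements.S0419
import Cfsg.Agent.Lib.Helper3.PermTools
import Cfsg.Agent.S0418

set_option autoImplicit false
open Cfsg

namespace Cfsg.Agent.S0419

open MulAction Cfsg.Agent.Lib.Helper3.Perm

/-- general form: a group acting faithfully, 4-transitively on 12 points, of order 95040 is simple -/
theorem simple_of_card {G Ω : Type*} [Group G] [MulAction G Ω] [FaithfulSMul G Ω] [Finite Ω]
    (hΩ : Nat.card Ω = 12) (h4 : IsMultiplyPretransitive G Ω 4) (hG : Nat.card G = 95040) :
    IsSimpleGroup G := by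
  have h3 : IsMultiplyPretransitive G Ω 3 :=
    isMultiplyPretransitive_of_le (n := 4) (by norm_num) (by rw [hΩ]; norm_num)
  have h1 : IsMultiplyPretransitive G Ω 1 :=
    isMultiplyPretransitive_of_le (n := 4) (by norm_num) (by rw [hΩ]; norm_num)
  have ht : IsPretransitive G Ω := is_one_pretransitive_iff.1 h1
  have hne : Nonempty Ω := by
    rw [← Nat.card_pos_iff.trans (and_iff_left inferInstance), hΩ]; norm_num
  obtain ⟨a⟩ := hne
  apply isSimpleGroup_of_stabilizer_of_three h3 (by rw [hΩ]; norm_num) _ a
  · have := faithfulSMul_ofStabilizer (G := G) a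
    apply Cfsg.Agent.S0418.simple_of_card (Ω := SubMulAction.ofStabilizer G a)
    · rw [SubMulAction.nat_card_ofStabilizer_eq, hΩ]
    · exact SubMulAction.ofStabilizer.isMultiplyPretransitive.1 h4
    · have := card_stabilizer_mul (G := G) a
      rw [hΩ, hG] at this
      omega
  · intro k hk
    rw [hΩ] at hk
    have h5 : k < 4 := by
      by_contra h
      push Not at h
      have : 2 ^ 4 ≤ 2 ^ k := Nat.pow_le_pow_right (by norm_num) h
      omega
    interval_cases k <;> omega

/-- A sharply 5-transitive group of degree 12 is simple of order 95040. -/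
theorem result {α : Type*} [Fintype α] [DecidableEq α] (hα : Fintype.card α = 12) (G : Subgroup (Equiv.Perm α)) [MulAction.IsMultiplyPretransitive G α 5] (hsharp : ∀ x : Fin 5 ↪ α, MulAction.stabilizer G x = ⊥) : Cfsg.IsM12 G := by
  have hΩ : Nat.card α = 12 := by rw [Nat.card_eq_fintype_card, hα]
  have h5 : IsMultiplyPretransitive G α 5 := inferInstance
  have h4 : IsMultiplyPretransitive G α 4 :=
    isMultiplyPretransitive_of_le (n := 5) (by norm_num) (by rw [hΩ]; norm_num)
  obtain ⟨x⟩ : Nonempty (Fin 5 ↪ α) := by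
    apply Function.Embedding.nonempty_of_card_le
    rw [Fintype.card_fin, hα]; norm_num
  have hG : Nat.card G = 95040 := by
    rw [card_of_sharply h5 x (hsharp x), hΩ]; rfl
  exact ⟨simple_of_card hΩ h4 hG, hG⟩

end Cfsg.Agent.S0419
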