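import Cfsg.Statements.S0095
import Cfsg.Agent.H20.Extra2

set_option autoImplicit false
open Cfsg

namespace Cfsg.Agent.S0095

open Subgroup Cfsg.Agent.H20

/-- The order of an extraspecial p-group is an odd power p^(2n+1) of p with n ≥ 1. -/
theorem result {P : Type*} [Group P] [Finite P] {p : ℕ} [Fact p.Prime] (h : Cfsg.IsExtraspecial p P) : ∃ n : ℕ, 1 ≤ n ∧ Nat.card P = p ^ (2 * n + 1) := by
  obtain ⟨⟨hP, hfr, hcomm⟩, hcard⟩ := h
  have hp : p.Prime := Fact.out
  have hc : ∀ a b : P, a * b * a⁻¹ * b⁻¹ ∈ center P := by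
    intro a b
    rw [← hcomm]
    exact Subgroup.commutator_mem_commutator (mem_top a) (mem_top b)
  obtain ⟨k, hk⟩ := card_eq_pow_mul_card_center (center P) hcard le_rfl hc ⊤
  have h1 : (⊤ : Subgroup P) ⊓ centralizer ((⊤ : Subgroup P) : Set P) = center P := by
    rw [top_inf_eq, coe_top, centralizer_univ]
  rw [h1, hcard, Subgroup.card_top] at hk
  refine ⟨k, ?_, by rw [hk, pow_succ]⟩
  by_contra hk0
  have hk0 : k = 0 := by omega
  subst hk0
  -- then `P` equals its centre, so the commutator subgroup is trivial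
  have h2 : Nat.card P = Nat.card (center P) := by rw [hk, hcard]; simp
  have h3 : center P = ⊤ := Subgroup.eq_top_of_card_eq _ h2.symm
  have h4 : commutator P = ⊥ := by
    rw [commutator_def, commutator_eq_bot_iff_le_centralizer, coe_top, centralizer_univ, h3]
  rw [hcomm] at h4
  rw [h4] at hcard
  simp at hcard
  exact hp.one_lt.ne hcard

end Cfsg.Agent.S0095
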