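import Cfsg.Statements.S0200
import Mathlib
import Cfsg.Agent.Lib.Helper2.Dihedral2
import Cfsg.Agent.S0199

set_option autoImplicit false
open Cfsg

namespace Cfsg.Agent.S0200

/-- An involution lying in no normal 2-subgroup of a finite group inverts a nontrivial element of odd order (a consequence of the Baer–Suzuki Theorem). -/
theorem result {G : Type*} [Group G] [Finite G] (t : G) (ht : orderOf t = 2) (hO : ∀ N : Subgroup G, N.Normal → IsPGroup 2 N → t ∉ N) : ∃ h : G, h ≠ 1 ∧ Odd (orderOf h) ∧ t * h * t⁻¹ = h⁻¹ := by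
  classical
  have ht2 := Cfsg.Agent.Lib.Helper2.sq_eq_one_of_orderOf_two ht
  have hX : IsPGroup 2 (Subgroup.zpowers t) := by
    apply IsPGroup.of_card (n := 1)
    rw [Nat.card_zpowers, ht, pow_one]
  by_contra hcon
  push_neg at hcon
  haveI : Fact (Nat.Prime 2) := ⟨Nat.prime_two⟩
  obtain ⟨N, hN, hN2, hle⟩ := Cfsg.Agent.S0199.result (p := 2) (Subgroup.zpowers t) hX (by
    intro g
    set s := g * t * g⁻¹ with hs
    have hs2 : s * s = 1 := by
      rw [hs]; calc g * t * g⁻¹ * (g * t * g⁻¹) = g * (t * t) * g⁻¹ := by group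
        _ = 1 := by rw [ht2]; group
    have hex : ∃ n : ℕ, (t * s) ^ (2 ^ n) = 1 := by
      by_contra hne
      push_neg at hne
      obtain ⟨h, -, h1, h2, h3⟩ := Cfsg.Agent.Lib.Helper2.exists_odd_inverted ht2 hs2 hne
      exact hcon h h1 h2 h3
    obtain ⟨n, hn⟩ := hex
    apply (Cfsg.Agent.Lib.Helper2.isPGroup_closure_pair ht2 hs2 n hn).to_le
    rw [sup_le_iff]
    constructor
    · rw [Subgroup.zpowers_le]
      exact Subgroup.subset_closure (by simp)
    · rw [Subgroup.map_le_iff_le_comap, Subgroup.zpowers_le, Subgroup.mem_comap]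
      exact Subgroup.subset_closure (by simp [hs]))
  exact hO N hN hN2 (hle (Subgroup.mem_zpowers t))

end Cfsg.Agent.S0200
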