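import Cfsg.Statements.S0214
import Mathlib
import Cfsg.Agent.Lib.Helper2.StronglyEmb2

set_option autoImplicit false
open Cfsg

namespace Cfsg.Agent.S0214

/-- Let H be a proper subgroup of the finite group G and P a nontrivial Sylow 2-subgroup of H. Then H is strongly embedded in G if and only if N_G(X) ≤ H for every nontrivial subgroup X of P. -/
theorem result {G : Type*} [Group G] [Finite G] (H : Subgroup G) (hH : H ≠ ⊤) (P : Sylow 2 ↥H) (hP : (P : Subgroup ↥H) ≠ ⊥) : Cfsg.IsStronglyEmbedded H ↔ (∀ X : Subgroup ↥H, X ≤ (P : Subgroup ↥H) → X ≠ ⊥ → Subgroup.normalizer ((X.map H.subtype : Subgroup G) : Set G) ≤ H) := by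
  classical
  have : Fact (Nat.Prime 2) := ⟨Nat.prime_two⟩
  have heven : Even (Nat.card H) := by
    rcases P.2.card_eq_or_dvd with h | h
    · exact absurd (Subgroup.card_eq_one.mp h) hP
    · exact even_iff_two_dvd.mpr (h.trans (Subgroup.card_subgroup_dvd_card _))
  rw [Cfsg.Agent.Lib.Helper2.isStronglyEmbedded_iff H hH heven]
  constructor
  · intro h X hXP hX g hg
    have hX2 : IsPGroup 2 X := P.2.to_le hXP
    have h2 : 2 ∣ Nat.card X :=
      (hX2.card_eq_or_dvd).resolve_left (fun h => hX (Subgroup.card_eq_one.mp h))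
    obtain ⟨t, ht⟩ := exists_prime_orderOf_dvd_card' (G := X) 2 h2
    have htm : (t.1.1 : G) ∈ X.map H.subtype := ⟨t.1, t.2, rfl⟩
    have hto : orderOf (t.1.1 : G) = 2 := by
      rw [Subgroup.orderOf_coe, Subgroup.orderOf_coe, ht]
    apply h g t.1.1 t.1.2 hto
    have := (Subgroup.mem_normalizer_iff''.mp hg _).mp htm
    exact Subgroup.map_subtype_le _ this
  · intro hN g t htH ht hg
    have L1 := Cfsg.Agent.Lib.Helper2.normalizer_le_of_sylow H P hN
    set Hg : Subgroup G := H.map (MulAut.conj g).toMonoidHom with hHg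
    have htHg : t ∈ Hg := (Cfsg.Agent.Lib.Helper2.mem_map_conj_iff H g t).mpr hg
    obtain ⟨S, hSD, htS, hS2, hSmax⟩ :=
      Cfsg.Agent.Lib.Helper2.exists_max_two_subgroup (H ⊓ Hg) ⟨htH, htHg⟩ ht
    have hSne : S ≠ ⊥ := by
      intro h
      rw [h, Subgroup.mem_bot] at htS
      exact Cfsg.Agent.Lib.Helper2.ne_one_of_orderOf_two ht htS
    have hNH : Subgroup.normalizer (S : Set G) ≤ H := L1 S (hSD.trans inf_le_left) hS2 hSne
    have hNHg : Subgroup.normalizer (S : Set G) ≤ Hg := by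
      intro n hn
      have hYH : S.map (MulAut.conj g⁻¹).toMonoidHom ≤ H := by
        intro y hy
        rw [Cfsg.Agent.Lib.Helper2.mem_map_conj_iff, inv_inv] at hy
        have h1 : g * y * g⁻¹ ∈ Hg := (hSD hy).2
        rw [hHg, Cfsg.Agent.Lib.Helper2.mem_map_conj_iff] at h1
        have h2 : g⁻¹ * (g * y * g⁻¹) * g = y := by group
        rwa [h2] at h1
      have h3 := L1 _ hYH (hS2.map _) (Cfsg.Agent.Lib.Helper2.map_conj_ne_bot S _ hSne)
        (Cfsg.Agent.Lib.Helper2.conj_mem_normalizer_map_conj S g⁻¹ n hn)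
      rw [hHg, Cfsg.Agent.Lib.Helper2.mem_map_conj_iff]
      rwa [inv_inv] at h3
    obtain ⟨T, hT⟩ := hS2.exists_le_sylow
    have hST : S = T := by
      by_contra hne
      have hlt : S < T := lt_of_le_of_ne hT hne
      obtain ⟨x, hxT, hxN, hxS⟩ := Cfsg.Agent.Lib.Helper2.exists_mem_normalizer_notMem T.2 hlt
      have hY : IsPGroup 2 (S ⊔ Subgroup.zpowers x : Subgroup G) :=
        T.2.to_le (sup_le hT (Subgroup.zpowers_le.mpr hxT))
      have h5 := hSmax _ hY le_sup_left
        (sup_le hSD (Subgroup.zpowers_le.mpr ⟨hNH hxN, hNHg hxN⟩))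
      apply hxS
      rw [← h5]
      exact Subgroup.mem_sup_right (Subgroup.mem_zpowers x)
    have h1 : (T : Subgroup G) ≤ H := hST ▸ hSD.trans inf_le_left
    have h2 : ((g⁻¹ • T : Sylow 2 G) : Subgroup G) ≤ H := by
      intro y hy
      have hy' : y ∈ g⁻¹ • T := hy
      rw [Cfsg.Agent.Lib.Helper2.mem_sylow_smul_iff, inv_inv] at hy'
      have hy'' : g * y * g⁻¹ ∈ S := by rw [hST]; exact hy'
      have h3 : g * y * g⁻¹ ∈ Hg := (hSD hy'').2
      rw [hHg, Cfsg.Agent.Lib.Helper2.mem_map_conj_iff] at h3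
      have h4 : g⁻¹ * (g * y * g⁻¹) * g = y := by group
      rwa [h4] at h3
    obtain ⟨h, hh⟩ := MulAction.exists_smul_eq H ((g⁻¹ • T).subtype h2) (T.subtype h1)
    simp_rw [Sylow.smul_subtype, Subgroup.smul_def, smul_smul] at hh
    have h3 : (h : G) * g⁻¹ ∈ Subgroup.normalizer ((T : Subgroup G) : Set G) :=
      Sylow.smul_eq_iff_mem_normalizer.mp (Sylow.subtype_injective hh)
    have h4 : (h : G) * g⁻¹ ∈ H := by
      apply hNH
      rw [hST]; exact h3
    have h5 := H.mul_mem (H.inv_mem h4) h.2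
    have h6 : ((h : G) * g⁻¹)⁻¹ * h = g := by group
    rwa [h6] at h5

end Cfsg.Agent.S0214
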