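import Cfsg.Statements.S0223
import Mathlib
import Cfsg.Agent.Lib.Helper2.StronglyEmb

set_option autoImplicit false
open Cfsg

namespace Cfsg.Agent.S0223

/-- Let H be a proper subgroup of even order of the finite group G. Then H is strongly embedded if and only if (i) C_G(t) ≤ H for every involution t of H and (ii) H controls fusion of its involutions: involutions of H conjugate in G are conjugate in H. -/
theorem result {G : Type*} [Group G] [Finite G] (H : Subgroup G) (hH : H ≠ ⊤) (heven : Even (Nat.card H)) : Cfsg.IsStronglyEmbedded H ↔ ((∀ t ∈ H, orderOf t = 2 → Subgroup.centralizer ({t} : Set G) ≤ H) ∧ (∀ t ∈ H, ∀ s ∈ H, orderOf t = 2 → orderOf s = 2 → IsConj t s → ∃ h ∈ H, h * t * h⁻¹ = s)) := by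
  rw [Cfsg.Agent.Lib.Helper2.isStronglyEmbedded_iff H hH heven]
  constructor
  · intro h
    constructor
    · intro t htH ht c hc
      have hc' : c * t = t * c := Subgroup.mem_centralizer_singleton_iff.mp hc
      apply h c t htH ht
      have : c⁻¹ * t * c = t := by rw [mul_assoc, ← hc', inv_mul_cancel_left]
      rwa [this]
    · intro t htH s hsH ht hs hconj
      obtain ⟨g, hg⟩ := isConj_iff.mp hconj
      refine ⟨g, h g s hsH hs ?_, hg⟩
      have : g⁻¹ * s * g = t := by rw [← hg]; group
      rwa [this]
  · rintro ⟨h1, h2⟩ g t htH ht hg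
    have hs : orderOf (g⁻¹ * t * g) = 2 := by
      have := orderOf_injective (MulAut.conj g⁻¹).toMonoidHom (MulAut.conj g⁻¹).injective t
      rw [← ht, ← this]
      simp [MulAut.conj_apply]
    obtain ⟨h, hhH, hh⟩ := h2 t htH _ hg ht hs (isConj_iff.mpr ⟨g⁻¹, by rw [inv_inv]⟩)
    have hc : g * h ∈ Subgroup.centralizer ({t} : Set G) := by
      rw [Subgroup.mem_centralizer_singleton_iff]
      have : h * t = g⁻¹ * t * g * h := by rw [← hh]; group
      calc g * h * t = g * (h * t) := by group
        _ = g * (g⁻¹ * t * g * h) := by rw [this]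
        _ = t * (g * h) := by group
    have := H.mul_mem (h1 t htH ht hc) (H.inv_mem hhH)
    rwa [mul_inv_cancel_right] at this

end Cfsg.Agent.S0223
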