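import Cfsg.Statements.S0224
import Mathlib
import Cfsg.Agent.Lib.Helper2.StronglyEmb

set_option autoImplicit false
open Cfsg

namespace Cfsg.Agent.S0224

/-- Let H be a proper subgroup of even order of the finite group G. Then H is strongly embedded if and only if each involution of H fixes exactly one point (namely the coset H) in the action of G on the cosets of H. -/
theorem result {G : Type*} [Group G] [Finite G] (H : Subgroup G) (hH : H ≠ ⊤) (heven : Even (Nat.card H)) : Cfsg.IsStronglyEmbedded H ↔ ∀ t ∈ H, orderOf t = 2 → Nat.card {c : G ⧸ H // t • c = c} = 1 := by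
  rw [Cfsg.Agent.Lib.Helper2.isStronglyEmbedded_iff H hH heven]
  have hfix : ∀ t g : G, t • (g : G ⧸ H) = (g : G ⧸ H) ↔ g⁻¹ * t * g ∈ H := by
    intro t g
    rw [MulAction.Quotient.smul_coe, eq_comm, QuotientGroup.eq, smul_eq_mul, mul_assoc]
  constructor
  · intro h t htH ht
    rw [Nat.card_eq_one_iff_unique]
    constructor
    · constructor
      rintro ⟨a, ha⟩ ⟨b, hb⟩
      induction a using QuotientGroup.induction_on with
      | H a =>
        induction b using QuotientGroup.induction_on with
        | H b =>
          have ha' := h a t htH ht ((hfix t a).mp ha)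
          have hb' := h b t htH ht ((hfix t b).mp hb)
          apply Subtype.ext
          exact QuotientGroup.eq.mpr (H.mul_mem (H.inv_mem ha') hb')
    · exact ⟨⟨((1 : G) : G ⧸ H), (hfix t 1).mpr (by simpa using htH)⟩⟩
  · intro h g t htH ht hg
    have h1 := (Nat.card_eq_one_iff_unique.mp (h t htH ht)).1
    have h2 := h1.elim ⟨((1 : G) : G ⧸ H), (hfix t 1).mpr (by simpa using htH)⟩
      ⟨(g : G ⧸ H), (hfix t g).mpr hg⟩
    have h3 : ((1 : G) : G ⧸ H) = (g : G ⧸ H) := congrArg Subtype.val h2
    have := QuotientGroup.eq.mp h3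
    simpa using this

end Cfsg.Agent.S0224
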