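import Cfsg.Statements.S0520
import Cfsg.Agent.Lib.Helper13.NPC2
import Cfsg.Agent.Lib.Helper13.TwoConj

set_option autoImplicit false
open Cfsg

namespace Cfsg.Agent.S0520

section aux

variable {G : Type*} [Group G]

/-- conjugate subgroup -/
abbrev cj (g : G) (H : Subgroup G) : Subgroup G := H.map (MulAut.conj g).toMonoidHom

theorem mem_cj {g x : G} {H : Subgroup G} : x ∈ cj g H ↔ g⁻¹ * x * g ∈ H := by
  rw [cj, Subgroup.mem_map_equiv, MulAut.conj_symm_apply]

theorem cj_one (H : Subgroup G) : cj 1 H = H := by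
  ext x; simp [mem_cj]

theorem cj_mul (g h : G) (H : Subgroup G) : cj (g * h) H = cj g (cj h H) := by
  ext x; simp [mem_cj, mul_assoc]

theorem cj_mono {g : G} {H K : Subgroup G} (h : H ≤ K) : cj g H ≤ cj g K := Subgroup.map_mono h

theorem card_cj (g : G) (H : Subgroup G) : Nat.card (cj g H) = Nat.card H :=
  Subgroup.card_map_of_injective (MulAut.conj g).injective

theorem cj_inv_cj (g : G) (H : Subgroup G) : cj g⁻¹ (cj g H) = H := by
  rw [← cj_mul]; simp [cj_one]

theorem cj_cj_inv (g : G) (H : Subgroup G) : cj g (cj g⁻¹ H) = H := by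
  rw [← cj_mul]; simp [cj_one]

theorem le_cj_iff {g : G} {H K : Subgroup G} : H ≤ cj g K ↔ cj g⁻¹ H ≤ K := by
  constructor
  · intro h
    have := cj_mono (g := g⁻¹) h
    rwa [cj_inv_cj] at this
  · intro h
    have := cj_mono (g := g) h
    rwa [cj_cj_inv] at this

theorem conj_mem_normalizer_cj {x g : G} {A : Subgroup G}
    (hx : x ∈ Subgroup.normalizer (A : Set G)) :
    g * x * g⁻¹ ∈ Subgroup.normalizer (cj g A : Set G) := by
  rw [Subgroup.mem_normalizer_iff] at hx ⊢
  intro h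
  rw [mem_cj, mem_cj, hx (g⁻¹ * h * g)]
  have : g⁻¹ * (g * x * g⁻¹ * h * (g * x * g⁻¹)⁻¹) * g = x * (g⁻¹ * h * g) * x⁻¹ := by group
  rw [this]

theorem card_lt_of_lt [Finite G] {A B : Subgroup G} (h : A < B) : Nat.card A < Nat.card B := by
  by_contra hc
  push Not at hc
  exact h.ne (Subgroup.eq_of_le_of_card_ge h.le hc)

/-- four-group, elementwise -/
def Four (V : Subgroup G) : Prop := Nat.card V = 4 ∧ ∀ x ∈ V, x ^ 2 = 1

theorem four_iff (V : Subgroup G) : IsKleinFour V ↔ Four V := by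
  constructor
  · intro h
    refine ⟨h.card_four, fun x hx => ?_⟩
    have h1 := Monoid.pow_exponent_eq_one (⟨x, hx⟩ : V)
    rw [h.exponent_two] at h1
    exact congrArg Subtype.val h1
  · rintro ⟨h4, h2⟩
    refine ⟨h4, ?_⟩
    have hd : Monoid.exponent V ∣ 2 :=
      Monoid.exponent_dvd_of_forall_pow_eq_one (fun x => Subtype.ext (by simpa using h2 x x.2))
    rcases (Nat.dvd_prime Nat.prime_two).1 hd with h | h
    · exfalso
      have hs : Subsingleton V := Monoid.exp_eq_one_iff.1 h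
      have : Nat.card V = 1 := Nat.card_eq_one_iff_unique.2 ⟨hs, ⟨1⟩⟩
      omega
    · exact h

theorem Four.cj {V : Subgroup G} (h : Four V) (g : G) : Four (cj g V) := by
  refine ⟨by rw [card_cj]; exact h.1, fun x hx => ?_⟩
  obtain ⟨v, hv, rfl⟩ := Subgroup.mem_map.1 hx
  rw [← map_pow, h.2 v hv, map_one]

theorem Four.isPGroup {V : Subgroup G} (h : Four V) : IsPGroup 2 V :=
  IsPGroup.of_card (n := 2) (by rw [h.1]; norm_num)

theorem Four.comm {V : Subgroup G} (h : Four V) {x y : G} (hx : x ∈ V) (hy : y ∈ V) :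
    x * y = y * x := by
  have hi : ∀ z ∈ V, z⁻¹ = z := fun z hz =>
    inv_eq_of_mul_eq_one_right (by rw [← sq]; exact h.2 z hz)
  calc x * y = (x * y)⁻¹ := (hi _ (V.mul_mem hx hy)).symm
    _ = y⁻¹ * x⁻¹ := mul_inv_rev x y
    _ = y * x := by rw [hi x hx, hi y hy]

theorem Four.map_subtype {Q : Subgroup G} {V : Subgroup Q} (h : Four V) :
    Four (V.map Q.subtype) := by
  refine ⟨by rw [Subgroup.card_map_of_injective Q.subtype_injective]; exact h.1, fun x hx => ?_⟩
  obtain ⟨v, hv, rfl⟩ := Subgroup.mem_map.1 hx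
  rw [← map_pow, h.2 v hv, map_one]

theorem Four.subgroupOf {Q V : Subgroup G} (h : Four V) (hVQ : V ≤ Q) :
    Four (V.subgroupOf Q) := by
  refine ⟨by rw [Nat.card_congr (Subgroup.subgroupOfEquivOfLe hVQ).toEquiv]; exact h.1,
    fun x hx => ?_⟩
  exact Subtype.ext (by simpa using h.2 x (Subgroup.mem_subgroupOf.1 hx))

theorem not_prank_of_four {V Q : Subgroup G} (hV : Four V) (hVQ : V ≤ Q) :
    ¬ Cfsg.PRankLE 2 1 Q := by
  intro h
  have h4 := hV.subgroupOf hVQ
  have := h (V.subgroupOf Q)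
    ⟨⟨fun a b => Subtype.ext (h4.comm a.2 b.2)⟩⟩ (fun a ha => h4.2 a ha)
  rw [h4.1] at this
  omega

theorem exists_four_of_not_prank {H : Type*} [Group H] [Finite H] (h : ¬ Cfsg.PRankLE 2 1 H) :
    ∃ V : Subgroup H, Four V := by
  unfold Cfsg.PRankLE at h
  push Not at h
  obtain ⟨A, _, h2, hcard⟩ := h
  have hp : IsPGroup 2 A := fun a => ⟨1, Subtype.ext (by simpa using h2 a a.2)⟩
  obtain ⟨n, hn⟩ := IsPGroup.iff_card.1 hp
  have hn2 : 2 ≤ n := by
    by_contra hc
    have hn1 : n ≤ 1 := by omega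
    have := Nat.pow_le_pow_right (n := 2) (by norm_num) hn1
    omega
  obtain ⟨B, hB⟩ := Sylow.exists_subgroup_card_pow_prime (G := A) 2 (n := 2)
    (by rw [hn]; exact pow_dvd_pow 2 hn2)
  refine ⟨B.map A.subtype, by
    rw [Subgroup.card_map_of_injective A.subtype_injective, hB]; norm_num, ?_⟩
  intro x hx
  obtain ⟨b, _, rfl⟩ := Subgroup.mem_map.1 hx
  exact h2 b b.2

/-- connectedness relation -/
abbrev Conn (U V : Subgroup G) : Prop :=
  Relation.ReflTransGen
    (fun A B : Subgroup G => IsKleinFour A ∧ IsKleinFour B ∧ ∀ a ∈ A, ∀ b ∈ B, a * b = b * a) U V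

theorem conn_symm {U V : Subgroup G} (h : Conn U V) : Conn V U := by
  induction h with
  | refl => exact .refl
  | tail _ hbc ih =>
    exact Relation.ReflTransGen.head
      ⟨hbc.2.1, hbc.1, fun b hb a ha => (hbc.2.2 a ha b hb).symm⟩ ih

theorem conn_cj (g : G) {U V : Subgroup G} (h : Conn U V) : Conn (cj g U) (cj g V) := by
  refine Relation.ReflTransGen.lift (cj g) ?_ _ _ h
  rintro A B ⟨hA, hB, hc⟩
  refine ⟨(four_iff _).2 (((four_iff _).1 hA).cj g), (four_iff _).2 (((four_iff _).1 hB).cj g), ?_⟩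
  intro a ha b hb
  obtain ⟨a', ha', rfl⟩ := Subgroup.mem_map.1 ha
  obtain ⟨b', hb', rfl⟩ := Subgroup.mem_map.1 hb
  rw [← map_mul, ← map_mul, hc a' ha' b' hb']

theorem conn_of_sub {S : Subgroup G} (hS : Cfsg.IsFourConnected S) {U V : Subgroup G}
    (hU : Four U) (hV : Four V) (hUS : U ≤ S) (hVS : V ≤ S) : Conn U V := by
  have h := hS (U.subgroupOf S) (V.subgroupOf S) ((four_iff _).2 (hU.subgroupOf hUS))
    ((four_iff _).2 (hV.subgroupOf hVS))
  have h2 : Conn ((U.subgroupOf S).map S.subtype) ((V.subgroupOf S).map S.subtype) :=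
    Relation.ReflTransGen.lift
    (r := fun A B : Subgroup S => IsKleinFour A ∧ IsKleinFour B ∧ ∀ a ∈ A, ∀ b ∈ B, a * b = b * a)
    (p := fun A B : Subgroup G => IsKleinFour A ∧ IsKleinFour B ∧ ∀ a ∈ A, ∀ b ∈ B, a * b = b * a)
    (fun A : Subgroup S => A.map S.subtype) (by
      rintro A B ⟨hA, hB, hc⟩
      refine ⟨(four_iff _).2 ((four_iff _).1 hA).map_subtype,
        (four_iff _).2 ((four_iff _).1 hB).map_subtype, ?_⟩
      intro a ha b hb
      obtain ⟨a', ha', rfl⟩ := Subgroup.mem_map.1 ha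
      obtain ⟨b', hb', rfl⟩ := Subgroup.mem_map.1 hb
      rw [← map_mul, ← map_mul, hc a' ha' b' hb']) _ _ h
  rwa [Subgroup.map_subgroupOf_eq_of_le hUS, Subgroup.map_subgroupOf_eq_of_le hVS] at h2

open Cfsg.Agent.Lib.Helper13 in
open Cfsg.Agent.Lib.Helper13.TwoConj in
theorem key [Finite G] (S : Sylow 2 G) (K : Subgroup G)
    (hK : ∀ D : Subgroup G, D ≤ S → (∃ V, Four V ∧ V ≤ D) →
      Subgroup.normalizer (D : Set G) ≤ K) :
    ∀ (m : ℕ) (g : G),
      Nat.card (S : Subgroup G) - Nat.card ((S : Subgroup G) ⊓ cj g S : Subgroup G) = m →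
      (∃ V, Four V ∧ V ≤ (S : Subgroup G) ∧ V ≤ cj g S) → g ∈ K := by
  intro m
  induction m using Nat.strong_induction_on with
  | _ m ih =>
  rintro g hm ⟨V, hV, hVS, hVg⟩
  obtain ⟨D, hD⟩ : ∃ D, D = (S : Subgroup G) ⊓ cj g S := ⟨_, rfl⟩
  rw [← hD] at hm
  have hVD : V ≤ D := hD ▸ le_inf hVS hVg
  have hDS : D ≤ S := hD ▸ inf_le_left
  have hDg : D ≤ cj g S := hD ▸ inf_le_right
  have hND : Subgroup.normalizer (D : Set G) ≤ K := hK D hDS ⟨V, hV, hVD⟩
  by_cases heq : D = S
  · have h1 : (S : Subgroup G) ≤ cj g S := heq ▸ hDg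
    have h2 : (S : Subgroup G) = cj g S := Subgroup.eq_of_le_of_card_ge h1 (by rw [card_cj])
    have h3 : g ∈ Subgroup.normalizer ((S : Subgroup G) : Set G) := by
      rw [Subgroup.mem_normalizer_iff]
      intro h
      have h4 : g * h * g⁻¹ ∈ (S : Subgroup G) ↔ g * h * g⁻¹ ∈ cj g S := by rw [← h2]
      rw [h4, mem_cj]
      have : g⁻¹ * (g * h * g⁻¹) * g = h := by group
      rw [this]
    exact hK S le_rfl ⟨V, hV, hVS⟩ h3
  · have hlt : D < S := lt_of_le_of_ne hDS heq
    have hlt' : D < cj g S := by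
      refine lt_of_le_of_ne hDg ?_
      intro h
      exact heq (Subgroup.eq_of_le_of_card_ge hDS (by rw [h, card_cj]))
    have hgp : IsPGroup 2 (cj g S) := S.2.map _
    have hX := lt_inf_normalizer S.2 hlt
    have hY := lt_inf_normalizer hgp hlt'
    have hcX := card_lt_of_lt hX
    have hcY := card_lt_of_lt hY
    have hcS := card_lt_of_lt hlt
    obtain ⟨R, hXR, hR⟩ := (Set.toFinite {R : Subgroup G |
        R ≤ Subgroup.normalizer (D : Set G) ∧ IsPGroup 2 R}).exists_le_maximal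
      (a := (S : Subgroup G) ⊓ Subgroup.normalizer (D : Set G))
      ⟨inf_le_right, S.2.to_le inf_le_left⟩
    obtain ⟨n, hn, hYn⟩ := sylconj (p := 2) (Subgroup.normalizer (D : Set G)) R
      (cj g S ⊓ Subgroup.normalizer (D : Set G)) hR.prop.1 inf_le_right hR.prop.2
      (hgp.to_le inf_le_left) (fun P hPN hP hRP => hR.le_of_ge ⟨hPN, hP⟩ hRP)
    have hnK : n ∈ K := hND (Subgroup.map_subtype_le _ hn)
    obtain ⟨k1, -, hRk1⟩ := sylconj (p := 2) ⊤ S R le_top le_top S.2 hR.prop.2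
      (fun P _ hP hSP => (S.3 hP hSP).le)
    have hk1 : k1 ∈ K := by
      have hle : (S : Subgroup G) ⊓ Subgroup.normalizer (D : Set G) ≤ (S : Subgroup G) ⊓ cj k1 S :=
        le_inf inf_le_left (hXR.trans hRk1)
      have hc := Subgroup.card_le_of_le hle
      exact ih _ (by omega) k1 rfl ⟨V, hV, hVS, ((hVD.trans hX.le).trans hle).trans inf_le_right⟩
    have hYk : cj g S ⊓ Subgroup.normalizer (D : Set G) ≤ cj (n * k1) S := by
      rw [cj_mul]
      exact hYn.trans (cj_mono hRk1)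
    have hkK : n * k1 ∈ K := K.mul_mem hnK hk1
    have hfin : (n * k1)⁻¹ * g ∈ K := by
      have hle : cj (n * k1)⁻¹ (cj g S ⊓ Subgroup.normalizer (D : Set G)) ≤
          (S : Subgroup G) ⊓ cj ((n * k1)⁻¹ * g) S := by
        refine le_inf (le_cj_iff.1 hYk) ?_
        rw [cj_mul]
        exact cj_mono inf_le_left
      have hc := Subgroup.card_le_of_le hle
      rw [card_cj] at hc
      refine ih _ (by omega) _ rfl ⟨cj (n * k1)⁻¹ V, hV.cj _, ?_, ?_⟩
      · exact ((cj_mono (hVD.trans hY.le)).trans hle).trans inf_le_left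
      · exact ((cj_mono (hVD.trans hY.le)).trans hle).trans inf_le_right
    have := K.mul_mem hkK hfin
    rwa [mul_inv_cancel_left] at this

end aux


/-- Let G be a finite group of 2-rank at least 2 and S a Sylow 2-subgroup whose commuting graph of Klein four-subgroups is
connected. Then the commuting graph of Klein four-subgroups of G is disconnected if and only if the 2-generated core — the
subgroup generated by the normalizers N_G(Q) of the subgroups Q of S that contain a Klein four-group — is a proper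
subgroup of G. -/
theorem result {G : Type*} [Group G] [Finite G] (h2 : ¬ Cfsg.PRankLE 2 1 G)
    (S : Sylow 2 G) (hS : Cfsg.IsFourConnected (S : Subgroup G)) :
    ¬ Cfsg.IsFourConnected G ↔
      (⨆ Q : {Q : Subgroup G // Q ≤ (S : Subgroup G) ∧ ¬ Cfsg.PRankLE 2 1 Q},
          Subgroup.normalizer ((Q : Subgroup G) : Set G)) ≠ ⊤ := by
  classical
  obtain ⟨K, hKdef⟩ : ∃ K, K = (⨆ Q : {Q : Subgroup G // Q ≤ (S : Subgroup G) ∧ ¬ Cfsg.PRankLE 2 1 Q},
          Subgroup.normalizer ((Q : Subgroup G) : Set G)) := ⟨_, rfl⟩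
  rw [← hKdef]
  have hK : ∀ D : Subgroup G, D ≤ S → (∃ V, Four V ∧ V ≤ D) →
      Subgroup.normalizer (D : Set G) ≤ K := by
    rintro D hDS ⟨V, hV, hVD⟩
    rw [hKdef]
    exact le_iSup (fun Q : {Q : Subgroup G // Q ≤ (S : Subgroup G) ∧ ¬ Cfsg.PRankLE 2 1 Q} =>
      Subgroup.normalizer ((Q : Subgroup G) : Set G)) ⟨D, hDS, not_prank_of_four hV hVD⟩
  have hconjS : ∀ U : Subgroup G, Four U → ∃ l : G, U ≤ cj l S := by
    intro U hU
    obtain ⟨l, -, hl⟩ := Cfsg.Agent.Lib.Helper13.TwoConj.sylconj (p := 2) ⊤ S U le_top le_top S.2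
      hU.isPGroup (fun P _ hP hSP => (S.3 hP hSP).le)
    exact ⟨l, hl⟩
  obtain ⟨V1, hV1⟩ := exists_four_of_not_prank h2
  obtain ⟨l1, hl1⟩ := hconjS V1 hV1
  obtain ⟨V0, hV0, hV0S⟩ : ∃ V0 : Subgroup G, Four V0 ∧ V0 ≤ S :=
    ⟨cj l1⁻¹ V1, hV1.cj _, le_cj_iff.1 hl1⟩
  refine not_congr ⟨fun hconn => ?_, fun htop => ?_⟩
  · -- connected implies K = ⊤
    have hSK : (S : Subgroup G) ≤ K := Subgroup.le_normalizer.trans (hK S le_rfl ⟨V0, hV0, hV0S⟩)
    have hP : ∀ V, Conn V0 V → ∃ k ∈ K, V ≤ cj k S := by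
      intro V hV
      induction hV with
      | refl => exact ⟨1, K.one_mem, by rw [cj_one]; exact hV0S⟩
      | @tail b c _ hbc ih =>
        obtain ⟨k, hk, hbk⟩ := ih
        obtain ⟨hb4, hc4, hcomm⟩ := hbc
        have hb4' := (four_iff _).1 hb4
        have hc4' := (four_iff _).1 hc4
        have h1 : Subgroup.normalizer (cj k⁻¹ b : Set G) ≤ K :=
          hK _ (le_cj_iff.1 hbk) ⟨_, hb4'.cj _, le_rfl⟩
        have hcN : c ≤ Subgroup.normalizer (b : Set G) := by
          apply Cfsg.Agent.Lib.Helper13.TwoConj.le_normalizer_of_forall'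
          intro l hl w hw
          rw [← hcomm w hw l hl, mul_inv_cancel_right]
          exact hw
        have hcK : c ≤ K := by
          intro x hx
          have h2 := h1 (conj_mem_normalizer_cj (g := k⁻¹) (hcN hx))
          have h3 := K.mul_mem (K.mul_mem hk h2) (K.inv_mem hk)
          have h4 : k * (k⁻¹ * x * k⁻¹⁻¹) * k⁻¹ = x := by group
          rwa [h4] at h3
        obtain ⟨l, hl, hcl⟩ := Cfsg.Agent.Lib.Helper13.TwoConj.sylconj (p := 2) K S c hSK hcK S.2
          hc4'.isPGroup (fun P _ hP hSP => (S.3 hP hSP).le)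
        exact ⟨l, Subgroup.map_subtype_le _ hl, hcl⟩
    rw [eq_top_iff]
    intro g _
    obtain ⟨k, hk, hgk⟩ := hP (cj g V0) (hconn _ _ ((four_iff _).2 hV0) ((four_iff _).2 (hV0.cj g)))
    have h1 : V0 ≤ cj (g⁻¹ * k) S := by
      rw [cj_mul]
      have := cj_mono (g := g⁻¹) hgk
      rwa [cj_inv_cj] at this
    have h2 : g⁻¹ * k ∈ K := key S K hK _ _ rfl ⟨V0, hV0, hV0S, h1⟩
    have h3 := K.mul_mem hk (K.inv_mem h2)
    have h4 : k * (g⁻¹ * k)⁻¹ = g := by group
    rwa [h4] at h3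
  · -- K = ⊤ implies connected
    let H : Subgroup G :=
      { carrier := {g | Conn V0 (cj g V0)}
        one_mem' := by
          show Conn V0 (cj 1 V0)
          rw [cj_one]
        mul_mem' := fun {a b} ha hb => by
          show Conn V0 (cj (a * b) V0)
          rw [cj_mul]
          exact Relation.ReflTransGen.trans ha (conn_cj a hb)
        inv_mem' := fun {a} ha => by
          show Conn V0 (cj a⁻¹ V0)
          have h := conn_cj a⁻¹ ha
          rw [cj_inv_cj] at h
          exact conn_symm h }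
    have hKH : K ≤ H := by
      rw [hKdef]
      refine iSup_le ?_
      rintro ⟨Q, hQS, hQr⟩ g hg
      obtain ⟨W', hW'⟩ := exists_four_of_not_prank hQr
      have hW : Four (W'.map Q.subtype) := hW'.map_subtype
      have hWQ : W'.map Q.subtype ≤ Q := Subgroup.map_subtype_le _
      have hgW : cj g (W'.map Q.subtype) ≤ Q := by
        intro x hx
        have h1 := hWQ (mem_cj.1 hx)
        have h2 := (Subgroup.mem_normalizer_iff.1 hg _).1 h1
        have h3 : g * (g⁻¹ * x * g) * g⁻¹ = x := by group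
        rwa [h3] at h2
      have c1 : Conn V0 (cj g (W'.map Q.subtype)) :=
        conn_of_sub hS hV0 (hW.cj g) hV0S (hgW.trans hQS)
      have c2 : Conn (cj g V0) (cj g (W'.map Q.subtype)) :=
        conn_cj g (conn_of_sub hS hV0 hW hV0S (hWQ.trans hQS))
      exact Relation.ReflTransGen.trans c1 (conn_symm c2)
    have hall : ∀ U : Subgroup G, Four U → Conn V0 U := by
      intro U hU
      obtain ⟨l, hl⟩ := hconjS U hU
      have c1 : Conn V0 (cj l⁻¹ U) := conn_of_sub hS hV0 (hU.cj _) hV0S (le_cj_iff.1 hl)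
      have c2 := conn_cj l c1
      rw [cj_cj_inv] at c2
      have c3 : Conn V0 (cj l V0) := hKH (htop ▸ Subgroup.mem_top l)
      exact Relation.ReflTransGen.trans c3 c2
    intro U V hU hV
    exact Relation.ReflTransGen.trans (conn_symm (hall U ((four_iff _).1 hU)))
      (hall V ((four_iff _).1 hV))

end Cfsg.Agent.S0520
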