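import Cfsg.Statements.S0647
-- import your own Cfsg.Agent.* helpers here

set_option autoImplicit false
open Cfsg

namespace Cfsg.Agent.S0647

/-- For a nonempty family of maximal abelian subgroups of a finite group, the intersection of the family is the centre of the subgroup it generates, which is also the full centralizer of that subgroup. -/
theorem result {S : Type*} [Group S] [Finite S] (𝒜 : Set (Subgroup S)) (hne : 𝒜.Nonempty) (hab : ∀ A ∈ 𝒜, IsMulCommutative A) (hmax : ∀ A ∈ 𝒜, ∀ B : Subgroup S, IsMulCommutative B → A ≤ B → B = A) : sInf 𝒜 = sSup 𝒜 ⊓ Subgroup.centralizer ((sSup 𝒜 : Subgroup S) : Set S) ∧ sInf 𝒜 = Subgroup.centralizer ((sSup 𝒜 : Subgroup S) : Set S) := by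
  have h1 : sInf 𝒜 ≤ Subgroup.centralizer ((sSup 𝒜 : Subgroup S) : Set S) := by
    rw [Subgroup.le_centralizer_iff]
    apply sSup_le
    intro A hA
    intro a ha
    rw [Subgroup.mem_centralizer_iff]
    intro x hx
    have hxA : x ∈ A := (Subgroup.mem_sInf.mp hx) A hA
    haveI := hab A hA
    exact setLike_mul_comm hxA ha
  have h2 : Subgroup.centralizer ((sSup 𝒜 : Subgroup S) : Set S) ≤ sInf 𝒜 := by
    intro x hx
    rw [Subgroup.mem_sInf]
    intro A hA
    have hxc : ∀ a ∈ A, a * x = x * a := by
      intro a ha
      exact (Subgroup.mem_centralizer_iff.mp hx) a ((le_sSup hA : A ≤ sSup 𝒜) ha)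
    haveI := hab A hA
    have hcomm : IsMulCommutative (Subgroup.closure (insert x (A : Set S))) := by
      apply Subgroup.isMulCommutative_closure
      intro u hu v hv
      rcases hu with rfl | hu <;> rcases hv with rfl | hv
      · rfl
      · exact (hxc v hv).symm
      · exact hxc u hu
      · exact setLike_mul_comm hu hv
    have hle : A ≤ Subgroup.closure (insert x (A : Set S)) := by
      intro a ha
      exact Subgroup.subset_closure (Set.mem_insert_of_mem _ ha)
    have := hmax A hA _ hcomm hle
    rw [← this]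
    exact Subgroup.subset_closure (Set.mem_insert _ _)
  have h3 : sInf 𝒜 ≤ sSup 𝒜 := by
    obtain ⟨A, hA⟩ := hne
    exact (sInf_le hA).trans (le_sSup hA)
  refine ⟨le_antisymm (le_inf h3 h1) (inf_le_right.trans h2), le_antisymm h1 h2⟩

end Cfsg.Agent.S0647
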