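import Cfsg.Statements.S0655
import Cfsg.Agent.Lib.Helper13.Omega

set_option autoImplicit false
open Cfsg

namespace Cfsg.Agent.S0655

open Cfsg.Agent.Lib.Helper13

/-- In a p-group the intersection of all elementary abelian subgroups of largest order is the subgroup generated by the elements of order dividing p in the centre (equivalently the centralizer) of the elementary-version Thompson subgroup. -/
theorem result {S : Type*} [Group S] [Finite S] {p : ℕ} [Fact p.Prime] (hS : IsPGroup p S) : sInf (Cfsg.maxElementaryAbelianSubgroups p S) = Cfsg.omegaCenterThompson p S ∧ Cfsg.omegaCenterThompson p S = Cfsg.omegaOne p (Subgroup.centralizer (Cfsg.thompsonSubgroup p S : Set S)) := by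
  have key : ∀ x : S, x ∈ Subgroup.centralizer (Cfsg.thompsonSubgroup p S : Set S) → x ^ p = 1 →
      ∀ A ∈ Cfsg.maxElementaryAbelianSubgroups p S, x ∈ A := by
    intro x hx hxp A hA
    have h1 : Subgroup.zpowers x ≤ A := by
      apply maxEA_contains hA (isEA_zpowers hxp)
      rw [Subgroup.zpowers_le]
      exact Subgroup.centralizer_le (le_thompson hA) hx
    exact h1 (Subgroup.mem_zpowers x)
  obtain ⟨A₀, hA₀⟩ := exists_maxEA (G := S) (p := p)
  constructor
  · apply le_antisymm
    · intro x hx
      rw [Subgroup.mem_sInf] at hx
      apply mem_omegaOne _ (hA₀.1.2 x (hx A₀ hA₀))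
      refine ⟨le_thompson hA₀ (hx A₀ hA₀), ?_⟩
      have h1 : Cfsg.thompsonSubgroup p S ≤ Subgroup.centralizer ((Subgroup.zpowers x : Subgroup S) : Set S) := by
        apply sSup_le
        intro A hA
        rw [Subgroup.le_centralizer_iff, Subgroup.zpowers_le]
        exact IsEA.le_centralizer hA.1 (hx A hA)
      rw [Subgroup.le_centralizer_iff] at h1
      exact h1 (Subgroup.mem_zpowers x)
    · apply le_sInf
      intro A hA
      unfold omegaCenterThompson omegaOne
      rw [Subgroup.closure_le]
      intro x hx
      exact key x hx.1.2 hx.2 A hA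
  · apply le_antisymm
    · exact omegaOne_mono inf_le_right
    · unfold omegaCenterThompson
      conv_lhs => unfold omegaOne
      rw [Subgroup.closure_le]
      intro x hx
      exact mem_omegaOne ⟨le_thompson hA₀ (key x hx.1 hx.2 A₀ hA₀), hx.1⟩ hx.2

end Cfsg.Agent.S0655
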