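import Cfsg.Statements.S0676
import Mathlib
-- import your own Cfsg.Agent.* helpers here
import Cfsg.Agent.H5.PrimeDeg2
import Cfsg.Agent.S0675
import Cfsg.Agent.S0672

set_option autoImplicit false
open Cfsg

namespace Cfsg.Agent.S0676

open scoped Pointwise


/-- A non-solvable transitive permutation group of prime degree `p` whose Sylow `p`-normaliser has even order is triply transitive. -/
theorem result {α : Type*} [Fintype α] [DecidableEq α] {p : ℕ} [Fact p.Prime] (hα : Fintype.card α = p) (G : Subgroup (Equiv.Perm α)) [MulAction.IsPretransitive G α] (hG : ¬ Group.IsSolvable G) (P : Sylow p G) (heven : Even (Nat.card (Subgroup.normalizer ((P : Subgroup G) : Set G)))) : MulAction.IsMultiplyPretransitive G α 3 := by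
  classical
  have hp : p.Prime := Fact.out
  have hp2 : p ≠ 2 := by
    intro h2
    apply hG
    apply Cfsg.Agent.H5PrimeDeg.solvable_of_small (K := ZMod p) hα G ⊤ (fun _ _ _ => trivial)
    · rw [finrank_top, Module.finrank_fintype_fun_eq_card, hα, h2]
    · right; rw [finrank_top, Module.finrank_fintype_fun_eq_card, hα, h2]
  have hodd : Odd p := hp.odd_of_ne_two hp2
  have hp3 : 3 ≤ p := by
    have := hp.two_le
    omega
  have h2t : MulAction.IsMultiplyPretransitive G α 2 :=
    (Cfsg.Agent.S0675.result (hα ▸ hp) G).resolve_left hG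
  -- an involution in the normaliser
  obtain ⟨t, ht⟩ := exists_prime_orderOf_dvd_card'
    (G := Subgroup.normalizer ((P : Subgroup G) : Set G)) 2 (even_iff_two_dvd.mp heven)
  obtain ⟨τ, hτ⟩ : ∃ τ : G, τ = (t : G) := ⟨_, rfl⟩
  have hτo : orderOf τ = 2 := by rw [hτ, Subgroup.orderOf_coe, ht]
  have hττ : τ * τ = 1 := by
    have := pow_orderOf_eq_one τ
    rwa [hτo, pow_two] at this
  have hτ1 : τ ≠ 1 := by
    intro h1
    rw [h1, orderOf_one] at hτo
    norm_num at hτo
  have hτinv : τ⁻¹ = τ := inv_eq_of_mul_eq_one_left hττ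
  obtain ⟨a₀, ha₀⟩ : ∃ a, (τ : Equiv.Perm α) a = a := by
    have h1 : 2 ∣ (τ : Equiv.Perm α).support.card := by
      apply Equiv.Perm.two_dvd_card_support
      rw [pow_two]
      exact congrArg Subtype.val hττ
    by_contra hcon
    push Not at hcon
    have h4 : (τ : Equiv.Perm α).support = Finset.univ := by
      ext x
      simp [hcon x]
    rw [h4, Finset.card_univ, hα] at h1
    exact (Nat.not_even_iff_odd.mpr hodd) (even_iff_two_dvd.mpr h1)
  -- a generator of `P`
  have hPcard := Cfsg.Agent.H5PrimeDeg.sylow_card hα G P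
  obtain ⟨c, hc⟩ := exists_prime_orderOf_dvd_card' (G := (P : Subgroup G)) p (by rw [hPcard])
  have hc1 : c ≠ 1 := by
    intro h1
    rw [h1, orderOf_one] at hc
    exact hp.one_lt.ne hc
  obtain ⟨γ, hγ⟩ : ∃ γ : G, γ = (c : G) := ⟨_, rfl⟩
  have hγo : orderOf (γ : Equiv.Perm α) = p := by
    rw [Subgroup.orderOf_coe, hγ, Subgroup.orderOf_coe, hc]
  have hconj : τ * γ * τ⁻¹ ∈ (P : Subgroup G) := by
    rw [hτ, hγ]
    exact (Subgroup.mem_normalizer_iff.mp t.2 c).mp c.2
  obtain ⟨k, hk⟩ := Submonoid.mem_powers_iff _ _ |>.mp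
    (mem_powers_of_prime_card hPcard (g := c) (g' := ⟨_, hconj⟩) hc1)
  have hk' : (γ : Equiv.Perm α) ^ k = (τ : Equiv.Perm α) * γ * (τ : Equiv.Perm α)⁻¹ := by
    have h1 := congrArg (fun x : (P : Subgroup G) => ((x : G) : Equiv.Perm α)) hk
    simpa [hγ] using h1
  obtain ⟨e, he0, hce⟩ := Cfsg.Agent.H5PrimeDeg.exists_coord hα (γ : Equiv.Perm α) hγo a₀
  have hte := Cfsg.Agent.H5PrimeDeg.invol_coord (γ : Equiv.Perm α) (τ : Equiv.Perm α) e hce
    (congrArg Subtype.val hττ) (fun h1 => hτ1 (Subtype.ext h1)) k hk' (by rw [he0]; exact ha₀)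
  -- point stabilisers have even order
  have heven' : ∀ a : α, Even (Nat.card (MulAction.stabilizer G a)) := by
    intro a
    have h1 := Subgroup.card_mul_index (MulAction.stabilizer G a)
    have h4 := Subgroup.card_mul_index (MulAction.stabilizer G a₀)
    rw [MulAction.index_stabilizer_of_transitive] at h1 h4
    have h5 : Nat.card (MulAction.stabilizer G a) = Nat.card (MulAction.stabilizer G a₀) := by
      have hpos : 0 < Nat.card α := by rw [Nat.card_eq_fintype_card, hα]; exact hp.pos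
      exact Nat.eq_of_mul_eq_mul_right hpos (h1.trans h4.symm)
    rw [h5, even_iff_two_dvd]
    have h6 : orderOf (⟨τ, ha₀⟩ : MulAction.stabilizer G a₀) = 2 := by
      rw [← Subgroup.orderOf_coe]
      exact hτo
    rw [← h6]
    exact orderOf_dvd_natCard _
  apply Cfsg.Agent.S0672.result (K := ZMod p) (p := p) h2t (by rw [hα]) heven'
  intro f hf
  have hint : ∀ (g : G) v, f ((Cfsg.permSumZero (ZMod p) G α).toRepresentation g v) =
      Cfsg.permRep (ZMod p) G (Set.powersetCard α 2) g (f v) :=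
    fun g v => LinearMap.congr_fun (f.isIntertwining' g) v
  have hξS : (fun x => e.symm x : α → ZMod p) ∈ (Cfsg.permSumZero (ZMod p) G α).toSubmodule := by
    change ∑ x, e.symm x = 0
    rw [Equiv.sum_comp e.symm (fun j => j)]
    have := FiniteField.sum_pow_lt_card_sub_one (ZMod p) 1 (by rw [ZMod.card]; omega)
    simpa using this
  have h1S : (fun _ => 1 : α → ZMod p) ∈ (Cfsg.permSumZero (ZMod p) G α).toSubmodule := by
    change ∑ x : α, (1 : ZMod p) = 0
    simp [hα]
  have hf1 : f ⟨_, h1S⟩ = 0 := by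
    apply hf
    exact Submodule.mem_span_singleton_self _
  obtain ⟨F, hF⟩ : ∃ F, F = f ⟨_, hξS⟩ := ⟨_, rfl⟩
  have hcF : Cfsg.permRep (ZMod p) G (Set.powersetCard α 2) γ F = F := by
    rw [hF, ← hint]
    have h1 : (Cfsg.permSumZero (ZMod p) G α).toRepresentation γ ⟨_, hξS⟩ =
        ⟨_, hξS⟩ - ⟨_, h1S⟩ := by
      apply Subtype.ext
      funext x
      obtain ⟨j, rfl⟩ := e.surjective x
      change e.symm ((γ : Equiv.Perm α)⁻¹ (e j)) = e.symm (e j) - 1
      have h4 : (γ : Equiv.Perm α)⁻¹ (e j) = e (j - 1) := by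
        rw [Equiv.Perm.inv_eq_iff_eq, hce, sub_add_cancel]
      rw [h4, Equiv.symm_apply_apply, Equiv.symm_apply_apply]
    rw [h1, map_sub, hf1, sub_zero]
  have htF : Cfsg.permRep (ZMod p) G (Set.powersetCard α 2) τ F = -F := by
    rw [hF, ← hint]
    have h1 : (Cfsg.permSumZero (ZMod p) G α).toRepresentation τ ⟨_, hξS⟩ = -⟨_, hξS⟩ := by
      apply Subtype.ext
      funext x
      obtain ⟨j, rfl⟩ := e.surjective x
      change e.symm ((τ⁻¹ : G) • (e j)) = - e.symm (e j)
      rw [hτinv]
      change e.symm ((τ : Equiv.Perm α) (e j)) = - e.symm (e j)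
      rw [hte, Equiv.symm_apply_apply, Equiv.symm_apply_apply]
    rw [h1, map_neg]
  have hcF' : ∀ s, F (γ • s) = F s := by
    intro s
    have := congrFun hcF (γ • s)
    change F (γ⁻¹ • γ • s) = F (γ • s) at this
    rw [inv_smul_smul] at this
    exact this.symm
  have hcF'' : ∀ (m : ℕ) s, F (γ ^ m • s) = F s := by
    intro m
    induction m with
    | zero => intro s; simp
    | succ m ih =>
      intro s
      rw [pow_succ', mul_smul, hcF', ih]
  have hpair : ∀ (g : G) (s : Set.powersetCard α 2) (x y : α), (s : Finset α) = {x, y} →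
      ((g • s : Set.powersetCard α 2) : Finset α) = {(g : Equiv.Perm α) x, (g : Equiv.Perm α) y} := by
    intro g s x y hs
    have h0 : ((g • s : Set.powersetCard α 2) : Finset α) =
        (s : Finset α).image (fun x => (g : Equiv.Perm α) x) := rfl
    rw [h0, hs, Finset.image_insert, Finset.image_singleton]
  have htF' : ∀ s, F (τ • s) = F s := by
    intro s
    obtain ⟨x, y, hxy, hs⟩ := Finset.card_eq_two.mp s.2
    obtain ⟨i, rfl⟩ := e.surjective x
    obtain ⟨j, rfl⟩ := e.surjective y
    have h1 : τ • s = γ ^ (-i - j).val • s := by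
      apply Subtype.ext
      rw [hpair τ s _ _ hs, hpair _ s _ _ hs, hte, hte]
      have h4 : ((γ ^ (-i - j).val : G) : Equiv.Perm α) = (γ : Equiv.Perm α) ^ (-i - j).val := rfl
      rw [h4, Cfsg.Agent.H5PrimeDeg.pow_coord _ e hce, Cfsg.Agent.H5PrimeDeg.pow_coord _ e hce,
        ZMod.natCast_zmod_val, Finset.pair_comm]
      congr 2 <;> ring_nf
    rw [h1, hcF'']
  have hF0 : F = 0 := by
    funext s
    have h1 := congrFun htF s
    change F (τ⁻¹ • s) = - F s at h1
    rw [hτinv, htF'] at h1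
    have h4 : (2 : ZMod p) * F s = 0 := by linear_combination h1
    rcases mul_eq_zero.mp h4 with h5 | h5
    · exfalso
      have h6 : ((2 : ℕ) : ZMod p) = 0 := by exact_mod_cast h5
      rw [ZMod.natCast_eq_zero_iff] at h6
      have := Nat.le_of_dvd (by norm_num) h6
      omega
    · exact h5
  -- the kernel of `f`
  let W : Submodule (ZMod p) (α → ZMod p) :=
    (LinearMap.ker f.toLinearMap).map (Cfsg.permSumZero (ZMod p) G α).toSubmodule.subtype
  have hWinv : ∀ g : G, ∀ v ∈ W, Cfsg.permRep (ZMod p) G α g v ∈ W := by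
    rintro g _ ⟨v, hv, rfl⟩
    refine ⟨(Cfsg.permSumZero (ZMod p) G α).toRepresentation g v, ?_, rfl⟩
    have hv' : f v = 0 := hv
    change f _ = 0
    rw [hint, hv', map_zero]
  have hCW : Submodule.span (ZMod p) {fun _ : α => (1 : ZMod p)} ≤ W := by
    rw [Submodule.span_le, Set.singleton_subset_iff]
    exact ⟨⟨_, h1S⟩, hf1, rfl⟩
  have hWS : W ≤ (Cfsg.permSumZero (ZMod p) G α).toSubmodule := Submodule.map_subtype_le _ _
  have hS : (Cfsg.permSumZero (ZMod p) G α).toSubmodule ≠ ⊤ := by
    intro htop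
    have h1 : (Pi.single a₀ 1 : α → ZMod p) ∈ (Cfsg.permSumZero (ZMod p) G α).toSubmodule := by
      rw [htop]; trivial
    have h4 : ∑ x, (Pi.single a₀ 1 : α → ZMod p) x = 0 := h1
    simp at h4
  have hξW : (fun x => e.symm x : α → ZMod p) ∈ W := ⟨⟨_, hξS⟩, by
    change f ⟨_, hξS⟩ = 0
    rw [← hF, hF0], rfl⟩
  rcases Cfsg.Agent.H5PrimeDeg.heart_irred hα G hG W _ hWinv hCW hWS hS with h1 | h1
  · exfalso
    rw [h1, Submodule.mem_span_singleton] at hξW
    obtain ⟨k', hk'⟩ := hξW
    have e0 := congrFun hk' (e 0)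
    have e1 := congrFun hk' (e 1)
    simp only [Pi.smul_apply, smul_eq_mul, mul_one, Equiv.symm_apply_apply] at e0 e1
    rw [e0] at e1
    exact zero_ne_one e1
  · apply Representation.IntertwiningMap.ext
    apply LinearMap.ext
    intro v
    have hv : v.1 ∈ W := by rw [h1]; exact v.2
    obtain ⟨v', hv', hvv⟩ := hv
    have : v' = v := Subtype.ext hvv
    rw [← this]
    exact hv'

end Cfsg.Agent.S0676
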