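import Cfsg.Statements.S0677
import Mathlib
-- import your own Cfsg.Agent.* helpers here
import Cfsg.Agent.H5.PrimeDeg3
import Cfsg.Agent.S0676
import Cfsg.Agent.H1.Coprime

set_option autoImplicit false
open Cfsg

namespace Cfsg.Agent.S0677



/-- In a transitive permutation group of prime degree `p` whose Sylow `p`-normaliser has even order, the point stabilisers are the only subgroups of index `p`. -/
theorem result {α : Type*} [Fintype α] [DecidableEq α] {p : ℕ} [Fact p.Prime] (hα : Fintype.card α = p) (G : Subgroup (Equiv.Perm α)) [MulAction.IsPretransitive G α] (P : Sylow p G) (heven : Even (Nat.card (Subgroup.normalizer ((P : Subgroup G) : Set G)))) (H : Subgroup G) (hH : H.index = p) : ∃ a : α, H = MulAction.stabilizer G a := by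
  classical
  have hp : p.Prime := Fact.out
  haveI : Nonempty α := Fintype.card_pos_iff.mp (by rw [hα]; exact hp.pos)
  obtain ⟨a₀⟩ : Nonempty α := inferInstance
  have hcardeq : ∀ a : α, Nat.card (MulAction.stabilizer G a) = Nat.card H := by
    intro a
    have h1 := Subgroup.card_mul_index H
    have h2 := Subgroup.card_mul_index (MulAction.stabilizer G a)
    rw [hH] at h1
    rw [MulAction.index_stabilizer_of_transitive, Nat.card_eq_fintype_card (α := α), hα] at h2
    exact Nat.eq_of_mul_eq_mul_right hp.pos (h2.trans h1.symm)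
  suffices hfix : ∃ a : α, H ≤ MulAction.stabilizer G a by
    obtain ⟨a, ha⟩ := hfix
    exact ⟨a, Subgroup.eq_of_le_of_card_ge ha (hcardeq a).le⟩
  by_cases hPn : (P : Subgroup G).Normal
  · have hidx : (MulAction.stabilizer G a₀).index = p := by
      rw [MulAction.index_stabilizer_of_transitive, Nat.card_eq_fintype_card, hα]
    have hcopA := Cfsg.Agent.H5PrimeDeg.not_dvd_of_index hα G (MulAction.stabilizer G a₀) hidx
    have hPcard := Cfsg.Agent.H5PrimeDeg.sylow_card hα G P
    have htrans := Cfsg.Agent.H5PermMod.sylow_trans (G := G) (Ω := α) inferInstance p 1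
      (by rw [hα, pow_one]) P
    obtain ⟨k, hk, hconj⟩ := Cfsg.H1.sz_conj_internal (A := MulAction.stabilizer G a₀) (B := H)
      (K := (P : Subgroup G))
      (by rw [Subgroup.normalizer_eq_top]; exact le_top)
      (by
        rw [hPcard]
        exact ((Nat.Prime.coprime_iff_not_dvd hp).mpr hcopA).symm)
      (Or.inr (by
        haveI := P.2.isNilpotent
        infer_instance))
      (by
        intro g _
        obtain ⟨x, hx, hxa⟩ := htrans a₀ (g • a₀)
        have h1 : x⁻¹ * g ∈ MulAction.stabilizer G a₀ := by
          change (x⁻¹ * g) • a₀ = a₀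
          rw [mul_smul, ← hxa, inv_smul_smul]
        have h2 : g = x * (x⁻¹ * g) := by group
        rw [h2]
        exact Subgroup.mul_mem_sup hx h1)
      (hcardeq a₀).symm
    refine ⟨k • a₀, ?_⟩
    rw [MulAction.stabilizer_smul_eq_stabilizer_map_conj, ← hconj]
    exact le_of_eq rfl
  · have hG : ¬ Group.IsSolvable G :=
      fun hs => hPn (Cfsg.Agent.H5PrimeDeg.sylow_normal_of_solvable hα G hs P)
    have h3 := Cfsg.Agent.S0676.result hα G hG P heven
    have hp2 : p ≠ 2 := by
      intro h2
      apply hG
      apply Cfsg.Agent.H5PrimeDeg.solvable_of_small (K := ZMod p) hα G ⊤ (fun _ _ _ => trivial)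
      · rw [finrank_top, Module.finrank_fintype_fun_eq_card, hα, h2]
      · right; rw [finrank_top, Module.finrank_fintype_fun_eq_card, hα, h2]
    have hp3 : 3 ≤ p := by
      have := hp.two_le
      omega
    exact Cfsg.Agent.H5PrimeDeg.fixes_of_three_trans hα hp3 G h3 H hH

end Cfsg.Agent.S0677
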