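import Cfsg.Statements.S0994
import Mathlib
import Cfsg.Agent.Lib.Helper21.SimpleOrd

set_option autoImplicit false
open Cfsg

namespace Cfsg.Agent.S0994

/-- No finite simple group has order 1188 = 2^2 * 3^3 * 11. -/
theorem result {G : Type*} [Group G] [Finite G] [IsSimpleGroup G] : Nat.card G ≠ 1188 := by
  intro h
  haveI : Fact (Nat.Prime 11) := ⟨by norm_num⟩
  obtain ⟨P⟩ : Nonempty (Sylow 11 G) := inferInstance
  have hP : Nat.card (P : Subgroup G) = 11 := by
    have := Cfsg.Agent.Lib.Helper21.card_sylow_of_card_eq P 1 108 (by rw [h]; norm_num) (by norm_num)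
    simpa using this
  have hne := Cfsg.Agent.Lib.Helper21.card_sylow_ne_one_of_simple P (by rw [hP]; norm_num)
    (by rw [hP, h]; norm_num)
  have hmod := card_sylow_modEq_one 11 G
  have hmul := Cfsg.Agent.Lib.Helper21.card_normalizer_mul_card_sylow P
  have hdvd : Nat.card (Sylow 11 G) ∣ 108 := by
    have h1 := P.card_dvd_index
    have h2 := (P : Subgroup G).card_mul_index
    rw [hP, h] at h2
    have h3 : (P : Subgroup G).index = 108 := by omega
    rwa [h3] at h1
  set n := Nat.card (Sylow 11 G) with hn
  have hle : n ≤ 108 := Nat.le_of_dvd (by norm_num) hdvd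
  have hmod' : n % 11 = 1 := hmod
  have hn12 : n = 12 := by
    interval_cases n <;> omega
  rw [hn12, h] at hmul
  have hN : Nat.card (Subgroup.normalizer ((P : Subgroup G) : Set G)) = 99 := by omega
  exact Cfsg.Agent.Lib.Helper21.false_of_simple_of_normalizer_le_centralizer P
    (Cfsg.Agent.Lib.Helper21.normalizer_le_centralizer_of_coprime (p := 11) _ hP (by rw [hN]; norm_num))
    (by rw [hP]; norm_num) (by rw [hP, h]; norm_num)

end Cfsg.Agent.S0994
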