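import Cfsg.Statements.S1013
import Mathlib
-- import your own Cfsg.Agent.* helpers here
import Cfsg.Agent.H5.PrimeDegGen
import Cfsg.Agent.H5.MultTrans
import Cfsg.Agent.H5.SylowNum

set_option autoImplicit false
open Cfsg

namespace Cfsg.Agent.S1013



/-- Let G be a transitive permutation group of prime degree p having more than one Sylow p-subgroup, and suppose a Sylow p-subgroup P has prime index in its normalizer. Then G is simple. -/
theorem result {α : Type*} [Fintype α] [DecidableEq α] {p : ℕ} [Fact p.Prime] (hα : Fintype.card α = p) (G : Subgroup (Equiv.Perm α)) [MulAction.IsPretransitive ↥G α] (P : Sylow p ↥G) (hn : 1 < Nat.card (Sylow p ↥G)) (ht : (((P : Subgroup ↥G).subgroupOf (Subgroup.normalizer ((P : Subgroup ↥G) : Set ↥G))).index).Prime) : IsSimpleGroup ↥G := by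
  classical
  have hp : p.Prime := Fact.out
  have hprim : MulAction.IsPreprimitive G α := by
    apply MulAction.IsPreprimitive.of_prime_card
    rw [Nat.card_eq_fintype_card, hα]; exact hp
  have hPcard : Nat.card P = p := Cfsg.Agent.H5PrimeDegGen.sylow_card hα P
  have hGcard : Nat.card G = p * (P : Subgroup G).index := by
    have := (P : Subgroup G).card_mul_index
    rw [hPcard] at this; exact this.symm
  have hPidx : ¬ p ∣ (P : Subgroup G).index := P.not_dvd_index
  have hPcomm : ∀ x ∈ (P : Subgroup G), ∀ y ∈ (P : Subgroup G), x * y = y * x := by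
    have hcyc : IsCyclic (P : Subgroup G) := isCyclic_of_prime_card hPcard
    intro x hx y hy
    have := hcyc.commutative.is_comm.comm ⟨x, hx⟩ ⟨y, hy⟩
    exact congrArg Subtype.val this
  have key : ∀ K : Subgroup G, K.Normal → K ≠ ⊥ → K = ⊤ := by
    intro K hK hKbot
    haveI := hK
    have hKt : MulAction.IsPretransitive K α := Cfsg.Agent.H5MultTrans.normal_trans hprim K hKbot
    have hpK : p ∣ Nat.card K := Cfsg.Agent.H5PrimeDegGen.dvd_card (G := K) hα
    have hKidx : ¬ p ∣ K.index := by
      intro h
      obtain ⟨a, ha⟩ := hpK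
      obtain ⟨b, hb⟩ := h
      have h1 := K.card_mul_index
      rw [ha, hb, hGcard] at h1
      apply hPidx
      refine ⟨a * b, ?_⟩
      have : p * (p * (a * b)) = p * (P : Subgroup G).index := by rw [← h1]; ring
      exact (Nat.eq_of_mul_eq_mul_left hp.pos this).symm
    have hPK : (P : Subgroup G) ≤ K := by
      intro x hx
      apply Cfsg.Agent.H5SylowNum.mem_of_coprime_index
      have h1 : orderOf x ∣ p := by
        have := orderOf_dvd_natCard (⟨x, hx⟩ : (P : Subgroup G))
        rwa [hPcard, Subgroup.orderOf_mk] at this
      exact Nat.Coprime.coprime_dvd_right h1 ((hp.coprime_iff_not_dvd.mpr hKidx).symm)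
    have hfrat := Sylow.normalizer_sup_eq_top' P hPK
    set Nm := Subgroup.normalizer ((P : Subgroup G) : Set G) with hNm
    have hPN : (P : Subgroup G) ≤ Nm := Subgroup.le_normalizer
    have hPD : (P : Subgroup G) ≤ K ⊓ Nm := le_inf hPK hPN
    have hmul := Subgroup.relIndex_mul_relIndex (P : Subgroup G) (K ⊓ Nm) Nm hPD inf_le_right
    have ht' : ((P : Subgroup G).relIndex Nm).Prime := ht
    rw [← hmul] at ht'
    rcases (Nat.prime_mul_iff.mp ht') with ⟨_, h1⟩ | ⟨_, h1⟩
    · -- Nm ≤ K
      have h2 : Nm ≤ K ⊓ Nm := Subgroup.relIndex_eq_one.mp h1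
      have h3 : Nm ≤ K := h2.trans inf_le_left
      rw [← hfrat]
      exact (sup_eq_right.mpr h3).symm
    · exfalso
      have hD : K ⊓ Nm ≤ (P : Subgroup G) := Subgroup.relIndex_eq_one.mp h1
      let P' : Sylow p K := P.subtype hPK
      have hP' : ∀ x : K, x ∈ (P' : Subgroup K) ↔ (x : G) ∈ (P : Subgroup G) := by
        intro x
        exact Iff.rfl
      have hNC : Subgroup.normalizer ((P' : Subgroup K) : Set K) ≤
          Subgroup.centralizer ((P' : Subgroup K) : Set K) := by
        intro x hx
        have hxN : (x : G) ∈ Nm := by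
          rw [hNm, Subgroup.mem_normalizer_iff]
          rw [Subgroup.mem_normalizer_iff] at hx
          intro g
          constructor
          · intro hg
            exact (hP' _).mp ((hx ⟨g, hPK hg⟩).mp ((hP' _).mpr hg))
          · intro hg
            have hgK : g ∈ K := by
              have h5 := hPK hg
              have h6 : g = (x : G)⁻¹ * ((x : G) * g * (x : G)⁻¹) * (x : G) := by group
              rw [h6]
              exact K.mul_mem (K.mul_mem (K.inv_mem x.2) h5) x.2
            exact (hP' _).mp ((hx ⟨g, hgK⟩).mpr ((hP' _).mpr hg))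
        have hxP : (x : G) ∈ (P : Subgroup G) := hD ⟨x.2, hxN⟩
        rw [Subgroup.mem_centralizer_iff]
        intro y hy
        apply Subtype.ext
        exact hPcomm _ ((hP' y).mp hy) _ hxP
      have hcomp := MonoidHom.ker_transferSylow_isComplement' P' hNC
      set M := (MonoidHom.transferSylow P' hNC).ker with hM
      have hidx : M.index = Nat.card (P' : Subgroup K) := hcomp.symm.index_eq_card
      have hP'card : Nat.card (P' : Subgroup K) = p := by
        exact (Nat.card_congr (Subgroup.subgroupOfEquivOfLe hPK).toEquiv).trans hPcard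
      rw [hP'card] at hidx
      have hMp : ¬ p ∣ Nat.card M := by
        intro h
        obtain ⟨a, ha⟩ := h
        have h1 := M.card_mul_index
        rw [ha, hidx] at h1
        have h2 := K.card_mul_index
        rw [← h1, hGcard] at h2
        apply hPidx
        refine ⟨a * K.index, ?_⟩
        have : p * (p * (a * K.index)) = p * (P : Subgroup G).index := by rw [← h2]; ring
        exact (Nat.eq_of_mul_eq_mul_left hp.pos this).symm
      have hMn : (M.map K.subtype).Normal := by
        constructor
        rintro _ ⟨m, hm, rfl⟩ g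
        have hy : g * (K.subtype m) * g⁻¹ ∈ K := hK.conj_mem _ m.2 g
        refine ⟨⟨_, hy⟩, ?_, rfl⟩
        apply Cfsg.Agent.H5SylowNum.mem_of_coprime_index
        rw [hidx]
        have h1 : orderOf (⟨g * (K.subtype m) * g⁻¹, hy⟩ : K) = orderOf m := by
          rw [Subgroup.orderOf_mk, ← Subgroup.orderOf_coe m]
          have : g * (K.subtype m) * g⁻¹ = MulAut.conj g (m : G) := by simp
          rw [this, MulEquiv.orderOf_eq]
        rw [h1]
        have h2 : orderOf m ∣ Nat.card M := by
          have := orderOf_dvd_natCard (⟨m, hm⟩ : M)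
          rwa [Subgroup.orderOf_mk] at this
        exact Nat.Coprime.coprime_dvd_right h2 (hp.coprime_iff_not_dvd.mpr hMp)
      have hMbot : M.map K.subtype = ⊥ := by
        by_contra hne
        have hMt : MulAction.IsPretransitive (M.map K.subtype) α :=
          Cfsg.Agent.H5MultTrans.normal_trans hprim _ hne
        have := Cfsg.Agent.H5PrimeDegGen.dvd_card (G := (M.map K.subtype)) hα
        rw [Subgroup.card_map_of_injective (Subgroup.subtype_injective _)] at this
        exact hMp this
      have hMcard : Nat.card M = 1 := by
        rw [← Subgroup.card_map_of_injective (Subgroup.subtype_injective K), hMbot]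
        exact Subgroup.card_bot
      have hKcard : Nat.card K = p := by
        have h1 := M.card_mul_index
        rw [hMcard, hidx, one_mul] at h1
        exact h1.symm
      have hKP : (P : Subgroup G) = K := by
        apply Subgroup.eq_of_le_of_card_ge hPK
        rw [hKcard, hPcard]
      have hPn : (P : Subgroup G).Normal := hKP ▸ hK
      have := Sylow.unique_of_normal P hPn
      rw [Nat.card_unique] at hn
      exact lt_irrefl _ hn
  have hnt : Nontrivial G := by
    by_contra h
    rw [not_nontrivial_iff_subsingleton] at h
    have : Nat.card (P : Subgroup G) = 1 := Nat.card_unique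
    rw [hPcard] at this
    exact hp.one_lt.ne' this
  refine ⟨fun H hH => ?_⟩
  by_cases h : H = ⊥
  · exact Or.inl h
  · exact Or.inr (key H hH h)

end Cfsg.Agent.S1013
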