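import Cfsg.Statements.S1155
import Cfsg.Agent.Chev.TwG18

set_option autoImplicit false
open Cfsg

namespace Cfsg.Agent.S1155

/-- In the small Ree group ²G₂(q), q = 3^(2m+1) with m ≥ 1, realised as G¹ inside the Chevalley group G₂ over the field with q elements (θ the 3^m-th power map): distinct Sylow 3-subgroups of `G¹` meet trivially. -/
theorem result {K : Type*} [Field K] [Fintype K] {m : ℕ} (hm : 1 ≤ m) (hK : Fintype.card K = 3 ^ (2 * m + 1))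
    (P Q : Sylow 3 ↥(Cfsg.Lie.twistedG2 K (3 ^ m))) (hPQ : P ≠ Q) : (P : Subgroup ↥(Cfsg.Lie.twistedG2 K (3 ^ m))) ⊓ (Q : Subgroup ↥(Cfsg.Lie.twistedG2 K (3 ^ m))) = ⊥ := by
  have := Cfsg.Agent.Chev.charP3_of_card hK
  have hq : Fintype.card K % 4 = 3 := by rw [hK]; exact Cfsg.Agent.Chev.card_mod4 m
  have key : ∀ (G : Subgroup (GL Cfsg.Lie.chevG2.Idx K)), G = (Cfsg.Agent.Chev.mkRee hK).G1 →
      ∀ (P Q : Sylow 3 ↥G), P ≠ Q → (P : Subgroup ↥G) ⊓ (Q : Subgroup ↥G) = ⊥ := by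
    rintro G rfl P Q h
    exact (Cfsg.Agent.Chev.mkRee hK).sylow_TI hq P Q h
  exact key _ (Cfsg.Agent.Chev.mkRee hK).twistedG2_eq P Q hPQ

end Cfsg.Agent.S1155
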