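import Cfsg.Statements.S1249
import Cfsg.Agent.Lib.Helper8.Closed

set_option autoImplicit false
open Cfsg

namespace Cfsg.Agent.S1249

open Cfsg.Agent.Lib.Helper8

/-- Let P and Q be Sylow p-subgroups of the finite group G both containing the subgroup A. If A is strongly closed in P, then A is strongly closed in Q. -/
theorem result {G : Type*} [Group G] [Finite G] {p : ℕ} [Fact p.Prime] (P Q : Sylow p G) (A : Subgroup G) (hAQ : A ≤ Q) (hA : Cfsg.IsStronglyClosed A (P : Subgroup G)) : Cfsg.IsStronglyClosed A (Q : Subgroup G) := by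
  obtain ⟨g, hg⟩ := MulAction.exists_smul_eq G P Q
  have hQ : (Q : Subgroup G) = cj g (P : Subgroup G) := by rw [← hg]; rfl
  have h1 : cj g⁻¹ A ≤ A := by
    intro x hx
    rw [mem_cj] at hx
    simp only [inv_inv] at hx
    have h2 : g * x * g⁻¹ ∈ cj g (P : Subgroup G) := by rw [← hQ]; exact hAQ hx
    rw [mem_cj] at h2
    have h3 := hA.2 _ hx g⁻¹
    have e : g⁻¹ * (g * x * g⁻¹) * g⁻¹⁻¹ = x := by group
    have e' : g⁻¹ * (g * x * g⁻¹) * g = x := by group
    rw [e] at h3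
    rw [e'] at h2
    exact h3 h2
  have h2 : cj g⁻¹ A = A := cj_eq_of_le h1
  refine ⟨hAQ, ?_⟩
  intro x hx h hh
  rw [hQ, mem_cj] at hh
  have h3 := hA.2 x hx (g⁻¹ * h)
  have e : g⁻¹ * h * x * (g⁻¹ * h)⁻¹ = g⁻¹ * (h * x * h⁻¹) * g := by group
  rw [e] at h3
  have h4 := h3 hh
  rw [← h2, mem_cj] at h4
  have e2 : g⁻¹⁻¹ * (g⁻¹ * (h * x * h⁻¹) * g) * g⁻¹ = h * x * h⁻¹ := by group
  rwa [e2] at h4

end Cfsg.Agent.S1249
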