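import Cfsg.Statements.S1250
import Cfsg.Agent.Lib.Helper8.Closed

set_option autoImplicit false
open Cfsg

namespace Cfsg.Agent.S1250

open Cfsg.Agent.Lib.Helper8
open scoped Pointwise

/-- Let S be a Sylow p-subgroup of the finite group G, A ≤ S strongly closed in S, and N a normal subgroup. Then the image of A in G ⧸ N is strongly closed in the image of S (which is a Sylow p-subgroup of G ⧸ N). -/
theorem result {G : Type*} [Group G] [Finite G] {p : ℕ} [Fact p.Prime] (S : Sylow p G) (A : Subgroup G) (hA : Cfsg.IsStronglyClosed A (S : Subgroup G)) (N : Subgroup G) [N.Normal] : Cfsg.IsStronglyClosed (A.map (QuotientGroup.mk' N)) ((S : Subgroup G).map (QuotientGroup.mk' N)) := by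
  refine ⟨Subgroup.map_mono hA.1, ?_⟩
  rintro _ ⟨a, ha, rfl⟩ q hq
  obtain ⟨g, rfl⟩ := QuotientGroup.mk'_surjective N q
  obtain ⟨s, hs, hsq⟩ := hq
  set y := g * a * g⁻¹ with hy
  have hsy : (QuotientGroup.mk' N) s = (QuotientGroup.mk' N) y := by
    rw [hsq, hy]; simp
  let L : Subgroup G := (S : Subgroup G) ⊔ N
  have hyL : y ∈ L := by
    have h1 : s⁻¹ * y ∈ N := by
      have := (QuotientGroup.eq (s := N) (a := s) (b := y)).mp hsy
      exact this
    have : y = s * (s⁻¹ * y) := by group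
    rw [this]
    exact L.mul_mem ((le_sup_left : (S : Subgroup G) ≤ L) hs) ((le_sup_right : N ≤ L) h1)
  have hX : IsPGroup p (Subgroup.zpowers y) := by
    have h1 : IsPGroup p (Subgroup.zpowers a) :=
      S.2.to_le (Subgroup.zpowers_le.mpr (hA.1 ha))
    have h2 := h1.map (MulAut.conj g).toMonoidHom
    rw [MonoidHom.map_zpowers] at h2
    exact h2
  obtain ⟨T, hT, -, hST, l, hl, hlX⟩ := exists_cj_le_of_le L hX (Subgroup.zpowers_le.mpr hyL) S.2
    (le_sup_left : (S : Subgroup G) ≤ L)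
  have hTS : T = S := S.3 hT hST
  have h1 : l * y * l⁻¹ ∈ (S : Subgroup G) := by
    rw [← hTS]; exact hlX (conj_mem_cj (Subgroup.mem_zpowers y))
  have h2 : l * y * l⁻¹ ∈ A := by
    have h3 := hA.2 a ha (l * g)
    have e : l * g * a * (l * g)⁻¹ = l * y * l⁻¹ := by rw [hy]; group
    rw [e] at h3
    exact h3 h1
  have hl' : l ∈ ((S : Subgroup G) : Set G) * (N : Set G) := by
    rw [← Subgroup.mul_normal]; exact hl
  obtain ⟨s', hs', n', hn', rfl⟩ := Set.mem_mul.mp hl'
  have h3 : s'⁻¹ * (s' * n' * y * (s' * n')⁻¹) * s'⁻¹⁻¹ ∈ A :=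
    stronglyClosed_conj_mem hA h2 (Subgroup.inv_mem _ hs')
  refine ⟨_, h3, ?_⟩
  have hn1 : (QuotientGroup.mk' N) n' = 1 := (QuotientGroup.eq_one_iff n').mpr hn'
  simp only [map_mul, map_inv, hn1, hy]
  group

end Cfsg.Agent.S1250
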