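import Mathlib
import Cfsg.Statements.S1339
import Cfsg.Agent.H17.CharPBridge

set_option autoImplicit false

open Cfsg

namespace Cfsg.Agent.S1339

section aux

variable {F : Type*} [Field F] {n : ℕ}

local notation "SLn" => Matrix.SpecialLinearGroup (Fin n) F
local notation "Mn" => Matrix (Fin n) (Fin n) F

/-- the group of transvections with centre `e_i` inside a subgroup `C` -/
def Qsub (C : Subgroup SLn) (i : Fin n) : Subgroup ↥C where
  carrier := {g | ∀ v : Fin n → F, ∃ c : F, ((g : SLn) : Mn).mulVec v - v = c • Pi.single i 1}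
  one_mem' := fun v => ⟨0, by simp⟩
  mul_mem' := by
    intro g h hg hh v
    obtain ⟨c, hc⟩ := hh v
    obtain ⟨c', hc'⟩ := hg v
    obtain ⟨c'', hc''⟩ := hg (Pi.single i 1)
    refine ⟨c * (1 + c'') + c', ?_⟩
    have e1 : ((h : SLn) : Mn).mulVec v = v + c • Pi.single i 1 := by rw [← hc]; abel
    have e2 : ((g : SLn) : Mn).mulVec v = v + c' • Pi.single i 1 := by rw [← hc']; abel
    have e3 : ((g : SLn) : Mn).mulVec (Pi.single i 1) = (1 + c'') • Pi.single i 1 := by
      rw [add_smul, one_smul, ← hc'']; abel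
    rw [Subgroup.coe_mul, Matrix.SpecialLinearGroup.coe_mul, ← Matrix.mulVec_mulVec, e1,
      Matrix.mulVec_add, Matrix.mulVec_smul, e2, e3, smul_smul, add_smul]
    abel
  inv_mem' := by
    intro g hg v
    obtain ⟨c, hc⟩ := hg ((((g⁻¹ : ↥C) : SLn) : Mn).mulVec v)
    refine ⟨-c, ?_⟩
    rw [Matrix.mulVec_mulVec, ← Matrix.SpecialLinearGroup.coe_mul, ← Subgroup.coe_mul,
      mul_inv_cancel, Subgroup.coe_one, Matrix.SpecialLinearGroup.coe_one, Matrix.one_mulVec] at hc
    rw [neg_smul, ← hc]
    abel

end aux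

theorem result {F : Type*} [Field F] [Fintype F] [DecidableEq F] (hF : Fintype.card F = 2) (n : ℕ) (hn : 3 ≤ n) (i j : Fin n) (hij : i ≠ j) (t : Matrix.SpecialLinearGroup (Fin n) F) (ht : (t : Matrix (Fin n) (Fin n) F) = Matrix.transvection i j 1) : Cfsg.generalizedFittingSubgroup ↥(Subgroup.centralizer ({t} : Set (Matrix.SpecialLinearGroup (Fin n) F))) = Cfsg.pCore 2 ↥(Subgroup.centralizer ({t} : Set (Matrix.SpecialLinearGroup (Fin n) F))) := by
  classical
  haveI : Fact (Nat.Prime 2) := ⟨Nat.prime_two⟩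
  rw [Cfsg.Agent.H17.genFitting_eq_pCore_iff_centralizer]
  set C := Subgroup.centralizer ({t} : Set (Matrix.SpecialLinearGroup (Fin n) F)) with hC
  have h01 : ∀ x : F, x = 0 ∨ x = 1 := by
    intro x
    by_cases hx : x = 0
    · exact Or.inl hx
    · right
      have := FiniteField.pow_card_sub_one_eq_one x hx
      rw [hF] at this
      simpa using this
  have h2 : (1 : F) + 1 = 0 := by
    rcases h01 (1 + 1) with h | h
    · exact h
    · exfalso
      have : (1 : F) = 0 := by linear_combination h
      exact one_ne_zero this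
  -- elements of `C` fix the line of `e_i`
  have hCi : ∀ g : ↥C, ∃ l : F, ((g : Matrix.SpecialLinearGroup (Fin n) F) : Matrix (Fin n) (Fin n) F).mulVec
      (Pi.single i 1) = l • Pi.single i 1 := by
    intro g
    have hg := Subgroup.mem_centralizer_singleton_iff.mp g.2
    have hm := congrArg (fun x : Matrix.SpecialLinearGroup (Fin n) F => (x : Matrix (Fin n) (Fin n) F)) hg
    simp only [Matrix.SpecialLinearGroup.coe_mul, ht, Matrix.transvection, mul_add, add_mul,
      mul_one, one_mul, add_right_inj] at hm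
    refine ⟨((g : Matrix.SpecialLinearGroup (Fin n) F) : Matrix (Fin n) (Fin n) F) j j, ?_⟩
    funext a
    have := congrFun (congrFun hm a) j
    simp [Matrix.mul_apply, Matrix.single_apply] at this
    have e : ((g : Matrix.SpecialLinearGroup (Fin n) F) : Matrix (Fin n) (Fin n) F).mulVec
        (Pi.single i 1) a = ((g : Matrix.SpecialLinearGroup (Fin n) F) : Matrix (Fin n) (Fin n) F) a i := by
      rw [Matrix.mulVec_single_one]; rfl
    rw [e, this]
    by_cases ha : i = a
    · subst ha; simp
    · simp [ha, Pi.single_apply, Ne.symm ha]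
  have hinj : ∀ (g : Matrix.SpecialLinearGroup (Fin n) F) (v : Fin n → F),
      (g : Matrix (Fin n) (Fin n) F).mulVec v = 0 → v = 0 := by
    intro g v hv
    have : ((g⁻¹ * g : Matrix.SpecialLinearGroup (Fin n) F) : Matrix (Fin n) (Fin n) F).mulVec v = 0 := by
      rw [Matrix.SpecialLinearGroup.coe_mul, ← Matrix.mulVec_mulVec, hv, Matrix.mulVec_zero]
    simpa using this
  have hei : (Pi.single i 1 : Fin n → F) ≠ 0 := by
    intro h
    have := congrFun h i
    simp at this
  have hQn : (Qsub C i).Normal := by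
    constructor
    intro g hg h v
    obtain ⟨c, hc⟩ := hg ((((h⁻¹ : ↥C) : Matrix.SpecialLinearGroup (Fin n) F) : Matrix (Fin n) (Fin n) F).mulVec v)
    obtain ⟨l, hl⟩ := hCi h
    refine ⟨c * l, ?_⟩
    have e1 : ((g : Matrix.SpecialLinearGroup (Fin n) F) : Matrix (Fin n) (Fin n) F).mulVec
        ((((h⁻¹ : ↥C) : Matrix.SpecialLinearGroup (Fin n) F) : Matrix (Fin n) (Fin n) F).mulVec v) =
        (((h⁻¹ : ↥C) : Matrix.SpecialLinearGroup (Fin n) F) : Matrix (Fin n) (Fin n) F).mulVec v +
          c • Pi.single i 1 := by rw [← hc]; abel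
    have e2 : ((h : Matrix.SpecialLinearGroup (Fin n) F) : Matrix (Fin n) (Fin n) F).mulVec
        ((((h⁻¹ : ↥C) : Matrix.SpecialLinearGroup (Fin n) F) : Matrix (Fin n) (Fin n) F).mulVec v) = v := by
      rw [Matrix.mulVec_mulVec, ← Matrix.SpecialLinearGroup.coe_mul, ← Subgroup.coe_mul,
        mul_inv_cancel, Subgroup.coe_one, Matrix.SpecialLinearGroup.coe_one, Matrix.one_mulVec]
    rw [Subgroup.coe_mul, Subgroup.coe_mul, Matrix.SpecialLinearGroup.coe_mul,
      Matrix.SpecialLinearGroup.coe_mul, ← Matrix.mulVec_mulVec, ← Matrix.mulVec_mulVec, e1,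
      Matrix.mulVec_add, e2, Matrix.mulVec_smul, hl, smul_smul]
    abel
  have hQp : IsPGroup 2 ↥(Qsub C i) := by
    intro g
    refine ⟨1, ?_⟩
    apply Subtype.ext
    apply Subtype.ext
    apply Subtype.ext
    show (((((g ^ 2 ^ 1 : ↥(Qsub C i)) : ↥C) : Matrix.SpecialLinearGroup (Fin n) F)) :
      Matrix (Fin n) (Fin n) F) = 1
    rw [pow_one, pow_two, Subgroup.coe_mul, Subgroup.coe_mul, Matrix.SpecialLinearGroup.coe_mul,
      Matrix.ext_iff_mulVec]
    intro v
    obtain ⟨c, hc⟩ := g.2 v
    obtain ⟨c'', hc''⟩ := g.2 (Pi.single i 1)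
    have e2 : (((g : ↥C) : Matrix.SpecialLinearGroup (Fin n) F) : Matrix (Fin n) (Fin n) F).mulVec v =
        v + c • Pi.single i 1 := by rw [← hc]; abel
    have e3 : (((g : ↥C) : Matrix.SpecialLinearGroup (Fin n) F) : Matrix (Fin n) (Fin n) F).mulVec
        (Pi.single i 1) = (1 + c'') • Pi.single i 1 := by
      rw [add_smul, one_smul, ← hc'']; abel
    have hc0 : c'' = 0 := by
      rcases h01 c'' with h | h
      · exact h
      · exfalso
        rw [h, h2, zero_smul] at e3
        exact hei (hinj _ _ e3)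
    rw [← Matrix.mulVec_mulVec, e2, Matrix.mulVec_add, Matrix.mulVec_smul, e2, e3, hc0, add_zero,
      one_smul, Matrix.one_mulVec, add_assoc, ← add_smul]
    have : c + c = 0 := by linear_combination c * h2
    rw [this, zero_smul, add_zero]
  have hQle : Qsub C i ≤ Cfsg.pCore 2 ↥C := le_sSup ⟨hQn, hQp⟩
  intro c hc
  apply hQle
  rw [Subgroup.mem_centralizer_iff] at hc
  -- the transvections `T_{ib}`
  have hrow : ∀ b : Fin n, b ≠ i → ∀ y : Fin n,
      ((c : Matrix.SpecialLinearGroup (Fin n) F) : Matrix (Fin n) (Fin n) F) b y =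
        if b = y then ((c : Matrix.SpecialLinearGroup (Fin n) F) : Matrix (Fin n) (Fin n) F) i i else 0 := by
    intro b hb y
    have hmemC : Matrix.SpecialLinearGroup.transvection (Ne.symm hb) (1 : F) ∈ C := by
      rw [hC, Subgroup.mem_centralizer_singleton_iff]
      apply Subtype.ext
      show ((Matrix.SpecialLinearGroup.transvection (Ne.symm hb) (1 : F) * t :
        Matrix.SpecialLinearGroup (Fin n) F) : Matrix (Fin n) (Fin n) F) =
        ((t * Matrix.SpecialLinearGroup.transvection (Ne.symm hb) (1 : F) :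
        Matrix.SpecialLinearGroup (Fin n) F) : Matrix (Fin n) (Fin n) F)
      rw [Matrix.SpecialLinearGroup.coe_mul, Matrix.SpecialLinearGroup.coe_mul, ht,
        Matrix.SpecialLinearGroup.transvection_coe, Matrix.transvection]
      simp only [mul_add, add_mul, mul_one, one_mul,
        Matrix.single_mul_single_of_ne _ _ _ _ hb, Matrix.single_mul_single_of_ne _ _ _ _ hij.symm]
      abel
    have hmemQ : (⟨_, hmemC⟩ : ↥C) ∈ Qsub C i := by
      intro v
      refine ⟨v b, ?_⟩
      show (Matrix.SpecialLinearGroup.transvection (Ne.symm hb) (1 : F) :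
        Matrix (Fin n) (Fin n) F).mulVec v - v = _
      rw [Matrix.SpecialLinearGroup.transvection_coe, Matrix.add_mulVec, Matrix.one_mulVec,
        add_sub_cancel_left]
      funext a
      simp [Matrix.mulVec, dotProduct, Matrix.single_apply, Pi.single_apply]
      by_cases ha : i = a
      · subst ha; simp
      · simp [ha, Ne.symm ha]
    have hcomm := hc _ (hQle hmemQ)
    have hm := congrArg (fun x : ↥C => ((x : Matrix.SpecialLinearGroup (Fin n) F) : Matrix (Fin n) (Fin n) F)) hcomm
    simp only [Subgroup.coe_mul, Matrix.SpecialLinearGroup.coe_mul,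
      Matrix.SpecialLinearGroup.transvection_coe, mul_add, add_mul,
      mul_one, one_mul, add_right_inj] at hm
    have := congrFun (congrFun hm i) y
    simp [Matrix.mul_apply, Matrix.single_apply] at this
    rw [this]
    by_cases hby : b = y
    · subst hby; simp
    · simp [hby]
  have hii : ((c : Matrix.SpecialLinearGroup (Fin n) F) : Matrix (Fin n) (Fin n) F) i i = 1 := by
    rcases h01 (((c : Matrix.SpecialLinearGroup (Fin n) F) : Matrix (Fin n) (Fin n) F) i i) with h | h
    · exfalso
      have hdet := (c : Matrix.SpecialLinearGroup (Fin n) F).2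
      rw [Matrix.det_eq_zero_of_row_eq_zero j (fun y => by rw [hrow j hij.symm y, h]; simp)] at hdet
      exact zero_ne_one hdet
    · exact h
  intro v
  refine ⟨(((c : Matrix.SpecialLinearGroup (Fin n) F) : Matrix (Fin n) (Fin n) F).mulVec v - v) i, ?_⟩
  funext a
  by_cases ha : a = i
  · subst ha; simp
  · have : ((c : Matrix.SpecialLinearGroup (Fin n) F) : Matrix (Fin n) (Fin n) F).mulVec v a = v a := by
      simp only [Matrix.mulVec, dotProduct]
      rw [Finset.sum_congr rfl (fun y _ => by rw [hrow a ha y, hii])]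
      simp
    simp [this, ha]

end Cfsg.Agent.S1339
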