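import Mathlib
import Cfsg.Statements.S1340
import Cfsg.Agent.H9.Comp
import Cfsg.Agent.Lib.Helper18.SLGen

set_option autoImplicit false
open Cfsg

namespace Cfsg.Agent.S1340

open Matrix

theorem hasComponent_of_hom {S H : Type*} [Group S] [Group H] (hS : IsQuasisimple S) (f : S →* H)
    (hn : f.range.Normal) (hne : ∃ s, f s ≠ 1) : HasComponent H := by
  refine ⟨f.range, hn.isSubnormal, ?_⟩
  rw [Cfsg.H9.isQuasisimple_iff]
  have hp := hS.1
  refine ⟨Group.IsPerfect.range f, ?_, ?_⟩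
  · obtain ⟨s, hs⟩ := hne
    exact ⟨⟨⟨f s, s, rfl⟩, 1, fun h => hs (congrArg Subtype.val h)⟩⟩
  · intro N hN
    rcases (Cfsg.H9.isQuasisimple_iff.1 hS).2.2 (N.comap f.rangeRestrict) (hN.comap _) with h | h
    · left
      rw [eq_top_iff]
      rintro ⟨_, s, rfl⟩ _
      have : s ∈ N.comap f.rangeRestrict := by rw [h]; trivial
      exact this
    · right
      rintro ⟨_, s, rfl⟩ hx
      rw [Subgroup.mem_center_iff]
      rintro ⟨_, s', rfl⟩
      have hs : s ∈ Subgroup.center S := h hx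
      apply Subtype.ext
      show f s' * f s = f s * f s'
      rw [← map_mul, ← map_mul, Subgroup.mem_center_iff.1 hs s']

variable {F : Type*} [Field F] {m : ℕ}

/-- reindexing -/
noncomputable def R (F : Type*) [Field F] (m : ℕ) :
    Matrix (Fin 1 ⊕ Fin m) (Fin 1 ⊕ Fin m) F ≃ₐ[F] Matrix (Fin (1 + m)) (Fin (1 + m)) F :=
  Matrix.reindexAlgEquiv F F finSumFinEquiv

/-- block diagonal matrices -/
noncomputable def bd (a : Matrix (Fin 1) (Fin 1) F) (D : Matrix (Fin m) (Fin m) F) :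
    Matrix (Fin (1 + m)) (Fin (1 + m)) F := R F m (fromBlocks a 0 0 D)

theorem bd_mul (a a' : Matrix (Fin 1) (Fin 1) F) (D D' : Matrix (Fin m) (Fin m) F) :
    bd a D * bd a' D' = bd (a * a') (D * D') := by
  simp [bd, ← map_mul, fromBlocks_multiply]

theorem bd_one : bd (1 : Matrix (Fin 1) (Fin 1) F) (1 : Matrix (Fin m) (Fin m) F) = 1 := by
  simp [bd, fromBlocks_one]

theorem bd_inj {a a' : Matrix (Fin 1) (Fin 1) F} {D D' : Matrix (Fin m) (Fin m) F}
    (h : bd a D = bd a' D') : a = a' ∧ D = D' := by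
  have := (R F m).injective h
  rw [fromBlocks_inj] at this
  exact ⟨this.1, this.2.2.2⟩

theorem blockdiag (h2 : (2 : F) ≠ 0) (c : Matrix (Fin (1 + m)) (Fin (1 + m)) F)
    (hc : bd (-1) 1 * c = c * bd (-1) 1) : ∃ a D, c = bd a D := by
  obtain ⟨c0, rfl⟩ := (R F m).surjective c
  rw [← fromBlocks_toBlocks c0] at hc ⊢
  generalize c0.toBlocks₁₁ = A at hc ⊢
  generalize c0.toBlocks₁₂ = B at hc ⊢
  generalize c0.toBlocks₂₁ = C at hc ⊢
  generalize c0.toBlocks₂₂ = D at hc ⊢
  unfold bd at hc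
  rw [← map_mul, ← map_mul, fromBlocks_multiply, fromBlocks_multiply] at hc
  have h := (R F m).injective hc
  rw [fromBlocks_inj] at h
  obtain ⟨-, hB, hC, -⟩ := h
  have hB0 : B = 0 := by
    ext i j
    have := congrFun (congrFun hB i) j
    simp at this
    have h3 : (2 : F) * B i j = 0 := by linear_combination -this
    simpa using (mul_eq_zero.1 h3).resolve_left h2
  have hC0 : C = 0 := by
    ext i j
    have := congrFun (congrFun hC i) j
    simp at this
    have h3 : (2 : F) * C i j = 0 := by linear_combination this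
    simpa using (mul_eq_zero.1 h3).resolve_left h2
  exact ⟨A, D, by rw [hB0, hC0]; rfl⟩

/-- the involution -/
noncomputable def tt (F : Type*) [Field F] (m : ℕ) : GL (Fin (1 + m)) F :=
  ⟨bd (-1) 1, bd (-1) 1, by rw [bd_mul]; simp [bd_one], by rw [bd_mul]; simp [bd_one]⟩

/-- the embedding of `SL_m` -/
noncomputable def phi0 (F : Type*) [Field F] (m : ℕ) :
    SpecialLinearGroup (Fin m) F →* Matrix (Fin (1 + m)) (Fin (1 + m)) F where
  toFun A := bd 1 A.1
  map_one' := bd_one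
  map_mul' A B := by rw [bd_mul]; simp

noncomputable def phi (F : Type*) [Field F] (m : ℕ) :
    SpecialLinearGroup (Fin m) F →* GL (Fin (1 + m)) F := (phi0 F m).toHomUnits

theorem phi_val (A : SpecialLinearGroup (Fin m) F) : (phi F m A).1 = bd 1 A.1 := rfl

theorem phi_mem (A : SpecialLinearGroup (Fin m) F) :
    phi F m A ∈ Subgroup.centralizer ({tt F m} : Set (GL (Fin (1 + m)) F)) := by
  rw [Subgroup.mem_centralizer_singleton_iff]
  apply Units.ext
  show bd 1 A.1 * bd (-1) 1 = bd (-1) 1 * bd 1 A.1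
  rw [bd_mul, bd_mul]
  simp

theorem conj_phi (h2 : (2 : F) ≠ 0) (c : GL (Fin (1 + m)) F)
    (hc : c ∈ Subgroup.centralizer ({tt F m} : Set (GL (Fin (1 + m)) F)))
    (A : SpecialLinearGroup (Fin m) F) : ∃ A', c * phi F m A * c⁻¹ = phi F m A' := by
  have hc' : c⁻¹ ∈ Subgroup.centralizer ({tt F m} : Set (GL (Fin (1 + m)) F)) := inv_mem hc
  rw [Subgroup.mem_centralizer_singleton_iff] at hc hc'
  obtain ⟨a, D, h1⟩ := blockdiag h2 c.1 (congrArg Units.val hc).symm
  obtain ⟨a', D', h1'⟩ := blockdiag h2 (c⁻¹).1 (congrArg Units.val hc').symm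
  have h3 : bd a D * bd a' D' = 1 := by
    rw [← h1, ← h1']
    exact congrArg Units.val (mul_inv_cancel c)
  rw [bd_mul, ← bd_one] at h3
  obtain ⟨ha, hD⟩ := bd_inj h3
  refine ⟨⟨D * A.1 * D', ?_⟩, ?_⟩
  · rw [det_mul, det_mul, A.2, mul_one, ← det_mul, hD, det_one]
  · apply Units.ext
    show c.1 * bd 1 A.1 * (c⁻¹).1 = bd 1 (D * A.1 * D')
    rw [h1, h1', bd_mul, bd_mul, mul_one, ha]

theorem sl_qs [Fintype F] [DecidableEq F] (hm : 2 ≤ m) (h : m = 2 → 5 ≤ Fintype.card F) :
    IsQuasisimple (SpecialLinearGroup (Fin m) F) := by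
  by_cases h3 : 3 ≤ m
  · exact ⟨⟨Cfsg.Agent.Lib.Helper18.SL_commutator_eq_top (by simpa using h3)⟩,
      Cfsg.Agent.Lib.Helper18.PSL_isSimpleGroup (by simpa using h3)⟩
  · obtain rfl : m = 2 := by omega
    have h5 := h rfl
    obtain ⟨c, hc0, hc1⟩ : ∃ c : F, c ≠ 0 ∧ c ^ 2 ≠ 1 := by
      by_contra hcon
      push Not at hcon
      have : Fintype.card F ≤ ({0, 1, -1} : Finset F).card := by
        rw [← Finset.card_univ]
        apply Finset.card_le_card
        intro x _
        by_cases hx : x = 0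
        · simp [hx]
        · rcases sq_eq_one_iff.mp (hcon x hx) with h | h <;> simp [h]
      have h3 : ({0, 1, -1} : Finset F).card ≤ 3 := Finset.card_le_three
      omega
    exact ⟨⟨Matrix.SL2.commutator_eq_top hc0 hc1⟩,
      Matrix.ProjectiveSpecialLinearGroup.rank_two_simple (by
        rw [Nat.card_eq_fintype_card]; omega)⟩

/-- diagonal of the involution of `SL` -/
def dj (F : Type*) [Field F] (k : ℕ) : Fin (k + 2) → F :=
  Fin.cons (α := fun _ => F) (-1) (Fin.cons (α := fun _ => F) (-1) (fun _ => 1))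

def jj (F : Type*) [Field F] (k : ℕ) : SpecialLinearGroup (Fin (k + 2)) F :=
  ⟨diagonal (dj F k), by
    rw [det_diagonal, Fin.prod_univ_succ, Fin.prod_univ_succ]
    simp [dj]⟩

theorem jj_sq (k : ℕ) : jj F k * jj F k = 1 := by
  apply Subtype.ext
  show diagonal (dj F k) * diagonal (dj F k) = 1
  rw [diagonal_mul_diagonal, ← diagonal_one]
  congr 1
  funext i
  refine Fin.cases ?_ (fun i => Fin.cases ?_ (fun i => ?_) i) i <;> simp [dj]

theorem neg_one_ne (h2 : (2 : F) ≠ 0) : (-1 : F) ≠ 1 := by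
  intro h
  apply h2
  linear_combination -h

theorem jj_ne (h2 : (2 : F) ≠ 0) (k : ℕ) : (jj F k).1 ≠ 1 := by
  intro h
  have := congrFun (congrFun h 0) 0
  simp [jj, dj] at this
  exact neg_one_ne h2 this

theorem tt_ne (h2 : (2 : F) ≠ 0) : tt F m ≠ 1 := by
  intro h
  have h1 : bd (-1 : Matrix (Fin 1) (Fin 1) F) (1 : Matrix (Fin m) (Fin m) F) = 1 :=
    congrArg Units.val h
  rw [← bd_one] at h1
  have := congrFun (congrFun (bd_inj h1).1 0) 0
  simp at this
  exact neg_one_ne h2 this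

theorem tt_order (h2 : (2 : F) ≠ 0) : orderOf (tt F m) = 2 := by
  apply orderOf_eq_prime _ (tt_ne h2)
  apply Units.ext
  rw [pow_two]
  show bd (-1 : Matrix (Fin 1) (Fin 1) F) (1 : Matrix (Fin m) (Fin m) F) * bd (-1) 1 = 1
  rw [bd_mul]
  simp [bd_one]

theorem tt_not_center (h2 : (2 : F) ≠ 0) (hm : 0 < m) :
    tt F m ∉ Subgroup.center (GL (Fin (1 + m)) F) := by
  intro h
  let B : Matrix (Fin 1) (Fin m) F := fun _ _ => 1
  let c : GL (Fin (1 + m)) F :=
    ⟨R F m (fromBlocks 1 B 0 1), R F m (fromBlocks 1 (-B) 0 1), by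
      rw [← map_mul, fromBlocks_multiply]; simp [fromBlocks_one], by
      rw [← map_mul, fromBlocks_multiply]; simp [fromBlocks_one]⟩
  have hc := Subgroup.mem_center_iff.1 h c
  obtain ⟨a, D, h1⟩ := blockdiag h2 c.1 (congrArg Units.val hc).symm
  have h3 : fromBlocks 1 B 0 1 = fromBlocks a 0 0 D := (R F m).injective h1
  rw [fromBlocks_inj] at h3
  have := congrFun (congrFun h3.2.1 0) ⟨0, hm⟩
  simp [B] at this

/-- Let F be a finite field of odd order and n ≥ 3 with (n, |F|) ≠ (3, 3). Then GL(n, F) has a non-central involution t such that C(t) / O(C(t)) has a component. -/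
theorem result {F : Type*} [Field F] [Fintype F] [DecidableEq F] (hF : Odd (Fintype.card F)) (n : ℕ) (hn : 3 ≤ n) (h33 : ¬ (n = 3 ∧ Fintype.card F = 3)) : ∃ t : Matrix.GeneralLinearGroup (Fin n) F, orderOf t = 2 ∧ t ∉ Subgroup.center (Matrix.GeneralLinearGroup (Fin n) F) ∧ Cfsg.HasComponent (↥(Subgroup.centralizer ({t} : Set (Matrix.GeneralLinearGroup (Fin n) F))) ⧸ Cfsg.oddCore ↥(Subgroup.centralizer ({t} : Set (Matrix.GeneralLinearGroup (Fin n) F)))) := by
  obtain ⟨k, rfl⟩ : ∃ k, n = 1 + (k + 2) := ⟨n - 3, by omega⟩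
  have h2 : (2 : F) ≠ 0 := by
    intro h
    have hc : ringChar F = 2 := by
      have hd : ringChar F ∣ 2 := ringChar.dvd (by exact_mod_cast h)
      rcases (Nat.dvd_prime Nat.prime_two).1 hd with h1 | h1
      · exact absurd h1 (CharP.ringChar_ne_one)
      · exact h1
    have := FiniteField.even_card_of_char_two hc
    rw [Nat.odd_iff] at hF
    omega
  have hq : IsQuasisimple (SpecialLinearGroup (Fin (k + 2)) F) := by
    apply sl_qs (by omega)
    intro hk
    have h3 : Fintype.card F ≠ 3 := fun h => h33 ⟨by omega, h⟩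
    have h1 : 1 < Fintype.card F := Fintype.one_lt_card
    rw [Nat.odd_iff] at hF
    omega
  refine ⟨tt F (k + 2), tt_order h2, tt_not_center h2 (by omega), ?_⟩
  let φ' : SpecialLinearGroup (Fin (k + 2)) F →*
      ↥(Subgroup.centralizer ({tt F (k + 2)} : Set (GL (Fin (1 + (k + 2))) F))) :=
    (phi F (k + 2)).codRestrict _ phi_mem
  apply hasComponent_of_hom hq ((QuotientGroup.mk' (Cfsg.oddCore
    ↥(Subgroup.centralizer ({tt F (k + 2)} : Set (GL (Fin (1 + (k + 2))) F))))).comp φ')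
  · refine ⟨?_⟩
    rintro _ ⟨A, rfl⟩ x
    obtain ⟨c, rfl⟩ := QuotientGroup.mk'_surjective _ x
    obtain ⟨A', hA'⟩ := conj_phi h2 c.1 c.2 A
    refine ⟨A', ?_⟩
    rw [MonoidHom.comp_apply, MonoidHom.comp_apply, ← map_inv, ← map_mul, ← map_mul]
    congr 1
    apply Subtype.ext
    exact hA'.symm
  · refine ⟨jj F k, ?_⟩
    intro h
    rw [MonoidHom.comp_apply, QuotientGroup.mk'_apply, QuotientGroup.eq_one_iff] at h
    have hx2 : (φ' (jj F k)) ^ 2 = 1 := by
      rw [pow_two, ← map_mul, jj_sq, map_one]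
    have hx1 : φ' (jj F k) ≠ 1 := by
      intro h1
      have h3 : bd (1 : Matrix (Fin 1) (Fin 1) F) (jj F k).1 = 1 :=
        congrArg (fun z => (z.1 : GL (Fin (1 + (k + 2))) F).1) h1
      rw [← bd_one] at h3
      exact jj_ne h2 k (bd_inj h3).2
    have ho : orderOf (φ' (jj F k)) = 2 := orderOf_eq_prime hx2 hx1
    have hd := Subgroup.orderOf_dvd_natCard _ h
    rw [ho] at hd
    have hco := Cfsg.H9.pPrimeCore_coprime (p := 2)
      (G := ↥(Subgroup.centralizer ({tt F (k + 2)} : Set (GL (Fin (1 + (k + 2))) F))))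
    have := Nat.Coprime.eq_one_of_dvd hco.symm hd
    omega

end Cfsg.Agent.S1340
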