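import Mathlib
import Cfsg.Statements.S1467

set_option autoImplicit false
open Cfsg

namespace Cfsg.Agent.S1467

theorem puigStep_anti {G : Type*} [Group G] {X Y : Subgroup G} (h : X ≤ Y) :
    Cfsg.puigStep Y ≤ Cfsg.puigStep X := by
  unfold Cfsg.puigStep
  apply sSup_le_sSup
  intro A hA
  exact ⟨hA.1, h.trans hA.2⟩

theorem puigStep_bot {G : Type*} [Group G] : Cfsg.puigStep (⊥ : Subgroup G) = ⊤ := by
  rw [eq_top_iff]
  intro g _
  have : Subgroup.zpowers g ≤ Cfsg.puigStep (⊥ : Subgroup G) := by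
    unfold Cfsg.puigStep
    apply le_sSup
    refine ⟨?_, bot_le⟩
    infer_instance
  exact this (Subgroup.mem_zpowers g)

theorem result {G : Type*} [Group G] [Finite G] :
    Cfsg.puigSeq G 0 = ⊥ ∧ Cfsg.puigSeq G 1 = ⊤ ∧
      (∀ n m : ℕ, Cfsg.puigSeq G (2 * n) ≤ Cfsg.puigSeq G (2 * n + 2) ∧ Cfsg.puigSeq G (2 * n) ≤ Cfsg.puigSeq G (2 * m + 1) ∧
        Cfsg.puigSeq G (2 * m + 3) ≤ Cfsg.puigSeq G (2 * m + 1)) ∧
      (∃ k : ℕ, ∀ n : ℕ, k ≤ n → Cfsg.puigSeq G (2 * n) = Cfsg.puigLower G ∧ Cfsg.puigSeq G (2 * n + 1) = Cfsg.puigSubgroup G) ∧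
      Cfsg.puigLower G ≤ Cfsg.puigSubgroup G ∧
      Cfsg.puigStep (Cfsg.puigLower G) = Cfsg.puigSubgroup G ∧ Cfsg.puigStep (Cfsg.puigSubgroup G) = Cfsg.puigLower G := by
  have hs : ∀ n, Cfsg.puigSeq G (n + 1) = Cfsg.puigStep (Cfsg.puigSeq G n) := fun n => rfl
  have h0 : Cfsg.puigSeq G 0 = ⊥ := rfl
  have h1 : Cfsg.puigSeq G 1 = ⊤ := by rw [hs 0, h0, puigStep_bot]
  have hev : ∀ n, Cfsg.puigSeq G (2 * n) ≤ Cfsg.puigSeq G (2 * n + 2) := by
    intro n
    induction n with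
    | zero => rw [Nat.mul_zero, h0]; exact bot_le
    | succ n ih =>
      have e1 : 2 * (n + 1) = (2 * n + 1) + 1 := by ring
      have e2 : 2 * (n + 1) + 2 = ((2 * n + 2) + 1) + 1 := by ring
      rw [e2, e1, hs (2 * n + 1), hs (2 * n + 2 + 1), hs (2 * n), hs (2 * n + 2)]
      exact puigStep_anti (puigStep_anti ih)
  have hod : ∀ m, Cfsg.puigSeq G (2 * m + 3) ≤ Cfsg.puigSeq G (2 * m + 1) := by
    intro m
    rw [hs (2 * m + 2), hs (2 * m)]
    exact puigStep_anti (hev m)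
  have hevmono : Monotone (fun n => Cfsg.puigSeq G (2 * n)) := by
    apply monotone_nat_of_le_succ
    intro n
    exact hev n
  have hodanti : Antitone (fun n => Cfsg.puigSeq G (2 * n + 1)) := by
    apply antitone_nat_of_succ_le
    intro n
    exact hod n
  have hle : ∀ n, Cfsg.puigSeq G (2 * n) ≤ Cfsg.puigSeq G (2 * n + 1) := by
    intro n
    induction n with
    | zero => rw [Nat.mul_zero, h0]; exact bot_le
    | succ n ih =>
      have e1 : 2 * (n + 1) = (2 * n + 1) + 1 := by ring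
      have h2 : Cfsg.puigSeq G (2 * n + 1 + 1) ≤ Cfsg.puigSeq G (2 * n + 1) := by
        rw [hs (2 * n + 1), hs (2 * n)]
        exact puigStep_anti ih
      rw [e1]
      rw [hs (2 * n + 1 + 1)]
      conv_lhs => rw [hs (2 * n + 1)]
      exact puigStep_anti h2
  have hcross : ∀ n m, Cfsg.puigSeq G (2 * n) ≤ Cfsg.puigSeq G (2 * m + 1) := by
    intro n m
    calc Cfsg.puigSeq G (2 * n) ≤ Cfsg.puigSeq G (2 * (max n m)) := hevmono (le_max_left n m)
      _ ≤ Cfsg.puigSeq G (2 * (max n m) + 1) := hle _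
      _ ≤ Cfsg.puigSeq G (2 * m + 1) := hodanti (le_max_right n m)
  obtain ⟨k, hk⟩ := WellFoundedGT.monotone_chain_condition (⟨_, hevmono⟩ : ℕ →o Subgroup G)
  have hk' : ∀ n, k ≤ n → Cfsg.puigSeq G (2 * n) = Cfsg.puigSeq G (2 * k) := fun n hn => (hk n hn).symm
  have hlow : Cfsg.puigLower G = Cfsg.puigSeq G (2 * k) := by
    unfold Cfsg.puigLower
    apply le_antisymm
    · apply iSup_le
      intro n
      calc Cfsg.puigSeq G (2 * n) ≤ Cfsg.puigSeq G (2 * (max n k)) := hevmono (le_max_left n k)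
        _ = Cfsg.puigSeq G (2 * k) := hk' _ (le_max_right n k)
    · exact le_iSup (fun n => Cfsg.puigSeq G (2 * n)) k
  have hk'' : ∀ n, k ≤ n → Cfsg.puigSeq G (2 * n + 1) = Cfsg.puigSeq G (2 * k + 1) := by
    intro n hn
    rw [hs, hs, hk' n hn]
  have hup : Cfsg.puigSubgroup G = Cfsg.puigSeq G (2 * k + 1) := by
    unfold Cfsg.puigSubgroup
    apply le_antisymm
    · exact iInf_le (fun n => Cfsg.puigSeq G (2 * n + 1)) k
    · apply le_iInf
      intro n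
      calc Cfsg.puigSeq G (2 * k + 1) = Cfsg.puigSeq G (2 * (max n k) + 1) := (hk'' _ (le_max_right n k)).symm
        _ ≤ Cfsg.puigSeq G (2 * n + 1) := hodanti (le_max_left n k)
  refine ⟨h0, h1, fun n m => ⟨hev n, hcross n m, hod m⟩, ⟨k, fun n hn => ⟨?_, ?_⟩⟩, ?_, ?_, ?_⟩
  · rw [hlow, hk' n hn]
  · rw [hup, hk'' n hn]
  · rw [hlow, hup]; exact hle k
  · rw [hlow, hup]; rfl
  · rw [hlow, hup, ← hs]
    exact hk' (k + 1) (Nat.le_succ k)

end Cfsg.Agent.S1467
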