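import Cfsg.Statements.S1615
import Cfsg.Agent.Lib.Helper27.ThreeTrZ
import Cfsg.Agent.Lib.Helper23.PPrimeCore

set_option autoImplicit false
open Cfsg

namespace Cfsg.Agent.S1615

open Cfsg.Agent.Lib.Helper27 Cfsg.Agent.Lib.Helper27.TT

theorem perm4_e1 : (Equiv.swap 0 1 * Equiv.swap 2 3 : Equiv.Perm (Fin 4)) =
    (Equiv.swap 2 3 * Equiv.swap 1 2)⁻¹ * ((Equiv.swap 1 2 * Equiv.swap 0 1) * (Equiv.swap 2 3 * Equiv.swap 1 2) *
      (Equiv.swap 1 2 * Equiv.swap 0 1)⁻¹) := by decide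

/-- if `a b` lies in a subgroup without involutions normalized by `y, a, b`, then `y ∈ D_a` commutes with `b`. -/
theorem sp_of_odd {G : Type*} [Group G] {D : Set G} (hT : IsThreeTranspositionSet D) {N H : Subgroup G}
    (hodd : ∀ z ∈ N, z ^ 2 = 1 → z = 1) (hnorm : ∀ k ∈ H, ∀ z ∈ N, k * z * k⁻¹ ∈ N) {y a b : G}
    (hy : y ∈ D) (ha : a ∈ D) (hb : b ∈ D) (hyH : y ∈ H) (hbH : b ∈ H) (hab : a * b ∈ N)
    (hya : Commute y a) (hne : y ≠ a) (hnab : ¬ Commute a b) : Commute y b := by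
  by_contra hyb
  obtain ⟨φ, h1, h2, h3⟩ := exists_hom_perm4 (sq hT hy) (sq hT hb) (sq hT ha)
    (cube_of_not_commute hT hy hb hyb) (cube_of_not_commute hT hb ha (fun h => hnab h.symm))
    ((commute_iff hT hy ha).1 hya)
  have key : y * a = (a * b)⁻¹ * ((b * y) * (a * b) * (b * y)⁻¹) := by
    have := congrArg φ perm4_e1
    simp only [map_mul, map_inv, h1, h2, h3] at this
    exact this
  have hmem : y * a ∈ N := by
    rw [key]
    exact N.mul_mem (N.inv_mem hab) (hnorm _ (H.mul_mem hbH hyH) _ hab)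
  have h4 := hodd _ hmem ((commute_iff hT hy ha).1 hya)
  apply hne
  rw [← inv_eq hT ha]
  exact eq_inv_of_mul_eq_one_left h4

/-- If O(⟨D_x⟩) is not central in ⟨D_x⟩ for some transposition x, the 3-transposition group is the symmetric group of degree 5. -/
theorem result {G : Type*} [Group G] [Finite G] (hsol : ∀ N : Subgroup G, N.Normal → Group.IsSolvable ↥N → N = ⊥) (hperf : ⁅commutator G, commutator G⁆ = commutator G) {D : Set G} (hD : Cfsg.IsThreeTranspositionClass D) (x : G) (hx : x ∈ D) (h : ¬ Cfsg.oddCore ↥(Subgroup.closure {y : G | y ∈ D ∧ y ≠ x ∧ Commute x y}) ≤ Subgroup.center ↥(Subgroup.closure {y : G | y ∈ D ∧ y ≠ x ∧ Commute x y})) : Nonempty (G ≃* Equiv.Perm (Fin 5)) := by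
  have hT := hD.1
  have hconj := conj_mem_of_class hD
  obtain ⟨H, hH⟩ : ∃ H : Subgroup G, H = Subgroup.closure (Dd D x) := ⟨_, rfl⟩
  change ¬ Cfsg.oddCore ↥(Subgroup.closure (Dd D x)) ≤ Subgroup.center ↥(Subgroup.closure (Dd D x)) at h
  rw [← hH] at h
  have hNn : (oddCore H).Normal := Cfsg.Agent.Lib.Helper23.h23_pPrimeCore_normal 2
  have hNc : (Nat.card (oddCore H)).Coprime 2 := Cfsg.Agent.Lib.Helper23.h23_pPrimeCore_coprime 2
  obtain ⟨N, hN⟩ : ∃ N : Subgroup G, N = (oddCore H).map H.subtype := ⟨_, rfl⟩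
  have hodd : ∀ z ∈ N, z ^ 2 = 1 → z = 1 := by
    intro z hz h2
    rw [hN] at hz
    obtain ⟨w, hw, rfl⟩ := hz
    have h3 : w ^ 2 = 1 := Subtype.ext h2
    have h4 : orderOf w ∣ 2 := orderOf_dvd_of_pow_eq_one h3
    have h5 : orderOf w ∣ Nat.card (oddCore H) := Subgroup.orderOf_dvd_natCard _ hw
    have h6 : orderOf w = 1 := Nat.eq_one_of_dvd_coprimes hNc h5 h4
    rw [orderOf_eq_one_iff] at h6
    rw [h6]; rfl
  have hnorm : ∀ k ∈ H, ∀ z ∈ N, k * z * k⁻¹ ∈ N := by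
    intro k hk z hz
    rw [hN] at hz ⊢
    obtain ⟨w, hw, rfl⟩ := hz
    exact ⟨⟨k, hk⟩ * w * ⟨k, hk⟩⁻¹, hNn.conj_mem w hw ⟨k, hk⟩, rfl⟩
  -- a member of `D_x` not centralizing `O(H)`
  obtain ⟨n, hnN, a, ha, hna⟩ : ∃ n ∈ N, ∃ a ∈ Dd D x, ¬ Commute n a := by
    by_contra hcon
    push Not at hcon
    apply h
    intro w hw
    rw [Subgroup.mem_center_iff]
    intro k
    have hwN : (w : G) ∈ N := hN ▸ ⟨w, hw, rfl⟩
    have hle : H ≤ Subgroup.centralizer {(w : G)} := by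
      refine hH.le.trans ?_
      rw [Subgroup.closure_le]
      intro y hy
      rw [SetLike.mem_coe, Subgroup.mem_centralizer_singleton_iff]
      exact (hcon w hwN y hy).symm.eq
    have h1 := hle k.2
    rw [Subgroup.mem_centralizer_singleton_iff] at h1
    exact Subtype.ext h1
  have hNH : N ≤ H := by
    rw [hN]
    rintro _ ⟨w, -, rfl⟩
    exact w.2
  have hnH : n ∈ H := hNH hnN
  have hnx : Commute n x := closure_Dd_commute (hH ▸ hnH)
  have haH : a ∈ H := hH ▸ Subgroup.subset_closure ha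
  obtain ⟨b, hb⟩ : ∃ b, b = n * a * n⁻¹ := ⟨_, rfl⟩
  have hbD : b ∈ Dd D x := hb ▸ Dd_conj_mem hconj hnx ha
  have hbH : b ∈ H := hH ▸ Subgroup.subset_closure hbD
  have habN : a * b ∈ N := by
    have h1 : a * b = (a * n * a⁻¹) * n⁻¹ := by
      rw [hb, inv_eq hT ha.1]; group
    rw [h1]
    exact N.mul_mem (hnorm a haH n hnN) (N.inv_mem hnN)
  have hbaN : b * a ∈ N := by
    have h1 : b * a = (a * b)⁻¹ := by rw [mul_inv_rev, inv_eq hT ha.1, inv_eq hT hbD.1]
    rw [h1]; exact N.inv_mem habN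
  have hab : ¬ Commute a b := by
    intro hc
    have h1 := hodd _ habN ((commute_iff hT ha.1 hbD.1).1 hc)
    have h2 : a = b := by
      rw [← inv_eq hT hbD.1]
      exact eq_inv_of_mul_eq_one_left h1
    apply hna
    exact commute_of_conj_eq (hb ▸ h2.symm)
  have hmemH : ∀ y ∈ D, Commute y x → y ∈ H ∨ y = x := by
    intro y hy hyx
    by_cases h1 : y = x
    · right; exact h1
    · left; exact hH ▸ Subgroup.subset_closure ⟨hy, h1, hyx.symm⟩
  have hw : Wr D x a b := by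
    refine ⟨hx, ha.1, hbD.1, ha.2.2, hbD.2.2, hab, ?_, ?_⟩
    · intro y hy hyx hya
      by_cases hne : y = a
      · left; exact hne
      · right
        rcases hmemH y hy hyx with h1 | h1
        · exact sp_of_odd hT hodd hnorm hy ha.1 hbD.1 h1 hbH habN hya hne hab
        · rw [h1]; exact hbD.2.2
    · intro y hy hyx hyb
      by_cases hne : y = b
      · left; exact hne
      · right
        rcases hmemH y hy hyx with h1 | h1
        · exact sp_of_odd hT hodd hnorm hy hbD.1 ha.1 h1 haH hbaN hyb hne (fun hc => hab hc.symm)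
        · rw [h1]; exact ha.2.2
  have hP : Prim D := prim_of_fischer hsol hperf hD ⟨x, hx, a, ha.1, ha.2.1.symm, ha.2.2⟩
  exact hw.iso hP

end Cfsg.Agent.S1615
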