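import Cfsg.Statements.S2820
import Cfsg.Agent.Lib.Helper16.Subn3

set_option autoImplicit false
open Cfsg

namespace Cfsg.Agent.S2820

open Cfsg.Agent.Lib.Helper16
open scoped commutatorElement


/-- Let A and B be subnormal subgroups of the finite group H with A a p-group and B = O^p(B) (B generated by its elements of order prime to p). Then A normalizes B and B = O^p(AB), the subgroup of ⟨A, B⟩ generated by its elements of order prime to p. -/
theorem result {H : Type*} [Group H] [Finite H] {p : ℕ} [Fact p.Prime] (A B : Subgroup H) (hA : A.IsSubnormal) (hB : B.IsSubnormal) (hAp : IsPGroup p ↥A) (hBres : (Cfsg.pResidual p ↥B).map B.subtype = B) : A ≤ Subgroup.normalizer (B : Set H) ∧ (Cfsg.pResidual p ↥(A ⊔ B)).map (A ⊔ B).subtype = B := by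
  set P := Cfsg.pCore p H with hP
  have hPc := pCore_characteristic (G := H) (p := p)
  have hPn : P.Normal := inferInstance
  have hPp : IsPGroup p P := pCore_isPGroup
  have hAP : A ≤ P := le_pCore_of_isSubnormal hA hAp
  have h1 := pResOf_sup_normal_pgroup hB hPn hPp
  rw [hBres] at h1
  constructor
  · have h2 := le_normalizer_pResOf (p := p) (B ⊔ P)
    rw [h1] at h2
    exact (hAP.trans le_sup_right).trans h2
  · apply le_antisymm
    · conv_rhs => rw [← h1]
      exact pResidual_map_subtype_mono (sup_le (hAP.trans le_sup_right) le_sup_left)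
    · conv_lhs => rw [← hBres]
      exact pResidual_map_subtype_mono le_sup_right

end Cfsg.Agent.S2820
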