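import Cfsg.Statements.S1851
import Cfsg.Agent.S2820
import Cfsg.Agent.S0055
import Cfsg.Agent.S1957
import Cfsg.Agent.H1.Coprime
import Cfsg.Agent.H9.CharP
import Cfsg.Agent.H9.Local
import Cfsg.Agent.H9.Local2
import Cfsg.Agent.H9.Cores
import Cfsg.Agent.H17.CharPBridge
import Cfsg.Agent.H12.Cores
import Cfsg.Agent.H12.PCoreOf
import Cfsg.Agent.Lib.Helper16.CharP
import Cfsg.Agent.Lib.Helper8.Klein

set_option autoImplicit false
open Cfsg
open scoped commutatorElement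

namespace Cfsg.Agent.S1851

/-- `Ω₁(Z(X))`. -/
def OZ {G : Type*} [Group G] (X : Subgroup G) : Subgroup G :=
  Cfsg.omegaOne 2 (X ⊓ Subgroup.centralizer (X : Set G))

theorem mem_OZ {G : Type*} [Group G] {X : Subgroup G} {w : G} :
    w ∈ OZ X ↔ w ∈ X ∧ w ∈ Subgroup.centralizer (X : Set G) ∧ w ^ 2 = 1 := by
  constructor
  · intro hw
    unfold OZ Cfsg.omegaOne at hw
    induction hw using Subgroup.closure_induction with
    | mem x hx => exact ⟨hx.1.1, hx.1.2, hx.2⟩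
    | one => exact ⟨X.one_mem, Subgroup.one_mem _, one_pow 2⟩
    | mul x y _ _ hx hy =>
      refine ⟨X.mul_mem hx.1 hy.1, Subgroup.mul_mem _ hx.2.1 hy.2.1, ?_⟩
      have hc : Commute x y := (Subgroup.mem_centralizer_iff.mp hy.2.1 x hx.1)
      rw [hc.mul_pow, hx.2.2, hy.2.2, one_mul]
    | inv x _ hx =>
      exact ⟨X.inv_mem hx.1, Subgroup.inv_mem _ hx.2.1, by rw [inv_pow, hx.2.2, inv_one]⟩
  · rintro ⟨h1, h2, h3⟩
    exact Subgroup.subset_closure ⟨⟨h1, h2⟩, h3⟩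

theorem OZ_le {G : Type*} [Group G] (X : Subgroup G) : OZ X ≤ X := fun _ hw => (mem_OZ.mp hw).1

theorem OZ_isPGroup {G : Type*} [Group G] (X : Subgroup G) : IsPGroup 2 ↥(OZ X) := by
  intro w
  refine ⟨1, ?_⟩
  apply Subtype.ext
  have := (mem_OZ.mp w.2).2.2
  simpa using this

theorem OZ_comm {G : Type*} [Group G] (X : Subgroup G) : IsMulCommutative ↥(OZ X) := by
  refine ⟨⟨fun a b => ?_⟩⟩
  apply Subtype.ext
  exact Subgroup.mem_centralizer_iff.mp (mem_OZ.mp b.2).2.1 a (mem_OZ.mp a.2).1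

theorem normalizer_le_OZ {G : Type*} [Group G] [Finite G] (X : Subgroup G) :
    Subgroup.normalizer (X : Set G) ≤ Subgroup.normalizer ((OZ X : Subgroup G) : Set G) := by
  intro g hg
  apply Cfsg.Agent.Lib.Helper8.mem_normalizer_of_conj_mem
  intro w hw
  obtain ⟨h1, h2, h3⟩ := mem_OZ.mp hw
  refine mem_OZ.mpr ⟨(Subgroup.mem_normalizer_iff.mp hg w).mp h1, ?_, ?_⟩
  · rw [Subgroup.mem_centralizer_iff]
    intro x hx
    have hx' : g⁻¹ * x * g ∈ X := by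
      have := (Subgroup.mem_normalizer_iff.mp (Subgroup.inv_mem _ hg) x).mp hx
      simpa using this
    have hc := Subgroup.mem_centralizer_iff.mp h2 _ hx'
    calc x * (g * w * g⁻¹) = g * ((g⁻¹ * x * g) * w) * g⁻¹ := by group
      _ = g * (w * (g⁻¹ * x * g)) * g⁻¹ := by rw [hc]
      _ = g * w * g⁻¹ * x := by group
  · rw [conj_pow, h3]; group

theorem comm_bot_of_odd {G : Type*} [Group G] {Y V : Subgroup G} (hodd : Cfsg.oddGenerated Y = Y)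
    (h : ∀ y ∈ Y, Odd (orderOf y) → y ∈ Subgroup.centralizer (V : Set G)) : ⁅V, Y⁆ = ⊥ := by
  rw [Subgroup.commutator_comm, Subgroup.commutator_eq_bot_iff_le_centralizer, ← hodd]
  unfold Cfsg.oddGenerated
  rw [Subgroup.closure_le]
  intro y hy
  exact h y hy.1 hy.2

theorem coprime_aux {G : Type*} [Group G] [Finite G] {y : G} (hy : Odd (orderOf y)) {V : Subgroup G}
    (hV : IsPGroup 2 ↥V) : (Nat.card ↥(Subgroup.zpowers y)).Coprime (Nat.card ↥V) := by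
  obtain ⟨n, hn⟩ := (IsPGroup.iff_card.mp hV)
  rw [hn, Nat.card_zpowers]
  apply Nat.Coprime.pow_right
  exact Nat.coprime_two_right.mpr hy

theorem lemA {G : Type*} [Group G] [Finite G] {Y R : Subgroup G} (hR : IsPGroup 2 ↥R)
    (hRY : R ≤ Subgroup.normalizer (Y : Set G)) (hYR : Y ≤ Subgroup.normalizer (R : Set G))
    (hodd : Cfsg.oddGenerated Y = Y) (h : ⁅OZ (R ⊓ Y), Y⁆ = ⊥) : ⁅OZ R, Y⁆ = ⊥ := by
  apply comm_bot_of_odd hodd
  intro y hy hyo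
  have hAY : Subgroup.zpowers y ≤ Y := by rw [Subgroup.zpowers_le]; exact hy
  have hAV : Subgroup.zpowers y ≤ Subgroup.normalizer ((OZ R : Subgroup G) : Set G) :=
    hAY.trans (hYR.trans (normalizer_le_OZ R))
  have hst := Cfsg.H1.coprime_commutator_stable (Subgroup.zpowers y) (OZ R) hAV
    (coprime_aux hyo (OZ_isPGroup R)) (Or.inl inferInstance)
  have h1 : ⁅OZ R, Subgroup.zpowers y⁆ ≤ OZ (R ⊓ Y) := by
    rw [Subgroup.commutator_le]
    intro v hv a ha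
    obtain ⟨hv1, hv2, hv3⟩ := mem_OZ.mp hv
    have hmemV : ⁅v, a⁆ ∈ OZ R := by
      have h2 : a * v⁻¹ * a⁻¹ ∈ OZ R :=
        (Subgroup.mem_normalizer_iff.mp (hAV ha) _).mp (Subgroup.inv_mem _ hv)
      have h3 : ⁅v, a⁆ = v * (a * v⁻¹ * a⁻¹) := by rw [commutatorElement_def]; group
      rw [h3]; exact Subgroup.mul_mem _ hv h2
    have hmemY : ⁅v, a⁆ ∈ Y := by
      have h2 : v * a * v⁻¹ ∈ Y := (Subgroup.mem_normalizer_iff.mp (hRY hv1) _).mp (hAY ha)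
      rw [commutatorElement_def]
      exact Y.mul_mem h2 (Y.inv_mem (hAY ha))
    obtain ⟨hw1, hw2, hw3⟩ := mem_OZ.mp hmemV
    refine mem_OZ.mpr ⟨⟨hw1, hmemY⟩, ?_, hw3⟩
    rw [Subgroup.mem_centralizer_iff]
    intro x hx
    exact Subgroup.mem_centralizer_iff.mp hw2 x hx.1
  have h2 : ⁅⁅OZ R, Subgroup.zpowers y⁆, Subgroup.zpowers y⁆ = ⊥ := by
    rw [eq_bot_iff, ← h]
    exact Subgroup.commutator_mono h1 hAY
  rw [h2] at hst
  have h3 := hst.symm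
  rw [Subgroup.commutator_comm, Subgroup.commutator_eq_bot_iff_le_centralizer] at h3
  exact h3 (Subgroup.mem_zpowers y)

theorem lemB {G : Type*} [Group G] [Finite G] {Y R : Subgroup G} (hR : IsPGroup 2 ↥R)
    (hRY : R ≤ Subgroup.normalizer (Y : Set G)) (hYR : Y ≤ Subgroup.normalizer (R : Set G))
    (hodd : Cfsg.oddGenerated Y = Y) (h : ⁅OZ R, Y⁆ = ⊥) : ⁅OZ (R ⊓ Y), Y⁆ = ⊥ := by
  apply comm_bot_of_odd hodd
  intro y hy hyo
  have hAY : Subgroup.zpowers y ≤ Y := by rw [Subgroup.zpowers_le]; exact hy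
  have hYQ : Y ≤ Subgroup.normalizer ((R ⊓ Y : Subgroup G) : Set G) := by
    intro g hg
    apply Cfsg.Agent.Lib.Helper8.mem_normalizer_of_conj_mem
    intro a ha
    exact ⟨(Subgroup.mem_normalizer_iff.mp (hYR hg) _).mp ha.1,
      Y.mul_mem (Y.mul_mem hg ha.2) (Y.inv_mem hg)⟩
  have hRQ : R ≤ Subgroup.normalizer ((R ⊓ Y : Subgroup G) : Set G) := by
    intro g hg
    apply Cfsg.Agent.Lib.Helper8.mem_normalizer_of_conj_mem
    intro a ha
    exact ⟨R.mul_mem (R.mul_mem hg ha.1) (R.inv_mem hg),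
      (Subgroup.mem_normalizer_iff.mp (hRY hg) _).mp ha.2⟩
  have hAW : Subgroup.zpowers y ≤ Subgroup.normalizer ((OZ (R ⊓ Y) : Subgroup G) : Set G) :=
    hAY.trans (hYQ.trans (normalizer_le_OZ _))
  have hRW : R ≤ Subgroup.normalizer ((OZ (R ⊓ Y) : Subgroup G) : Set G) :=
    hRQ.trans (normalizer_le_OZ _)
  haveI := OZ_comm (R ⊓ Y)
  have hfit := (Cfsg.Agent.S0055.result (Subgroup.zpowers y) (OZ (R ⊓ Y)) hAW
    (coprime_aux hyo (OZ_isPGroup _))).1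
  have hDW : ⁅OZ (R ⊓ Y), Subgroup.zpowers y⁆ ≤ OZ (R ⊓ Y) := by
    rw [Subgroup.commutator_le]
    intro v hv a ha
    have h2 : a * v⁻¹ * a⁻¹ ∈ OZ (R ⊓ Y) :=
      (Subgroup.mem_normalizer_iff.mp (hAW ha) _).mp (Subgroup.inv_mem _ hv)
    have h3 : ⁅v, a⁆ = v * (a * v⁻¹ * a⁻¹) := by rw [commutatorElement_def]; group
    rw [h3]; exact Subgroup.mul_mem _ hv h2
  have hRD : R ≤ Subgroup.normalizer ((⁅OZ (R ⊓ Y), Subgroup.zpowers y⁆ : Subgroup G) : Set G) := by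
    intro r hr
    apply Cfsg.Agent.Lib.Helper8.mem_normalizer_of_conj_mem
    have hle : ⁅OZ (R ⊓ Y), Subgroup.zpowers y⁆ ≤
        (⁅OZ (R ⊓ Y), Subgroup.zpowers y⁆).comap (MulAut.conj r).toMonoidHom := by
      rw [Subgroup.commutator_le]
      intro w hw a ha
      rw [Subgroup.mem_comap]
      show r * ⁅w, a⁆ * r⁻¹ ∈ _
      have hw' : r * w * r⁻¹ ∈ OZ (R ⊓ Y) := (Subgroup.mem_normalizer_iff.mp (hRW hr) _).mp hw
      have hcR : a⁻¹ * r * a * r⁻¹ ∈ R := by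
        have := (Subgroup.mem_normalizer_iff.mp (hYR (Y.inv_mem (hAY ha))) _).mp hr
        simp only [inv_inv] at this
        exact R.mul_mem this (R.inv_mem hr)
      have hcY : a⁻¹ * r * a * r⁻¹ ∈ Y := by
        have := (Subgroup.mem_normalizer_iff.mp (hRY hr) _).mp (hAY ha)
        have h2 : a⁻¹ * r * a * r⁻¹ = a⁻¹ * (r * a * r⁻¹) := by group
        rw [h2]
        exact Y.mul_mem (Y.inv_mem (hAY ha)) this
      have hcomm := Subgroup.mem_centralizer_iff.mp (mem_OZ.mp (Subgroup.inv_mem _ hw')).2.1 _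
        (show a⁻¹ * r * a * r⁻¹ ∈ R ⊓ Y from ⟨hcR, hcY⟩)
      have hEq : r * ⁅w, a⁆ * r⁻¹ = ⁅r * w * r⁻¹, a⁆ := by
        rw [commutatorElement_def, commutatorElement_def]
        calc r * (w * a * w⁻¹ * a⁻¹) * r⁻¹
            = (r * w * r⁻¹) * a * ((a⁻¹ * r * a * r⁻¹) * (r * w * r⁻¹)⁻¹) * (a⁻¹ * r * a * r⁻¹)⁻¹ * a⁻¹ := by
              group
          _ = (r * w * r⁻¹) * a * ((r * w * r⁻¹)⁻¹ * (a⁻¹ * r * a * r⁻¹)) * (a⁻¹ * r * a * r⁻¹)⁻¹ * a⁻¹ := by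
              rw [hcomm]
          _ = r * w * r⁻¹ * a * (r * w * r⁻¹)⁻¹ * a⁻¹ := by group
      rw [hEq]
      exact Subgroup.commutator_mem_commutator hw' ha
    intro d hd
    exact hle hd
  by_cases hD : ⁅OZ (R ⊓ Y), Subgroup.zpowers y⁆ = ⊥
  · rw [Subgroup.commutator_comm, Subgroup.commutator_eq_bot_iff_le_centralizer] at hD
    exact hD (Subgroup.mem_zpowers y)
  · exfalso
    obtain ⟨z, hzD, hz1, hzc⟩ := Cfsg.Agent.S1957.exists_central hR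
      (hDW.trans ((OZ_le _).trans inf_le_left)) hRD hD
    have hzW := hDW hzD
    have hzOZ : z ∈ OZ R := by
      refine mem_OZ.mpr ⟨(mem_OZ.mp hzW).1.1, ?_, (mem_OZ.mp hzW).2.2⟩
      rw [Subgroup.mem_centralizer_iff]
      exact hzc
    rw [Subgroup.commutator_eq_bot_iff_le_centralizer] at h
    have hzY := h hzOZ
    have hzA : z ∈ Subgroup.centralizer ((Subgroup.zpowers y : Subgroup G) : Set G) := by
      rw [Subgroup.mem_centralizer_iff]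
      intro a ha
      exact Subgroup.mem_centralizer_iff.mp hzY a (hAY ha)
    have : z ∈ (OZ (R ⊓ Y) ⊓ Subgroup.centralizer ((Subgroup.zpowers y : Subgroup G) : Set G) ⊓
        ⁅OZ (R ⊓ Y), Subgroup.zpowers y⁆ : Subgroup G) := ⟨⟨hzW, hzA⟩, hzD⟩
    rw [hfit] at this
    exact hz1 (Subgroup.mem_bot.mp this)

theorem map_pResidual_of_perfect {M : Type*} [Group M] [Finite M] (K : Subgroup M) (h : ⁅K, K⁆ = K) :
    (Cfsg.pResidual 2 ↥K).map K.subtype = K := by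
  haveI : Fact (Nat.Prime 2) := ⟨Nat.prime_two⟩
  have htop : ⁅(⊤ : Subgroup ↥K), (⊤ : Subgroup ↥K)⁆ = (⊤ : Subgroup ↥K) := by
    apply Subgroup.map_injective K.subtype_injective
    rw [Subgroup.map_commutator, ← MonoidHom.range_eq_map, Subgroup.range_subtype, h]
  have h1 : (⊤ : Subgroup ↥K) ≤ Cfsg.pResidual 2 ↥K := by
    apply Cfsg.H9.le_of_perfect_mod 2 (⊤ : Subgroup ↥K) (Cfsg.pResidual 2 ↥K)
    · rw [htop]; exact le_sup_left
    · intro x _ hx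
      exact Cfsg.Agent.H12.mem_pResidual hx
  rw [top_le_iff.mp h1, ← MonoidHom.range_eq_map, Subgroup.range_subtype]

theorem oddGenerated_eq {M : Type*} [Group M] (K : Subgroup M) :
    Cfsg.oddGenerated K = (Cfsg.pResidual 2 ↥K).map K.subtype := by
  unfold Cfsg.oddGenerated Cfsg.pResidual
  rw [MonoidHom.map_closure]
  congr 1
  ext x
  constructor
  · rintro ⟨hx, ho⟩
    refine ⟨⟨x, hx⟩, ?_, rfl⟩
    show (orderOf (⟨x, hx⟩ : ↥K)).Coprime 2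
    rw [← Subgroup.orderOf_coe]
    exact Nat.coprime_two_right.mpr ho
  · rintro ⟨y, hy, rfl⟩
    refine ⟨y.2, ?_⟩
    have hy' : (orderOf y).Coprime 2 := hy
    rw [← Subgroup.orderOf_coe] at hy'
    exact Nat.coprime_two_right.mp hy'

theorem calL_facts {G : Type*} [Group G] [Finite G] {T Y : Subgroup G} (hY : Y ∈ Cfsg.calL T) :
    Y ≠ ⊥ ∧ Cfsg.oddGenerated Y = Y ∧
    Cfsg.pCoreOf 2 (Y ⊔ T) ≤ Subgroup.normalizer (Y : Set G) ∧
    Cfsg.pCoreTwoOf Y = Cfsg.pCoreOf 2 (Y ⊔ T) ⊓ Y := by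
  haveI : Fact (Nat.Prime 2) := ⟨Nat.prime_two⟩
  obtain ⟨⟨hne, hperf, hsub, -⟩, -, -⟩ := hY
  have hYH : Y ≤ Y ⊔ T := le_sup_left
  have hperfG : ⁅Y, Y⁆ = Y := by
    have := congrArg (Subgroup.map (Y ⊔ T).subtype) hperf
    rwa [Subgroup.map_commutator, Subgroup.map_subgroupOf_eq_of_le hYH] at this
  refine ⟨?_, ?_, ?_, ?_⟩
  · rintro rfl
    apply hne
    simp
  · rw [oddGenerated_eq, map_pResidual_of_perfect Y hperfG]
  · have hn := (Cfsg.Agent.S2820.result (p := 2) (Cfsg.pCore 2 ↥(Y ⊔ T)) (Y.subgroupOf (Y ⊔ T))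
      (by
        haveI := Cfsg.Agent.H12.pCore_characteristic 2 ↥(Y ⊔ T)
        haveI : (Cfsg.pCore 2 ↥(Y ⊔ T)).Normal := inferInstance
        exact Subgroup.Normal.isSubnormal inferInstance) hsub
      (Cfsg.Agent.H12.pCore_isPGroup 2 _) (map_pResidual_of_perfect _ hperf)).1
    intro r hr
    obtain ⟨r', hr', rfl⟩ := hr
    apply Cfsg.Agent.Lib.Helper8.mem_normalizer_of_conj_mem
    intro a ha
    have := (Subgroup.mem_normalizer_iff.mp (hn hr') ⟨a, hYH ha⟩).mp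
      (by rw [Subgroup.mem_subgroupOf]; exact ha)
    rw [Subgroup.mem_subgroupOf] at this
    exact this
  · have h1 := Cfsg.H9.map_pCore_subnormal 2 hsub
    have h2 := congrArg (Subgroup.map (Y ⊔ T).subtype) h1
    rw [Subgroup.map_inf _ _ _ (Subgroup.subtype_injective _),
      Subgroup.map_subgroupOf_eq_of_le hYH, Subgroup.map_map] at h2
    have h3 := Cfsg.H9.map_pCore 2 (Subgroup.subgroupOfEquivOfLe hYH)
    unfold Cfsg.pCoreTwoOf Cfsg.pCoreOf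
    rw [← h2, ← h3, Subgroup.map_map]
    rfl

theorem charTwo {G : Type*} [Group G] [Finite G] (hQ : Cfsg.IsQTKE G) (T : Sylow 2 G)
    {H : Subgroup G} (hTH : (T : Subgroup G) ≤ H) (hH : Cfsg.pCore 2 ↥H ≠ ⊥) :
    H ⊓ Subgroup.centralizer ((Cfsg.pCoreOf 2 H : Subgroup G) : Set G) ≤ Cfsg.pCoreOf 2 H := by
  haveI : Fact (Nat.Prime 2) := ⟨Nat.prime_two⟩
  have hRne : Cfsg.pCoreOf 2 H ≠ ⊥ := Cfsg.Agent.Lib.Helper16.pCoreOf_ne_bot_iff.mpr hH
  have hHN : H ≤ Subgroup.normalizer ((Cfsg.pCoreOf 2 H : Subgroup G) : Set G) :=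
    Cfsg.Agent.H12.le_normalizer_pCoreOf H
  obtain ⟨N, hN⟩ : ∃ N : Subgroup G, N = Subgroup.normalizer ((Cfsg.pCoreOf 2 H : Subgroup G) : Set G) :=
    ⟨_, rfl⟩
  have hch : Cfsg.IsOfCharacteristicTwo ↥N :=
    hQ.2.2 N ⟨Cfsg.pCoreOf 2 H, Cfsg.Agent.H12.pCoreOf_isPGroup H, hRne, hN⟩ ⟨T, hN ▸ hTH.trans hHN⟩
  have hch' : N ⊓ Subgroup.centralizer ((Cfsg.pCoreOf 2 N : Subgroup G) : Set G) ≤ Cfsg.pCoreOf 2 N :=
    Cfsg.Agent.Lib.Helper16.hasCharP_iff.mp hch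
  have hHN' : H ≤ N := hN ▸ hHN
  have h1 : Cfsg.pCoreOf 2 H ≤ Cfsg.pCoreOf 2 N :=
    Cfsg.Agent.H12.le_pCoreOf ((Cfsg.Agent.H12.pCoreOf_le H).trans hHN')
      (Cfsg.Agent.H12.pCoreOf_isPGroup H) (le_of_eq hN)
  have h2 : Cfsg.pCoreOf 2 N ≤ (T : Subgroup G) := by
    apply Cfsg.Agent.H12.pCoreOf_le_sylow (hTH.trans hHN') T.2
    intro hd
    apply T.not_dvd_index
    rw [← Subgroup.relIndex_mul_index (hTH.trans hHN')]
    exact Dvd.dvd.mul_right hd _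
  have h3 : Cfsg.pCoreOf 2 N ≤ Cfsg.pCoreOf 2 H :=
    Cfsg.Agent.H12.le_pCoreOf (h2.trans hTH) (Cfsg.Agent.H12.pCoreOf_isPGroup N)
      (hHN'.trans (Cfsg.Agent.H12.le_normalizer_pCoreOf N))
  have h4 : Cfsg.pCoreOf 2 N = Cfsg.pCoreOf 2 H := le_antisymm h3 h1
  rw [h4] at hch'
  exact (inf_le_inf_right _ hHN').trans hch'

theorem mem_calHe {G : Type*} [Group G] [Finite G] (hQ : Cfsg.IsQTKE G) (T : Sylow 2 G)
    {K : Subgroup G} (hK : K ∈ Cfsg.calL (T : Subgroup G)) : K ∈ Cfsg.calHe G := by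
  haveI : Fact (Nat.Prime 2) := ⟨Nat.prime_two⟩
  have hD := charTwo hQ T (le_sup_right : (T : Subgroup G) ≤ K ⊔ T) hK.2.2
  have h1 : Subgroup.centralizer ((Cfsg.pCore 2 ↥(K ⊔ (T : Subgroup G)) : Subgroup _) : Set _) ≤
      Cfsg.pCore 2 ↥(K ⊔ (T : Subgroup G)) := Cfsg.Agent.Lib.Helper16.hasCharP_iff.mpr hD
  have h2 := Cfsg.H9.charP_of_subnormal (Cfsg.H9.centralizer_pCore_le_iff.mp h1) hK.1.2.2.1
  have h3 := (Cfsg.H9.charP_iff_centralizer _).mp h2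
  have h4 := Cfsg.Agent.H17.genFitting_eq_pCore_iff_centralizer.mpr h3
  exact Cfsg.H9.genFitting_eq_pCore_congr
    (Subgroup.subgroupOfEquivOfLe (le_sup_left : K ≤ K ⊔ (T : Subgroup G))) h4

theorem part_one {G : Type*} [Group G] [Finite G] (hQ : Cfsg.IsQTKE G) (T : Sylow 2 G)
    (L : Subgroup G) (hL : L ∈ Cfsg.calLf (T : Subgroup G)) (K : Subgroup G)
    (hK : K ∈ Cfsg.calL (T : Subgroup G)) (hLK : L ≤ K) : K ∈ Cfsg.calLf (T : Subgroup G) := by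
  haveI : Fact (Nat.Prime 2) := ⟨Nat.prime_two⟩
  obtain ⟨hKne, hKodd, hKn, hKQ⟩ := calL_facts hK
  obtain ⟨hLne, hLodd, hLn, hLQ⟩ := calL_facts hL.1
  refine ⟨hK, ⟨hKne, hKodd, mem_calHe hQ T hK⟩, ?_⟩
  intro hV
  apply hL.2.2
  have hHH : L ⊔ (T : Subgroup G) ≤ K ⊔ (T : Subgroup G) := sup_le_sup_right hLK _
  have hTK : (T : Subgroup G) ≤ K ⊔ (T : Subgroup G) := le_sup_right
  have hTL : (T : Subgroup G) ≤ L ⊔ (T : Subgroup G) := le_sup_right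
  have hR'T : Cfsg.pCoreOf 2 (K ⊔ (T : Subgroup G)) ≤ (T : Subgroup G) := by
    apply Cfsg.Agent.H12.pCoreOf_le_sylow hTK T.2
    intro hd
    apply T.not_dvd_index
    rw [← Subgroup.relIndex_mul_index hTK]
    exact Dvd.dvd.mul_right hd _
  have hR'R : Cfsg.pCoreOf 2 (K ⊔ (T : Subgroup G)) ≤ Cfsg.pCoreOf 2 (L ⊔ (T : Subgroup G)) :=
    Cfsg.Agent.H12.le_pCoreOf (hR'T.trans hTL) (Cfsg.Agent.H12.pCoreOf_isPGroup _)
      (hHH.trans (Cfsg.Agent.H12.le_normalizer_pCoreOf _))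
  have hD := charTwo hQ T hTK hK.2.2
  have hOZ : OZ (Cfsg.pCoreOf 2 (L ⊔ (T : Subgroup G))) ≤ OZ (Cfsg.pCoreOf 2 (K ⊔ (T : Subgroup G))) := by
    intro w hw
    obtain ⟨h1, h2, h3⟩ := mem_OZ.mp hw
    have hc : w ∈ Subgroup.centralizer ((Cfsg.pCoreOf 2 (K ⊔ (T : Subgroup G)) : Subgroup G) : Set G) := by
      rw [Subgroup.mem_centralizer_iff]
      intro x hx
      exact Subgroup.mem_centralizer_iff.mp h2 x (hR'R hx)
    exact mem_OZ.mpr ⟨hD ⟨hHH (Cfsg.Agent.H12.pCoreOf_le _ h1), hc⟩, hc, h3⟩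
  have hV' : ⁅OZ (Cfsg.pCoreOf 2 (K ⊔ (T : Subgroup G)) ⊓ K), K⁆ = ⊥ := by
    rw [← hKQ]; exact hV
  have hA := lemA (Cfsg.Agent.H12.pCoreOf_isPGroup _) hKn
    ((le_sup_left : K ≤ K ⊔ (T : Subgroup G)).trans (Cfsg.Agent.H12.le_normalizer_pCoreOf _)) hKodd hV'
  have hA' : ⁅OZ (Cfsg.pCoreOf 2 (L ⊔ (T : Subgroup G))), L⁆ = ⊥ := by
    rw [eq_bot_iff, ← hA]
    exact Subgroup.commutator_mono hOZ hLK
  have hB := lemB (Cfsg.Agent.H12.pCoreOf_isPGroup _) hLn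
    ((le_sup_left : L ≤ L ⊔ (T : Subgroup G)).trans (Cfsg.Agent.H12.le_normalizer_pCoreOf _)) hLodd hA'
  rw [← hLQ] at hB
  exact hB

theorem result {G : Type*} [Group G] [Finite G] [IsSimpleGroup G]
    (hG : ¬ IsMulCommutative G) (hQ : Cfsg.IsQTKE G) (T : Sylow 2 G) (L : Subgroup G)
    (hL : L ∈ Cfsg.calLf (T : Subgroup G)) :
    (∀ K ∈ Cfsg.calL (T : Subgroup G), L ≤ K → K ∈ Cfsg.calLf (T : Subgroup G)) ∧
    ((∀ K ∈ Cfsg.calLf (T : Subgroup G), L ≤ K → K = L) → L ∈ Cfsg.calLfMax (T : Subgroup G)) := by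
  refine ⟨fun K hK hLK => part_one hQ T L hL K hK hLK, ?_⟩
  intro hmax
  exact ⟨⟨hL.1, fun K hK hLK => hmax K (part_one hQ T L hL K hK hLK) hLK⟩, hL.2⟩

end Cfsg.Agent.S1851
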