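import Mathlib
import Cfsg.Statements.S1907
import Cfsg.Agent.H9.ExtLayer
import Cfsg.Agent.H1.Coprime
import Cfsg.Agent.Lib.Helper16.PClosed

set_option autoImplicit false
open Cfsg
open scoped commutatorElement

namespace Cfsg.Agent.S1907

/-- Let P be a Sylow p-subgroup of a finite group G, H = P ∩ O_{p',p}(G), N = N_G(H) and D = O_{p'}(G). (a) If y is an element of p-power order of N and d ∈ D with d⁻¹ y d ∈ N, then d = d₁ d₂ with d₁ ∈ C_D(y) and d₂ ∈ C_D(H). (b) Two elements of P that are conjugate in G are conjugate in N. -/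
theorem result {G : Type*} [Group G] [Finite G] {p : ℕ} [Fact p.Prime] (P : Sylow p G) :
    (∀ y ∈ Subgroup.normalizer (((P : Subgroup G) ⊓ Cfsg.pPrimePCore p G : Subgroup G) : Set G), (∃ k : ℕ, orderOf y = p ^ k) →
      ∀ d ∈ Cfsg.pPrimeCore p G, d⁻¹ * y * d ∈ Subgroup.normalizer (((P : Subgroup G) ⊓ Cfsg.pPrimePCore p G : Subgroup G) : Set G) →
        ∃ d₁ ∈ Cfsg.pPrimeCore p G ⊓ Subgroup.centralizer ({y} : Set G),
          ∃ d₂ ∈ Cfsg.pPrimeCore p G ⊓ Subgroup.centralizer (((P : Subgroup G) ⊓ Cfsg.pPrimePCore p G : Subgroup G) : Set G), d = d₁ * d₂) ∧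
    ∀ x y : G, x ∈ (P : Subgroup G) → y ∈ (P : Subgroup G) → IsConj x y →
      ∃ n ∈ Subgroup.normalizer (((P : Subgroup G) ⊓ Cfsg.pPrimePCore p G : Subgroup G) : Set G), n * x * n⁻¹ = y := by
  classical
  have hp : p.Prime := Fact.out
  set D := Cfsg.pPrimeCore p G with hD
  set K := Cfsg.pPrimePCore p G with hK
  set H : Subgroup G := (P : Subgroup G) ⊓ K with hH
  set N := Subgroup.normalizer (H : Set G) with hN
  have hDn : D.Normal := inferInstance
  have hKn : K.Normal := Cfsg.H9.pPrimePCore_normal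
  have hDcop : (Nat.card D).Coprime p := Cfsg.H9.pPrimeCore_coprime p
  have hHp : IsPGroup p H := P.isPGroup'.to_le inf_le_left
  have hDH : ∀ z, z ∈ D → z ∈ H → z = 1 := by
    intro z hzD hzH
    obtain ⟨k, hk⟩ := hHp ⟨z, hzH⟩
    have h1 : z ^ (p ^ k) = 1 := by simpa using congrArg Subtype.val hk
    have h2 : z ^ (Nat.card D) = 1 := by
      have := pow_card_eq_one' (G := D) (x := ⟨z, hzD⟩)
      have h := congrArg Subtype.val this
      simpa only [Subgroup.coe_pow, Subgroup.coe_one] using h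
    have h3 : z ^ (Nat.gcd (p ^ k) (Nat.card D)) = 1 := pow_gcd_eq_one.mpr ⟨h1, h2⟩
    rw [Nat.Coprime.pow_left k hDcop.symm] at h3
    simpa using h3
  have F1 : ∀ e, e ∈ D → e ∈ N → e ∈ Subgroup.centralizer (H : Set G) := by
    intro e heD heN
    rw [Subgroup.mem_centralizer_iff]
    intro h hh
    have h1 : e * h * e⁻¹ * h⁻¹ ∈ D := by
      have := D.mul_mem heD (hDn.conj_mem _ (D.inv_mem heD) h)
      simpa [mul_assoc] using this
    have h2 : e * h * e⁻¹ * h⁻¹ ∈ H :=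
      H.mul_mem ((Subgroup.mem_normalizer_iff.mp heN h).mp hh) (H.inv_mem hh)
    have h3 := hDH _ h1 h2
    have h4 : e * h = h * e := by
      have : e * h = (e * h * e⁻¹ * h⁻¹) * (h * e) := by group
      rw [this, h3, one_mul]
    exact h4.symm
  have partA : ∀ y ∈ N, (∃ k : ℕ, orderOf y = p ^ k) → ∀ d ∈ D, d⁻¹ * y * d ∈ N →
      ∃ d₁ ∈ D ⊓ Subgroup.centralizer ({y} : Set G),
        ∃ d₂ ∈ D ⊓ Subgroup.centralizer (H : Set G), d = d₁ * d₂ := by
    rintro y hy ⟨k, hk⟩ d hd hdy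
    have hzN : Subgroup.zpowers y ≤ N := (Subgroup.zpowers_le).mpr hy
    have hA : Subgroup.zpowers y ≤ Subgroup.normalizer ((D ⊓ N : Subgroup G) : Set G) := by
      intro a ha
      have haN := hzN ha
      rw [Subgroup.mem_normalizer_iff]
      intro e
      constructor
      · intro he
        exact Subgroup.mem_inf.mpr ⟨hDn.conj_mem _ (Subgroup.mem_inf.mp he).1 a,
          N.mul_mem (N.mul_mem haN (Subgroup.mem_inf.mp he).2) (N.inv_mem haN)⟩
      · intro he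
        have h1 := hDn.conj_mem _ (Subgroup.mem_inf.mp he).1 a⁻¹
        have h2 := N.mul_mem (N.mul_mem (N.inv_mem haN) (Subgroup.mem_inf.mp he).2) haN
        have e1 : a⁻¹ * (a * e * a⁻¹) * a⁻¹⁻¹ = e := by group
        have e2 : a⁻¹ * (a * e * a⁻¹) * a = e := by group
        rw [e1] at h1
        rw [e2] at h2
        exact Subgroup.mem_inf.mpr ⟨h1, h2⟩
    have hcop : (Nat.card (Subgroup.zpowers y)).Coprime (Nat.card (D ⊓ N : Subgroup G)) := by
      rw [Nat.card_zpowers, hk]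
      apply Nat.Coprime.pow_left
      exact (Nat.Coprime.coprime_dvd_left (Subgroup.card_dvd_of_le inf_le_left) hDcop).symm
    have hx : ∀ a ∈ Subgroup.zpowers y, d⁻¹ * a * d * a⁻¹ ∈ (D ⊓ N : Subgroup G) := by
      intro a ha
      have haN := hzN ha
      have h1 : Subgroup.zpowers y ≤ N.comap (MulAut.conj d⁻¹).toMonoidHom := by
        rw [Subgroup.zpowers_le, Subgroup.mem_comap]
        simpa using hdy
      have h2 : d⁻¹ * a * d ∈ N := by
        have := h1 ha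
        rw [Subgroup.mem_comap] at this
        simpa using this
      refine Subgroup.mem_inf.mpr ⟨?_, N.mul_mem h2 (N.inv_mem haN)⟩
      have := D.mul_mem (D.inv_mem hd) (hDn.conj_mem _ hd a)
      simpa [mul_assoc] using this
    obtain ⟨e, he, hde⟩ := Cfsg.H1.exists_mul_mem_centralizer hA hcop
      (Or.inl inferInstance) d hx
    refine ⟨d * e, Subgroup.mem_inf.mpr ⟨D.mul_mem hd (Subgroup.mem_inf.mp he).1, ?_⟩, e⁻¹,
      Subgroup.mem_inf.mpr ⟨D.inv_mem (Subgroup.mem_inf.mp he).1,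
        Subgroup.inv_mem _ (F1 e (Subgroup.mem_inf.mp he).1 (Subgroup.mem_inf.mp he).2)⟩, by group⟩
    rw [Subgroup.mem_centralizer_iff]
    intro h hh
    rw [Set.mem_singleton_iff] at hh
    subst hh
    exact Subgroup.mem_centralizer_iff.mp hde h (Subgroup.mem_zpowers h)
  refine ⟨partA, ?_⟩
  intro x y hx hy hxy
  obtain ⟨g, hg⟩ := isConj_iff.mp hxy
  have hPN : (P : Subgroup G) ≤ N := by
    intro a ha
    rw [Subgroup.mem_normalizer_iff]
    intro e
    constructor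
    · intro he
      exact Subgroup.mem_inf.mpr ⟨(P : Subgroup G).mul_mem ((P : Subgroup G).mul_mem ha
        (Subgroup.mem_inf.mp he).1) ((P : Subgroup G).inv_mem ha),
        hKn.conj_mem _ (Subgroup.mem_inf.mp he).2 a⟩
    · intro he
      have h1 := hKn.conj_mem _ (Subgroup.mem_inf.mp he).2 a⁻¹
      have h2 := (P : Subgroup G).mul_mem ((P : Subgroup G).mul_mem ((P : Subgroup G).inv_mem ha)
        (Subgroup.mem_inf.mp he).1) ha
      have e1 : a⁻¹ * (a * e * a⁻¹) * a⁻¹⁻¹ = e := by group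
      have e2 : a⁻¹ * (a * e * a⁻¹) * a = e := by group
      rw [e1] at h1
      rw [e2] at h2
      exact Subgroup.mem_inf.mpr ⟨h2, h1⟩
  have hS : Cfsg.Agent.Lib.Helper16.IsSyl p H K :=
    (Cfsg.Agent.Lib.Helper16.isSyl_sylow P).inf_normal le_top
      (by rw [Subgroup.normalizer_eq_top_iff.mpr hKn])
  obtain ⟨k, hkK, hkg⟩ := Cfsg.Agent.Lib.Helper16.frattini_arg (M := ⊤) hS
    (by rw [Subgroup.normalizer_eq_top_iff.mpr hKn]) (Subgroup.mem_top g)
  have hKDH : D ⊔ H = K := by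
    obtain ⟨T, hT⟩ := hS
    rw [hT]
    exact Cfsg.H9.sup_sylow_eq Cfsg.H9.pPrimeCore_le_pPrimePCore
      Cfsg.H9.relIndex_pPrimeCore_pPrimePCore T
  have hk' : k⁻¹ ∈ D ⊔ H := hKDH ▸ K.inv_mem hkK
  obtain ⟨d, hd, h, hh, hdh⟩ := Subgroup.mem_sup_of_normal_left.mp hk'
  have hHN : H ≤ N := Subgroup.le_normalizer
  set n := h * (k * g) with hn
  have hnN : n ∈ N := N.mul_mem (hHN hh) hkg
  have hgdn : g = d * n := by
    rw [hn, ← mul_assoc, hdh]; group
  have hx'N : n * x * n⁻¹ ∈ N := N.mul_mem (N.mul_mem hnN (hPN hx)) (N.inv_mem hnN)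
  have hx'o : ∃ j : ℕ, orderOf (n * x * n⁻¹) = p ^ j := by
    obtain ⟨j, hj⟩ := P.isPGroup' ⟨x, hx⟩
    have h1 : x ^ (p ^ j) = 1 := by simpa using congrArg Subtype.val hj
    have h2 : (n * x * n⁻¹) ^ (p ^ j) = 1 := by rw [conj_pow, h1]; group
    obtain ⟨i, _, hi⟩ := (Nat.dvd_prime_pow hp).mp (orderOf_dvd_of_pow_eq_one h2)
    exact ⟨i, hi⟩
  have hy' : d * (n * x * n⁻¹) * d⁻¹ = y := by
    rw [← hg, hgdn]; group
  obtain ⟨d₁, hd₁, d₂, hd₂, hdd⟩ := partA _ hx'N hx'o d⁻¹ (D.inv_mem hd)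
    (by rw [inv_inv, hy']; exact hPN hy)
  have hd₂N : d₂ ∈ N := Subgroup.centralizer_le_normalizer _ (Subgroup.mem_inf.mp hd₂).2
  refine ⟨d₂⁻¹ * n, N.mul_mem (N.inv_mem hd₂N) hnN, ?_⟩
  have hc : (n * x * n⁻¹) * d₁ = d₁ * (n * x * n⁻¹) :=
    Subgroup.mem_centralizer_iff.mp (Subgroup.mem_inf.mp hd₁).2 _ (Set.mem_singleton _)
  have hd' : d = d₂⁻¹ * d₁⁻¹ := by
    rw [← mul_inv_rev, ← hdd, inv_inv]
  rw [← hy', hd']
  have : d₁⁻¹ * (n * x * n⁻¹) * d₁ = n * x * n⁻¹ := by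
    rw [mul_assoc, hc]; group
  calc d₂⁻¹ * n * x * (d₂⁻¹ * n)⁻¹ = d₂⁻¹ * (n * x * n⁻¹) * d₂ := by group
    _ = d₂⁻¹ * (d₁⁻¹ * (n * x * n⁻¹) * d₁) * d₂ := by rw [this]
    _ = d₂⁻¹ * d₁⁻¹ * (n * x * n⁻¹) * (d₂⁻¹ * d₁⁻¹)⁻¹ := by group

end Cfsg.Agent.S1907
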