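import Cfsg.Statements.S1910
import Cfsg.Agent.Lib.Helper22.Tight2

set_option autoImplicit false
open Cfsg

namespace Cfsg.Agent.S1910

theorem eq_one_of_odd {G : Type*} [Group G] [Finite G] {H : Subgroup G} (hodd : Odd (Nat.card H))
    {y : G} (hy : y ∈ H) (h2 : ∃ k : ℕ, y ^ (2 ^ k) = 1) : y = 1 := by
  obtain ⟨k, hk⟩ := h2
  have h1 : orderOf y ∣ 2 ^ k := orderOf_dvd_of_pow_eq_one hk
  have h3 : orderOf y ∣ Nat.card H := by
    have := orderOf_dvd_natCard (⟨y, hy⟩ : H)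
    rwa [Subgroup.orderOf_mk] at this
  have hcop : Nat.Coprime (2 ^ k) (Nat.card H) :=
    Nat.Coprime.pow_left _ (Nat.coprime_two_left.2 hodd)
  have : orderOf y = 1 := Nat.eq_one_of_dvd_coprimes hcop h1 h3
  exact orderOf_eq_one_iff.1 this

theorem te_norm {G : Type*} [Group G] [Finite G] {Q : Subgroup G} (hQ : Cfsg.IsTightlyEmbedded Q)
    (x b : G) (hb : b ∈ Q) (hb1 : b ≠ 1) (h2 : ∃ k : ℕ, b ^ (2 ^ k) = 1) (hx : x * b * x⁻¹ ∈ Q) :
    x ∈ Subgroup.normalizer (Q : Set G) := by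
  by_contra hn
  have hodd := hQ.2 x hn
  have hy : x * b * x⁻¹ ∈ Q ⊓ Q.map (MulAut.conj x).toMonoidHom :=
    Subgroup.mem_inf.2 ⟨hx, ⟨b, hb, by simp [MulAut.conj_apply]⟩⟩
  have h3 : ∃ k : ℕ, (x * b * x⁻¹) ^ (2 ^ k) = 1 := by
    obtain ⟨k, hk⟩ := h2
    exact ⟨k, by rw [conj_pow, hk]; simp⟩
  have := eq_one_of_odd hodd hy h3
  apply hb1
  have e : b = x⁻¹ * (x * b * x⁻¹) * x := by group
  rw [e, this]; simp

theorem mem_conj {G : Type*} [Group G] (Q : Subgroup G) (g u : G) :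
    u ∈ Q.map (MulAut.conj g).toMonoidHom ↔ g⁻¹ * u * g ∈ Q := by
  constructor
  · rintro ⟨q, hq, rfl⟩
    have : g⁻¹ * ((MulAut.conj g).toMonoidHom q) * g = q := by
      simp [MulAut.conj_apply, mul_assoc]
    rw [this]; exact hq
  · intro h
    exact ⟨g⁻¹ * u * g, h, by simp [MulAut.conj_apply, mul_assoc]⟩

theorem te_norm_conj {G : Type*} [Group G] [Finite G] {Q : Subgroup G}
    (hQ : Cfsg.IsTightlyEmbedded Q) (g : G)
    (x b : G) (hb : b ∈ Q.map (MulAut.conj g).toMonoidHom) (hb1 : b ≠ 1)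
    (h2 : ∃ k : ℕ, b ^ (2 ^ k) = 1) (hx : x * b * x⁻¹ ∈ Q.map (MulAut.conj g).toMonoidHom) :
    x ∈ Subgroup.normalizer ((Q.map (MulAut.conj g).toMonoidHom : Subgroup G) : Set G) := by
  rw [mem_conj] at hb hx
  have h1 : g⁻¹ * x * g ∈ Subgroup.normalizer (Q : Set G) := by
    apply te_norm hQ (g⁻¹ * x * g) (g⁻¹ * b * g) hb
    · intro e
      apply hb1
      have e' : b = g * (g⁻¹ * b * g) * g⁻¹ := by group
      rw [e', e]; simp
    · obtain ⟨k, hk⟩ := h2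
      refine ⟨k, ?_⟩
      have : g⁻¹ * b * g = g⁻¹ * b * g⁻¹⁻¹ := by simp
      rw [this, conj_pow, hk]; simp
    · have : g⁻¹ * x * g * (g⁻¹ * b * g) * (g⁻¹ * x * g)⁻¹ = g⁻¹ * (x * b * x⁻¹) * g := by group
      rw [this]; exact hx
  rw [Subgroup.mem_normalizer_iff]
  intro u
  rw [mem_conj, mem_conj, Subgroup.mem_normalizer_iff.1 h1 (g⁻¹ * u * g)]
  have : g⁻¹ * x * g * (g⁻¹ * u * g) * (g⁻¹ * x * g)⁻¹ = g⁻¹ * (x * u * x⁻¹) * g := by group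
  rw [this]

/-- Let Q be a tightly embedded subgroup of a finite group G, g an element outside N_G(Q), T a nontrivial Sylow 2-subgroup of Q^g ∩ N_G(Q), and S a Sylow 2-subgroup of QT containing T. Then T ∩ Q = 1, and N_S(T) is the direct product of T and N_S(T) ∩ Q, with N_S(T) ∩ Q isomorphic to T. -/
theorem result {G : Type*} [Group G] [Finite G] (Q : Subgroup G) (hQ : Cfsg.IsTightlyEmbedded Q)
    (g : G) (hg : g ∉ Subgroup.normalizer (Q : Set G))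
    (T : Subgroup G) (hT1 : T ≠ ⊥) (hT : T ≤ Q.map (MulAut.conj g).toMonoidHom ⊓ Subgroup.normalizer (Q : Set G))
    (hTsyl : IsPGroup 2 T ∧ ¬ 2 ∣ T.relIndex (Q.map (MulAut.conj g).toMonoidHom ⊓ Subgroup.normalizer (Q : Set G)))
    (S : Subgroup G) (hTS : T ≤ S) (hS : S ≤ Q ⊔ T) (hSsyl : IsPGroup 2 S ∧ ¬ 2 ∣ S.relIndex (Q ⊔ T)) :
    T ⊓ Q = ⊥ ∧
      T ⊓ (S ⊓ Subgroup.normalizer (T : Set G) ⊓ Q) = ⊥ ∧
      ⁅T, S ⊓ Subgroup.normalizer (T : Set G) ⊓ Q⁆ = ⊥ ∧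
      T ⊔ (S ⊓ Subgroup.normalizer (T : Set G) ⊓ Q) = S ⊓ Subgroup.normalizer (T : Set G) ∧
      Nonempty (↥(S ⊓ Subgroup.normalizer (T : Set G) ⊓ Q) ≃* T) := by
  have pre : Cfsg.Agent.H22.Tight.Pre Q (Q.map (MulAut.conj g).toMonoidHom) T S :=
    { hAB := fun x hxA hxB h2 => eq_one_of_odd (hQ.2 g hg) (Subgroup.mem_inf.2 ⟨hxA, hxB⟩) h2
      hB := te_norm_conj hQ g
      hTB := hT.trans inf_le_left
      hTA := hT.trans inf_le_right
      hTS := hTS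
      hS := by rw [sup_comm]; exact hS
      hS2 := hSsyl.1 }
  refine ⟨?_, pre.inf_eq, ?_, pre.sup_eq, ?_⟩
  · rw [eq_bot_iff]
    intro x hx
    exact Subgroup.mem_bot.2 (pre.inf_TA (Subgroup.mem_inf.1 hx).1 (Subgroup.mem_inf.1 hx).2)
  · rw [Subgroup.commutator_eq_bot_iff_le_centralizer]
    exact Cfsg.Agent.H22.cm_iff_le_centralizer.1 pre.cmTR
  · exact Cfsg.Agent.H22.Tight.main pre hT1 (te_norm hQ)
      (by rw [sup_comm]; exact hSsyl.2) hTsyl.2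
      (Subgroup.equivMapOfInjective Q _ (MulAut.conj g).injective)

end Cfsg.Agent.S1910
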