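import Mathlib
import Cfsg.Statements.S1921
import Cfsg.Agent.H9.Comp
import Cfsg.Agent.H9.FStar2

set_option autoImplicit false
open Cfsg
open scoped commutatorElement

namespace Cfsg.Agent.S1921

/-- Let a be an involution of a finite group H and L a component of H with a L a⁻¹ ≠ L; put M = ⟨L, aLa⁻¹⟩ and let J be the subgroup generated by the elements x · a x a⁻¹ with x ∈ L (the diagonal). Then every element of M outside J·Z(M) generates M together with J. -/
theorem result {H : Type*} [Group H] [Finite H] (a : H) (ha : orderOf a = 2) (L : Subgroup H) (hL : Cfsg.IsComponent L)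
    (hLa : L.map (MulAut.conj a).toMonoidHom ≠ L) (x : H) (hxM : x ∈ L ⊔ L.map (MulAut.conj a).toMonoidHom)
    (hxJ : x ∉ Subgroup.closure {y : H | ∃ l ∈ L, y = l * (a * l * a⁻¹)} ⊔
      ((L ⊔ L.map (MulAut.conj a).toMonoidHom) ⊓ Subgroup.centralizer ((L ⊔ L.map (MulAut.conj a).toMonoidHom : Subgroup H) : Set H))) :
    Subgroup.closure {y : H | ∃ l ∈ L, y = l * (a * l * a⁻¹)} ⊔ Subgroup.zpowers x = L ⊔ L.map (MulAut.conj a).toMonoidHom := by
  classical
  have hL'c : IsComponent (L.map (MulAut.conj a).toMonoidHom) :=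
    Cfsg.H9.isComponent_map_equiv (MulAut.conj a) hL
  have hcomm : ⁅L, L.map (MulAut.conj a).toMonoidHom⁆ = ⊥ :=
    (Cfsg.H9.component_eq_or_comm hL hL'c).resolve_left (Ne.symm hLa)
  rw [Cfsg.H9.comm_iff] at hcomm
  have hmemL' : ∀ s ∈ L, a * s * a⁻¹ ∈ L.map (MulAut.conj a).toMonoidHom := by
    intro s hs
    exact ⟨s, hs, by simp [MulAut.conj_apply]⟩
  set J : Subgroup H := Subgroup.closure {y : H | ∃ l ∈ L, y = l * (a * l * a⁻¹)} with hJ
  have hJmem : ∀ l ∈ L, l * (a * l * a⁻¹) ∈ J := fun l hl => Subgroup.subset_closure ⟨l, hl, rfl⟩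
  have hnorm : L.map (MulAut.conj a).toMonoidHom ≤ Subgroup.normalizer (L : Set H) := by
    intro b hb
    rw [Subgroup.mem_normalizer_iff]
    intro h
    constructor
    · intro hh
      have := hcomm h hh b hb
      have e : b * h * b⁻¹ = h := by rw [← this]; group
      rw [e]; exact hh
    · intro hh
      have := hcomm _ hh b hb
      have e : h = b * h * b⁻¹ := by
        calc h = b⁻¹ * (b * h * b⁻¹ * b) := by group
          _ = b⁻¹ * (b * (b * h * b⁻¹)) := by rw [this]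
          _ = _ := by group
      rw [e]; exact hh
  apply le_antisymm
  · apply sup_le
    · rw [hJ, Subgroup.closure_le]
      rintro _ ⟨l, hl, rfl⟩
      exact Subgroup.mul_mem_sup hl (hmemL' l hl)
    · rw [Subgroup.zpowers_le]; exact hxM
  obtain ⟨u, hu, v', hv', huv⟩ := (Cfsg.H9.mem_sup_of_le_normalizer hnorm).mp hxM
  obtain ⟨v, hv, hvv'⟩ := hv'
  have hvv : a * v * a⁻¹ = v' := by simpa [MulAut.conj_apply] using hvv'
  set T : Subgroup H := J ⊔ Subgroup.zpowers x with hT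
  have hxT : x ∈ T := (le_sup_right : Subgroup.zpowers x ≤ T) (Subgroup.mem_zpowers x)
  have hJT : J ≤ T := le_sup_left
  have hw : u * v⁻¹ = x * (v * (a * v * a⁻¹))⁻¹ := by
    rw [← huv, hvv]; group
  have hwT : u * v⁻¹ ∈ T := by
    rw [hw]; exact T.mul_mem hxT (T.inv_mem (hJT (hJmem v hv)))
  have hwL : u * v⁻¹ ∈ L := L.mul_mem hu (L.inv_mem hv)
  have hN : ((T ⊓ L).subgroupOf L).Normal := by
    constructor
    intro n hn l
    rw [Subgroup.mem_subgroupOf] at hn ⊢
    simp only [Subgroup.coe_mul, InvMemClass.coe_inv]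
    refine Subgroup.mem_inf.mpr ⟨?_, L.mul_mem (L.mul_mem l.2 n.2) (L.inv_mem l.2)⟩
    have h1 := hcomm n n.2 _ (hmemL' l l.2)
    have h2 := hcomm l l.2 _ (hmemL' l l.2)
    have e : (l : H) * n * (l : H)⁻¹ =
        ((l : H) * (a * l * a⁻¹)) * n * ((l : H) * (a * l * a⁻¹))⁻¹ := by
      calc (l : H) * n * (l : H)⁻¹ = (l : H) * (n * (a * l * a⁻¹)) * (a * l * a⁻¹)⁻¹ * (l : H)⁻¹ := by
            group
        _ = (l : H) * ((a * l * a⁻¹) * n) * (a * l * a⁻¹)⁻¹ * (l : H)⁻¹ := by rw [h1]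
        _ = _ := by group
    rw [e]
    exact T.mul_mem (T.mul_mem (hJT (hJmem l l.2)) (Subgroup.mem_inf.mp hn).1)
      (T.inv_mem (hJT (hJmem l l.2)))
  have hLT : L ≤ T := by
    rcases Cfsg.H9.qs_eq_top_or_le_center hL.2 hN.isSubnormal with h | h
    · intro l hl
      have : (⟨l, hl⟩ : L) ∈ (T ⊓ L).subgroupOf L := by rw [h]; trivial
      exact (Subgroup.mem_inf.mp (Subgroup.mem_subgroupOf.mp this)).1
    · exfalso
      apply hxJ
      have hwc : (⟨u * v⁻¹, hwL⟩ : L) ∈ Subgroup.center L :=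
        h (Subgroup.mem_subgroupOf.mpr (Subgroup.mem_inf.mpr ⟨hwT, hwL⟩))
      rw [Subgroup.mem_center_iff] at hwc
      have hx' : x = (v * (a * v * a⁻¹)) * (u * v⁻¹) := by
        have h3 := hcomm (u * v⁻¹) hwL _ (hmemL' v hv)
        have h4 := congrArg Subtype.val (hwc ⟨v, hv⟩)
        simp only [Subgroup.coe_mul] at h4
        calc x = (u * v⁻¹) * (v * (a * v * a⁻¹)) := by rw [hw]; group
          _ = ((u * v⁻¹) * v) * (a * v * a⁻¹) := by group
          _ = (v * (u * v⁻¹)) * (a * v * a⁻¹) := by rw [h4]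
          _ = v * ((u * v⁻¹) * (a * v * a⁻¹)) := by group
          _ = v * ((a * v * a⁻¹) * (u * v⁻¹)) := by rw [h3]
          _ = _ := by group
      rw [hx']
      apply Subgroup.mul_mem_sup (hJmem v hv)
      refine Subgroup.mem_inf.mpr ⟨(le_sup_left : L ≤ _) hwL, ?_⟩
      rw [Subgroup.mem_centralizer_iff]
      intro m hm
      obtain ⟨m1, hm1, m2, hm2, rfl⟩ := (Cfsg.H9.mem_sup_of_le_normalizer hnorm).mp hm
      have h5 := congrArg Subtype.val (hwc ⟨m1, hm1⟩)
      simp only [Subgroup.coe_mul] at h5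
      have h6 := hcomm (u * v⁻¹) hwL m2 hm2
      calc m1 * m2 * (u * v⁻¹) = m1 * (m2 * (u * v⁻¹)) := by group
        _ = m1 * ((u * v⁻¹) * m2) := by rw [h6]
        _ = (m1 * (u * v⁻¹)) * m2 := by group
        _ = ((u * v⁻¹) * m1) * m2 := by rw [h5]
        _ = _ := by group
  apply sup_le hLT
  rintro _ ⟨l, hl, rfl⟩
  have e : (MulAut.conj a).toMonoidHom l = l⁻¹ * (l * (a * l * a⁻¹)) := by
    simp [MulAut.conj_apply]
  rw [e]
  exact T.mul_mem (T.inv_mem (hLT hl)) (hJT (hJmem l hl))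

end Cfsg.Agent.S1921
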