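import Cfsg.Statements.S1944
import Mathlib
import Cfsg.Agent.H4.IsoSplit
import Cfsg.Agent.S1907

set_option autoImplicit false
open Cfsg

namespace Cfsg.Agent.S1944

/-- Let S be a Sylow p-subgroup of the finite group G and suppose that the centre Z(S) lies in O_{p',p}(G). The elements of S each of which is its only G-conjugate in S form a subgroup W of Z(S); W is then a direct factor of Z(S): there is a subgroup K of Z(S) with W ∩ K = 1 and WK = Z(S). -/
theorem result {G : Type*} [Group G] [Finite G] {p : ℕ} [Fact p.Prime] (S : Sylow p G)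
    (hZ : ((S : Subgroup G) ⊓ Subgroup.centralizer ((S : Subgroup G) : Set G)) ≤ Cfsg.pPrimePCore p G) :
    ∃ W K : Subgroup G, (∀ x : G, x ∈ W ↔ (x ∈ (S : Subgroup G) ∧ ∀ g : G, g * x * g⁻¹ ∈ (S : Subgroup G) → g * x * g⁻¹ = x)) ∧
      K ≤ ((S : Subgroup G) ⊓ Subgroup.centralizer ((S : Subgroup G) : Set G)) ∧ W ⊓ K = ⊥ ∧ W ⊔ K = ((S : Subgroup G) ⊓ Subgroup.centralizer ((S : Subgroup G) : Set G)) := by
  classical
  have hp : p.Prime := Fact.out
  suffices hc : Cfsg.Agent.H4.IsoSplitConcl (S : Subgroup G) from hc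
  have hKn : (Cfsg.pPrimePCore p G).Normal := Cfsg.H9.pPrimePCore_normal
  have hSi : ¬ p ∣ (S : Subgroup G).index := S.not_dvd_index
  refine Cfsg.Agent.H4.isolated_split' (p := p) (S : Subgroup G)
    ((S : Subgroup G) ⊓ Cfsg.pPrimePCore p G) S.isPGroup' hSi inf_le_left ?_ ?_ ?_
  · intro x hx
    exact Subgroup.mem_inf.mpr ⟨hx.1, hZ hx⟩
  · intro s hs
    rw [Subgroup.mem_normalizer_iff]
    intro x
    rw [Subgroup.mem_inf, Subgroup.mem_inf]
    constructor
    · rintro ⟨h1, h2⟩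
      exact ⟨(S : Subgroup G).mul_mem ((S : Subgroup G).mul_mem hs h1) ((S : Subgroup G).inv_mem hs),
        hKn.conj_mem x h2 s⟩
    · rintro ⟨h1, h2⟩
      have e : s⁻¹ * (s * x * s⁻¹) * s⁻¹⁻¹ = x := by group
      refine ⟨?_, ?_⟩
      · have := (S : Subgroup G).mul_mem ((S : Subgroup G).mul_mem ((S : Subgroup G).inv_mem hs) h1)
          ((S : Subgroup G).inv_mem ((S : Subgroup G).inv_mem hs))
        rwa [e] at this
      · have := hKn.conj_mem _ h2 s⁻¹
        rwa [e] at this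
  · intro x hx g hg
    obtain ⟨n, hn, hnx⟩ := (Cfsg.Agent.S1907.result S).2 x (g * x * g⁻¹) hx.1 hg
      (isConj_iff.mpr ⟨g, rfl⟩)
    rw [← hnx]
    have := (Subgroup.mem_centralizer_iff.mp hx.2) n hn
    exact mul_inv_eq_iff_eq_mul.mpr this

end Cfsg.Agent.S1944
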