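import Cfsg.Statements.S1946
import Cfsg.Agent.Tr.Frobenius
import Cfsg.Agent.Lib.Helper27.CoprimeAut2
import Cfsg.Agent.Lib.Helper13.PAction
import Cfsg.Agent.H12.Functors
import Cfsg.Agent.H12.Transfer

set_option autoImplicit false
open Cfsg
open Cfsg.Agent.H12

namespace Cfsg.Agent.S1946

/-- Let P be a Sylow p-subgroup of the finite group G. Then G has a normal p-complement if and only if P controls the fusion of its elements of order dividing p (dividing 4 when p = 2): whenever such an element a of P has a G-conjugate g a g⁻¹ in P, that conjugate is already x a x⁻¹ for some x in P. -/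
theorem result {G : Type*} [Group G] [Finite G] {p : ℕ} [Fact p.Prime] (P : Sylow p G) :
    Cfsg.HasNormalPComplement p G ↔
      ∀ a ∈ (P : Subgroup G), (a ^ p = 1 ∨ (p = 2 ∧ a ^ 4 = 1)) → ∀ g : G, g * a * g⁻¹ ∈ (P : Subgroup G) →
        ∃ x ∈ (P : Subgroup G), g * a * g⁻¹ = x * a * x⁻¹ := by

  constructor
  · intro h a ha _ g hg
    obtain ⟨z, hz, e⟩ := (Cfsg.Agent.Tr.frob_of_hasNormalPComplement h).controls_elements P ha hg
    exact ⟨z, hz, e.symm⟩
  · intro h
    apply Cfsg.Agent.Tr.Frob.hasNormalPComplement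
    apply Cfsg.Agent.Tr.frob_of_sylow P
    intro Q
    induction' hn : Nat.card Q using Nat.strong_induction_on with n ih generalizing Q
    intro hQP x hx hco
    have hQ : IsPGroup p Q := P.2.to_le hQP
    obtain ⟨e, he, hsmall⟩ : ∃ e, ((p ≠ 2 ∧ e = p) ∨ (p = 2 ∧ e = 4)) ∧
        ∀ a : G, a ^ e = 1 → (a ^ p = 1 ∨ (p = 2 ∧ a ^ 4 = 1)) := by
      by_cases hp2 : p = 2
      · exact ⟨4, Or.inr ⟨hp2, rfl⟩, fun a ha => Or.inr ⟨hp2, ha⟩⟩
      · exact ⟨p, Or.inl ⟨hp2, rfl⟩, fun a ha => Or.inl ha⟩
    have hxQ : ∀ a ∈ Q, x * a * x⁻¹ ∈ Q := fun a ha => (Subgroup.mem_normalizer_iff.mp hx a).mp ha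
    have hred : (∀ a ∈ Q, a ^ e = 1 → x * a * x⁻¹ = a) → x ∈ Subgroup.centralizer (Q : Set G) := by
      intro hfix
      have key := Cfsg.Agent.Lib.Helper27.fixes_of_fixes_small (k := orderOf x) (e := e) hco he
        (MulAut.conj x) Q hQ hxQ (by intro y _; rw [← map_pow, pow_orderOf_eq_one]; simp) hfix
      rw [Subgroup.mem_centralizer_iff]
      intro y hy
      have := key y hy
      rw [MulAut.conj_apply] at this
      calc y * x = (x * y * x⁻¹) * x := by rw [this]
        _ = x * y := by group
    have hnorm : ∀ R : Subgroup G, (∀ a ∈ R, x * a * x⁻¹ ∈ R) → x ∈ Subgroup.normalizer (R : Set G) := by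
      intro R hR
      have h1 : cj R x⁻¹ ≤ R := by
        intro y hy
        rw [mem_cj] at hy
        have := hR _ hy
        simpa [mul_assoc] using this
      have h2 := cj_eq_self_iff.mp (cj_eq_of_le h1)
      simpa using inv_mem h2
    set Om : Subgroup G := Subgroup.closure {a | a ∈ Q ∧ a ^ e = 1} with hOm
    have hOmQ : Om ≤ Q := by
      rw [hOm, Subgroup.closure_le]
      exact fun a ha => ha.1
    by_cases hO : Om = Q
    · -- the main case
      set B : Subgroup G := ⨆ u : (P : Subgroup G), cj Q (u : G) with hB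
      set B₀ : Subgroup G := ⁅B, (P : Subgroup G)⁆ with hB₀
      have hQB : Q ≤ B := by
        have := le_iSup (fun u : (P : Subgroup G) => cj Q (u : G)) 1
        have e1 : cj Q ((1 : (P : Subgroup G)) : G) = Q := cj_eq_self (one_mem _)
        rw [e1] at this
        exact this
      have hBP : B ≤ (P : Subgroup G) := by
        refine iSup_le fun u => ?_
        intro y hy
        rw [mem_cj] at hy
        have h1 := hQP hy
        have h2 := (P : Subgroup G).mul_mem ((P : Subgroup G).mul_mem ((P : Subgroup G).inv_mem u.2) h1) u.2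
        have e2 : (u : G)⁻¹ * ((u : G) * y * (u : G)⁻¹) * (u : G) = y := by group
        rwa [e2] at h2
      have hcjB : ∀ v ∈ (P : Subgroup G), cj B v = B := by
        intro v hv
        apply cj_eq_of_le
        have e0 : cj B v = ⨆ u : (P : Subgroup G), cj (cj Q (u : G)) v := cj_iSup _ _
        rw [e0]
        refine iSup_le fun u => ?_
        rw [cj_mul]
        have h1 : cj Q ((u : G) * v) = (fun u : (P : Subgroup G) => cj Q (u : G)) (u * ⟨v, hv⟩) := rfl
        rw [h1]
        exact le_iSup (fun u : (P : Subgroup G) => cj Q (u : G)) _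
      have hcjB₀ : ∀ v ∈ (P : Subgroup G), cj B₀ v = B₀ := by
        intro v hv
        rw [hB₀, cj_commutator, hcjB v hv, cj_self_of_mem hv]
      have hconj : ∀ v ∈ (P : Subgroup G), ∀ b ∈ B₀, v * b * v⁻¹ ∈ B₀ := by
        intro v hv b hb
        have h1 := hcjB₀ v hv
        rw [← h1] at hb
        exact mem_cj.mp hb
      have hall : ∀ a ∈ Q, x * a * x⁻¹ * a⁻¹ ∈ B₀ := by
        intro a ha
        rw [← hO] at ha
        induction ha using Subgroup.closure_induction with
        | mem a ha =>
          obtain ⟨u, hu, hua⟩ := h a (hQP ha.1) (hsmall a ha.2) x (hQP (hxQ a ha.1))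
          rw [hua]
          have h1 := Subgroup.commutator_mem_commutator (hQB ha.1) hu
          have h2 := B₀.inv_mem h1
          rw [commutatorElement_def] at h2
          have e3 : (a * u * a⁻¹ * u⁻¹)⁻¹ = u * a * u⁻¹ * a⁻¹ := by group
          rwa [e3] at h2
        | one => simp
        | mul a b ha hb iha ihb =>
          have haP : a ∈ (P : Subgroup G) := hQP (hOmQ ha)
          have e4 : x * (a * b) * x⁻¹ * (a * b)⁻¹ = (x * a * x⁻¹ * a⁻¹) * (a * (x * b * x⁻¹ * b⁻¹) * a⁻¹) := by
            group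
          rw [e4]
          exact B₀.mul_mem iha (hconj a haP _ ihb)
        | inv a ha iha =>
          have haP : a ∈ (P : Subgroup G) := hQP (hOmQ ha)
          have e5 : x * a⁻¹ * x⁻¹ * a⁻¹⁻¹ = (a⁻¹ * (x * a * x⁻¹ * a⁻¹) * a⁻¹⁻¹)⁻¹ := by group
          rw [e5]
          exact B₀.inv_mem (hconj a⁻¹ ((P : Subgroup G).inv_mem haP) _ iha)
      by_cases hQB₀ : Q ≤ B₀
      · have hBB₀ : B ≤ B₀ := by
          refine iSup_le fun u => ?_
          rw [← hcjB₀ u u.2]
          exact cj_mono hQB₀ _
        have : Group.IsNilpotent (P : Subgroup G) := P.2.isNilpotent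
        have hBbot := Cfsg.Agent.Lib.Helper13.eq_bot_of_le_commutator_nilpotent hBP hBB₀
        have hQbot : Q = ⊥ := by
          rw [eq_bot_iff, ← hBbot]; exact hQB
        rw [hQbot, Subgroup.mem_centralizer_iff]
        intro y hy
        have : y = 1 := hy
        rw [this]; simp
      · set Q₀ : Subgroup G := Q ⊓ B₀ with hQ₀
        have hlt : Q₀ < Q := lt_of_le_of_ne inf_le_left (fun h => hQB₀ (by rw [← h]; exact inf_le_right))
        have hxQ₀ : x ∈ Subgroup.normalizer (Q₀ : Set G) := by
          apply hnorm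
          intro a ha
          have ha' := Subgroup.mem_inf.mp ha
          refine Subgroup.mem_inf.mpr ⟨hxQ a ha'.1, ?_⟩
          have := B₀.mul_mem (hall a ha'.1) ha'.2
          simpa using this
        have hc0 : x ∈ Subgroup.centralizer (Q₀ : Set G) :=
          ih (Nat.card Q₀) (by rw [← hn]; exact card_lt_of_lt hlt) Q₀ rfl (inf_le_left.trans hQP) x hxQ₀ hco
        have hfin : x⁻¹ ∈ Subgroup.centralizer (Q : Set G) := by
          refine centralizes_of_actTriv (A := Q) (B := Q₀) (hQ.to_le inf_le_left) ?_ (inv_mem hc0)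
            (by rwa [orderOf_inv])
          refine ⟨inv_mem hx, inv_mem hxQ₀, ?_⟩
          intro a ha
          refine Subgroup.mem_inf.mpr ⟨?_, ?_⟩
          · have := Q.mul_mem (Q.inv_mem ha) (hxQ a ha)
            simpa using this
          · have := hconj a⁻¹ ((P : Subgroup G).inv_mem (hQP ha)) _ (hall a ha)
            have e6 : a⁻¹ * (x * a * x⁻¹ * a⁻¹) * a⁻¹⁻¹ = a⁻¹ * (x⁻¹⁻¹ * a * x⁻¹) := by group
            rwa [e6] at this
        simpa using inv_mem hfin
    · have hlt : Om < Q := lt_of_le_of_ne hOmQ hO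
      have hxO : x ∈ Subgroup.normalizer (Om : Set G) := by
        have h1 : cj Om x⁻¹ ≤ Om := by
          apply closure_conj_le
          rintro _ ⟨a, ha, rfl⟩
          apply Subgroup.subset_closure
          refine ⟨by simpa using hxQ a ha.1, ?_⟩
          simp only [inv_inv]
          rw [conj_pow, ha.2]; simp
        have h2 := cj_eq_self_iff.mp (cj_eq_of_le h1)
        simpa using inv_mem h2
      have hc0 : x ∈ Subgroup.centralizer (Om : Set G) :=
        ih (Nat.card Om) (by rw [← hn]; exact card_lt_of_lt hlt) Om rfl (hOmQ.trans hQP) x hxO hco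
      apply hred
      intro a ha hae
      have := (Subgroup.mem_centralizer_iff.mp hc0) a (Subgroup.subset_closure ⟨ha, hae⟩)
      rw [← this]; group

end Cfsg.Agent.S1946
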