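import Cfsg.Statements.S2060
import Cfsg.Agent.Lib.Helper28.Sharp4
import Cfsg.Agent.Lib.Helper3.AutM12c

set_option autoImplicit false
open Cfsg

namespace Cfsg.Agent.S2060

/-- The outer automorphism group of the Mathieu group M₁₁ (the stabiliser of a dodecad and one of its points in the automorphism group of the length-24 binary code) is trivial: every automorphism is inner. -/
theorem result : Nat.card (Cfsg.Out ↥Cfsg.Spor.M11) = 1 := by
  classical
  have hd := Cfsg.Agent.Lib.Helper3.AutM12.sq_dod
  have h0 : (some 0 : Cfsg.GolayPt) ∈ Cfsg.Spor.squareDodecad := by decide +kernel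
  have hcard : Nat.card Cfsg.Spor.M11 = 7920 := by
    rw [← Cfsg.Agent.Lib.Helper3.M12.card_m11 hd (some 0) h0]
    apply Nat.card_congr
    exact
      { toFun := fun g => ⟨⟨g.1, g.2.1.1⟩, ⟨g.2.1.2, g.2.2⟩⟩
        invFun := fun g => ⟨g.1.1, ⟨⟨g.1.2, g.2.1⟩, g.2.2⟩⟩
        left_inv := fun _ => rfl
        right_inv := fun _ => rfl }
  have H : Cfsg.Agent.Lib.Helper28.Sharp4.Hyp Cfsg.Spor.M11 (Cfsg.Spor.squareDodecad.erase (some 0)) :=
    { inv := by
        intro m hm x hx
        obtain ⟨h1, h2⟩ := Finset.mem_erase.1 hx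
        refine Finset.mem_erase.2 ⟨fun h => h1 ?_, ?_⟩
        · have h3 : m (some 0) = some 0 := hm.2
          exact m.injective (h.trans h3.symm)
        · exact ((Cfsg.Agent.Lib.Helper3.M11C.smul_eq_iff m _).1 hm.1.2 x).2 h2
      card := by
        rw [Finset.card_erase_of_mem h0, hd.2]
      tr := by
        intro xs ys hx hy hxn hyn hxm hym
        obtain ⟨g, hg, hgd, hmap⟩ := Cfsg.Agent.Lib.Helper3.AutM12.exists_lists_le hd (some 0 :: xs)
          (some 0 :: ys) (by simp [hx, hy]) (by simp [hx])
          (List.nodup_cons.2 ⟨fun h => (Finset.mem_erase.1 (hxm _ h)).1 rfl, hxn⟩)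
          (by
            intro x hx'
            rcases List.mem_cons.1 hx' with rfl | hx'
            · exact h0
            · exact (Finset.mem_erase.1 (hxm _ hx')).2)
          (List.nodup_cons.2 ⟨fun h => (Finset.mem_erase.1 (hym _ h)).1 rfl, hyn⟩)
          (by
            intro x hx'
            rcases List.mem_cons.1 hx' with rfl | hx'
            · exact h0
            · exact (Finset.mem_erase.1 (hym _ hx')).2)
        rw [List.map_cons, List.cons.injEq] at hmap
        exact ⟨g, ⟨⟨hg, hgd⟩, hmap.1⟩, hmap.2⟩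
      sh := by
        intro m hm l hl hnd hmem hfix
        apply Cfsg.Agent.Lib.Helper3.Dod.eq_one_of_fixes hd (some 0 :: l) (by simp [hl])
          (List.nodup_cons.2 ⟨fun h => (Finset.mem_erase.1 (hmem _ h)).1 rfl, hnd⟩) _ hm.1.1 hm.1.2
        · intro x hx'
          rcases List.mem_cons.1 hx' with rfl | hx'
          · exact hm.2
          · exact hfix x hx'
        · intro x hx'
          rcases List.mem_cons.1 hx' with rfl | hx'
          · exact h0
          · exact (Finset.mem_erase.1 (hmem _ hx')).2
      cardM := hcard }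
  exact Cfsg.Agent.Lib.Helper3.AutP.card_out_eq_one (Cfsg.Agent.Lib.Helper28.Sharp4.all_inner H)

end Cfsg.Agent.S2060
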