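import Mathlib
import Cfsg.Statements.S2061
import Cfsg.Agent.Lib.Helper3.AutM12c

set_option autoImplicit false
open Cfsg

namespace Cfsg.Agent.S2061

open Cfsg.Agent.Lib.Helper28 Cfsg.Agent.Lib.Helper3 Cfsg.Agent.Lib.Helper3.AutP Cfsg.Agent.Lib.Helper3.AutFix
  Cfsg.Agent.Lib.Helper3.AutNorm Cfsg.Agent.Lib.Helper3.AutM22 Cfsg.Agent.Lib.Helper3.AutM12
open scoped Pointwise

theorem smul_compl (σ : Equiv.Perm GolayPt) (s : Finset GolayPt) : σ • sᶜ = (σ • s)ᶜ := by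
  rw [Finset.compl_eq_univ_sdiff, Finset.compl_eq_univ_sdiff, DodPair.smul_sdiff_univ]

theorem smul_d_cases {π : Equiv.Perm GolayPt} (hπ' : ∀ g ∈ Spor.M12, π⁻¹ * g * π ∈ Spor.M12) :
    π • Spor.squareDodecad = Spor.squareDodecad ∨ π • Spor.squareDodecad = Spor.squareDodecadᶜ := by
  have hd := sq_dod
  have hS : ∀ g ∈ Spor.M12, g • (π • Spor.squareDodecad) = π • Spor.squareDodecad := by
    intro g hg
    have e : g * π = π * (π⁻¹ * g * π) := by group
    rw [← mul_smul, e, mul_smul, (hπ' g hg).2]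
  by_cases h : ∃ x ∈ Spor.squareDodecad, x ∈ π • Spor.squareDodecad
  · left
    obtain ⟨x, hx, hxS⟩ := h
    symm
    apply Finset.eq_of_subset_of_card_le
    · intro y hy
      obtain ⟨g, hg, hgd, hgx⟩ := trans_in hd hx hy
      rw [← hS g ⟨hg, hgd⟩, ← hgx, mem_smul_finset_iff]
      exact hxS
    · rw [card_smul]
  · right
    push Not at h
    apply Finset.eq_of_subset_of_card_le
    · intro y hy
      rw [Finset.mem_compl]
      intro hyd
      exact h y hyd hy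
    · rw [card_smul, (M11C.compl_mem_dodecads hd).2, hd.2]

/-- The outer automorphism group of the Mathieu group M₁₂ (the stabiliser of a dodecad in the automorphism group of the length-24 binary code) has order 2. -/
theorem result : Nat.card (Cfsg.Out ↥Cfsg.Spor.M12) = 2 := by
  have hd := sq_dod
  have hG := mem_M12_iff
  have hdc := M11C.compl_mem_dodecads hd
  obtain ⟨τ, hτ, hτd⟩ := Dod.exists_smul_eq hd hdc
  have hτc : τ • Spor.squareDodecadᶜ = Spor.squareDodecad := by rw [smul_compl, hτd, compl_compl]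
  have hτi : τ⁻¹ • Spor.squareDodecad = Spor.squareDodecadᶜ := by rw [inv_smul_eq_iff, hτc]
  have hτic : τ⁻¹ • Spor.squareDodecadᶜ = Spor.squareDodecad := by rw [inv_smul_eq_iff, hτd]
  have hgc : ∀ g ∈ Spor.M12, g • Spor.squareDodecadᶜ = Spor.squareDodecadᶜ := fun g hg =>
    (M11C.smul_compl_eq_iff g _).2 hg.2
  have hn1 : ∀ g ∈ Spor.M12, τ * g * τ⁻¹ ∈ Spor.M12 := by
    intro g hg
    refine ⟨M24.mul_mem (M24.mul_mem hτ hg.1) (M24.inv_mem hτ), ?_⟩
    change (τ * g * τ⁻¹) • Spor.squareDodecad = Spor.squareDodecad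
    rw [mul_smul, mul_smul, hτi, hgc g hg, hτc]
  have hn2 : ∀ g ∈ Spor.M12, τ⁻¹ * g * τ ∈ Spor.M12 := by
    intro g hg
    refine ⟨M24.mul_mem (M24.mul_mem (M24.inv_mem hτ) hg.1) hτ, ?_⟩
    change (τ⁻¹ * g * τ) • Spor.squareDodecad = Spor.squareDodecad
    rw [mul_smul, mul_smul, hτd, hgc g hg, hτic]
  let θ : MulAut ↥Spor.M12 := conjAut Spor.M12 τ hn1 hn2
  have hθ : ∀ g : ↥Spor.M12, ((θ g : ↥Spor.M12) : Equiv.Perm GolayPt) = τ * g * τ⁻¹ := fun _ => rfl
  have hθout : θ ∉ Cfsg.Inn ↥Spor.M12 := by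
    rintro ⟨m, hm⟩
    have hcomm : ∀ g ∈ Spor.M12,
        ((m : Equiv.Perm GolayPt)⁻¹ * τ) * g = g * ((m : Equiv.Perm GolayPt)⁻¹ * τ) := by
      intro g hg
      have h1 := congrArg (fun β : MulAut ↥Spor.M12 => ((β ⟨g, hg⟩ : ↥Spor.M12) : Equiv.Perm GolayPt)) hm
      have h2 : (m : Equiv.Perm GolayPt) * g * (m : Equiv.Perm GolayPt)⁻¹ = τ * g * τ⁻¹ := h1
      have h3 : τ * g = (m : Equiv.Perm GolayPt) * g * (m : Equiv.Perm GolayPt)⁻¹ * τ := by
        rw [h2]; group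
      rw [mul_assoc, h3]
      group
    set z := (m : Equiv.Perm GolayPt)⁻¹ * τ with hz
    have hzd : z • Spor.squareDodecad = Spor.squareDodecadᶜ := by
      rw [hz, mul_smul, hτd]
      exact hgc _ (Spor.M12.inv_mem m.2)
    obtain ⟨x, hx⟩ : Spor.squareDodecad.Nonempty := Finset.card_pos.1 (by rw [hd.2]; norm_num)
    have hzx : z x ∉ Spor.squareDodecad := by
      rw [← Finset.mem_compl, ← hzd, mem_smul_finset_iff]
      exact hx
    obtain ⟨y', hy', hy2⟩ := Finset.exists_mem_notMem_of_card_lt_card (s := {z x})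
      (t := Spor.squareDodecadᶜ) (by rw [hdc.2, Finset.card_singleton]; norm_num)
    rw [Finset.mem_singleton] at hy2
    rw [Finset.mem_compl] at hy'
    obtain ⟨g, hg, hgd, h1, h2⟩ := AutM12.cross hd hx hzx hy'
    apply hy2
    have := congrArg (fun f : Equiv.Perm GolayPt => f x) (hcomm g ⟨hg, hgd⟩)
    simp only [Equiv.Perm.mul_apply] at this
    rw [← h2, ← this, h1]
  change (Cfsg.Inn ↥Spor.M12).index = 2
  rw [Subgroup.index_eq_two_iff]
  refine ⟨θ, fun β => ?_⟩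
  by_cases hβ : β ∈ Cfsg.Inn ↥Spor.M12
  · right
    refine ⟨hβ, fun h => hθout ?_⟩
    have : θ = β⁻¹ * (β * θ) := by group
    rw [this]
    exact (Cfsg.Inn ↥Spor.M12).mul_mem ((Cfsg.Inn ↥Spor.M12).inv_mem hβ) h
  · left
    refine ⟨?_, hβ⟩
    obtain ⟨π, h2⟩ := exists_perm12 hd Spor.M12 hG β
    have hπM : π ∈ M24 := by
      apply mem_M24_of_norm
      intro g hg
      rw [← h2 ⟨g, hg⟩]
      exact (β _).2.1
    have hnπ' : ∀ g ∈ Spor.M12, π⁻¹ * g * π ∈ Spor.M12 := by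
      intro g hg
      have h3 := h2 (β⁻¹ ⟨g, hg⟩)
      have h4 : β (β⁻¹ ⟨g, hg⟩) = ⟨g, hg⟩ := by simp
      rw [h4] at h3
      have h5 : π⁻¹ * g * π = ((β⁻¹ ⟨g, hg⟩ : ↥Spor.M12) : Equiv.Perm GolayPt) := by
        change g = _ at h3
        generalize ((β⁻¹ ⟨g, hg⟩ : ↥Spor.M12) : Equiv.Perm GolayPt) = w at h3 ⊢
        rw [h3]; group
      rw [h5]
      exact (β⁻¹ _).2
    rcases smul_d_cases hnπ' with hπ | hπ
    · exfalso
      apply hβ
      refine ⟨⟨π, ⟨hπM, hπ⟩⟩, MulEquiv.ext fun g => Subtype.ext ?_⟩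
      rw [h2 g]
      rfl
    · have hρ : π * τ ∈ Spor.M12 := by
        refine ⟨M24.mul_mem hπM hτ, ?_⟩
        change (π * τ) • Spor.squareDodecad = Spor.squareDodecad
        rw [mul_smul, hτd, smul_compl, hπ, compl_compl]
      refine ⟨⟨π * τ, hρ⟩, MulEquiv.ext fun g => Subtype.ext ?_⟩
      rw [MulAut.mul_apply, h2, hθ]
      change (π * τ) * g * (π * τ)⁻¹ = _
      group

end Cfsg.Agent.S2061
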