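import Mathlib
import Cfsg.Statements.S2062
import Cfsg.Agent.Lib.Helper3.AutM22

set_option autoImplicit false
open Cfsg

namespace Cfsg.Agent.S2062

open Cfsg.Agent.Lib.Helper28 Cfsg.Agent.Lib.Helper3.AutP Cfsg.Agent.Lib.Helper3.AutFix
  Cfsg.Agent.Lib.Helper3.AutIdx Cfsg.Agent.Lib.Helper3.AutNorm Cfsg.Agent.Lib.Helper3.AutM22

/-- The outer automorphism group of the Mathieu group M₂₂ (the permutations in the automorphism group of the length-24 binary code that fix each of two given points) has order 2. -/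
theorem result : Nat.card (Cfsg.Out ↥Cfsg.Spor.M22) = 2 := by
  have hG := mem_M22_iff
  have hFc : ({none, some 0} : Finset GolayPt).card = 2 := by decide
  have hfix0 : ∀ g ∈ Spor.M22, g none = none := fun g hg => ((hG g).1 hg).2 none (by simp)
  have hfix1 : ∀ g ∈ Spor.M22, g (some 0) = some 0 := fun g hg => ((hG g).1 hg).2 (some 0) (by simp)
  have hmem : ∀ g, g ∈ M24 → g none = none → g (some 0) = some 0 → g ∈ Spor.M22 := by
    intro g h1 h2 h3
    exact ⟨⟨h1, h2⟩, h3⟩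
  -- every automorphism is induced by a permutation
  have hperm : ∀ α : MulAut ↥Spor.M22, ∃ π : Equiv.Perm GolayPt, π none = none ∧ π (some 0) = some 0 ∧
      ∀ g : ↥Spor.M22, ((α g : ↥Spor.M22) : Equiv.Perm GolayPt) = π * g * π⁻¹ := by
    intro α
    obtain ⟨π, h1, h2⟩ := exists_perm Spor.M22 {none, some 0} hFc.le hG (by
      intro H hH hc
      rw [card_M22, hFc] at hc
      obtain ⟨x, hx0, hx1, hx⟩ := fixes_point_22 H (fun g hg => ((hG g).1 (hH hg)).1) none (some 0)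
        (by simp) (fun g hg => hfix0 g (hH hg)) (fun g hg => hfix1 g (hH hg)) (by omega)
      exact ⟨x, by simp [hx0, hx1], hx⟩) α
    exact ⟨π, h1 none (by simp), h1 (some 0) (by simp), h2⟩
  -- an element of `M24` exchanging the two points
  obtain ⟨τ, hτ, hτmap⟩ := exists_M24_map_list [none, some 0] [some 0, none] rfl (by simp) (by simp)
    (by simp)
  simp only [List.map_cons, List.map_nil, List.cons.injEq, and_true] at hτmap
  obtain ⟨hτ0, hτ1⟩ := hτmap
  have hτi0 : τ⁻¹ none = some 0 := by rw [Equiv.Perm.inv_eq_iff_eq, hτ1]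
  have hτi1 : τ⁻¹ (some 0) = none := by rw [Equiv.Perm.inv_eq_iff_eq, hτ0]
  have hn1 : ∀ g ∈ Spor.M22, τ * g * τ⁻¹ ∈ Spor.M22 := by
    intro g hg
    apply hmem _ (M24.mul_mem (M24.mul_mem hτ ((hG g).1 hg).1) (M24.inv_mem hτ))
    · simp only [Equiv.Perm.mul_apply]
      rw [hτi0, hfix1 g hg, hτ1]
    · simp only [Equiv.Perm.mul_apply]
      rw [hτi1, hfix0 g hg, hτ0]
  have hn2 : ∀ g ∈ Spor.M22, τ⁻¹ * g * τ ∈ Spor.M22 := by
    intro g hg
    apply hmem _ (M24.mul_mem (M24.mul_mem (M24.inv_mem hτ) ((hG g).1 hg).1) hτ)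
    · simp only [Equiv.Perm.mul_apply]
      rw [hτ0, hfix1 g hg, hτi1]
    · simp only [Equiv.Perm.mul_apply]
      rw [hτ1, hfix0 g hg, hτi0]
  let θ : MulAut ↥Spor.M22 := conjAut Spor.M22 τ hn1 hn2
  have hθ : ∀ g : ↥Spor.M22, ((θ g : ↥Spor.M22) : Equiv.Perm GolayPt) = τ * g * τ⁻¹ := fun _ => rfl
  -- `θ` is not inner
  have hθout : θ ∉ Cfsg.Inn ↥Spor.M22 := by
    rintro ⟨m, hm⟩
    have hcomm : ∀ g ∈ Spor.M22, ((m : Equiv.Perm GolayPt)⁻¹ * τ) * g = g * ((m : Equiv.Perm GolayPt)⁻¹ * τ) := by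
      intro g hg
      have h1 := congrArg (fun β : MulAut ↥Spor.M22 => ((β ⟨g, hg⟩ : ↥Spor.M22) : Equiv.Perm GolayPt)) hm
      have h2 : (m : Equiv.Perm GolayPt) * g * (m : Equiv.Perm GolayPt)⁻¹ = τ * g * τ⁻¹ := h1
      have h3 : τ * g = (m : Equiv.Perm GolayPt) * g * (m : Equiv.Perm GolayPt)⁻¹ * τ := by
        rw [h2]; group
      rw [mul_assoc, h3]
      group
    set z := (m : Equiv.Perm GolayPt)⁻¹ * τ with hz
    have hmi0 : (m : Equiv.Perm GolayPt)⁻¹ none = none := by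
      rw [Equiv.Perm.inv_eq_iff_eq, hfix0 m m.2]
    have hmi1 : (m : Equiv.Perm GolayPt)⁻¹ (some 0) = some 0 := by
      rw [Equiv.Perm.inv_eq_iff_eq, hfix1 m m.2]
    have hz0 : z none = some 0 := by rw [hz, Equiv.Perm.mul_apply, hτ0, hmi1]
    have hz1 : z (some 0) = none := by rw [hz, Equiv.Perm.mul_apply, hτ1, hmi0]
    have hzM : z ∈ M24 := M24.mul_mem (M24.inv_mem ((hG m).1 m.2).1) hτ
    have hzfix : ∀ x, x ∉ ({none, some 0} : Finset GolayPt) → z x = x := by
      intro x hx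
      by_contra hne
      have hy : z x ∉ ({none, some 0} : Finset GolayPt) := by
        intro hy
        rw [Finset.mem_insert, Finset.mem_singleton] at hy
        apply hx
        rcases hy with hy | hy
        · rw [← hz1] at hy
          rw [z.injective hy]; simp
        · rw [← hz0] at hy
          rw [z.injective hy]; simp
      obtain ⟨g, hg, h1, h2⟩ := exists_move Spor.M22 _ hFc.le hG hx hy (Ne.symm hne)
      apply h2
      have := congrArg (fun f : Equiv.Perm GolayPt => f x) (hcomm g hg)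
      simp only [Equiv.Perm.mul_apply] at this
      rw [← this, h1]
    have hone : z = 1 := by
      apply eq_one_of_nine hzM
      have hsub : ({none, some 0} : Finset GolayPt)ᶜ ⊆ fixSet z := by
        intro y hy
        rw [Finset.mem_compl] at hy
        exact mem_fixSet.2 (hzfix y hy)
      have h9 := Finset.card_le_card hsub
      rw [Finset.card_compl, card_pts, hFc] at h9
      omega
    rw [hone] at hz0
    simp at hz0
  change (Cfsg.Inn ↥Spor.M22).index = 2
  rw [Subgroup.index_eq_two_iff]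
  refine ⟨θ, fun β => ?_⟩
  by_cases hβ : β ∈ Cfsg.Inn ↥Spor.M22
  · right
    refine ⟨hβ, fun h => hθout ?_⟩
    have : θ = β⁻¹ * (β * θ) := by group
    rw [this]
    exact (Cfsg.Inn ↥Spor.M22).mul_mem ((Cfsg.Inn ↥Spor.M22).inv_mem hβ) h
  · left
    refine ⟨?_, hβ⟩
    obtain ⟨π, h0, h1, h2⟩ := hperm β
    have hnπ : ∀ g ∈ Spor.M22, π * g * π⁻¹ ∈ M24 := by
      intro g hg
      rw [← h2 ⟨g, hg⟩]
      exact ((hG _).1 (β _).2).1
    have hnπ' : ∀ g ∈ Spor.M22, π⁻¹ * g * π ∈ M24 := by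
      intro g hg
      have h3 := h2 (β⁻¹ ⟨g, hg⟩)
      have h4 : β (β⁻¹ ⟨g, hg⟩) = ⟨g, hg⟩ := by simp
      rw [h4] at h3
      have h5 : π⁻¹ * g * π = ((β⁻¹ ⟨g, hg⟩ : ↥Spor.M22) : Equiv.Perm GolayPt) := by
        change g = _ at h3
        generalize ((β⁻¹ ⟨g, hg⟩ : ↥Spor.M22) : Equiv.Perm GolayPt) = w at h3 ⊢
        rw [h3]; group
      rw [h5]
      exact ((hG _).1 (β⁻¹ _).2).1
    rcases dichotomy h0 h1 hnπ hnπ' with hπ | hπ
    · exfalso
      apply hβ
      refine ⟨⟨π, hmem π hπ h0 h1⟩, ?_⟩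
      ext g
      rw [h2 g]
      rfl
    · have hρ : sw * π * τ ∈ Spor.M22 := by
        apply hmem _ (M24.mul_mem hπ hτ)
        · simp only [Equiv.Perm.mul_apply]
          rw [hτ0, h1]
          exact Equiv.swap_apply_right _ _
        · simp only [Equiv.Perm.mul_apply]
          rw [hτ1, h0]
          exact Equiv.swap_apply_left _ _
      refine ⟨⟨sw * π * τ, hρ⟩, MulEquiv.ext fun g => Subtype.ext ?_⟩
      rw [MulAut.mul_apply, ← sw_comm (hfix0 _ (β (θ g)).2) (hfix1 _ (β (θ g)).2), h2, hθ]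
      change (sw * π * τ) * g * (sw * π * τ)⁻¹ = _
      group

end Cfsg.Agent.S2062
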