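import Mathlib
import Cfsg.Statements.S2063
import Cfsg.Agent.Lib.Helper3.AutNorm

set_option autoImplicit false
open Cfsg

namespace Cfsg.Agent.S2063

open Cfsg.Agent.Lib.Helper28 Cfsg.Agent.Lib.Helper3.AutP Cfsg.Agent.Lib.Helper3.AutFix
  Cfsg.Agent.Lib.Helper3.AutIdx Cfsg.Agent.Lib.Helper3.AutNorm

/-- The outer automorphism group of the Mathieu group M₂₃ (the stabiliser of a point in the automorphism group of the length-24 binary code) is trivial: every automorphism is inner. -/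
theorem result : Nat.card (Cfsg.Out ↥Cfsg.Spor.M23) = 1 := by
  have hG : ∀ g, g ∈ Spor.M23 ↔ g ∈ M24 ∧ ∀ a ∈ ({none} : Finset GolayPt), g a = a := by
    intro g
    constructor
    · rintro ⟨h1, h2⟩
      refine ⟨h1, fun a ha => ?_⟩
      rw [Finset.mem_singleton] at ha
      rw [ha]; exact h2
    · rintro ⟨h1, h2⟩
      exact ⟨h1, h2 none (by simp)⟩
  apply card_out_eq_one
  intro α
  obtain ⟨π, h1, h2⟩ := exists_perm Spor.M23 {none} (by simp) hG (by
    intro H hH hc
    rw [card_M23, Finset.card_singleton] at hc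
    obtain ⟨x, hx1, hx⟩ := fixes_point_23 H (fun g hg => ((hG g).1 (hH hg)).1) none
      (fun g hg => ((hG g).1 (hH hg)).2 none (by simp)) (by omega)
    exact ⟨x, by simpa using hx1, hx⟩) α
  have hπ : π ∈ M24 := by
    apply mem_M24_of_octads
    intro o ho hn
    apply smul_octad_of_norm {none} _ ho (by simpa using hn)
    intro g hg hfix
    rw [← h2 ⟨g, (hG g).2 ⟨hg, hfix⟩⟩]
    exact ((hG _).1 (α _).2).1
  refine ⟨⟨π, (hG π).2 ⟨hπ, h1⟩⟩, ?_⟩
  ext g
  rw [h2 g]
  rfl

end Cfsg.Agent.S2063
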