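import Mathlib
import Cfsg.Statements.S2064
import Cfsg.Agent.Lib.Helper3.AutNorm

set_option autoImplicit false
open Cfsg

namespace Cfsg.Agent.S2064

open Cfsg.Agent.Lib.Helper28 Cfsg.Agent.Lib.Helper3.AutP Cfsg.Agent.Lib.Helper3.AutFix
  Cfsg.Agent.Lib.Helper3.AutIdx Cfsg.Agent.Lib.Helper3.AutNorm

/-- The outer automorphism group of the Mathieu group M₂₄ (the automorphism group of the length-24 binary code) is trivial: every automorphism is inner. -/
theorem result : Nat.card (Cfsg.Out ↥Cfsg.M24) = 1 := by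
  apply card_out_eq_one
  intro α
  obtain ⟨π, _, h2⟩ := exists_perm M24 ∅ (by simp) (by simp) (by
    intro H hH hc
    rw [card_M24, Finset.card_empty] at hc
    obtain ⟨x, hx⟩ := fixes_point_24 H hH (by omega)
    exact ⟨x, by simp, hx⟩) α
  have hπ : π ∈ M24 := by
    apply mem_M24_of_octads
    intro o ho _
    apply smul_octad_of_norm ∅ _ ho (Finset.empty_subset _)
    intro g hg _
    rw [← h2 ⟨g, hg⟩]
    exact (α _).2
  refine ⟨⟨π, hπ⟩, ?_⟩
  ext g
  rw [h2 g]
  rfl

end Cfsg.Agent.S2064
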