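import Cfsg.Statements.S2162


set_option autoImplicit false
open Cfsg

namespace Cfsg.Agent.S2162


open Matrix Module

variable {F : Type*} [Field F] {V : Type*} [AddCommGroup V] [Module F V] [FiniteDimensional F V]

/-- a basis adapted to a nilpotent endomorphism of square zero -/
theorem exists_adapted_basis (N : V →ₗ[F] V) (hN : ∀ x, N (N x) = 0) (n r : ℕ) (hn : finrank F V = n)
    (hr : finrank F (LinearMap.range N) = r) (hr0 : 0 < r) :
    ∃ b : Basis (Fin r ⊕ (Fin r ⊕ Fin (n - 2 * r))) F V, (∀ i, N (b (Sum.inl i)) = b (Sum.inr (Sum.inl i))) ∧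
      ∀ j, N (b (Sum.inr j)) = 0 := by
  classical
  set K := LinearMap.ker N with hK
  set I := LinearMap.range N with hI
  have hIK : I ≤ K := by
    rintro _ ⟨x, rfl⟩
    exact hN x
  have hrk : finrank F I + finrank F K = finrank F V := LinearMap.finrank_range_add_finrank_ker N
  haveI : Nonempty (Fin r ⊕ (Fin r ⊕ Fin (n - 2 * r))) := ⟨Sum.inl ⟨0, hr0⟩⟩
  obtain ⟨C, hC⟩ := Submodule.exists_isCompl I
  set U := C ⊓ K with hU
  have hIU : I ⊓ U = ⊥ := by
    rw [hU, ← inf_assoc, hC.inf_eq_bot, bot_inf_eq]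
  have hsup : I ⊔ U = K := by
    rw [hU, ← sup_inf_assoc_of_le C hIK, hC.sup_eq_top, top_inf_eq]
  have hfU : finrank F U = n - 2 * r := by
    have := Submodule.finrank_sup_add_finrank_inf_eq I U
    rw [hIU, hsup, finrank_bot] at this
    omega
  let bI : Basis (Fin r) F I := finBasisOfFinrankEq F I hr
  let bU : Basis (Fin (n - 2 * r)) F U := finBasisOfFinrankEq F U hfU
  have hex : ∀ i, ∃ v, N v = bI i := fun i => (bI i).2
  choose v hv using hex
  let f : Fin r ⊕ (Fin r ⊕ Fin (n - 2 * r)) → V :=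
    Sum.elim v (Sum.elim (fun i => (bI i : V)) (fun k => (bU k : V)))
  have hNI : ∀ i, N (bI i : V) = 0 := fun i => hIK (bI i).2
  have hNU : ∀ k, N (bU k : V) = 0 := fun k => (bU k).2.2
  have hliI : LinearIndependent F (fun i => (bI i : V)) := bI.linearIndependent.map' I.subtype (Submodule.ker_subtype I)
  have hliU : LinearIndependent F (fun k => (bU k : V)) := bU.linearIndependent.map' U.subtype (Submodule.ker_subtype U)
  have hli : LinearIndependent F f := by
    rw [Fintype.linearIndependent_iff]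
    intro g hg
    simp only [Fintype.sum_sum_type, f, Sum.elim_inl, Sum.elim_inr] at hg
    have h1 := congrArg N hg
    simp only [map_add, map_sum, map_smul, hNI, hNU, hv, smul_zero, Finset.sum_const_zero, add_zero, map_zero] at h1
    have hα := Fintype.linearIndependent_iff.1 hliI _ h1
    simp only [hα, zero_smul, Finset.sum_const_zero, zero_add] at hg
    have hx : ∑ i, g (Sum.inr (Sum.inl i)) • (bI i : V) ∈ I := Submodule.sum_mem _ fun i _ => I.smul_mem _ (bI i).2
    have hy : ∑ k, g (Sum.inr (Sum.inr k)) • (bU k : V) ∈ U := Submodule.sum_mem _ fun k _ => U.smul_mem _ (bU k).2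
    have hx' : ∑ i, g (Sum.inr (Sum.inl i)) • (bI i : V) ∈ U := by
      rw [eq_neg_of_add_eq_zero_left hg]
      exact U.neg_mem hy
    have hx0 : ∑ i, g (Sum.inr (Sum.inl i)) • (bI i : V) = 0 := by
      have : ∑ i, g (Sum.inr (Sum.inl i)) • (bI i : V) ∈ I ⊓ U := ⟨hx, hx'⟩
      rwa [hIU, Submodule.mem_bot] at this
    have hβ := Fintype.linearIndependent_iff.1 hliI _ hx0
    rw [hx0, zero_add] at hg
    have hγ := Fintype.linearIndependent_iff.1 hliU _ hg
    rintro (i | i | k)
    · exact hα i
    · exact hβ i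
    · exact hγ k
  have hle : 2 * r ≤ n := by
    have := Submodule.finrank_mono hIK
    omega
  let b := basisOfLinearIndependentOfCardEqFinrank hli (by
    simp only [Fintype.card_sum, Fintype.card_fin]
    omega)
  have hb : ∀ i, b i = f i := fun i => by simp [b]
  refine ⟨b, ?_, ?_⟩
  · intro i
    rw [hb, hb]
    exact hv i
  · rintro (i | k)
    · rw [hb]; exact hNI i
    · rw [hb]; exact hNU k


/-- Conjugacy of involutions in the special linear group over a finite field of characteristic two, in dimension at least 3: two elements of order 2 of SL_n(F) are conjugate in SL_n(F) exactly when the matrices a − 1 and b − 1 have the same rank (the rank of a − 1 is the dimension of the commutator space [V, a]). -/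
theorem result {F : Type*} [Field F] [Fintype F] [CharP F 2] {n : ℕ} (hn : 3 ≤ n) (a b : Matrix.SpecialLinearGroup (Fin n) F) (ha : orderOf a = 2) (hb : orderOf b = 2) :
    IsConj a b ↔ ((a : Matrix (Fin n) (Fin n) F) - 1).rank = ((b : Matrix (Fin n) (Fin n) F) - 1).rank := by
  classical
  constructor
  · intro h
    obtain ⟨c, hc⟩ := isConj_iff.1 h
    have e2 : (c : Matrix (Fin n) (Fin n) F) * ((c⁻¹ : SpecialLinearGroup (Fin n) F) : Matrix (Fin n) (Fin n) F) = 1 := by
      have := congrArg (fun g : SpecialLinearGroup (Fin n) F => (g : Matrix (Fin n) (Fin n) F)) (mul_inv_cancel c)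
      exact this
    have e1 : (b : Matrix (Fin n) (Fin n) F) - 1
        = (c : Matrix (Fin n) (Fin n) F) * ((a : Matrix (Fin n) (Fin n) F) - 1)
          * ((c⁻¹ : SpecialLinearGroup (Fin n) F) : Matrix (Fin n) (Fin n) F) := by
      rw [mul_sub, sub_mul, mul_one, e2, ← hc]
      rfl
    rw [e1, Matrix.rank_mul_eq_left_of_isUnit_det _ _ (by rw [(c⁻¹).2]; exact isUnit_one),
      Matrix.rank_mul_eq_right_of_isUnit_det _ _ (by rw [c.2]; exact isUnit_one)]
  · intro hr
    have hsq : ∀ a : SpecialLinearGroup (Fin n) F, orderOf a = 2 →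
        ∀ x, Matrix.mulVecLin ((a : Matrix (Fin n) (Fin n) F) - 1) (Matrix.mulVecLin ((a : Matrix (Fin n) (Fin n) F) - 1) x) = 0 := by
      intro a ha x
      have h1 : a * a = 1 := by
        have := pow_orderOf_eq_one a
        rwa [ha, _root_.sq] at this
      have h2 : (a : Matrix (Fin n) (Fin n) F) * (a : Matrix (Fin n) (Fin n) F) = 1 := by
        have := congrArg (fun g : SpecialLinearGroup (Fin n) F => (g : Matrix (Fin n) (Fin n) F)) h1
        exact this
      rw [Matrix.mulVecLin_apply, Matrix.mulVecLin_apply, Matrix.mulVec_mulVec]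
      have h3 : ((a : Matrix (Fin n) (Fin n) F) - 1) * ((a : Matrix (Fin n) (Fin n) F) - 1) = 0 := by
        rw [mul_sub, sub_mul, sub_mul, h2, mul_one, one_mul, one_mul]
        have : (1 : Matrix (Fin n) (Fin n) F) - a - (a - 1) = (2 : F) • ((1 : Matrix (Fin n) (Fin n) F) - a) := by
          rw [two_smul]; abel
        rw [this, CharTwo.two_eq_zero, zero_smul]
      rw [h3, Matrix.zero_mulVec]
    set r := ((a : Matrix (Fin n) (Fin n) F) - 1).rank with hra
    have hr0 : 0 < r := by
      rw [Nat.pos_iff_ne_zero]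
      intro h0
      have h1 : (a : Matrix (Fin n) (Fin n) F) - 1 = 0 := by
        have h5 : finrank F (LinearMap.range (Matrix.mulVecLin ((a : Matrix (Fin n) (Fin n) F) - 1))) = 0 := by
          rw [← h0, hra]; rfl
        rw [Submodule.finrank_eq_zero, LinearMap.range_eq_bot] at h5
        exact Matrix.toLin'.injective (by rw [map_zero]; exact h5)
      have h2 : a = 1 := by
        apply Subtype.ext
        exact sub_eq_zero.1 h1
      rw [h2] at ha
      simp at ha
    obtain ⟨ba, ha1, ha2⟩ := exists_adapted_basis _ (hsq a ha) n r (by simp) rfl hr0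
    obtain ⟨bb, hb1, hb2⟩ := exists_adapted_basis _ (hsq b hb) n r (by simp) hr.symm hr0
    let g := ba.equiv bb (Equiv.refl _)
    have hg0 : LinearMap.det (g : (Fin n → F) →ₗ[F] (Fin n → F)) ≠ 0 := (LinearEquiv.isUnit_det' g).ne_zero
    obtain ⟨μ, hμ⟩ := FiniteField.isSquare_of_char_two (ringChar.eq F 2) (LinearMap.det (g : (Fin n → F) →ₗ[F] (Fin n → F)))⁻¹
    have hμ0 : μ ≠ 0 := by
      rintro rfl
      rw [mul_zero] at hμ
      exact inv_ne_zero hg0 hμ
    let i0 : Fin r := ⟨0, hr0⟩
    let w : Fin r ⊕ (Fin r ⊕ Fin (n - 2 * r)) → Fˣ :=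
      Sum.elim (fun i => if i = i0 then Units.mk0 μ hμ0 else 1) (Sum.elim (fun i => if i = i0 then Units.mk0 μ hμ0 else 1) (fun _ => 1))
    let D := bb.equiv (bb.unitsSMul w) (Equiv.refl _)
    have hDdet : LinearMap.det (D : (Fin n → F) →ₗ[F] (Fin n → F)) = μ * μ := by
      have h1 := bb.det_comp (D : (Fin n → F) →ₗ[F] (Fin n → F)) bb
      rw [Basis.det_self, mul_one] at h1
      rw [← h1]
      have h2 : (⇑(D : (Fin n → F) →ₗ[F] (Fin n → F)) ∘ ⇑bb) = ⇑(bb.unitsSMul w) := by
        funext i
        simp [D]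
      rw [h2, Basis.det_unitsSMul_self]
      have hp : ∏ a₁ : Fin r, (((if a₁ = i0 then Units.mk0 μ hμ0 else 1 : Fˣ)) : F) = μ := by
        rw [Finset.prod_eq_single i0]
        · simp
        · intro b _ hb; simp [hb]
        · intro h; exact absurd (Finset.mem_univ _) h
      simp only [w, Fintype.prod_sum_type, Sum.elim_inl, Sum.elim_inr, hp]
      simp
    obtain ⟨T, hTdef⟩ : ∃ T : (Fin n → F) →ₗ[F] (Fin n → F),
      T = (D : (Fin n → F) →ₗ[F] (Fin n → F)) ∘ₗ (g : (Fin n → F) →ₗ[F] (Fin n → F)) := ⟨_, rfl⟩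
    have hTdet : LinearMap.det T = 1 := by
      rw [hTdef, LinearMap.det_comp, hDdet, ← hμ, inv_mul_cancel₀ hg0]
    have hcomm : ∀ x, T (Matrix.mulVecLin ((a : Matrix (Fin n) (Fin n) F) - 1) x)
        = Matrix.mulVecLin ((b : Matrix (Fin n) (Fin n) F) - 1) (T x) := by
      have : T ∘ₗ Matrix.mulVecLin ((a : Matrix (Fin n) (Fin n) F) - 1)
          = Matrix.mulVecLin ((b : Matrix (Fin n) (Fin n) F) - 1) ∘ₗ T := by
        have hT : ∀ j, T (ba j) = (w j : F) • bb j := by
          intro j
          rw [hTdef, LinearMap.comp_apply, LinearEquiv.coe_coe, LinearEquiv.coe_coe, Basis.equiv_apply,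
            Equiv.refl_apply, Basis.equiv_apply, Equiv.refl_apply, Basis.unitsSMul_apply, Units.smul_def]
        apply ba.ext
        rintro (i | j)
        · rw [LinearMap.comp_apply, LinearMap.comp_apply, ha1, hT, hT, map_smul, hb1]
          rfl
        · rw [LinearMap.comp_apply, LinearMap.comp_apply, ha2, hT, map_smul, hb2, map_zero, smul_zero]
      intro x
      exact LinearMap.congr_fun this x
    let c : SpecialLinearGroup (Fin n) F := ⟨LinearMap.toMatrix' T, by rw [LinearMap.det_toMatrix', hTdet]⟩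
    rw [isConj_iff]
    refine ⟨c, ?_⟩
    rw [mul_inv_eq_iff_eq_mul]
    apply Subtype.ext
    show (c : Matrix (Fin n) (Fin n) F) * (a : Matrix (Fin n) (Fin n) F) = (b : Matrix (Fin n) (Fin n) F) * (c : Matrix (Fin n) (Fin n) F)
    apply Matrix.toLin'.injective
    apply LinearMap.ext
    intro x
    have h5 := hcomm x
    rw [Matrix.toLin'_apply, Matrix.toLin'_apply, ← Matrix.mulVec_mulVec, ← Matrix.mulVec_mulVec]
    show LinearMap.toMatrix' T *ᵥ _ = _ *ᵥ (LinearMap.toMatrix' T *ᵥ x)
    rw [LinearMap.toMatrix'_mulVec, LinearMap.toMatrix'_mulVec]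
    rw [Matrix.mulVecLin_apply, Matrix.mulVecLin_apply, Matrix.sub_mulVec, Matrix.sub_mulVec, Matrix.one_mulVec,
      Matrix.one_mulVec, map_sub] at h5
    exact sub_left_injective h5

end Cfsg.Agent.S2162
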