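import Cfsg.Statements.S2164
import Cfsg.Agent.Lib.Helper15.SuWitt
import Cfsg.Agent.S2162

set_option autoImplicit false
open Cfsg

namespace Cfsg.Agent.S2164


open Matrix Module Cfsg.Agent.H6 Cfsg.Agent.Lib.Helper29 Cfsg.Agent.Lib.Helper15

variable {F : Type*} [Field F] [Fintype F] {n q : ℕ}

local notation "H" => Cfsg.hermForm n F q
local notation "Vn" => (Fin n → F)

theorem herm_sum_right' (hF : Fintype.card F = q ^ 2) {κ : Type*} (s : Finset κ) (f : κ → Vn) (w : Vn) :
    H w (∑ j ∈ s, f j) = ∑ j ∈ s, H w (f j) := by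
  classical
  have hq : q ≠ 0 := by have := q_pos hF; omega
  induction s using Finset.induction_on with
  | empty => simp [herm_zero_right hq]
  | insert a s ha ih => rw [Finset.sum_insert ha, Finset.sum_insert ha, hermForm_add_right hF, ih]

/-- polarisation -/
theorem exists_unit_pair (hF : Fintype.card F = q ^ 2) (N : Vn →ₗ[F] Vn)
    (hsa : ∀ x y, H (N x) y = H x (N y)) (hN : N ≠ 0) : ∃ x, H x (N x) = 1 := by
  obtain ⟨x₀, hx₀⟩ : ∃ x₀, H x₀ (N x₀) ≠ 0 := by
    by_contra hcon
    push Not at hcon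
    apply hN
    apply LinearMap.ext
    intro y
    rw [LinearMap.zero_apply]
    by_contra hne
    obtain ⟨x, hx⟩ := exists_herm_ne_zero (q := q) hF hne
    apply hx
    obtain ⟨l, hl⟩ := exists_pow_q_ne hF
    have h1 := hcon (x + y)
    have h2 := hcon (x + l • y)
    have hx0 := hcon x
    have hy0 := hcon y
    simp only [map_add, map_smul, hermForm_add_left, hermForm_add_right hF, hermForm_smul_left,
      hermForm_smul_right, hx0, hy0] at h1 h2
    have h3 : (l ^ q - l) * H x (N y) = 0 := by linear_combination h2 - l * h1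
    exact (mul_eq_zero.mp h3).resolve_left (sub_ne_zero.mpr hl)
  have hρ : (H x₀ (N x₀)) ^ q = H x₀ (N x₀) := by rw [hermForm_conj hF, hsa]
  obtain ⟨l, hl⟩ := exists_norm_eq hF (H x₀ (N x₀))⁻¹ (by rw [inv_pow, hρ])
  refine ⟨l • x₀, ?_⟩
  rw [map_smul, hermForm_smul_left, hermForm_smul_right, ← mul_assoc, hl, inv_mul_cancel₀ hx₀]

/-- a self-adjoint square-zero map is a sum of `k` rank one maps with a dual system -/
theorem exists_decomp (hF : Fintype.card F = q ^ 2) :
    ∀ (d : ℕ) (N : Vn →ₗ[F] Vn), finrank F (LinearMap.range N) ≤ d →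
    (∀ x y, H (N x) y = H x (N y)) → (∀ x, N (N x) = 0) →
    ∃ (k : ℕ) (f x : Fin k → Vn), (∀ i j, H (x i) (f j) = if i = j then 1 else 0) ∧
      ∀ y, N y = ∑ i, H y (f i) • f i := by
  have hq : q ≠ 0 := by have := q_pos hF; omega
  intro d
  induction d with
  | zero =>
    intro N hd _ _
    have h0 : LinearMap.range N = ⊥ := by
      apply Submodule.finrank_eq_zero.1; omega
    refine ⟨0, Fin.elim0, Fin.elim0, fun i => i.elim0, fun y => ?_⟩
    have : N y ∈ LinearMap.range N := ⟨y, rfl⟩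
    rw [h0, Submodule.mem_bot] at this
    simp [this]
  | succ d ih =>
    intro N hd hsa hsq
    by_cases hN : N = 0
    · refine ⟨0, Fin.elim0, Fin.elim0, fun i => i.elim0, fun y => ?_⟩
      simp [hN]
    obtain ⟨x, hx⟩ := exists_unit_pair hF N hsa hN
    set f := N x with hf
    have hNf : N f = 0 := hsq x
    have hff : H f f = 0 := by rw [hf, hsa, hsq, herm_zero_right hq]
    have hfx : H f x = 1 := by rw [← hermForm_conj hF, hx, one_pow]
    set N₁ : Vn →ₗ[F] Vn := N - (hermDual n q f).smulRight f with hN₁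
    have hN₁y : ∀ y, N₁ y = N y - H y f • f := by
      intro y
      rw [hN₁]; simp
    have hyf : ∀ y, H (N y) f = 0 := by
      intro y; rw [hsa, hNf, herm_zero_right hq]
    have hsa₁ : ∀ y z, H (N₁ y) z = H y (N₁ z) := by
      intro y z
      rw [hN₁y, hN₁y, herm_sub_left, herm_sub_right hF, hermForm_smul_left, hermForm_smul_right, hsa,
        hermForm_conj hF]
      ring
    have hsq₁ : ∀ y, N₁ (N₁ y) = 0 := by
      intro y
      rw [hN₁y (N₁ y), hN₁y y, map_sub, map_smul, hsq, hNf, herm_sub_left, hermForm_smul_left, hyf, hff]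
      simp
    have hlt : LinearMap.range N₁ < LinearMap.range N := by
      rw [SetLike.lt_iff_le_and_exists]
      refine ⟨?_, f, ⟨x, rfl⟩, ?_⟩
      · rintro _ ⟨y, rfl⟩
        refine ⟨y - H y f • x, ?_⟩
        rw [hN₁y, map_sub, map_smul]
      · rintro ⟨y, hy⟩
        rw [hN₁y] at hy
        have h1 : H x f = 0 := by
          have e : f = N (y - H y f • x) := by rw [map_sub, map_smul, ← hf, hy]
          have e2 : H (y - H y f • x) f = 0 := by
            rw [herm_sub_left, hermForm_smul_left, hx]; ring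
          rw [e, ← hsa, ← hf, ← hermForm_conj hF]
          rw [e2, zero_pow hq]
        rw [hx] at h1
        exact one_ne_zero h1
    have hd₁ : finrank F (LinearMap.range N₁) ≤ d := by
      have := Submodule.finrank_lt_finrank_of_lt hlt
      omega
    obtain ⟨k, f', x', hdual, hsum⟩ := ih N₁ hd₁ hsa₁ hsq₁
    have hN₁x : N₁ x = 0 := by rw [hN₁y, hx, one_smul, sub_self]
    have hxf' : ∀ j, H x (f' j) = 0 := by
      intro j
      have h1 := hsum x
      rw [hN₁x] at h1
      have h2 := congrArg (fun z => H (x' j) z) h1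
      simp only [herm_zero_right hq, herm_sum_right' hF, hermForm_smul_right, hdual] at h2
      rw [Finset.sum_eq_single j (by intro b _ hb; rw [if_neg (Ne.symm hb), mul_zero]) (by simp)] at h2
      rw [if_pos rfl, mul_one] at h2
      exact pow_eq_zero_iff hq |>.1 h2.symm
    refine ⟨k + 1, Fin.cons f f', Fin.cons x (fun i => x' i - H (x' i) f • x), ?_, ?_⟩
    · intro i j
      refine Fin.cases ?_ (fun i => ?_) i <;> refine Fin.cases ?_ (fun j => ?_) j
      · simpa using hx
      · simpa [(Fin.succ_ne_zero _).symm] using hxf' j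
      · simp only [Fin.cons_succ, Fin.cons_zero, Fin.succ_ne_zero, if_false]
        rw [herm_sub_left, hermForm_smul_left, hx]; ring
      · simp only [Fin.cons_succ, Fin.succ_inj]
        rw [herm_sub_left, hermForm_smul_left, hxf', hdual]; ring
    · intro y
      rw [Fin.sum_univ_succ]
      simp only [Fin.cons_zero, Fin.cons_succ]
      rw [← hsum, hN₁y]; abel

theorem decomp_facts (hF : Fintype.card F = q ^ 2) (N : Vn →ₗ[F] Vn)
    (hsa : ∀ x y, H (N x) y = H x (N y)) (hsq : ∀ x, N (N x) = 0) {k : ℕ} {f x : Fin k → Vn}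
    (hdual : ∀ i j, H (x i) (f j) = if i = j then 1 else 0)
    (hsum : ∀ y, N y = ∑ i, H y (f i) • f i) :
    LinearIndependent F f ∧ (∀ i j, H (f i) (f j) = 0) ∧ finrank F (LinearMap.range N) = k := by
  have hq : q ≠ 0 := by have := q_pos hF; omega
  have hNx : ∀ j, N (x j) = f j := by
    intro j
    rw [hsum]
    simp only [hdual]
    rw [Finset.sum_eq_single j (by intro b _ hb; rw [if_neg (Ne.symm hb), zero_smul]) (by simp)]
    rw [if_pos rfl, one_smul]
  have hli : LinearIndependent F f := by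
    rw [Fintype.linearIndependent_iff]
    intro g hg j
    have h2 := congrArg (fun z => H (x j) z) hg
    simp only [herm_zero_right hq, herm_sum_right' hF, hermForm_smul_right, hdual] at h2
    rw [Finset.sum_eq_single j (by intro b _ hb; rw [if_neg (Ne.symm hb), mul_zero]) (by simp)] at h2
    rw [if_pos rfl, mul_one] at h2
    exact pow_eq_zero_iff hq |>.1 h2
  refine ⟨hli, ?_, ?_⟩
  · intro i j
    rw [← hNx i, ← hNx j, hsa, hsq, herm_zero_right hq]
  · have : LinearMap.range N = Submodule.span F (Set.range f) := by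
      apply le_antisymm
      · rintro _ ⟨y, rfl⟩
        rw [hsum]
        exact Submodule.sum_mem _ (fun i _ => Submodule.smul_mem _ _ (Submodule.subset_span ⟨i, rfl⟩))
      · rw [Submodule.span_le]
        rintro _ ⟨j, rfl⟩
        exact ⟨x j, hNx j⟩
    rw [this, finrank_span_eq_card hli, Fintype.card_fin]

theorem exists_centralizing [CharP F 2] (hF : Fintype.card F = q ^ 2) (N : Vn →ₗ[F] Vn)
    (hsa : ∀ x y, H (N x) y = H x (N y)) (hsq : ∀ x, N (N x) = 0) (hN : N ≠ 0) (ω : F)
    (hω : ω ^ (q + 1) = 1) :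
    ∃ h : GL (Fin n) F, h ∈ Cfsg.GU n F q ∧ (h : Matrix (Fin n) (Fin n) F).det = ω ∧
      ∀ y, (h : Matrix (Fin n) (Fin n) F) *ᵥ (N y) = N ((h : Matrix (Fin n) (Fin n) F) *ᵥ y) := by
  have hq : q ≠ 0 := by have := q_pos hF; omega
  have h2 : (2 : F) = 0 := CharTwo.two_eq_zero
  obtain ⟨m, hm⟩ : 2 ∣ q := by
    have h1 : 2 ∣ Fintype.card F := (CharP.cast_eq_zero_iff F 2 (Fintype.card F)).1 (Nat.cast_card_eq_zero F)
    rw [hF] at h1
    exact Nat.Prime.dvd_of_dvd_pow Nat.prime_two h1
  set lam := ω ^ (m + 1) with hlam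
  have hlam2 : lam * lam = ω := by
    rw [hlam, ← pow_add]
    have : m + 1 + (m + 1) = (q + 1) + 1 := by omega
    rw [this, pow_succ, hω, one_mul]
  have hlamN : lam * lam ^ q = 1 := by
    rw [hlam, ← pow_mul, ← pow_add]
    have : m + 1 + (m + 1) * q = (q + 1) * (m + 1) := by ring
    rw [this, pow_mul, hω, one_pow]
  obtain ⟨x, hx⟩ := exists_unit_pair hF N hsa hN
  set f := N x with hf
  have hNf : N f = 0 := hsq x
  have hff : H f f = 0 := by rw [hf, hsa, hsq, herm_zero_right hq]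
  have hfx : H f x = 1 := by rw [← hermForm_conj hF, hx, one_pow]
  obtain ⟨μ, hμ⟩ := exists_trace_eq hF (H x x + 1) (by rw [add_pow_q hF, herm_self_pow hF, one_pow])
  set d₁ := x + μ • f with hd₁
  set d₂ := d₁ + f with hd₂
  have h11 : H d₁ d₁ = 1 := by
    simp only [hd₁, hermForm_add_left, hermForm_add_right hF, hermForm_smul_left, hermForm_smul_right,
      hx, hfx, hff]
    linear_combination hμ + H x x * h2
  have h1f : H d₁ f = 1 := by
    simp only [hd₁, hermForm_add_left, hermForm_smul_left, hx, hff]; ring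
  have hf1 : H f d₁ = 1 := by rw [← hermForm_conj hF, h1f, one_pow]
  have h22 : H d₂ d₂ = 1 := by
    simp only [hd₂, hermForm_add_left, hermForm_add_right hF, h11, h1f, hf1, hff]
    linear_combination h2
  have h21 : H d₂ d₁ = 0 := by
    simp only [hd₂, hermForm_add_left, h11, hf1]
    linear_combination h2
  have hNd₁ : N d₁ = f := by rw [hd₁, map_add, map_smul, hNf, smul_zero, add_zero]
  have hNd₂ : N d₂ = f := by rw [hd₂, map_add, hNd₁, hNf, add_zero]
  have hc : ∀ d : Vn, H d d = 1 → (lam - 1) + (lam - 1) ^ q + (lam - 1) * (lam - 1) ^ q * H d d = 0 := by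
    intro d hd
    rw [hd, sub_pow_q hF, one_pow]
    linear_combination hlamN
  refine ⟨uref q d₁ (lam - 1) _ (hc d₁ h11) * uref q d₂ (lam - 1) _ (hc d₂ h22),
    mul_mem (uref_mem_GU hF _ _ _) (uref_mem_GU hF _ _ _), ?_, ?_⟩
  · rw [Units.val_mul, Matrix.det_mul, uref_det, uref_det, h11, h22]
    linear_combination hlam2
  · intro y
    have hact : ∀ z, ((uref q d₁ (lam - 1) _ (hc d₁ h11) * uref q d₂ (lam - 1) _ (hc d₂ h22) : GL (Fin n) F) :
        Matrix (Fin n) (Fin n) F) *ᵥ z = z + ((lam - 1) * H z d₂) • d₂ + ((lam - 1) * H z d₁) • d₁ := by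
      intro z
      rw [gl_mul_mulVec, uref_mulVec, uref_mulVec, hermForm_add_left, hermForm_smul_left, h21]
      simp
    rw [hact, hact, map_add, map_add, map_smul, map_smul, hNd₁, hNd₂, hsa, hsa, hNd₁, hNd₂, hd₂,
      hermForm_add_right hF]
    linear_combination (norm := module) (((lam - 1) * H y f) * h2) • d₁ - (((lam - 1) * H y d₁) * h2) • f

theorem invol_facts [CharP F 2] (hF : Fintype.card F = q ^ 2) (a : ↥(Cfsg.SU n F q)) (ha : orderOf a = 2) :
    (∀ x y, H (((a.1 : Matrix (Fin n) (Fin n) F) - 1).mulVecLin x) y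
      = H x (((a.1 : Matrix (Fin n) (Fin n) F) - 1).mulVecLin y)) ∧
    (∀ x, ((a.1 : Matrix (Fin n) (Fin n) F) - 1).mulVecLin
      (((a.1 : Matrix (Fin n) (Fin n) F) - 1).mulVecLin x) = 0) ∧
    ((a.1 : Matrix (Fin n) (Fin n) F) - 1).mulVecLin ≠ 0 := by
  have h2 : (2 : F) = 0 := CharTwo.two_eq_zero
  have haa : a * a = 1 := by
    have := pow_orderOf_eq_one a
    rwa [ha, sq] at this
  have hAA : (a.1 : Matrix (Fin n) (Fin n) F) * (a.1 : Matrix (Fin n) (Fin n) F) = 1 :=
    congrArg (fun A : ↥(Cfsg.SU n F q) => (A.1 : Matrix (Fin n) (Fin n) F)) haa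
  have hAAx : ∀ x, (a.1 : Matrix (Fin n) (Fin n) F) *ᵥ ((a.1 : Matrix (Fin n) (Fin n) F) *ᵥ x) = x := by
    intro x
    rw [Matrix.mulVec_mulVec, hAA, Matrix.one_mulVec]
  have hU : ∀ u v, H ((a.1 : Matrix (Fin n) (Fin n) F) *ᵥ u) ((a.1 : Matrix (Fin n) (Fin n) F) *ᵥ v) = H u v := a.2
  have hN : ∀ z, ((a.1 : Matrix (Fin n) (Fin n) F) - 1).mulVecLin z
      = (a.1 : Matrix (Fin n) (Fin n) F) *ᵥ z - z := by
    intro z
    rw [Matrix.mulVecLin_apply, Matrix.sub_mulVec, Matrix.one_mulVec]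
  refine ⟨?_, ?_, ?_⟩
  · intro x y
    rw [hN, hN, herm_sub_left, herm_sub_right hF]
    congr 1
    rw [← hU x, hAAx]
  · intro x
    rw [hN, hN, Matrix.mulVec_sub, hAAx]
    linear_combination (norm := module) h2 • x - h2 • ((a.1 : Matrix (Fin n) (Fin n) F) *ᵥ x)
  · intro h0
    have h1 : a = 1 := by
      apply Subtype.ext
      apply Subtype.ext
      show (a.1 : Matrix (Fin n) (Fin n) F) = 1
      apply Matrix.toLin'.injective
      apply LinearMap.ext
      intro x
      have := congrArg (fun L => L x) h0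
      simp only [hN, LinearMap.zero_apply] at this
      rw [Matrix.toLin'_apply, Matrix.toLin'_apply, Matrix.one_mulVec]
      exact sub_eq_zero.1 this
    rw [h1, orderOf_one] at ha
    omega

theorem conj_of_rank [CharP F 2] (hF : Fintype.card F = q ^ 2) (a b : ↥(Cfsg.SU n F q))
    (ha : orderOf a = 2) (hb : orderOf b = 2)
    (hr : ((a.1 : Matrix (Fin n) (Fin n) F) - 1).rank = ((b.1 : Matrix (Fin n) (Fin n) F) - 1).rank) :
    IsConj a b := by
  obtain ⟨hsa, hsq, hN⟩ := invol_facts hF a ha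
  obtain ⟨hsa', hsq', hN'⟩ := invol_facts hF b hb
  obtain ⟨k, f, x, hdual, hsum⟩ := exists_decomp hF _ _ le_rfl hsa hsq
  obtain ⟨k', f', x', hdual', hsum'⟩ := exists_decomp hF _ _ le_rfl hsa' hsq'
  obtain ⟨hli, horth, hrk⟩ := decomp_facts hF _ hsa hsq hdual hsum
  obtain ⟨hli', horth', hrk'⟩ := decomp_facts hF _ hsa' hsq' hdual' hsum'
  have hkk : k = k' := by
    rw [← hrk, ← hrk']
    exact hr
  subst hkk
  obtain ⟨g, hg, hgf⟩ := witt_GU_family hF hli hli' (fun i j => by rw [horth, horth'])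
  have hdet : (g : Matrix (Fin n) (Fin n) F).det ^ (q + 1) = 1 :=
    Cfsg.Agent.Lib.Helper18.herm_det_pow hF ((Cfsg.Agent.Lib.Helper18.mem_GU_iff hF g).1 hg)
  have hδ0 : (g : Matrix (Fin n) (Fin n) F).det ≠ 0 := by
    intro h
    rw [h, zero_pow (by omega)] at hdet
    exact zero_ne_one hdet
  obtain ⟨h, hh, hhdet, hcomm⟩ := exists_centralizing hF _ hsa hsq hN ((g : Matrix (Fin n) (Fin n) F).det)⁻¹
    (by rw [inv_pow, hdet, inv_one])
  have hgh : g * h ∈ Cfsg.GU n F q := mul_mem hg hh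
  have hghdet : ((g * h : GL (Fin n) F) : Matrix (Fin n) (Fin n) F).det = 1 := by
    rw [Units.val_mul, Matrix.det_mul, hhdet, mul_inv_cancel₀ hδ0]
  rw [isConj_iff]
  refine ⟨Cfsg.Agent.Lib.Helper18.mkSU ((g * h : GL (Fin n) F) : Matrix (Fin n) (Fin n) F) hghdet hgh, ?_⟩
  rw [mul_inv_eq_iff_eq_mul]
  apply Subtype.ext
  apply Subtype.ext
  show ((g * h : GL (Fin n) F) : Matrix (Fin n) (Fin n) F) * (a.1 : Matrix (Fin n) (Fin n) F)
    = (b.1 : Matrix (Fin n) (Fin n) F) * ((g * h : GL (Fin n) F) : Matrix (Fin n) (Fin n) F)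
  apply Matrix.toLin'.injective
  apply LinearMap.ext
  intro y
  simp only [Matrix.toLin'_apply, ← Matrix.mulVec_mulVec]
  have eA : ∀ z, (a.1 : Matrix (Fin n) (Fin n) F) *ᵥ z
      = z + ((a.1 : Matrix (Fin n) (Fin n) F) - 1).mulVecLin z := by
    intro z
    rw [Matrix.mulVecLin_apply, Matrix.sub_mulVec, Matrix.one_mulVec]; abel
  have eB : ∀ z, (b.1 : Matrix (Fin n) (Fin n) F) *ᵥ z
      = z + ((b.1 : Matrix (Fin n) (Fin n) F) - 1).mulVecLin z := by
    intro z
    rw [Matrix.mulVecLin_apply, Matrix.sub_mulVec, Matrix.one_mulVec]; abel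
  rw [eA, eB, Matrix.mulVec_add]
  congr 1
  rw [gl_mul_mulVec, gl_mul_mulVec, hcomm, hsum, hsum', Matrix.mulVec_sum]
  apply Finset.sum_congr rfl
  intro i _
  rw [Matrix.mulVec_smul, hgf, ← hgf i, (Cfsg.Agent.Lib.Helper29.mem_GU_iff g).mp hg]


/-- Conjugacy of involutions in the special unitary group SU_n(q), q even, n ≥ 3, realised over the field F with q² elements as the matrices of determinant 1 preserving the form Σ u_i v_i^q: for two elements of order 2 of SU_n(q) the following are equivalent — they are conjugate in SU_n(q); they are conjugate in SL_n(F); the matrices a − 1 and b − 1 have the same rank. -/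
theorem result {F : Type*} [Field F] [Fintype F] [CharP F 2] {n q : ℕ} (hF : Fintype.card F = q ^ 2) (hn : 3 ≤ n) (a b : ↥(Cfsg.SU n F q)) (ha : orderOf a = 2) (hb : orderOf b = 2) :
    (IsConj a b ↔ IsConj (a : Matrix.SpecialLinearGroup (Fin n) F) (b : Matrix.SpecialLinearGroup (Fin n) F)) ∧
    (IsConj a b ↔ (((a : Matrix.SpecialLinearGroup (Fin n) F) : Matrix (Fin n) (Fin n) F) - 1).rank = (((b : Matrix.SpecialLinearGroup (Fin n) F) : Matrix (Fin n) (Fin n) F) - 1).rank) := by
  have h1 : IsConj a b → IsConj (a : Matrix.SpecialLinearGroup (Fin n) F) (b : Matrix.SpecialLinearGroup (Fin n) F) :=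
    fun h => (Cfsg.SU n F q).subtype.map_isConj h
  have h2 := Cfsg.Agent.S2162.result hn (a : Matrix.SpecialLinearGroup (Fin n) F) (b : Matrix.SpecialLinearGroup (Fin n) F)
    (by rw [Subgroup.orderOf_coe, ha]) (by rw [Subgroup.orderOf_coe, hb])
  have h3 := conj_of_rank hF a b ha hb
  exact ⟨⟨h1, fun h => h3 (h2.1 h)⟩, ⟨fun h => h2.1 (h1 h), h3⟩⟩

end Cfsg.Agent.S2164
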