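import Cfsg.Statements.S2360
import Cfsg.Agent.Lib.Helper15.SuSimple
import Cfsg.Agent.S2164
import Cfsg.Agent.Lib.Helper22.ClassSize

set_option autoImplicit false
open Cfsg

namespace Cfsg.Agent.S2360


open Matrix Module Cfsg.Agent.H6 Cfsg.Agent.Lib.Helper29 Cfsg.Agent.Lib.Helper15

variable {F : Type*} [Field F] [Fintype F] {q : ℕ}

local notation "H" => Cfsg.hermForm 3 F q
local notation "V3" => (Fin 3 → F)
local notation "M3" => Matrix (Fin 3) (Fin 3) F

/-- expansion in an orthonormal basis of the three-dimensional space -/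
theorem expand3 (hF : Fintype.card F = q ^ 2) {a b c : V3} (ha : H a a = 1) (hb : H b b = 1)
    (hc : H c c = 1) (hba : H b a = 0) (hca : H c a = 0) (hcb : H c b = 0) (y : V3) :
    y = H y a • a + H y b • b + H y c • c := by
  have hab := herm_eq_zero_symm hF hba
  have hac := herm_eq_zero_symm hF hca
  have hbc := herm_eq_zero_symm hF hcb
  have h0 := Cfsg.Agent.Lib.Helper18.hermGood_top (n := 0 + 1 + 1 + 1) hF
  have h1 := Cfsg.Agent.Lib.Helper18.hermGood_perp hF h0 a trivial ha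
  have h2 := Cfsg.Agent.Lib.Helper18.hermGood_perp hF h1 b ⟨trivial, hba⟩ hb
  have h3 := Cfsg.Agent.Lib.Helper18.hermGood_perp hF h2 c ⟨⟨trivial, hca⟩, hcb⟩ hc
  have hcard := h3.1
  rw [mul_zero, pow_zero] at hcard
  have hsub := (Nat.card_eq_one_iff_unique.1 hcard).1
  set z := y - (H y a • a + H y b • b + H y c • c) with hz
  have hza : H z a = 0 := by
    simp only [hz, herm_sub_left, hermForm_add_left, hermForm_smul_left, ha, hba, hca]; ring
  have hzb : H z b = 0 := by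
    simp only [hz, herm_sub_left, hermForm_add_left, hermForm_smul_left, hb, hab, hcb]; ring
  have hzc : H z c = 0 := by
    simp only [hz, herm_sub_left, hermForm_add_left, hermForm_smul_left, hc, hac, hbc]; ring
  have := hsub.elim ⟨z, ⟨⟨⟨trivial, hza⟩, hzb⟩, hzc⟩⟩ 0
  have hz0 : z = 0 := congrArg Subtype.val this
  rw [hz, sub_eq_zero] at hz0
  exact hz0

/-- normal form of an involution of `SU_3(q)`, `q` odd -/
theorem normal_form (hF : Fintype.card F = q ^ 2) (h2 : (2 : F) ≠ 0) (X : M3)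
    (hU : ∀ u v, H (X *ᵥ u) (X *ᵥ v) = H u v) (hdet : X.det = 1) (hXX : X * X = 1) (hX1 : X ≠ 1) :
    ∃ b : V3, H b b = 1 ∧ ∀ y, X *ᵥ y = -y + (2 * H y b) • b := by
  have hq : q ≠ 0 := by have := q_pos hF; omega
  have hXXy : ∀ y, X *ᵥ (X *ᵥ y) = y := by
    intro y; rw [Matrix.mulVec_mulVec, hXX, Matrix.one_mulVec]
  have hsaX : ∀ x y, H (X *ᵥ x) y = H x (X *ᵥ y) := by
    intro x y
    rw [← hU x, hXXy]
  have hXm1 : X ≠ -1 := by
    intro h
    rw [h, Matrix.det_neg, Matrix.det_one] at hdet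
    simp only [Fintype.card_fin] at hdet
    apply h2
    linear_combination -hdet
  -- eigenvectors
  obtain ⟨x, hx⟩ := Cfsg.Agent.S2164.exists_unit_pair hF (X + 1).mulVecLin (by
      intro x y
      simp only [Matrix.mulVecLin_apply, Matrix.add_mulVec, Matrix.one_mulVec, hermForm_add_left,
        hermForm_add_right hF, hsaX]) (by
      intro h
      apply hXm1
      have : X + 1 = 0 := by
        apply Matrix.toLin'.injective
        rw [Matrix.toLin'_apply', h, map_zero]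
      exact eq_neg_of_add_eq_zero_left this)
  obtain ⟨x', hx'⟩ := Cfsg.Agent.S2164.exists_unit_pair hF (X - 1).mulVecLin (by
      intro x y
      simp only [Matrix.mulVecLin_apply, Matrix.sub_mulVec, Matrix.one_mulVec, herm_sub_left,
        herm_sub_right hF, hsaX]) (by
      intro h
      apply hX1
      have : X - 1 = 0 := by
        apply Matrix.toLin'.injective
        rw [Matrix.toLin'_apply', h, map_zero]
      exact sub_eq_zero.1 this)
  rw [Matrix.mulVecLin_apply, Matrix.add_mulVec, Matrix.one_mulVec] at hx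
  rw [Matrix.mulVecLin_apply, Matrix.sub_mulVec, Matrix.one_mulVec] at hx'
  have hp : H (X *ᵥ x + x) (X *ᵥ x + x) ≠ 0 := by
    have : H (X *ᵥ x + x) (X *ᵥ x + x) = 2 := by
      rw [hermForm_add_left, hsaX, Matrix.mulVec_add, hXXy, add_comm x, hx]; ring
    rw [this]; exact h2
  have hm : H (X *ᵥ x' - x') (X *ᵥ x' - x') ≠ 0 := by
    have : H (X *ᵥ x' - x') (X *ᵥ x' - x') = -2 := by
      rw [herm_sub_left, hsaX, Matrix.mulVec_sub, hXXy, hx']
      have : x' - X *ᵥ x' = -(X *ᵥ x' - x') := by abel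
      rw [this, herm_neg_right hF, hx']; ring
    rw [this]; exact neg_ne_zero.2 h2
  obtain ⟨l, b, hl0, hbe, hbb⟩ := exists_unit_smul hF hp
  obtain ⟨l', b', hl0', hbe', hbb'⟩ := exists_unit_smul hF hm
  have hXb : X *ᵥ b = b := by
    have h1 : X *ᵥ (l • b) = l • b := by rw [← hbe, Matrix.mulVec_add, hXXy]; abel
    rw [Matrix.mulVec_smul] at h1
    exact smul_right_injective _ hl0 h1
  have hXb' : X *ᵥ b' = -b' := by
    have h1 : X *ᵥ (l' • b') = l' • (-b') := by
      rw [smul_neg, ← hbe', Matrix.mulVec_sub, hXXy]; abel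
    rw [Matrix.mulVec_smul] at h1
    exact smul_right_injective _ hl0' h1
  have hb'b : H b' b = 0 := by
    have := hU b' b
    rw [hXb, hXb', herm_neg_left] at this
    have h3 : 2 * H b' b = 0 := by linear_combination -this
    exact (mul_eq_zero.1 h3).resolve_left h2
  obtain ⟨c, hcc, hcb, hcb'⟩ := exists_unit_perp2 hF le_rfl hbb hbb' hb'b
  have hexp := expand3 hF hbb hbb' hcc hb'b hcb hcb'
  have hXc : X *ᵥ c = H (X *ᵥ c) c • c := by
    have := hexp (X *ᵥ c)
    rw [hsaX c b, hXb, hcb, hsaX c b', hXb', herm_neg_right hF, hcb'] at this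
    simpa using this
  set ε := H (X *ᵥ c) c with hε
  have hεε : ε * ε = 1 := by
    have := hXXy c
    rw [hXc, Matrix.mulVec_smul, hXc, smul_smul] at this
    have h4 := congrArg (fun z => H z c) this
    simp only [hermForm_smul_left, hcc] at h4
    linear_combination h4
  have hXy : ∀ y, X *ᵥ y = H y b • b - H y b' • b' + (ε * H y c) • c := by
    intro y
    conv_lhs => rw [hexp y]
    rw [Matrix.mulVec_add, Matrix.mulVec_add, Matrix.mulVec_smul, Matrix.mulVec_smul, Matrix.mulVec_smul,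
      hXb, hXb', hXc]
    module
  have hε1 : ε = 1 ∨ ε = -1 := by
    have : (ε - 1) * (ε + 1) = 0 := by linear_combination hεε
    rcases mul_eq_zero.1 this with h | h
    · left; linear_combination h
    · right; linear_combination h
  rcases hε1 with h1 | h1
  · exfalso
    have hc2 : (-2 : F) + (-2) + (-2) * (-2) * H b' b' = 0 := by rw [hbb']; ring
    have e : X = (uref q b' (-2) (-2) hc2 : M3) := by
      apply Matrix.toLin'.injective
      apply LinearMap.ext
      intro y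
      rw [Matrix.toLin'_apply, Matrix.toLin'_apply, hXy, uref_mulVec, h1]
      linear_combination (norm := module) -(hexp y)
    have hd := uref_det b' (-2) (-2) hc2
    rw [← e, hdet, hbb'] at hd
    apply h2
    linear_combination hd
  · refine ⟨b, hbb, fun y => ?_⟩
    rw [hXy, h1]
    linear_combination (norm := module) (hexp y)

/-- `t` is the involution with `+1`-eigenvector `b` -/
def IsRefl (t : ↥(Cfsg.SU 3 F q)) (b : V3) : Prop :=
  ∀ y, (t.1 : M3) *ᵥ y = -y + (2 * H y b) • b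

theorem su_ext {A B : ↥(Cfsg.SU 3 F q)} (h : ∀ x, (A.1 : M3) *ᵥ x = (B.1 : M3) *ᵥ x) : A = B := by
  apply Subtype.ext
  apply Subtype.ext
  apply Matrix.toLin'.injective
  apply LinearMap.ext
  intro x
  rw [Matrix.toLin'_apply, Matrix.toLin'_apply, h]

theorem su_mul (A B : ↥(Cfsg.SU 3 F q)) (x : V3) :
    ((A * B).1 : M3) *ᵥ x = (A.1 : M3) *ᵥ ((B.1 : M3) *ᵥ x) := by
  rw [Matrix.mulVec_mulVec]; rfl

theorem su_one (x : V3) : ((1 : ↥(Cfsg.SU 3 F q)).1 : M3) *ᵥ x = x := Matrix.one_mulVec x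

theorem exists_isRefl (hF : Fintype.card F = q ^ 2) (h2 : (2 : F) ≠ 0) (t : ↥(Cfsg.SU 3 F q)) (ht : t ≠ 1)
    (ht2 : t * t = 1) : ∃ b, H b b = 1 ∧ IsRefl t b := by
  apply normal_form hF h2 (t.1 : M3) t.2 t.1.2
  · exact congrArg (fun A : ↥(Cfsg.SU 3 F q) => (A.1 : M3)) ht2
  · intro h
    apply ht
    apply Subtype.ext
    apply Subtype.ext
    exact h

theorem exists_of_unit (hF : Fintype.card F = q ^ 2) {b : V3} (hb : H b b = 1) :
    ∃ t : ↥(Cfsg.SU 3 F q), IsRefl t b := by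
  have h2q : (-2 : F) ^ q = -2 := by
    have : (2 : F) ^ q = 2 := by
      have := add_pow_q hF (1 : F) 1
      rw [one_pow] at this
      have e : (2 : F) = 1 + 1 := by norm_num
      rw [e, this]
    rw [neg_pow_q hF, this]
  have hc : (-2 : F) + (-2) ^ q + (-2) * (-2) ^ q * H b b = 0 := by rw [h2q, hb]; ring
  have hU := uref_mem_GU hF b (-2) hc
  refine ⟨Cfsg.Agent.Lib.Helper18.mkSU (-(uref q b (-2) _ hc : M3)) ?_ ?_, ?_⟩
  · rw [Matrix.det_neg, uref_det, hb]
    simp only [Fintype.card_fin]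
    ring
  · intro u v
    rw [Matrix.neg_mulVec, Matrix.neg_mulVec, herm_neg_left, herm_neg_right hF, neg_neg]
    exact hU u v
  · intro y
    show (-(uref q b (-2) _ hc : M3)) *ᵥ y = _
    rw [Matrix.neg_mulVec, uref_mulVec]
    module

theorem IsRefl.sq {t : ↥(Cfsg.SU 3 F q)} {b : V3} (h : IsRefl t b) (hb : H b b = 1) : t * t = 1 := by
  apply su_ext
  intro y
  rw [su_mul, su_one, h y, h, hermForm_add_left, herm_neg_left, hermForm_smul_left, hb]
  module

theorem IsRefl.ne_one (hF : Fintype.card F = q ^ 2) (h2 : (2 : F) ≠ 0) {t : ↥(Cfsg.SU 3 F q)} {b : V3}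
    (h : IsRefl t b) (hb : H b b = 1) : t ≠ 1 := by
  rintro rfl
  have hq : q ≠ 0 := by have := q_pos hF; omega
  obtain ⟨c, hcc, hcb⟩ := exists_unit_perp1 hF (by omega) hb
  have := h c
  rw [su_one, hcb, mul_zero, zero_smul, add_zero] at this
  have h3 : (2 : F) • c = 0 := by
    rw [two_smul]
    nth_rewrite 1 [this]
    simp
  rcases smul_eq_zero.1 h3 with h4 | h4
  · exact h2 h4
  · rw [h4, herm_zero_left hq] at hcc
    exact zero_ne_one hcc

theorem IsRefl.fix {t : ↥(Cfsg.SU 3 F q)} {b : V3} (h : IsRefl t b) (hb : H b b = 1) :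
    (t.1 : M3) *ᵥ b = b := by
  rw [h, hb]; module

theorem IsRefl.eq_smul (h2 : (2 : F) ≠ 0) {t : ↥(Cfsg.SU 3 F q)} {b b' : V3} (h : IsRefl t b)
    (h' : IsRefl t b') (hb' : H b' b' = 1) : b' = H b' b • b := by
  have h1 := h'.fix hb'
  rw [h b'] at h1
  have h3 : (2 : F) • b' = (2 : F) • (H b' b • b) := by
    rw [two_smul]
    nth_rewrite 1 [← h1]
    module
  exact smul_right_injective _ h2 h3

theorem IsRefl.smul {t : ↥(Cfsg.SU 3 F q)} {b : V3} (h : IsRefl t b) {l : F} (hl : l * l ^ q = 1) :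
    IsRefl t (l • b) := by
  intro y
  rw [h y, hermForm_smul_right, smul_smul]
  congr 2
  linear_combination (-2 * H y b) * hl

theorem IsRefl.unique {t t' : ↥(Cfsg.SU 3 F q)} {b : V3} (h : IsRefl t b) (h' : IsRefl t' b) : t = t' :=
  su_ext (fun y => by rw [h y, h' y])

theorem IsRefl.conj {t g : ↥(Cfsg.SU 3 F q)} {b : V3} (h : IsRefl t b) :
    IsRefl (g * t * g⁻¹) ((g.1 : M3) *ᵥ b) := by
  intro y
  have hy : y = (g.1 : M3) *ᵥ ((g⁻¹.1 : M3) *ᵥ y) := by
    rw [← su_mul, mul_inv_cancel, su_one]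
  have hU : ∀ u v, H ((g.1 : M3) *ᵥ u) ((g.1 : M3) *ᵥ v) = H u v := g.2
  rw [su_mul, su_mul, h, Matrix.mulVec_add, Matrix.mulVec_neg, Matrix.mulVec_smul, ← hy]
  congr 3
  conv_rhs => rw [hy]
  rw [hU]

theorem perp_of_commute (hF : Fintype.card F = q ^ 2) (h2 : (2 : F) ≠ 0) {t x : ↥(Cfsg.SU 3 F q)} {b b' : V3}
    (ht : IsRefl t b) (hx : IsRefl x b') (hb : H b b = 1) (hb' : H b' b' = 1) (hc : Commute t x)
    (hne : x ≠ t) : H b' b = 0 := by
  by_contra h0
  apply hne
  have hU : ∀ u v, H ((t.1 : M3) *ᵥ u) ((t.1 : M3) *ᵥ v) = H u v := t.2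
  have h1 : IsRefl x ((t.1 : M3) *ᵥ b') := by
    have := hx.conj (g := t)
    have e : t * x * t⁻¹ = x := by rw [hc.eq, mul_inv_cancel_right]
    rwa [e] at this
  have h3 := hx.eq_smul h2 h1 (by rw [hU, hb'])
  rw [ht b'] at h3
  set μ := H (-b' + (2 * H b' b) • b) b' with hμ
  have h4 : b = ((μ + 1) / (2 * H b' b)) • b' := by
    have h5 : (2 * H b' b) • b = (μ + 1) • b' := by
      rw [add_smul, one_smul, ← h3]; abel
    rw [div_eq_inv_mul, ← smul_smul, ← h5, smul_smul, inv_mul_cancel₀ (mul_ne_zero h2 h0), one_smul]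
  set κ := (μ + 1) / (2 * H b' b) with hκ
  have hκN : κ * κ ^ q = 1 := by
    have := hb
    rw [h4, hermForm_smul_left, hermForm_smul_right, hb'] at this
    linear_combination this
  have h6 := hx.smul hκN
  rw [← h4] at h6
  exact h6.unique ht

theorem commute_of_perp (hF : Fintype.card F = q ^ 2) {t y : ↥(Cfsg.SU 3 F q)} {b c : V3}
    (ht : IsRefl t b) (hy : IsRefl y c) (hcb : H c b = 0) : Commute t y := by
  have hbc := herm_eq_zero_symm hF hcb
  apply su_ext
  intro z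
  rw [su_mul, su_mul, hy z, ht z, ht, hy]
  simp only [hermForm_add_left, herm_neg_left, hermForm_smul_left, hcb, hbc]
  module

theorem ne_of_perp (hF : Fintype.card F = q ^ 2) (h2 : (2 : F) ≠ 0) {t y : ↥(Cfsg.SU 3 F q)} {b c : V3}
    (ht : IsRefl t b) (hy : IsRefl y c) (hc : H c c = 1) (hcb : H c b = 0) : y ≠ t := by
  rintro rfl
  have hq : q ≠ 0 := by have := q_pos hF; omega
  have := ht.eq_smul h2 hy hc
  rw [hcb, zero_smul] at this
  rw [this, herm_zero_left hq] at hc
  exact zero_ne_one hc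


/-- Let q be odd, F the field with q² elements and S = SU_3(F) (determinant-one isometries of the standard Hermitian form). Then all involutions of S are conjugate; there are exactly q²(q²−q+1) of them; the centralizer of an involution has order q(q+1)(q²−1), the order of the full unitary group of degree 2; and for two distinct commuting involutions t and x there is exactly one further involution commuting with both. -/
theorem result {F : Type*} [Field F] [Fintype F] {q : ℕ} (hq : Odd q)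
    (hF : Fintype.card F = q ^ 2) (t : ↥(Cfsg.SU 3 F q)) (ht : t ≠ 1) (ht2 : t * t = 1) :
    (∀ x : ↥(Cfsg.SU 3 F q), x ≠ 1 → x * x = 1 → ∃ g : ↥(Cfsg.SU 3 F q), g * t * g⁻¹ = x) ∧
    Nat.card {x : ↥(Cfsg.SU 3 F q) // x ≠ 1 ∧ x * x = 1} = q ^ 2 * (q ^ 2 - q + 1) ∧
    Nat.card ↥(Subgroup.centralizer ({t} : Set ↥(Cfsg.SU 3 F q))) = q * (q + 1) * (q ^ 2 - 1) ∧
    ∀ x : ↥(Cfsg.SU 3 F q), x ≠ 1 → x * x = 1 → x ≠ t → Commute t x →
      Nat.card {y : ↥(Cfsg.SU 3 F q) // y ≠ 1 ∧ y * y = 1 ∧ y ≠ t ∧ y ≠ x ∧ Commute t y ∧ Commute x y} = 1 := by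
  have h2 : (2 : F) ≠ 0 := by
    intro h
    haveI : CharP F 2 := CharTwo.of_one_ne_zero_of_two_eq_zero one_ne_zero h
    have h1 : 2 ∣ Fintype.card F := (CharP.cast_eq_zero_iff F 2 _).1 (Nat.cast_card_eq_zero F)
    rw [hF] at h1
    have := Nat.Prime.dvd_of_dvd_pow Nat.prime_two h1
    exact (Nat.not_even_iff_odd.2 hq) (even_iff_two_dvd.2 this)
  have hq2 := q_pos hF
  have hq3 : 3 ≤ q := by
    rcases hq with ⟨m, rfl⟩
    omega
  have hq0 : q ≠ 0 := by omega
  have hU : AllEich 3 q F := fun u a hu hau hua s hs => ueich_mem_of_three_le hF hq3 hu hau hua s hs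
  have htrans : ∀ b b' : Fin 3 → F, Cfsg.hermForm 3 F q b b = 1 → Cfsg.hermForm 3 F q b' b' = 1 →
      ∃ g : ↥(Cfsg.SU 3 F q), (g.1 : Matrix (Fin 3) (Fin 3) F) *ᵥ b = b' := by
    intro b b' hb hb'
    obtain ⟨g, hg, e⟩ := exists_utvGroup_norm_one' hU hF le_rfl hb hb'
    have hm := utvGroup_le_SU hF hg
    exact ⟨Cfsg.Agent.Lib.Helper18.mkSU (g : Matrix (Fin 3) (Fin 3) F) ((mem_specialLinear_iff _).1 hm.2) hm.1, e⟩
  obtain ⟨b, hb, htb⟩ := exists_isRefl hF h2 t ht ht2
  have hconj : ∀ x : ↥(Cfsg.SU 3 F q), x ≠ 1 → x * x = 1 → ∃ g : ↥(Cfsg.SU 3 F q), g * t * g⁻¹ = x := by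
    intro x hx hx2
    obtain ⟨b', hb', hxb'⟩ := exists_isRefl hF h2 x hx hx2
    obtain ⟨g, hg⟩ := htrans b b' hb hb'
    refine ⟨g, ?_⟩
    have := htb.conj (g := g)
    rw [hg] at this
    exact this.unique hxb'
  have hcount : Nat.card {v : Fin 3 → F // Cfsg.hermForm 3 F q v v = 1}
      = Nat.card {x : ↥(Cfsg.SU 3 F q) // x ≠ 1 ∧ x * x = 1} * (q + 1) := by
    have hβ : ∀ x : {x : ↥(Cfsg.SU 3 F q) // x ≠ 1 ∧ x * x = 1}, ∃ b, Cfsg.hermForm 3 F q b b = 1 ∧ IsRefl x.1 b :=
      fun x => exists_isRefl hF h2 x.1 x.2.1 x.2.2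
    choose β hβ1 hβ2 using hβ
    rw [← Cfsg.Agent.Lib.Helper18.herm_card_norm_one hF, ← Nat.card_prod]
    symm
    apply Nat.card_congr
    refine Equiv.ofBijective (fun p => ⟨p.2.1 • β p.1, by
      rw [hermForm_smul_left, hermForm_smul_right, hβ1, mul_one, ← pow_succ']; exact p.2.2⟩) ⟨?_, ?_⟩
    · rintro ⟨x, l, hl⟩ ⟨x', l', hl'⟩ h
      have h1 : l • β x = l' • β x' := congrArg Subtype.val h
      have r1 := (hβ2 x).smul (l := l) (by rw [← pow_succ']; exact hl)
      have r2 := (hβ2 x').smul (l := l') (by rw [← pow_succ']; exact hl')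
      rw [h1] at r1
      have hxx : x = x' := Subtype.ext (r1.unique r2)
      subst hxx
      have hne : β x ≠ 0 := by
        intro h0
        have := hβ1 x
        rw [h0, herm_zero_left hq0] at this
        exact zero_ne_one this
      have : l = l' := by
        have h3 : (l - l') • β x = 0 := by rw [sub_smul, h1, sub_self]
        exact sub_eq_zero.1 ((smul_eq_zero.1 h3).resolve_right hne)
      subst this
      rfl
    · rintro ⟨v, hv⟩
      obtain ⟨tv, htv⟩ := exists_of_unit hF hv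
      have e := (hβ2 ⟨tv, htv.ne_one hF h2 hv, htv.sq hv⟩).eq_smul h2 htv hv
      refine ⟨⟨⟨tv, htv.ne_one hF h2 hv, htv.sq hv⟩, ⟨Cfsg.hermForm 3 F q v (β ⟨tv, htv.ne_one hF h2 hv, htv.sq hv⟩), ?_⟩⟩, ?_⟩
      · have := hv
        rw [e, hermForm_smul_left, hermForm_smul_right, hβ1] at this
        rw [pow_succ']
        linear_combination this
      · apply Subtype.ext
        exact e.symm
  have hindex : (Subgroup.centralizer ({t} : Set ↥(Cfsg.SU 3 F q))).index
      = Nat.card {x : ↥(Cfsg.SU 3 F q) // x ≠ 1 ∧ x * x = 1} := by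
    rw [Cfsg.Agent.Lib.Helper22.index_centralizer_eq_card_conj]
    apply Nat.card_congr
    refine Equiv.subtypeEquivRight fun y => ?_
    constructor
    · intro h
      obtain ⟨g, rfl⟩ := isConj_iff.1 h
      have := htb.conj (g := g)
      have hu : Cfsg.hermForm 3 F q ((g.1 : Matrix (Fin 3) (Fin 3) F) *ᵥ b) ((g.1 : Matrix (Fin 3) (Fin 3) F) *ᵥ b) = 1 := by
        exact (g.2 b b).trans hb
      exact ⟨this.ne_one hF h2 hu, this.sq hu⟩
    · rintro ⟨h1, h3⟩
      exact isConj_iff.2 (hconj y h1 h3)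
  have hCI := Subgroup.card_mul_index (Subgroup.centralizer ({t} : Set ↥(Cfsg.SU 3 F q)))
  rw [hindex] at hCI
  have hGU := Cfsg.Agent.Lib.Helper18.card_GU_eq_SU (n := 3) hF (by omega)
  have hprod := Cfsg.Agent.Lib.Helper18.card_GU_eq_prod (n := 3) hF
  rw [Finset.prod_range_succ, Finset.prod_range_succ, Finset.prod_range_one] at hprod
  have c1 := Cfsg.Agent.Lib.Helper18.herm_count_one_int hF 1
  have c2 := Cfsg.Agent.Lib.Helper18.herm_count_one_int hF 2
  have c3 := Cfsg.Agent.Lib.Helper18.herm_count_one_int hF 3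
  have d1 : Cfsg.Agent.Lib.Helper18.hermB F q (0 + 1) = Nat.card {v : Fin 1 → F // Cfsg.hermForm 1 F q v v = 1} := rfl
  have d2 : Cfsg.Agent.Lib.Helper18.hermB F q (1 + 1) = Nat.card {v : Fin 2 → F // Cfsg.hermForm 2 F q v v = 1} := rfl
  have d3 : Cfsg.Agent.Lib.Helper18.hermB F q (2 + 1) = Nat.card {v : Fin 3 → F // Cfsg.hermForm 3 F q v v = 1} := rfl
  rw [d1, d2, d3] at hprod
  set N1 := Nat.card {v : Fin 1 → F // Cfsg.hermForm 1 F q v v = 1}
  set N2 := Nat.card {v : Fin 2 → F // Cfsg.hermForm 2 F q v v = 1}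
  set N3 := Nat.card {v : Fin 3 → F // Cfsg.hermForm 3 F q v v = 1}
  set I := Nat.card {x : ↥(Cfsg.SU 3 F q) // x ≠ 1 ∧ x * x = 1}
  set C := Nat.card ↥(Subgroup.centralizer ({t} : Set ↥(Cfsg.SU 3 F q)))
  have hqZ : (q : ℤ) ≠ 0 := by exact_mod_cast hq0
  have hq1Z : (q : ℤ) + 1 ≠ 0 := by positivity
  have e1 : (N1 : ℤ) = q + 1 := by
    apply mul_right_cancel₀ hqZ; linear_combination c1
  have e2 : (N2 : ℤ) = q ^ 3 - q := by
    apply mul_right_cancel₀ hqZ; linear_combination c2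
  have e3 : (N3 : ℤ) = q ^ 5 + q ^ 2 := by
    apply mul_right_cancel₀ hqZ; linear_combination c3
  have hcountZ : (N3 : ℤ) = I * (q + 1) := by exact_mod_cast hcount
  have eI : (I : ℤ) = q ^ 2 * (q ^ 2 - q + 1) := by
    apply mul_right_cancel₀ hq1Z
    rw [← hcountZ, e3]; ring
  have hI0 : (I : ℤ) ≠ 0 := by
    rw [eI]
    have : (0 : ℤ) < (q : ℤ) ^ 2 - q + 1 := by nlinarith [sq_nonneg ((q : ℤ) - 1)]
    positivity
  have hZ : (N1 : ℤ) * N2 * N3 = (q + 1) * (C * I) := by
    rw [hprod, ← hCI] at hGU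
    exact_mod_cast hGU
  have eC : (C : ℤ) = q * (q + 1) * (q ^ 2 - 1) := by
    apply mul_right_cancel₀ (mul_ne_zero hI0 hq1Z)
    rw [e1, e2, hcountZ] at hZ
    linear_combination -hZ
  refine ⟨hconj, ?_, ?_, ?_⟩
  · have hle : q ≤ q ^ 2 := by nlinarith
    zify [hle]
    exact eI
  · have hle : 1 ≤ q ^ 2 := by nlinarith
    zify [hle]
    exact eC
  · intro x hx hx2 hxt hcomm
    obtain ⟨b', hb', hxb'⟩ := exists_isRefl hF h2 x hx hx2
    have hb'b := perp_of_commute hF h2 htb hxb' hb hb' hcomm hxt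
    obtain ⟨c, hcc, hcb, hcb'⟩ := exists_unit_perp2 hF le_rfl hb hb' hb'b
    obtain ⟨y₀, hy₀⟩ := exists_of_unit hF hcc
    rw [Nat.card_eq_one_iff_unique]
    constructor
    · have key : ∀ y : {y : ↥(Cfsg.SU 3 F q) // y ≠ 1 ∧ y * y = 1 ∧ y ≠ t ∧ y ≠ x ∧ Commute t y ∧ Commute x y},
          y.1 = y₀ := by
        rintro ⟨y, hy1, hy2, hyt, hyx, hty, hxy⟩
        obtain ⟨c', hc', hyc'⟩ := exists_isRefl hF h2 y hy1 hy2
        have p1 := perp_of_commute hF h2 htb hyc' hb hc' hty hyt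
        have p2 := perp_of_commute hF h2 hxb' hyc' hb' hc' hxy hyx
        have hexp := expand3 hF hb hb' hcc hb'b hcb hcb' c'
        rw [p1, p2, zero_smul, zero_smul, zero_add, zero_add] at hexp
        have hN : Cfsg.hermForm 3 F q c' c * (Cfsg.hermForm 3 F q c' c) ^ q = 1 := by
          have := hc'
          nth_rewrite 1 [hexp] at this
          nth_rewrite 2 [hexp] at this
          rw [hermForm_smul_left, hermForm_smul_right, hcc] at this
          linear_combination this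
        have := hy₀.smul hN
        rw [← hexp] at this
        exact hyc'.unique this
      exact ⟨fun y y' => Subtype.ext ((key y).trans (key y').symm)⟩
    · exact ⟨⟨y₀, hy₀.ne_one hF h2 hcc, hy₀.sq hcc, ne_of_perp hF h2 htb hy₀ hcc hcb,
        ne_of_perp hF h2 hxb' hy₀ hcc hcb', commute_of_perp hF htb hy₀ hcb, commute_of_perp hF hxb' hy₀ hcb'⟩⟩

end Cfsg.Agent.S2360
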