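import Cfsg.Statements.S2356
import Cfsg.Agent.S2360

set_option autoImplicit false
open Cfsg

namespace Cfsg.Agent.S2356


open Matrix Module Cfsg.Agent.H6 Cfsg.Agent.Lib.Helper29 Cfsg.Agent.Lib.Helper15 Cfsg.Agent.S2360

variable {F : Type*} [Field F] [Fintype F] {q : ℕ}

local notation "H" => Cfsg.hermForm 3 F q
local notation "V3" => (Fin 3 → F)
local notation "M3" => Matrix (Fin 3) (Fin 3) F

theorem card_split {α : Type*} [Finite α] (P Q : α → Prop) :
    Nat.card {a // P a} = Nat.card {a // P a ∧ Q a} + Nat.card {a // P a ∧ ¬ Q a} := by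
  classical
  rw [← Nat.card_sum]
  apply Nat.card_congr
  exact (Equiv.sumCompl (fun a : {a // P a} => Q a.1)).symm.trans
    (Equiv.sumCongr (Equiv.subtypeSubtypeEquivSubtypeInter P Q)
      (Equiv.subtypeSubtypeEquivSubtypeInter P (fun a => ¬ Q a)))

theorem card_pred (hF : Fintype.card F = q ^ 2) (h2 : (2 : F) ≠ 0) (R : ↥(Cfsg.SU 3 F q) → Prop) :
    Nat.card {v : V3 // H v v = 1 ∧ ∀ x, IsRefl x v → R x}
      = Nat.card {x : ↥(Cfsg.SU 3 F q) // x ≠ 1 ∧ x * x = 1 ∧ R x} * (q + 1) := by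
  have hq0 : q ≠ 0 := by have := q_pos hF; omega
  have hβ : ∀ x : {x : ↥(Cfsg.SU 3 F q) // x ≠ 1 ∧ x * x = 1 ∧ R x}, ∃ b, H b b = 1 ∧ IsRefl x.1 b :=
    fun x => exists_isRefl hF h2 x.1 x.2.1 x.2.2.1
  choose β hβ1 hβ2 using hβ
  rw [← Cfsg.Agent.Lib.Helper18.herm_card_norm_one hF, ← Nat.card_prod]
  symm
  apply Nat.card_congr
  refine Equiv.ofBijective (fun p => ⟨p.2.1 • β p.1, by
    rw [hermForm_smul_left, hermForm_smul_right, hβ1, mul_one, ← pow_succ']; exact p.2.2, by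
    intro x hx
    have r1 := (hβ2 p.1).smul (l := p.2.1) (by rw [← pow_succ']; exact p.2.2)
    rw [hx.unique r1]
    exact p.1.2.2.2⟩) ⟨?_, ?_⟩
  · rintro ⟨x, l, hl⟩ ⟨x', l', hl'⟩ h
    have h1 : l • β x = l' • β x' := congrArg Subtype.val h
    have r1 := (hβ2 x).smul (l := l) (by rw [← pow_succ']; exact hl)
    have r2 := (hβ2 x').smul (l := l') (by rw [← pow_succ']; exact hl')
    rw [h1] at r1
    have hxx : x = x' := Subtype.ext (r1.unique r2)
    subst hxx
    have hne : β x ≠ 0 := by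
      intro h0
      have := hβ1 x
      rw [h0, herm_zero_left hq0] at this
      exact zero_ne_one this
    have : l = l' := by
      have h3 : (l - l') • β x = 0 := by rw [sub_smul, h1, sub_self]
      exact sub_eq_zero.1 ((smul_eq_zero.1 h3).resolve_right hne)
    subst this
    rfl
  · rintro ⟨v, hv, hR⟩
    obtain ⟨tv, htv⟩ := exists_of_unit hF hv
    have e := (hβ2 ⟨tv, htv.ne_one hF h2 hv, htv.sq hv, hR tv htv⟩).eq_smul h2 htv hv
    refine ⟨⟨⟨tv, htv.ne_one hF h2 hv, htv.sq hv, hR tv htv⟩,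
      ⟨H v (β ⟨tv, htv.ne_one hF h2 hv, htv.sq hv, hR tv htv⟩), ?_⟩⟩, ?_⟩
    · have := hv
      rw [e, hermForm_smul_left, hermForm_smul_right, hβ1] at this
      rw [pow_succ']
      linear_combination this
    · apply Subtype.ext
      exact e.symm

/-- a common perpendicular unit vector -/
theorem exists_joint_perp (hF : Fintype.card F = q ^ 2) {a c : V3} (ha : H a a = 1) (hc : H c c = 1)
    (hN : H c a * (H c a) ^ q ≠ 1) : ∃ d : V3, H d d = 1 ∧ H d a = 0 ∧ H d c = 0 := by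
  have hac : H a c = (H c a) ^ q := (hermForm_conj hF c a).symm
  set c' := c - H c a • a with hc'
  have hc'a : H c' a = 0 := by
    rw [hc', herm_sub_left, hermForm_smul_left, ha]; ring
  have hc'c' : H c' c' = 1 - H c a * (H c a) ^ q := by
    rw [hc', herm_sub_left, herm_sub_right hF, herm_sub_right hF, hermForm_smul_left,
      hermForm_smul_left, hermForm_smul_right, hermForm_smul_right, ha, hc, hac]
    ring
  have hne : H c' c' ≠ 0 := by
    rw [hc'c']; intro h; apply hN; linear_combination -h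
  obtain ⟨m, c'', hm0, hc''e, hc''⟩ := exists_unit_smul hF hne
  have hc''a : H c'' a = 0 := by
    rw [hc''e, hermForm_smul_left] at hc'a; exact (mul_eq_zero.1 hc'a).resolve_left hm0
  obtain ⟨d, hdd, hda, hdc''⟩ := exists_unit_perp2 hF le_rfl ha hc'' hc''a
  refine ⟨d, hdd, hda, ?_⟩
  have : c = m • c'' + H c a • a := by rw [← hc''e, hc']; abel
  rw [this, hermForm_add_right hF, hermForm_smul_right, hermForm_smul_right, hda, hdc'']; ring

theorem char1 {t x : ↥(Cfsg.SU 3 F q)} {b v : Fin 3 → F} (hF : Fintype.card F = q ^ 2) (h2 : (2 : F) ≠ 0) (htb : IsRefl t b) (hb : H b b = 1)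
    (hxv : IsRefl x v) (hv : H v v = 1) : (x ≠ t ∧ Commute t x) ↔ H v b = 0 :=
  ⟨fun h => perp_of_commute hF h2 htb hxv hb hv h.2 h.1,
    fun h => ⟨ne_of_perp hF h2 htb hxv hv h, commute_of_perp hF htb hxv h⟩⟩

theorem char3 {t x : ↥(Cfsg.SU 3 F q)} {b v : Fin 3 → F} (hF : Fintype.card F = q ^ 2) (h2 : (2 : F) ≠ 0) (htb : IsRefl t b) (hb : H b b = 1)
    (hxv : IsRefl x v) (hv : H v v = 1) :
    (¬ Commute t x ∧ ∀ y : ↥(Cfsg.SU 3 F q), y ≠ 1 → y * y = 1 → ¬ (Commute t y ∧ Commute y x)) ↔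
      (H v b * (H v b) ^ q = 1 ∧ v ≠ H v b • b) := by
  have hq0 : q ≠ 0 := by have := q_pos hF; omega
  constructor
  · rintro ⟨hnc, hall⟩
    have hN : H v b * (H v b) ^ q = 1 := by
      by_contra hN
      obtain ⟨d, hdd, hdb, hdv⟩ := exists_joint_perp hF hb hv hN
      obtain ⟨y, hy⟩ := exists_of_unit hF hdd
      exact hall y (hy.ne_one hF h2 hdd) (hy.sq hdd)
        ⟨commute_of_perp hF htb hy hdb, (commute_of_perp hF hxv hy hdv).symm⟩
    refine ⟨hN, fun hvb => hnc ?_⟩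
    have := htb.smul hN
    rw [← hvb] at this
    rw [hxv.unique this]
  · rintro ⟨hN, hne⟩
    have hnc : ¬ Commute t x := by
      intro hc
      by_cases hxt : x = t
      · subst hxt
        exact hne (htb.eq_smul h2 hxv hv)
      · have := perp_of_commute hF h2 htb hxv hb hv hc hxt
        rw [this, zero_mul] at hN
        exact zero_ne_one hN
    refine ⟨hnc, ?_⟩
    rintro y hy1 hy2 ⟨hty, hyx⟩
    have hyt : y ≠ t := by rintro rfl; exact hnc hyx
    have hyx' : y ≠ x := by rintro rfl; exact hnc hty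
    obtain ⟨d, hdd, hyd⟩ := exists_isRefl hF h2 y hy1 hy2
    have hdb := perp_of_commute hF h2 htb hyd hb hdd hty hyt
    have hdv := perp_of_commute hF h2 hxv hyd hv hdd hyx.symm hyx'
    obtain ⟨e, hee, heb, hed⟩ := exists_unit_perp2 hF le_rfl hb hdd hdb
    have hexp := expand3 hF hb hdd hee hdb heb hed (v - H v b • b)
    have hbd := herm_eq_zero_symm hF hdb
    have hvd := herm_eq_zero_symm hF hdv
    have hbv : H b v = (H v b) ^ q := (hermForm_conj hF v b).symm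
    have u1 : H (v - H v b • b) b = 0 := by
      rw [herm_sub_left, hermForm_smul_left, hb]; ring
    have u2 : H (v - H v b • b) d = 0 := by
      rw [herm_sub_left, hermForm_smul_left, hvd, hbd]; ring
    have u3 : H (v - H v b • b) (v - H v b • b) = 0 := by
      rw [herm_sub_left, herm_sub_right hF, herm_sub_right hF, hermForm_smul_left,
        hermForm_smul_left, hermForm_smul_right, hermForm_smul_right, hb, hv, hbv]
      linear_combination -hN
    rw [u1, u2, zero_smul, zero_smul, zero_add, zero_add] at hexp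
    set μ := H (v - H v b • b) e with hμ
    have hμ0 : μ = 0 := by
      rw [hexp, hermForm_smul_left, hermForm_smul_right, hee] at u3
      have h5 : μ * μ ^ q = 0 := by linear_combination u3
      rcases mul_eq_zero.1 h5 with h | h
      · exact h
      · exact (pow_eq_zero_iff hq0).1 h
    rw [hμ0, zero_smul] at hexp
    exact hne (sub_eq_zero.1 hexp)

theorem exists_param (hF : Fintype.card F = q ^ 2) {b d e : Fin 3 → F} (hb : H b b = 1) (hd : H d d = 1)
    (he : H e e = 1) (hdb : H d b = 0) (heb : H e b = 0) (hed : H e d = 0) :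
    ∃ Φ : (F × (Fin 2 → F)) ≃ (Fin 3 → F),
      (∀ p, H (Φ p) (Φ p) = p.1 * p.1 ^ q + Cfsg.hermForm 2 F q p.2 p.2) ∧ (∀ p, H (Φ p) b = p.1) ∧
      (∀ p, Φ p = p.1 • b ↔ p.2 = 0) := by
  have hbd := herm_eq_zero_symm hF hdb
  have hbe := herm_eq_zero_symm hF heb
  have hde := herm_eq_zero_symm hF hed
  have k1 : ∀ (l m n : F), H (l • b + m • d + n • e) b = l := by
    intro l m n
    simp only [hermForm_add_left, hermForm_smul_left, hb, hdb, heb]; ring
  have k2 : ∀ (l m n : F), H (l • b + m • d + n • e) d = m := by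
    intro l m n
    simp only [hermForm_add_left, hermForm_smul_left, hd, hbd, hed]; ring
  have k3 : ∀ (l m n : F), H (l • b + m • d + n • e) e = n := by
    intro l m n
    simp only [hermForm_add_left, hermForm_smul_left, he, hbe, hde]; ring
  refine ⟨⟨fun p => p.1 • b + p.2 0 • d + p.2 1 • e, fun v => (H v b, ![H v d, H v e]), ?_, ?_⟩, ?_, ?_, ?_⟩
  · rintro ⟨l, w⟩
    apply Prod.ext
    · exact k1 _ _ _
    · funext i
      fin_cases i
      · exact k2 _ _ _
      · exact k3 _ _ _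
  · intro v
    exact (expand3 hF hb hd he hdb heb hed v).symm
  · rintro ⟨l, w⟩
    show H (l • b + w 0 • d + w 1 • e) (l • b + w 0 • d + w 1 • e) = _
    rw [hermForm_add_right hF, hermForm_add_right hF, hermForm_smul_right, hermForm_smul_right,
      hermForm_smul_right, k1, k2, k3]
    simp only [Cfsg.hermForm, Fin.sum_univ_two]
    ring
  · rintro ⟨l, w⟩
    exact k1 _ _ _
  · rintro ⟨l, w⟩
    show l • b + w 0 • d + w 1 • e = l • b ↔ w = 0
    constructor
    · intro h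
      funext i
      fin_cases i
      · have := k2 l (w 0) (w 1)
        rw [h, hermForm_smul_left, hbd, mul_zero] at this
        exact this.symm
      · have := k3 l (w 0) (w 1)
        rw [h, hermForm_smul_left, hbe, mul_zero] at this
        exact this.symm
    · rintro rfl
      simp

theorem count1 (hF : Fintype.card F = q ^ 2) {b : Fin 3 → F} (hb : H b b = 1) :
    Nat.card {v : Fin 3 → F // H v v = 1 ∧ H v b = 0} = q ^ 3 - q := by
  have hq2 := q_pos hF
  obtain ⟨d, hd, hdb⟩ := exists_unit_perp1 hF (by norm_num : 2 ≤ 3) hb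
  obtain ⟨e, he, heb, hed⟩ := exists_unit_perp2 hF le_rfl hb hd hdb
  obtain ⟨Φ, h1, h2, h3⟩ := exists_param hF hb hd he hdb heb hed
  have e1 : {v : Fin 3 → F // H v v = 1 ∧ H v b = 0} ≃ {w : Fin 2 → F // Cfsg.hermForm 2 F q w w = 1} := by
    refine ⟨fun v => ⟨(Φ.symm v.1).2, ?_⟩, fun w => ⟨Φ (0, w.1), ?_⟩, ?_, ?_⟩
    · have a1 := h1 (Φ.symm v.1)
      have a2 := h2 (Φ.symm v.1)
      rw [Equiv.apply_symm_apply] at a1 a2
      rw [v.2.1] at a1
      rw [v.2.2] at a2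
      rw [← a2] at a1
      linear_combination -a1
    · refine ⟨?_, h2 _⟩
      rw [h1]
      show (0 : F) * 0 ^ q + Cfsg.hermForm 2 F q w.1 w.1 = 1
      rw [w.2]; ring
    · rintro ⟨v, hv1, hv2⟩
      apply Subtype.ext
      show Φ (0, (Φ.symm v).2) = v
      have a2 := h2 (Φ.symm v)
      rw [Equiv.apply_symm_apply, hv2] at a2
      rw [a2, Prod.mk.eta, Equiv.apply_symm_apply]
    · rintro ⟨w, hw⟩
      apply Subtype.ext
      show (Φ.symm (Φ (0, w))).2 = w
      rw [Equiv.symm_apply_apply]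
  rw [Nat.card_congr e1]
  have := Cfsg.Agent.Lib.Helper18.herm_count_one_int hF 2
  have hle : q ≤ q ^ 3 := Nat.le_self_pow (by norm_num) q
  zify [hle]
  have hq0 : (q : ℤ) ≠ 0 := by positivity
  apply mul_right_cancel₀ hq0
  rw [this]; ring

theorem count3 (hF : Fintype.card F = q ^ 2) {b : Fin 3 → F} (hb : H b b = 1) :
    Nat.card {v : Fin 3 → F // H v v = 1 ∧ (H v b * (H v b) ^ q = 1 ∧ v ≠ H v b • b)}
      = (q + 1) * ((q + 1) * (q ^ 2 - 1)) := by
  have hq2 := q_pos hF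
  obtain ⟨d, hd, hdb⟩ := exists_unit_perp1 hF (by norm_num : 2 ≤ 3) hb
  obtain ⟨e, he, heb, hed⟩ := exists_unit_perp2 hF le_rfl hb hd hdb
  obtain ⟨Φ, h1, h2, h3⟩ := exists_param hF hb hd he hdb heb hed
  have e1 : {v : Fin 3 → F // H v v = 1 ∧ (H v b * (H v b) ^ q = 1 ∧ v ≠ H v b • b)} ≃
      {l : F // l ^ (q + 1) = 1} × {w : Fin 2 → F // Cfsg.hermForm 2 F q w w = 0 ∧ ¬ w = 0} := by
    refine ⟨fun v => (⟨(Φ.symm v.1).1, ?_⟩, ⟨(Φ.symm v.1).2, ?_⟩), fun p => ⟨Φ (p.1.1, p.2.1), ?_⟩, ?_, ?_⟩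
    · have a2 := h2 (Φ.symm v.1)
      rw [Equiv.apply_symm_apply] at a2
      rw [← a2, pow_succ']
      exact v.2.2.1
    · have a1 := h1 (Φ.symm v.1)
      have a2 := h2 (Φ.symm v.1)
      have a3 := h3 (Φ.symm v.1)
      rw [Equiv.apply_symm_apply] at a1 a2 a3
      rw [← a2] at a1 a3
      refine ⟨?_, fun h => v.2.2.2 (a3.2 h)⟩
      linear_combination -a1 + v.2.1 - v.2.2.1
    · have hl : p.1.1 * p.1.1 ^ q = 1 := by rw [← pow_succ']; exact p.1.2
      refine ⟨?_, ?_, ?_⟩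
      · rw [h1]
        show p.1.1 * p.1.1 ^ q + Cfsg.hermForm 2 F q p.2.1 p.2.1 = 1
        rw [p.2.2.1, hl]; ring
      · rw [h2]; exact hl
      · rw [h2]
        intro h
        exact p.2.2.2 ((h3 _).1 h)
    · rintro ⟨v, hv⟩
      apply Subtype.ext
      show Φ ((Φ.symm v).1, (Φ.symm v).2) = v
      rw [Prod.mk.eta, Equiv.apply_symm_apply]
    · rintro ⟨⟨l, hl⟩, ⟨w, hw⟩⟩
      apply Prod.ext
      · apply Subtype.ext
        show (Φ.symm (Φ (l, w))).1 = l
        rw [Equiv.symm_apply_apply]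
      · apply Subtype.ext
        show (Φ.symm (Φ (l, w))).2 = w
        rw [Equiv.symm_apply_apply]
  rw [Nat.card_congr e1, Nat.card_prod, Cfsg.Agent.Lib.Helper18.herm_card_norm_one hF]
  congr 1
  have hs := card_split (fun w : Fin 2 → F => Cfsg.hermForm 2 F q w w = 0) (fun w => w = 0)
  have h0 : Nat.card {w : Fin 2 → F // Cfsg.hermForm 2 F q w w = 0 ∧ w = 0} = 1 := by
    rw [Nat.card_eq_one_iff_unique]
    refine ⟨⟨?_⟩, ⟨⟨0, ?_, rfl⟩⟩⟩
    · rintro ⟨a, -, rfl⟩ ⟨c, -, rfl⟩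
      rfl
    · exact herm_zero_left (by omega) _
  rw [h0] at hs
  have := Cfsg.Agent.Lib.Helper18.herm_count_zero_int hF 2
  rw [hs] at this
  have hle : 1 ≤ q ^ 2 := Nat.one_le_pow _ _ (by omega)
  zify [hle]
  have hq0 : (q : ℤ) ≠ 0 := by positivity
  apply mul_right_cancel₀ hq0
  push_cast at this
  linear_combination this

theorem card_pred' (hF : Fintype.card F = q ^ 2) (h2 : (2 : F) ≠ 0) (R : ↥(Cfsg.SU 3 F q) → Prop)
    (P : (Fin 3 → F) → Prop) (h : ∀ (x : ↥(Cfsg.SU 3 F q)) (v : Fin 3 → F), Cfsg.Agent.S2360.IsRefl x v → H v v = 1 → (R x ↔ P v)) :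
    Nat.card {v : Fin 3 → F // H v v = 1 ∧ P v}
      = Nat.card {x : ↥(Cfsg.SU 3 F q) // x ≠ 1 ∧ x * x = 1 ∧ R x} * (q + 1) := by
  rw [← card_pred hF h2 R]
  apply Nat.card_congr
  refine Equiv.subtypeEquivRight fun v => and_congr_right fun hv => ?_
  constructor
  · intro hP x hx
    exact (h x v hx hv).2 hP
  · intro hall
    obtain ⟨x, hx⟩ := exists_of_unit hF hv
    exact (h x v hx hv).1 (hall x hx)


/-- Let q be odd, F the field with q² elements, S = SU_3(F) (determinant-one isometries of the standard Hermitian form) and t an involution of S. Then: exactly q(q−1) involutions other than t commute with t; exactly q(q−2)(q²−1) involutions do not commute with t but commute with some involution commuting with t; exactly (q+1)(q²−1) involutions x do not commute with t and admit no involution commuting with both t and x; and every involution can be reached from t in at most three steps, each step going to an involution that commutes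 with the previous one (the commuting involution graph is connected of diameter 3). -/
theorem result {F : Type*} [Field F] [Fintype F] {q : ℕ} (hq : Odd q)
    (hF : Fintype.card F = q ^ 2) (t : ↥(Cfsg.SU 3 F q)) (ht : t ≠ 1) (ht2 : t * t = 1) :
    Nat.card {x : ↥(Cfsg.SU 3 F q) // x ≠ 1 ∧ x * x = 1 ∧ x ≠ t ∧ Commute t x} = q * (q - 1) ∧
    Nat.card {x : ↥(Cfsg.SU 3 F q) // x ≠ 1 ∧ x * x = 1 ∧ ¬ Commute t x ∧
        ∃ y : ↥(Cfsg.SU 3 F q), y ≠ 1 ∧ y * y = 1 ∧ Commute t y ∧ Commute y x} = q * (q - 2) * (q ^ 2 - 1) ∧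
    Nat.card {x : ↥(Cfsg.SU 3 F q) // x ≠ 1 ∧ x * x = 1 ∧ ¬ Commute t x ∧
        ∀ y : ↥(Cfsg.SU 3 F q), y ≠ 1 → y * y = 1 → ¬ (Commute t y ∧ Commute y x)} = (q + 1) * (q ^ 2 - 1) ∧
    ∀ x : ↥(Cfsg.SU 3 F q), x ≠ 1 → x * x = 1 →
      ∃ y z : ↥(Cfsg.SU 3 F q), y ≠ 1 ∧ y * y = 1 ∧ z ≠ 1 ∧ z * z = 1 ∧
        Commute t y ∧ Commute y z ∧ Commute z x := by
  have h2 : (2 : F) ≠ 0 := by
    intro h
    haveI : CharP F 2 := CharTwo.of_one_ne_zero_of_two_eq_zero one_ne_zero h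
    have h1 : 2 ∣ Fintype.card F := (CharP.cast_eq_zero_iff F 2 _).1 (Nat.cast_card_eq_zero F)
    rw [hF] at h1
    have := Nat.Prime.dvd_of_dvd_pow Nat.prime_two h1
    exact (Nat.not_even_iff_odd.2 hq) (even_iff_two_dvd.2 this)
  have hq2 := q_pos hF
  have hq3 : 3 ≤ q := by
    rcases hq with ⟨m, rfl⟩
    omega
  have hq0 : q ≠ 0 := by omega
  obtain ⟨b, hb, htb⟩ := exists_isRefl hF h2 t ht ht2
  have hle1 : 1 ≤ q := by omega
  have hle2 : 2 ≤ q := by omega
  have hle3 : 1 ≤ q ^ 2 := Nat.one_le_pow _ _ (by omega)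
  have hle4 : q ≤ q ^ 3 := Nat.le_self_pow (by norm_num) q
  have hle5 : q ≤ q ^ 2 := Nat.le_self_pow (by norm_num) q
  have hA1 : Nat.card {x : ↥(Cfsg.SU 3 F q) // x ≠ 1 ∧ x * x = 1 ∧ x ≠ t ∧ Commute t x} = q * (q - 1) := by
    have := card_pred' hF h2 (fun x => x ≠ t ∧ Commute t x) (fun v => Cfsg.hermForm 3 F q v b = 0)
      (fun x v hx hv => char1 hF h2 htb hb hx hv)
    rw [count1 hF hb] at this
    apply Nat.eq_of_mul_eq_mul_right (show 0 < q + 1 by omega)
    rw [← this]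
    zify [hle1, hle4]
    ring
  have hA3 : Nat.card {x : ↥(Cfsg.SU 3 F q) // x ≠ 1 ∧ x * x = 1 ∧ ¬ Commute t x ∧
        ∀ y : ↥(Cfsg.SU 3 F q), y ≠ 1 → y * y = 1 → ¬ (Commute t y ∧ Commute y x)}
        = (q + 1) * (q ^ 2 - 1) := by
    have := card_pred' hF h2 (fun x => ¬ Commute t x ∧
        ∀ y : ↥(Cfsg.SU 3 F q), y ≠ 1 → y * y = 1 → ¬ (Commute t y ∧ Commute y x))
      (fun v => Cfsg.hermForm 3 F q v b * (Cfsg.hermForm 3 F q v b) ^ q = 1 ∧
        v ≠ Cfsg.hermForm 3 F q v b • b)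
      (fun x v hx hv => char3 hF h2 htb hb hx hv)
    rw [count3 hF hb] at this
    apply Nat.eq_of_mul_eq_mul_right (show 0 < q + 1 by omega)
    rw [← this]
    ring
  refine ⟨hA1, ?_, hA3, ?_⟩
  · have hInv := (Cfsg.Agent.S2360.result hq hF t ht ht2).2.1
    have s1 := card_split (fun x : ↥(Cfsg.SU 3 F q) => x ≠ 1 ∧ x * x = 1) (fun x => Commute t x)
    have s2 := card_split (fun x : ↥(Cfsg.SU 3 F q) => (x ≠ 1 ∧ x * x = 1) ∧ Commute t x) (fun x => x = t)
    have s3 := card_split (fun x : ↥(Cfsg.SU 3 F q) => (x ≠ 1 ∧ x * x = 1) ∧ ¬ Commute t x)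
      (fun x => ∃ y : ↥(Cfsg.SU 3 F q), y ≠ 1 ∧ y * y = 1 ∧ Commute t y ∧ Commute y x)
    have c1 : Nat.card {x : ↥(Cfsg.SU 3 F q) // ((x ≠ 1 ∧ x * x = 1) ∧ Commute t x) ∧ x = t} = 1 := by
      rw [Nat.card_eq_one_iff_unique]
      refine ⟨⟨?_⟩, ⟨⟨t, ⟨⟨ht, ht2⟩, Commute.refl t⟩, rfl⟩⟩⟩
      rintro ⟨a, -, rfl⟩ ⟨c, -, hc⟩
      exact Subtype.ext hc.symm
    have c2 : Nat.card {x : ↥(Cfsg.SU 3 F q) // ((x ≠ 1 ∧ x * x = 1) ∧ Commute t x) ∧ ¬ x = t}
        = q * (q - 1) := by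
      rw [← hA1]
      apply Nat.card_congr
      refine Equiv.subtypeEquivRight fun x => ?_
      tauto
    have c3 : Nat.card {x : ↥(Cfsg.SU 3 F q) // ((x ≠ 1 ∧ x * x = 1) ∧ ¬ Commute t x) ∧
        ¬ ∃ y : ↥(Cfsg.SU 3 F q), y ≠ 1 ∧ y * y = 1 ∧ Commute t y ∧ Commute y x}
        = (q + 1) * (q ^ 2 - 1) := by
      rw [← hA3]
      apply Nat.card_congr
      refine Equiv.subtypeEquivRight fun x => ?_
      constructor
      · rintro ⟨⟨⟨a1, a2⟩, a3⟩, a4⟩
        exact ⟨a1, a2, a3, fun y hy hy2 hc => a4 ⟨y, hy, hy2, hc.1, hc.2⟩⟩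
      · rintro ⟨a1, a2, a3, a4⟩
        exact ⟨⟨⟨a1, a2⟩, a3⟩, fun ⟨y, hy, hy2, hc1, hc2⟩ => a4 y hy hy2 ⟨hc1, hc2⟩⟩
    have c4 : Nat.card {x : ↥(Cfsg.SU 3 F q) // ((x ≠ 1 ∧ x * x = 1) ∧ ¬ Commute t x) ∧
        ∃ y : ↥(Cfsg.SU 3 F q), y ≠ 1 ∧ y * y = 1 ∧ Commute t y ∧ Commute y x}
        = Nat.card {x : ↥(Cfsg.SU 3 F q) // x ≠ 1 ∧ x * x = 1 ∧ ¬ Commute t x ∧
        ∃ y : ↥(Cfsg.SU 3 F q), y ≠ 1 ∧ y * y = 1 ∧ Commute t y ∧ Commute y x} := by
      apply Nat.card_congr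
      refine Equiv.subtypeEquivRight fun x => ?_
      constructor
      · rintro ⟨⟨⟨a1, a2⟩, a3⟩, a4⟩
        exact ⟨a1, a2, a3, a4⟩
      · rintro ⟨a1, a2, a3, a4⟩
        exact ⟨⟨⟨a1, a2⟩, a3⟩, a4⟩
    rw [hInv, s2, s3, c1, c2, c3, c4] at s1
    zify [hle1, hle2, hle3, hle5] at s1 ⊢
    linear_combination -s1
  · intro x hx hx2
    obtain ⟨c, hc, hxc⟩ := exists_isRefl hF h2 x hx hx2
    by_cases hN : Cfsg.hermForm 3 F q c b * (Cfsg.hermForm 3 F q c b) ^ q = 1
    · obtain ⟨d, hd, hdb⟩ := exists_unit_perp1 hF (by norm_num : 2 ≤ 3) hb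
      obtain ⟨e, he, heb, hed⟩ := exists_unit_perp2 hF le_rfl hb hd hdb
      have hexp := expand3 hF hb hd he hdb heb hed c
      have h5 := congrArg (Cfsg.hermForm 3 F q c) hexp
      rw [hermForm_add_right hF, hermForm_add_right hF, hermForm_smul_right, hermForm_smul_right,
        hermForm_smul_right, hc] at h5
      have key : ∀ d' : Fin 3 → F, Cfsg.hermForm 3 F q d' d' = 1 → Cfsg.hermForm 3 F q d' b = 0 →
          Cfsg.hermForm 3 F q c d' * (Cfsg.hermForm 3 F q c d') ^ q ≠ 1 →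
          ∃ y z : ↥(Cfsg.SU 3 F q), y ≠ 1 ∧ y * y = 1 ∧ z ≠ 1 ∧ z * z = 1 ∧
            Commute t y ∧ Commute y z ∧ Commute z x := by
        intro d' hd' hd'b hN'
        obtain ⟨f, hf, hfd, hfc⟩ := exists_joint_perp hF hd' hc hN'
        obtain ⟨y, hy⟩ := exists_of_unit hF hd'
        obtain ⟨z, hz⟩ := exists_of_unit hF hf
        exact ⟨y, z, hy.ne_one hF h2 hd', hy.sq hd', hz.ne_one hF h2 hf, hz.sq hf,
          commute_of_perp hF htb hy hd'b, commute_of_perp hF hy hz hfd,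
          (commute_of_perp hF hxc hz hfc).symm⟩
      by_cases hNd : Cfsg.hermForm 3 F q c d * (Cfsg.hermForm 3 F q c d) ^ q = 1
      · apply key e he heb
        intro hNe
        apply h2
        linear_combination -hN - hNd - hNe - h5
      · exact key d hd hdb hNd
    · obtain ⟨d, hdd, hdb, hdc⟩ := exists_joint_perp hF hb hc hN
      obtain ⟨y, hy⟩ := exists_of_unit hF hdd
      exact ⟨y, y, hy.ne_one hF h2 hdd, hy.sq hdd, hy.ne_one hF h2 hdd, hy.sq hdd,
        commute_of_perp hF htb hy hdb, Commute.refl y, (commute_of_perp hF hxc hy hdc).symm⟩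

end Cfsg.Agent.S2356
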