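import Mathlib
import Cfsg.Statements.S2542
import Cfsg.Agent.H14.PSL2A5
import Cfsg.Agent.Lib.Helper18.PermEmb
import Cfsg.Agent.S0675

set_option autoImplicit false
open Cfsg

namespace Cfsg.Agent.S2542

/-- Let F be a field with 11 elements. PSL_2(F) has a subgroup H of index 11 isomorphic to the alternating group A_5, and the action of PSL_2(F) on the cosets of H is 2-transitive (of degree 11). -/
theorem result {F : Type*} [Field F] [Fintype F] (hF : Fintype.card F = 11) : ∃ H : Subgroup (Matrix.ProjectiveSpecialLinearGroup (Fin 2) F), H.index = 11 ∧ Nonempty (H ≃* alternatingGroup (Fin 5)) ∧ MulAction.IsMultiplyPretransitive (Matrix.ProjectiveSpecialLinearGroup (Fin 2) F) ((Matrix.ProjectiveSpecialLinearGroup (Fin 2) F) ⧸ H) 2 := by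
  classical
  obtain ⟨H, ⟨e⟩⟩ := Cfsg.Agent.H14.exists_A5_subgroup (F := F) (by rw [hF]; norm_num)
  have hG : Nat.card (Matrix.ProjectiveSpecialLinearGroup (Fin 2) F) = 660 := by
    have h1 := Cfsg.Agent.Lib.Helper18.card_PSL2 (F := F)
    rw [hF] at h1
    have h2 : Nat.gcd 2 (11 - 1) = 2 := by norm_num
    rw [h2] at h1
    omega
  have hH : Nat.card H = 60 := by
    rw [Nat.card_congr e.toEquiv, Cfsg.Agent.Lib.Helper18.card_A5]
  have hidx : H.index = 11 := by
    have := H.card_mul_index
    rw [hG, hH] at this
    omega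
  have hsimple : IsSimpleGroup (Matrix.ProjectiveSpecialLinearGroup (Fin 2) F) :=
    Matrix.ProjectiveSpecialLinearGroup.rank_two_simple
      (by rw [Nat.card_eq_fintype_card, hF]; norm_num)
  refine ⟨H, hidx, ⟨e⟩, ?_⟩
  haveI : Finite ((Matrix.ProjectiveSpecialLinearGroup (Fin 2) F) ⧸ H) :=
    inferInstance
  haveI : Fintype ((Matrix.ProjectiveSpecialLinearGroup (Fin 2) F) ⧸ H) := Fintype.ofFinite _
  let φ : Matrix.ProjectiveSpecialLinearGroup (Fin 2) F →*
      Equiv.Perm ((Matrix.ProjectiveSpecialLinearGroup (Fin 2) F) ⧸ H) :=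
    MulAction.toPermHom _ _
  have hcardα : Fintype.card ((Matrix.ProjectiveSpecialLinearGroup (Fin 2) F) ⧸ H) = 11 := by
    rw [← Nat.card_eq_fintype_card]; exact hidx
  haveI : MulAction.IsPretransitive φ.range
      ((Matrix.ProjectiveSpecialLinearGroup (Fin 2) F) ⧸ H) := by
    constructor
    intro x y
    obtain ⟨g, hg⟩ := MulAction.exists_smul_eq (Matrix.ProjectiveSpecialLinearGroup (Fin 2) F) x y
    exact ⟨⟨φ g, g, rfl⟩, hg⟩
  rcases Cfsg.Agent.S0675.result (by rw [hcardα]; norm_num) φ.range with hs | ht
  · exfalso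
    -- φ is injective since G is simple
    have hker : φ.ker = ⊥ := by
      rcases hsimple.eq_bot_or_eq_top_of_normal φ.ker inferInstance with h | h
      · exact h
      · exfalso
        have h1 : ∀ g : Matrix.ProjectiveSpecialLinearGroup (Fin 2) F, g ∈ H := by
          intro g
          have hg : g ∈ φ.ker := by rw [h]; trivial
          have h2 : φ g = 1 := hg
          have h3 : g • ((1 : Matrix.ProjectiveSpecialLinearGroup (Fin 2) F) :
              (Matrix.ProjectiveSpecialLinearGroup (Fin 2) F) ⧸ H) =
              ((1 : Matrix.ProjectiveSpecialLinearGroup (Fin 2) F) :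
              (Matrix.ProjectiveSpecialLinearGroup (Fin 2) F) ⧸ H) := by
            have := congrArg (fun σ => σ ((1 : Matrix.ProjectiveSpecialLinearGroup (Fin 2) F) :
              (Matrix.ProjectiveSpecialLinearGroup (Fin 2) F) ⧸ H)) h2
            simpa [φ] using this
          rw [MulAction.Quotient.smul_coe, eq_comm, QuotientGroup.eq] at h3
          simpa using h3
        have h2 : H = ⊤ := by
          rw [eq_top_iff]; intro g _; exact h1 g
        rw [h2, Subgroup.index_top] at hidx
        omega
    have hinj : Function.Injective φ := (MonoidHom.ker_eq_bot_iff φ).mp hker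
    haveI := hs
    haveI hsG : Group.IsSolvable (Matrix.ProjectiveSpecialLinearGroup (Fin 2) F) :=
      Group.isSolvable_of_isSolvable_injective (f := φ.rangeRestrict)
        (by
          intro a b hab
          apply hinj
          exact congrArg Subtype.val hab)
    haveI hsH : Group.IsSolvable H :=
      Group.isSolvable_of_isSolvable_injective (f := H.subtype) H.subtype_injective
    haveI hsA : Group.IsSolvable (alternatingGroup (Fin 5)) :=
      Group.isSolvable_of_surjective (f := e.toMonoidHom) e.surjective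
    have hS5 : Group.IsSolvable (Equiv.Perm (Fin 5)) :=
      Group.isSolvable_of_ker_le_range (alternatingGroup (Fin 5)).subtype Equiv.Perm.sign
        (by
          intro x hx
          exact ⟨⟨x, hx⟩, rfl⟩)
    exact Equiv.Perm.not_isSolvable_fin_5 hS5
  · rw [MulAction.is_two_pretransitive_iff] at ht ⊢
    intro a b c d hab hcd
    obtain ⟨⟨_, g, rfl⟩, hg1, hg2⟩ := ht hab hcd
    exact ⟨g, hg1, hg2⟩

end Cfsg.Agent.S2542
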