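import Cfsg.Statements.S2809
import Cfsg.Agent.Lib.Helper16.Comm

set_option autoImplicit false
open Cfsg

namespace Cfsg.Agent.S2809

open Cfsg.Agent.Lib.Helper16
open scoped commutatorElement

theorem nilpotent_action_isPGroup {H : Type*} [Group H] [Finite H] {p : ℕ} [Fact p.Prime] (R : Subgroup H)
    (hR : IsPGroup p ↥R) (hC : Subgroup.centralizer (R : Set H) ≤ R) (L : Subgroup H)
    (hL : L ≤ Subgroup.normalizer (R : Set H)) (hnil : ∃ n : ℕ, Cfsg.iterCommutator R L n = ⊥) :
    IsPGroup p ↥L := by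
  obtain ⟨n, hn⟩ := hnil
  apply isPGroup_of_coprime_eq_one
  intro x hx hc
  have hA : Subgroup.zpowers x ≤ L := by rwa [Subgroup.zpowers_le]
  have hAN : Subgroup.zpowers x ≤ Subgroup.normalizer (R : Set H) := hA.trans hL
  have hcop : (Nat.card (Subgroup.zpowers x)).Coprime (Nat.card R) := by
    obtain ⟨k, hk⟩ := IsPGroup.iff_card.1 hR
    rw [Nat.card_zpowers, hk]
    exact Nat.Coprime.pow_right k hc
  have hst := Cfsg.H1.coprime_commutator_stable (Subgroup.zpowers x) R hAN hcop (Or.inl inferInstance)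
  have hit : ∀ m, ⁅R, Subgroup.zpowers x⁆ ≤ Cfsg.iterCommutator R (Subgroup.zpowers x) m := by
    intro m
    induction m with
    | zero => exact commutator_le_left_of_le_normalizer hAN
    | succ m ih =>
      calc ⁅R, Subgroup.zpowers x⁆ = ⁅⁅R, Subgroup.zpowers x⁆, Subgroup.zpowers x⁆ := hst.symm
        _ ≤ ⁅Cfsg.iterCommutator R (Subgroup.zpowers x) m, Subgroup.zpowers x⁆ :=
          Subgroup.commutator_mono ih le_rfl
  have h0 : ⁅R, Subgroup.zpowers x⁆ = ⊥ := by
    rw [eq_bot_iff, ← hn]
    exact (hit n).trans (iterCommutator_mono hA n)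
  rw [Subgroup.commutator_comm, Subgroup.commutator_eq_bot_iff_le_centralizer] at h0
  have hxR : x ∈ R := hC (h0 (Subgroup.mem_zpowers x))
  exact eq_one_of_isPGroup_of_coprime hR hxR hc


/-- Let H be a finite group, p a prime, R a p-subgroup of H with C_H(R) ≤ R, and L a subgroup of N_H(R) acting nilpotently on R (some iterated commutator [R, L, …, L] is trivial). Then L is a p-group. -/
theorem result {H : Type*} [Group H] [Finite H] {p : ℕ} [Fact p.Prime] (R : Subgroup H) (hR : IsPGroup p ↥R) (hC : Subgroup.centralizer (R : Set H) ≤ R) (L : Subgroup H) (hL : L ≤ Subgroup.normalizer (R : Set H)) (hnil : ∃ n : ℕ, Cfsg.iterCommutator R L n = ⊥) : IsPGroup p ↥L := by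
  exact nilpotent_action_isPGroup R hR hC L hL hnil

end Cfsg.Agent.S2809
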