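import Cfsg.Statements.S2810
import Cfsg.Agent.Lib.Helper16.Comm
import Cfsg.Agent.S2809

set_option autoImplicit false
open Cfsg

namespace Cfsg.Agent.S2810

open Cfsg.Agent.Lib.Helper16
open scoped commutatorElement

/-- the elements `g` with `[K, g] ≤ N`, for normal subgroups `K`, `N` -/
def commStab {G : Type*} [Group G] (K N : Subgroup G) (_hK : K.Normal) (hN : N.Normal) : Subgroup G where
  carrier := {g | ∀ a ∈ K, ⁅a, g⁆ ∈ N}
  one_mem' := by intro a _; simp [N.one_mem]
  mul_mem' := by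
    intro g g' hg hg' a ha
    have h1 : ⁅a, g * g'⁆ = ⁅a, g⁆ * (g * ⁅a, g'⁆ * g⁻¹) := by
      simp only [commutatorElement_def]; group
    rw [h1]
    exact N.mul_mem (hg a ha) (hN.conj_mem _ (hg' a ha) g)
  inv_mem' := by
    intro g hg a ha
    have h1 : ⁅a, g⁻¹⁆ = g⁻¹ * ⁅a, g⁆⁻¹ * g⁻¹⁻¹ := by
      simp only [commutatorElement_def]; group
    rw [h1]
    exact hN.conj_mem _ (N.inv_mem (hg a ha)) g⁻¹

theorem commStab_normal {G : Type*} [Group G] (K N : Subgroup G) (hK : K.Normal) (hN : N.Normal) :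
    (commStab K N hK hN).Normal := by
  constructor
  intro g hg h a ha
  have h1 : ⁅a, h * g * h⁻¹⁆ = h * ⁅h⁻¹ * a * h⁻¹⁻¹, g⁆ * h⁻¹ := by
    simp only [commutatorElement_def]; group
  rw [h1]
  exact hN.conj_mem _ (hg _ (hK.conj_mem a ha h⁻¹)) h

theorem iterCommutator_succ' {G : Type*} [Group G] (N L : Subgroup G) (k : ℕ) :
    Cfsg.iterCommutator N L (k + 1) = Cfsg.iterCommutator ⁅N, L⁆ L k := by
  induction k with
  | zero => rfl
  | succ k ih =>
    show ⁅Cfsg.iterCommutator N L (k + 1), L⁆ = ⁅Cfsg.iterCommutator ⁅N, L⁆ L k, L⁆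
    rw [ih]

theorem iterCommutator_mono_left {G : Type*} [Group G] {N N' L : Subgroup G} (h : N ≤ N') (k : ℕ) :
    Cfsg.iterCommutator N L k ≤ Cfsg.iterCommutator N' L k := by
  induction k with
  | zero => exact h
  | succ k ih => exact Subgroup.commutator_mono ih le_rfl


/-- Let H be a finite group of characteristic p and L a subgroup of H centralizing every factor of some H-invariant chain 1 = A₀ ≤ A₁ ≤ … ≤ Aₙ = O_p(H) of normal subgroups (that is, [A_{i+1}, L] ≤ Aᵢ for each i). Then L ≤ O_p(H). -/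
theorem result {H : Type*} [Group H] [Finite H] {p : ℕ} [Fact p.Prime] (hchar : Subgroup.centralizer (Cfsg.pCore p H : Set H) ≤ Cfsg.pCore p H) (L : Subgroup H) (n : ℕ) (A : Fin (n + 1) → Subgroup H) (h0 : A 0 = ⊥) (hn : A (Fin.last n) = Cfsg.pCore p H) (hmono : Monotone A) (hnorm : ∀ i, (A i).Normal) (hcent : ∀ i : Fin n, ⁅A i.succ, L⁆ ≤ A i.castSucc) : L ≤ Cfsg.pCore p H := by
  let C : Subgroup H := ⨅ i : Fin n, commStab (A i.succ) (A i.castSucc) (hnorm _) (hnorm _)
  have hCn : C.Normal := Subgroup.normal_iInf_normal (fun i => commStab_normal _ _ _ _)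
  have hLC : L ≤ C := by
    apply le_iInf
    intro i l hl a ha
    exact hcent i (Subgroup.commutator_mem_commutator ha hl)
  have hCc : ∀ i : Fin n, ⁅A i.succ, C⁆ ≤ A i.castSucc := by
    intro i
    rw [Subgroup.commutator_le]
    intro a ha c hc
    exact (Subgroup.mem_iInf.1 hc i) a ha
  have hQ : ∀ j : Fin (n + 1), ∃ k, Cfsg.iterCommutator (A j) C k = ⊥ := by
    intro j
    induction j using Fin.induction with
    | zero => exact ⟨0, h0⟩
    | succ j ih =>
      obtain ⟨k, hk⟩ := ih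
      refine ⟨k + 1, ?_⟩
      rw [iterCommutator_succ', eq_bot_iff, ← hk]
      exact iterCommutator_mono_left (hCc j) k
  have hnil := hQ (Fin.last n)
  rw [hn] at hnil
  have hCp : IsPGroup p C := Cfsg.Agent.S2809.nilpotent_action_isPGroup (Cfsg.pCore p H) pCore_isPGroup hchar C
    Subgroup.le_normalizer_of_normal hnil
  exact hLC.trans (le_pCore hCn hCp)

end Cfsg.Agent.S2810
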