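import Cfsg.Statements.S2813
import Cfsg.Agent.Lib.Helper16.Comm

set_option autoImplicit false
open Cfsg

namespace Cfsg.Agent.S2813

open Cfsg.Agent.Lib.Helper16
open scoped commutatorElement


/-- Let K be a subgroup of the finite group H with O_p(K) = 1 and Y a p-subgroup of N_H(K) with [K, Y, Y] = 1. Then [K, Y] = 1. -/
theorem result {H : Type*} [Group H] [Finite H] {p : ℕ} [Fact p.Prime] (K : Subgroup H) (hO : Cfsg.pCore p ↥K = ⊥) (Y : Subgroup H) (hY : IsPGroup p ↥Y) (hYK : Y ≤ Subgroup.normalizer (K : Set H)) (hq : ⁅⁅K, Y⁆, Y⁆ = ⊥) : ⁅K, Y⁆ = ⊥ := by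
  set D := ⁅K, Y⁆ with hD
  have hDK : D ≤ K := commutator_le_left_of_le_normalizer hYK
  have hKD : K ≤ Subgroup.normalizer (D : Set H) := le_normalizer_commutator_left K Y
  have hYD : ⁅Y, D⁆ = ⊥ := by rw [Subgroup.commutator_comm]; exact hq
  -- D is abelian
  have hDD : ⁅D, D⁆ = ⊥ := by
    apply Subgroup.commutator_commutator_eq_bot_of_rotate
    · rw [hYD]; exact Subgroup.commutator_bot_left _
    · rw [eq_bot_iff, ← hq]
      exact Subgroup.commutator_mono (commutator_le_left_of_le_normalizer hKD) le_rfl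
  have hcomm : ∀ a ∈ D, ∀ b ∈ D, Commute a b := by
    intro a ha b hb
    have h1 := (Subgroup.commutator_eq_bot_iff_le_centralizer.1 hDD) ha
    exact ((Subgroup.mem_centralizer_iff.1 h1) b hb).symm
  -- D has exponent dividing |Y|
  have hexp : ∀ d ∈ D, d ^ Nat.card Y = 1 := by
    intro d hd
    rw [hD, Subgroup.commutator_def] at hd
    induction hd using Subgroup.closure_induction with
    | mem x hx =>
      obtain ⟨k, hk, y, hy, rfl⟩ := hx
      have hc : Commute y ⁅k, y⁆ := by
        have h1 := (Subgroup.commutator_eq_bot_iff_le_centralizer.1 hYD) hy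
        exact ((Subgroup.mem_centralizer_iff.1 h1) _ (Subgroup.commutator_mem_commutator hk hy)).symm
      rw [← commutator_pow_of_commute hc]
      have : y ^ Nat.card Y = 1 := by
        have h5 : (⟨y, hy⟩ : Y) ^ Nat.card Y = 1 := pow_card_eq_one'
        exact congrArg Subtype.val h5
      rw [this]; simp
    | one => simp
    | mul x y hx hy ihx ihy =>
      rw [← Subgroup.commutator_def] at hx hy
      rw [(hcomm x hx y hy).mul_pow, ihx, ihy, one_mul]
    | inv x hx ih => rw [inv_pow, ih, inv_one]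
  have hDp : IsPGroup p D := by
    obtain ⟨k, hk⟩ := IsPGroup.iff_card.1 hY
    intro d
    refine ⟨k, ?_⟩
    have := hexp d d.2
    rw [hk] at this
    exact Subtype.ext this
  have h1 := le_pCoreOf hDK hKD hDp
  unfold pCoreOf at h1
  rw [hO, Subgroup.map_bot] at h1
  exact eq_bot_iff.2 h1

end Cfsg.Agent.S2813
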