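import Cfsg.Statements.S2815
import Cfsg.Agent.Lib.Helper16.QS

set_option autoImplicit false
open Cfsg

namespace Cfsg.Agent.S2815

open Cfsg.Agent.Lib.Helper16
open scoped commutatorElement


/-- Let H be a finite group and p a prime dividing its order with O_p(H) = 1, and suppose K = O^p(H) (generated by the elements of order prime to p) is quasisimple. Then K = F*(H); for every nontrivial p-subgroup Y of H, K = [K, Y] and K lies in the subgroup generated by the K-conjugates of Y; every normal subgroup of H not containing K has order prime to p; and H is p-irreducible. -/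
theorem result {H : Type*} [Group H] [Finite H] {p : ℕ} [Fact p.Prime] (hp : p ∣ Nat.card H) (hO : Cfsg.pCore p H = ⊥) (hq : Cfsg.IsQuasisimple ↥(Cfsg.pResidual p H)) : Cfsg.pResidual p H = Cfsg.generalizedFittingSubgroup H ∧ (∀ Y : Subgroup H, IsPGroup p ↥Y → Y ≠ ⊥ → ⁅Cfsg.pResidual p H, Y⁆ = Cfsg.pResidual p H ∧ Cfsg.pResidual p H ≤ ⨆ k : ↥(Cfsg.pResidual p H), Y.map (MulAut.conj (k : H)).toMonoidHom) ∧ (∀ C : Subgroup H, C.Normal → ¬ Cfsg.pResidual p H ≤ C → (Nat.card ↥C).Coprime p) ∧ Cfsg.IsPIrreducible p H := by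
  have hpp : p.Prime := Fact.out
  set K := Cfsg.pResidual p H with hK
  have hKn : K.Normal := inferInstance
  have hnK : ∀ X : Subgroup H, X ≤ Subgroup.normalizer (K : Set H) := fun X => by
    rw [Subgroup.normalizer_eq_top_iff.2 hKn]; exact le_top
  have hD := centralizer_pResidual_coprime hO
  rw [← hK] at hD
  -- normal subgroups not containing `K`
  have hC : ∀ C : Subgroup H, C.Normal → ¬ K ≤ C → (Nat.card ↥C).Coprime p := by
    intro C hCn hne
    have h1 : ⁅K, C⁆ = ⊥ := qs_comm_of_normalized hq
      (by rw [Subgroup.normalizer_eq_top_iff.2 hCn]; exact le_top) (hnK C) hne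
    rw [Subgroup.commutator_comm, Subgroup.commutator_eq_bot_iff_le_centralizer] at h1
    exact Nat.Coprime.coprime_dvd_left (Subgroup.card_dvd_of_le h1) hD
  have hKnab : ¬ K ≤ Subgroup.centralizer (K : Set H) := by
    intro h
    have h1 : ⁅K, K⁆ = ⊥ := Subgroup.commutator_eq_bot_iff_le_centralizer.2 h
    rw [qs_perfect hq] at h1
    exact qs_ne_bot hq h1
  have hcomp : Cfsg.IsComponent K := ⟨hKn.isSubnormal, hq⟩
  refine ⟨?_, ?_, hC, ?_, ?_⟩
  · apply le_antisymm
    · exact (Cfsg.H9.component_le_layer hcomp).trans Cfsg.H9.layer_le_genFitting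
    · apply Cfsg.H9.genFitting_le_of_selfcentralizing K
      · apply mem_pResidual_of_coprime_card
        have hFn : (Cfsg.fittingSubgroup H).Normal := Cfsg.H9.fitting_normal
        apply hC _ hFn
        intro h
        have h1 : Group.IsNilpotent ↥(Cfsg.fittingSubgroup H) := Cfsg.H9.fitting_isNilpotent
        have h2 : Group.IsSolvable ↥(Cfsg.fittingSubgroup H) := inferInstance
        exact Cfsg.H9.qs_not_isSolvable hq (Cfsg.H9.isSolvable_of_le h h2)
      · exact mem_pResidual_of_coprime_card hD
  · intro Y hY hYne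
    have h1 : ⁅K, Y⁆ = K := by
      by_contra hne
      have h2 : ⁅⁅K, Y⁆, K⁆ = ⊥ := qs_normal_comm hq (commutator_le_left_of_le_normalizer (hnK Y))
        (le_normalizer_commutator_left K Y) hne
      rw [Subgroup.commutator_comm K Y] at h2
      have h3 := Cfsg.H9.perfect_comm_of_comm_comm (qs_perfect hq) h2
      rw [Subgroup.commutator_comm, Subgroup.commutator_eq_bot_iff_le_centralizer] at h3
      exact hYne (eq_bot_of_isPGroup_of_coprime hY h3 hD)
    refine ⟨h1, ?_⟩
    conv_lhs => rw [← h1]
    rw [Subgroup.commutator_le]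
    intro k hk y hy
    have e : ⁅k, y⁆ = (k * y * k⁻¹) * y⁻¹ := by simp only [commutatorElement_def]
    rw [e]
    apply Subgroup.mul_mem
    · exact (le_iSup (fun k : K => Y.map (MulAut.conj (k : H)).toMonoidHom) ⟨k, hk⟩)
        (conj_mem_cj hy)
    · exact Subgroup.inv_mem _ (le_iSup_cj Y K hy)
  · intro hcl
    obtain ⟨P⟩ : Nonempty (Sylow p H) := inferInstance
    have h1 : (P : Subgroup H) ≤ Cfsg.pCore p H := le_pCore (hcl P) P.isPGroup'
    rw [hO] at h1
    have h2 : (P : Subgroup H) = ⊥ := le_bot_iff.1 h1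
    have h3 := P.card_eq_multiplicity
    rw [h2, Subgroup.card_bot] at h3
    have h4 : (Nat.card H).factorization p = 0 := by
      by_contra hne
      have := Nat.one_lt_pow hne hpp.one_lt
      omega
    have := (hpp.dvd_iff_one_le_factorization Nat.card_pos.ne').1 hp
    omega
  · intro N hN hncl
    by_contra hne
    apply hncl
    intro P
    have h1 : (Nat.card ↥N).Coprime p := hC N hN hne
    have h2 : (P : Subgroup N) = ⊥ := by
      have := eq_bot_of_isPGroup_of_coprime (D := (⊤ : Subgroup N)) P.isPGroup' le_top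
        (by rw [Subgroup.card_top]; exact h1)
      exact this
    rw [h2]
    infer_instance

end Cfsg.Agent.S2815
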