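import Cfsg.Statements.S2816
import Cfsg.Agent.Lib.Helper16.FS2

set_option autoImplicit false
open Cfsg

namespace Cfsg.Agent.S2816

open Cfsg.Agent.Lib.Helper16
open scoped commutatorElement


/-- Let H be a finite group and p a prime with O_p(H) = 1, and Y a p-subgroup of H. Then for every subnormal subgroup K of H containing Y, [F*(H), Y] = [F*(K), Y] = [F*(K), Y, Y]; and if Y₀ ≤ Y with [F*(H), Y, Y₀] = 1 then Y₀ = 1 (in particular [F*(H), Y] = 1 forces Y = 1). -/
theorem result {H : Type*} [Group H] [Finite H] {p : ℕ} [Fact p.Prime] (hO : Cfsg.pCore p H = ⊥) (Y : Subgroup H) (hY : IsPGroup p ↥Y) : (∀ K : Subgroup H, K.IsSubnormal → Y ≤ K → ⁅Cfsg.generalizedFittingSubgroup H, Y⁆ = ⁅(Cfsg.generalizedFittingSubgroup ↥K).map K.subtype, Y⁆ ∧ ⁅(Cfsg.generalizedFittingSubgroup ↥K).map K.subtype, Y⁆ = ⁅⁅(Cfsg.generalizedFittingSubgroup ↥K).map K.subtype, Y⁆, Y⁆) ∧ (∀ Y₀ : Subgroup H, Y₀ ≤ Y → ⁅⁅Cfsg.generalizedFittingSubgroup H, Y⁆, Y₀⁆ = ⊥ → Y₀ = ⊥) :=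 by
  set F := Cfsg.generalizedFittingSubgroup H with hF
  have hFn : F.Normal := inferInstance
  have hYF : Y ≤ Subgroup.normalizer (F : Set H) := by
    rw [Subgroup.normalizer_eq_top_iff.2 hFn]; exact le_top
  have hdec := genFitting_decomp hO hY (le_refl F) hFn.isSubnormal hYF
  have hst := commutator_stable_of_sup hYF hdec
  refine ⟨?_, ?_⟩
  · intro K hK hYK
    rw [← genFitting_inf_subnormal hK, ← hF]
    obtain ⟨n, hn⟩ := exists_iterCommutator_le_of_isSubnormal hK F
    have h1 : ⁅F, Y⁆ ≤ K :=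
      (le_iterCommutator_of_stable (commutator_le_left_of_le_normalizer hYF) hYK hst n).trans hn
    have h2 : ⁅F, Y⁆ ≤ F ⊓ K := le_inf (commutator_le_left_of_le_normalizer hYF) h1
    have h3 : ⁅F, Y⁆ = ⁅F ⊓ K, Y⁆ := by
      apply le_antisymm
      · conv_lhs => rw [hst]
        exact Subgroup.commutator_mono h2 le_rfl
      · exact Subgroup.commutator_mono inf_le_left le_rfl
    refine ⟨h3, ?_⟩
    rw [← h3]
    exact hst
  · intro Y₀ hY₀ hc
    apply eq_bot_of_le_centralizer_genFitting hO (hY.to_le hY₀)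
    rw [← hF, ← Subgroup.commutator_eq_bot_iff_le_centralizer, Subgroup.commutator_comm,
      Subgroup.commutator_eq_bot_iff_le_centralizer]
    conv_lhs => rw [← hdec]
    apply sup_le
    · exact Subgroup.commutator_eq_bot_iff_le_centralizer.1 hc
    · exact inf_le_right.trans (Subgroup.centralizer_le (SetLike.coe_subset_coe.2 hY₀))

end Cfsg.Agent.S2816
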