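import Cfsg.Statements.S2817
import Cfsg.Agent.Lib.Helper16.FS3

set_option autoImplicit false
open Cfsg

namespace Cfsg.Agent.S2817

open Cfsg.Agent.Lib.Helper16
open scoped commutatorElement


/-- Let H be a finite group and p a prime with O_p(H) = 1, Q a p-subgroup of H, L = [F*(H), Q], and F the largest normal subgroup of F*(H) centralized by Q (a normal subgroup of F*(H) centralized by Q and containing every such). Then F = C_{F*(H)}(LQ); L = [L, Q]; L ∩ F ≤ Φ(L); every p-subgroup B of N_H(Q) with [L, B] ≤ F satisfies [L, B] = 1; and C_H(FL) has order prime to p. -/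
theorem result {H : Type*} [Group H] [Finite H] {p : ℕ} [Fact p.Prime] (hO : Cfsg.pCore p H = ⊥) (Q : Subgroup H) (hQ : IsPGroup p ↥Q) (L : Subgroup H) (hL : L = ⁅Cfsg.generalizedFittingSubgroup H, Q⁆) (F : Subgroup H) (hF : F ≤ Cfsg.generalizedFittingSubgroup H ∧ Cfsg.generalizedFittingSubgroup H ≤ Subgroup.normalizer (F : Set H) ∧ Q ≤ Subgroup.centralizer (F : Set H) ∧ ∀ N : Subgroup H, N ≤ Cfsg.generalizedFittingSubgroup H → Cfsg.generalizedFittingSubgroup H ≤ Subgroup.normalizer (N : Set H) → Q ≤ Subgroup.centralizer (N : Set H) → N ≤ F) : F = Cfsg.generalizedFittingSubgroup H ⊓ Subgroup.centralizer ((L ⊔ Q : Subgroup H) : Set H) ∧ ⁅L, Q⁆ = L ∧ L ⊓ F ≤ (frattini ↥L).map L.subtype ∧ (∀ B : Subgroup H, IsPGroup p ↥B → B ≤ Subgroup.normalizer (Q : Set H) → ⁅L, B⁆ ≤ F → ⁅L, B⁆ = ⊥) ∧ (Nat.card ↥(Subgroup.centralizer ((F ⊔ L : Subgroup H) : Set H))).Coprime p := by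
  obtain ⟨hF1, hF2, hF3, hF4⟩ := hF
  set Fs := Cfsg.generalizedFittingSubgroup H with hFs
  have hFn : Fs.Normal := inferInstance
  have hnFs : ∀ X : Subgroup H, X ≤ Subgroup.normalizer (Fs : Set H) := fun X => by
    rw [Subgroup.normalizer_eq_top_iff.2 hFn]; exact le_top
  have hdec := genFitting_decomp hO hQ (le_refl Fs) hFn.isSubnormal (hnFs Q)
  have hst := commutator_stable_of_sup (hnFs Q) hdec
  rw [← hL] at hdec hst
  have hLFs : L ≤ Fs := by rw [hL]; exact commutator_le_left_of_le_normalizer (hnFs Q)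
  have hFsL : Fs ≤ Subgroup.normalizer (L : Set H) := by
    rw [hL]; exact le_normalizer_commutator_left Fs Q
  have hQL : Q ≤ Subgroup.normalizer (L : Set H) := by
    rw [hL]; exact le_normalizer_commutator_right Fs Q
  have hLsn : L.IsSubnormal := Cfsg.H9.subnormal_step hLFs hFsL hFn.isSubnormal
  have hFQ : ⁅F, Q⁆ = ⊥ := by
    rw [Subgroup.commutator_comm]; exact Subgroup.commutator_eq_bot_iff_le_centralizer.2 hF3
  -- `F` centralises `L`
  have hLF : ⁅L, F⁆ = ⊥ := by
    rw [hL]
    apply Subgroup.commutator_commutator_eq_bot_of_rotate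
    · rw [Subgroup.commutator_comm Q F, hFQ]; exact Subgroup.commutator_bot_left Fs
    · exact le_bot_iff.1 ((Subgroup.commutator_mono
        (commutator_le_left_of_le_normalizer hF2) le_rfl).trans hFQ.le)
  have hLcF : L ≤ Subgroup.centralizer (F : Set H) :=
    Subgroup.commutator_eq_bot_iff_le_centralizer.1 hLF
  -- part 1
  have hp1 : F = Fs ⊓ Subgroup.centralizer ((L ⊔ Q : Subgroup H) : Set H) := by
    apply le_antisymm
    · exact le_inf hF1 (Subgroup.le_centralizer_iff.1 (sup_le hLcF hF3))
    · apply hF4 _ inf_le_left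
      · conv_lhs => rw [← hdec]
        apply sup_le
        · refine le_trans ?_ (Subgroup.centralizer_le_normalizer _)
          apply Subgroup.le_centralizer_iff.1
          exact inf_le_right.trans (Subgroup.centralizer_le (SetLike.coe_subset_coe.2 le_sup_left))
        · refine le_trans (le_inf (hnFs _) ?_) (normalizer_inf_le _ _)
          refine le_trans ?_ (normalizer_le_normalizer_centralizer (L ⊔ Q))
          refine le_trans (le_inf (inf_le_left.trans hFsL) ?_) (normalizer_inf_le_sup L Q)
          exact inf_le_right.trans (Subgroup.centralizer_le_normalizer _)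
      · apply Subgroup.le_centralizer_iff.1
        exact inf_le_right.trans (Subgroup.centralizer_le (SetLike.coe_subset_coe.2 le_sup_right))
  have hcomm : L ⊓ Subgroup.centralizer (Q : Set H) ≤ ⁅L, L⁆ :=
    inf_centralizer_le_commutator hO hQ hLFs hLsn hQL hst.symm
  have hLF' : L ⊓ F ≤ ⁅L, L⁆ :=
    (inf_le_inf_left L (Subgroup.le_centralizer_iff.1 hF3)).trans hcomm
  refine ⟨hp1, hst.symm, ?_, ?_, ?_⟩
  · refine le_trans (le_inf hLF' ?_) (centralizer_inf_commutator_le_frattini L)
    exact inf_le_right.trans (Subgroup.le_centralizer_iff.1 hLcF)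
  · intro B hB hBQ hLB
    have hBL : B ≤ Subgroup.normalizer (L : Set H) := by
      rw [hL]
      exact (le_inf (hnFs B) hBQ).trans (normalizer_inf_le_commutator Fs Q)
    have hdecB := genFitting_decomp hO hB hLFs hLsn hBL
    have hstB := commutator_stable_of_sup hBL hdecB
    have h1 : ⁅⁅L, B⁆, L⁆ = ⊥ := by
      rw [Subgroup.commutator_comm]
      exact le_bot_iff.1 ((Subgroup.commutator_mono le_rfl hLB).trans hLF.le)
    have h2 : ⁅⁅L, L⁆, B⁆ = ⊥ := by
      apply Subgroup.commutator_commutator_eq_bot_of_rotate h1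
      rw [Subgroup.commutator_comm B L]; exact h1
    rw [hstB]
    refine le_bot_iff.1 ((Subgroup.commutator_mono ?_ le_rfl).trans h2.le)
    exact (le_inf (commutator_le_left_of_le_normalizer hBL) hLB).trans hLF'
  · set D := Subgroup.centralizer ((F ⊔ L : Subgroup H) : Set H) with hD
    obtain ⟨P, hP⟩ := exists_isSyl p D
    have hPc : F ⊔ L ≤ Subgroup.centralizer (P : Set H) := Subgroup.le_centralizer_iff.1 hP.le
    have hEN : ⁅Cfsg.layer H, Cfsg.fittingSubgroup H⁆ = ⊥ := Cfsg.H9.layer_comm_fitting
    have hE : Cfsg.layer H ≤ F ⊔ L := by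
      apply sSup_le
      intro K hK
      have hKFs : K ≤ Fs := (Cfsg.H9.component_le_layer hK).trans Cfsg.H9.layer_le_genFitting
      rcases Cfsg.H9.component_le_or_comm hK hLsn with h | h
      · exact h.trans le_sup_right
      · refine le_trans ?_ le_sup_left
        apply hF4 K hKFs
        · apply sup_le (Cfsg.H9.layer_le_normalizer_component hK)
          refine le_trans ?_ (Subgroup.centralizer_le_normalizer _)
          refine le_trans ?_ (Subgroup.centralizer_le
            (SetLike.coe_subset_coe.2 (Cfsg.H9.component_le_layer hK)))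
          rw [Subgroup.commutator_comm] at hEN
          exact Subgroup.commutator_eq_bot_iff_le_centralizer.1 hEN
        · have h3 : ⁅⁅Q, K⁆, K⁆ = ⊥ := by
            rw [Subgroup.commutator_comm Q K, Subgroup.commutator_comm]
            refine le_bot_iff.1 ((Subgroup.commutator_mono le_rfl ?_).trans h.le)
            rw [hL]
            exact Subgroup.commutator_mono hKFs le_rfl
          have h4 := Cfsg.H9.perfect_comm_of_comm_comm (Cfsg.H9.comp_perfect hK) h3
          exact Subgroup.le_centralizer_iff.1 (Subgroup.commutator_eq_bot_iff_le_centralizer.1 h4)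
    set N := Cfsg.fittingSubgroup H with hN
    have hNn : N.Normal := inferInstance
    have hnN : ∀ X : Subgroup H, X ≤ Subgroup.normalizer (N : Set H) := fun X => by
      rw [Subgroup.normalizer_eq_top_iff.2 hNn]; exact le_top
    have hNFs : N ≤ Fs := Cfsg.H9.fitting_le_genFitting
    have hRL : ⁅N, Q⁆ ≤ L := by rw [hL]; exact Subgroup.commutator_mono hNFs le_rfl
    have hX : N ⊓ Subgroup.centralizer ((⁅N, Q⁆ : Subgroup H) : Set H) ⊓
        Subgroup.centralizer (Q : Set H) ≤ F := by
      set X := N ⊓ Subgroup.centralizer ((⁅N, Q⁆ : Subgroup H) : Set H) ⊓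
        Subgroup.centralizer (Q : Set H) with hXdef
      have hXN : X ≤ N := inf_le_left.trans inf_le_left
      have hEX : Cfsg.layer H ≤ Subgroup.centralizer (X : Set H) :=
        (Subgroup.commutator_eq_bot_iff_le_centralizer.1 hEN).trans
          (Subgroup.centralizer_le (SetLike.coe_subset_coe.2 hXN))
      have hRX : ⁅N, Q⁆ ≤ Subgroup.centralizer (X : Set H) :=
        Subgroup.le_centralizer_iff.1 (inf_le_left.trans inf_le_right)
      rw [hp1]
      apply le_inf (hXN.trans hNFs)
      apply Subgroup.le_centralizer_iff.1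
      apply sup_le _ (Subgroup.le_centralizer_iff.1 inf_le_right)
      rw [hL, Subgroup.commutator_le]
      intro f hf q hq
      obtain ⟨e, he, n, hn, rfl⟩ := (Subgroup.mem_sup_of_normal_right (s := Cfsg.layer H)
        (t := N)).1 hf
      have e1 : ⁅e * n, q⁆ = e * ⁅n, q⁆ * e⁻¹ * ⁅e, q⁆ := by
        simp only [commutatorElement_def]; group
      rw [e1]
      have heq : ⁅e, q⁆ ∈ Cfsg.layer H := by
        have hEn : (Cfsg.layer H).Normal := inferInstance
        rw [commutatorElement_def, mul_assoc, mul_assoc]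
        rw [← mul_assoc q]
        exact Subgroup.mul_mem _ he (hEn.conj_mem _ (Subgroup.inv_mem _ he) q)
      exact Subgroup.mul_mem _ (Subgroup.mul_mem _ (Subgroup.mul_mem _ (hEX he)
        (hRX (Subgroup.commutator_mem_commutator hn hq))) (Subgroup.inv_mem _ (hEX he))) (hEX heq)
    have hPN : P ≤ Subgroup.centralizer (N : Set H) := by
      apply le_centralizer_of_parts (fitting_coprime hO) hQ hP.isPGroup (hnN Q) (hnN P)
      · exact Subgroup.le_centralizer_iff.1 ((hRL.trans le_sup_right).trans hPc)
      · exact Subgroup.le_centralizer_iff.1 ((hX.trans le_sup_left).trans hPc)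
    have hPbot : P = ⊥ := by
      apply eq_bot_of_le_centralizer_genFitting hO hP.isPGroup
      apply Subgroup.le_centralizer_iff.1
      exact sup_le (hE.trans hPc) (Subgroup.le_centralizer_iff.1 hPN)
    rw [hPbot] at hP
    exact coprime_card_of_isSyl_bot hP

end Cfsg.Agent.S2817
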