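import Cfsg.Statements.S2821
import Cfsg.Agent.Lib.Helper16.YL

set_option autoImplicit false
open Cfsg

namespace Cfsg.Agent.S2821

open Cfsg.Agent.Lib.Helper16
open scoped commutatorElement


/-- Let H be a finite group, p a prime, T a Sylow p-subgroup and L a subgroup of characteristic p containing T; let Y_L be the largest p-reduced normal subgroup of L (the join of the normal elementary abelian p-subgroups V of L with O_p(L/C_L(V)) = 1). Then T₀ := C_T(Y_L) is a Sylow p-subgroup of C_H(Y_L); moreover O_p(L) ≤ T₀ ≤ C_L(Y_L) and Ω₁(Z(T)) ≤ Z_L ≤ Y_L ≤ Ω₁(Z(O_p(L))), where Z_L is generated by the Ω₁(Z(S)) over the Sylow p-subgroups S of L. -/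
theorem result {H : Type*} [Group H] [Finite H] {p : ℕ} [Fact p.Prime] (T : Sylow p H) (L : Subgroup H) (hTL : (T : Subgroup H) ≤ L) (hL : Subgroup.centralizer (Cfsg.pCore p ↥L : Set ↥L) ≤ Cfsg.pCore p ↥L) (T₀ : Subgroup H) (hT₀ : T₀ = (T : Subgroup H) ⊓ Subgroup.centralizer (((Cfsg.largestPReducedOf p L) : Subgroup H) : Set H)) : (∃ P : Sylow p ↥(Subgroup.centralizer (((Cfsg.largestPReducedOf p L) : Subgroup H) : Set H)), (P : Subgroup ↥(Subgroup.centralizer (((Cfsg.largestPReducedOf p L) : Subgroup H) : Set H))) = T₀.subgroupOf (Subgroup.centralizer (((Cfsg.largestPReducedOf p L) : Subgroup H) : Set H))) ∧ (Cfsg.pCoreOf p L) ≤ T₀ ∧ T₀ ≤ L ⊓ Subgroup.centralizer (((Cfsg.largestPReducedOf p L) : Subgroup H) : Set H) ∧ (Cfsg.omegaOne p ((T : Subgroup H) ⊓ Subgroup.centralizer (((T : Subgroup H) : Subgroup H) : Set H))) ≤ Cfsg.sylowCenterClosure p L ∧ Cfsg.sylowCenterClosure p L ≤ (Cfsg.largestPReducedOf p L) ∧ (Cfsg.largestPReducedOf p L) ≤ (Cfsg.omegaOne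 p ((Cfsg.pCoreOf p L) ⊓ Subgroup.centralizer (((Cfsg.pCoreOf p L) : Subgroup H) : Set H))) := by
  set Y := Cfsg.largestPReducedOf p L with hY
  set C := Subgroup.centralizer (Y : Set H) with hC
  have hTL' : IsSyl p (T : Subgroup H) L := (isSyl_sylow T).of_le hTL le_top
  have hLY : L ≤ Subgroup.normalizer (Y : Set H) := le_normalizer_yOf p L
  have hTN : IsSyl p (T : Subgroup H) (Subgroup.normalizer (Y : Set H)) :=
    (isSyl_sylow T).of_le (hTL.trans hLY) le_top
  have hT₀s : IsSyl p T₀ C := by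
    rw [hT₀]
    exact hTN.inf_normal (Subgroup.centralizer_le_normalizer _)
      (normalizer_le_normalizer_centralizer Y)
  have hYe : Cfsg.IsElementaryAbelian p Y := yOf_isElementaryAbelian L
  have hYO : Y ≤ Cfsg.pCoreOf p L := yOf_le_pCoreOf L
  have hOC : Cfsg.pCoreOf p L ≤ C := pCoreOf_le_centralizer_yOf L
  refine ⟨?_, ?_, ?_, ?_, ?_, ?_⟩
  · obtain ⟨P, hP⟩ := hT₀s
    refine ⟨P, ?_⟩
    rw [hP]
    exact (Subgroup.comap_map_eq_self_of_injective C.subtype_injective _).symm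
  · rw [hT₀]
    exact le_inf (pCoreOf_le_isSyl hTL') hOC
  · rw [hT₀]
    exact inf_le_inf_right _ hTL
  · obtain ⟨P, hP⟩ := hTL'
    have := le_iSup (fun S : Sylow p L => Cfsg.omegaOne p (((S : Subgroup L).map L.subtype) ⊓
      Subgroup.centralizer (((S : Subgroup L).map L.subtype : Subgroup H) : Set H))) P
    rw [← hP] at this
    exact this
  · apply iSup_le
    intro S
    have hS : IsSyl p ((S : Subgroup L).map L.subtype) L := isSyl_mk S
    set S' := (S : Subgroup L).map L.subtype with hS'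
    have hYS : Y ≤ S' := hYO.trans (pCoreOf_le_isSyl hS)
    rw [hY, yOf_eq_omega hS hL, ← hY, ← hC]
    unfold Cfsg.omegaOne
    apply Subgroup.closure_mono
    rintro x ⟨⟨hx1, hx2⟩, hxp⟩
    refine ⟨⟨⟨hx1, ?_⟩, ?_⟩, hxp⟩
    · exact Subgroup.centralizer_le (SetLike.coe_subset_coe.2 hYS) hx2
    · exact Subgroup.centralizer_le (SetLike.coe_subset_coe.2 inf_le_left) hx2
  · intro y hy
    exact mem_omegaOne ⟨hYO hy, (Subgroup.le_centralizer_iff.1 hOC) hy⟩ (hYe.2 y hy)

end Cfsg.Agent.S2821
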