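import Cfsg.Statements.S2823
import Cfsg.Agent.Lib.Helper16.Trace
import Cfsg.Agent.S2821

set_option autoImplicit false
open Cfsg

namespace Cfsg.Agent.S2823

open Cfsg.Agent.Lib.Helper16
open scoped commutatorElement


/-- Let H be a finite group, p a prime, T a Sylow p-subgroup and L a subgroup of characteristic p containing T; let Z_L be the subgroup generated by the Ω₁(Z(S)) over the Sylow p-subgroups S of L and O^p(L) the subgroup generated by the elements of L of order prime to p. Then Z_L = Ω₁(Z(L))·[Z_L, O^p(L)] and [Z_L, L] = [Z_L, O^p(L)]. -/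
theorem result {H : Type*} [Group H] [Finite H] {p : ℕ} [Fact p.Prime] (T : Sylow p H) (L : Subgroup H) (hTL : (T : Subgroup H) ≤ L) (hL : Subgroup.centralizer (Cfsg.pCore p ↥L : Set ↥L) ≤ Cfsg.pCore p ↥L) : Cfsg.sylowCenterClosure p L = (Cfsg.omegaOne p (L ⊓ Subgroup.centralizer ((L : Subgroup H) : Set H))) ⊔ ⁅Cfsg.sylowCenterClosure p L, (Cfsg.pResidual p ↥L).map L.subtype⁆ ∧ ⁅Cfsg.sylowCenterClosure p L, L⁆ = ⁅Cfsg.sylowCenterClosure p L, (Cfsg.pResidual p ↥L).map L.subtype⁆ := by
  have hTL' : IsSyl p (T : Subgroup H) L := (isSyl_sylow T).of_le hTL le_top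
  have hZY : Cfsg.sylowCenterClosure p L ≤ Cfsg.largestPReducedOf p L :=
    (Cfsg.Agent.S2821.result T L hTL hL _ rfl).2.2.2.2.1
  have hYe : Cfsg.IsElementaryAbelian p (Cfsg.largestPReducedOf p L) := yOf_isElementaryAbelian L
  have hZ : Cfsg.IsElementaryAbelian p (Cfsg.sylowCenterClosure p L) := by
    refine ⟨?_, fun a ha => hYe.2 a (hZY ha)⟩
    rw [← Subgroup.le_centralizer_iff_isMulCommutative]
    exact (hZY.trans (Subgroup.le_centralizer_iff_isMulCommutative.2 hYe.1)).trans
      (Subgroup.centralizer_le (SetLike.coe_subset_coe.2 hZY))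
  refine ⟨?_, zOf_commutator L⟩
  apply le_antisymm
  · exact zOf_le fun S hS => omegaZ_le_sup hZ hS
  · apply sup_le
    · refine le_trans ?_ (omegaZ_le_zOf hTL')
      unfold Cfsg.omegaOne
      apply Subgroup.closure_mono
      rintro x ⟨⟨hx1, hx2⟩, hxp⟩
      refine ⟨⟨?_, Subgroup.centralizer_le (SetLike.coe_subset_coe.2 hTL) hx2⟩, hxp⟩
      have h1 : Subgroup.zpowers x ≤ Cfsg.pCoreOf p L := by
        apply le_pCoreOf (by rwa [Subgroup.zpowers_le])
        · refine le_trans ?_ (Subgroup.centralizer_le_normalizer _)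
          apply Subgroup.le_centralizer_iff.1
          rwa [Subgroup.zpowers_le]
        · exact isPGroup_zpowers_of_pow (a := 1) (by rwa [pow_one])
      exact (h1.trans (pCoreOf_le_isSyl hTL')) (Subgroup.mem_zpowers x)
    · exact commutator_le_left_of_le_normalizer
        ((pResidual_map_subtype_le L).trans (le_normalizer_zOf L))

end Cfsg.Agent.S2823
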