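import Cfsg.Statements.S2825
import Cfsg.Agent.Lib.Helper16.YSub

set_option autoImplicit false
open Cfsg

namespace Cfsg.Agent.S2825

open Cfsg.Agent.Lib.Helper16
open scoped commutatorElement


/-- Let L be a subnormal subgroup of the finite group H, p a prime, Y_H and Y_L the largest p-reduced normal subgroups. Then Y_H ∩ L = Y_H ∩ Y_L and this subgroup is a p-reduced normal subgroup of L; C_L(Y_L) = C_L(Y_H) = C_L(Y_H ∩ L); and if O^p(H) ≤ L, then [Y_L, L] = 1 if and only if [Y_H, H] = 1. -/
theorem result {H : Type*} [Group H] [Finite H] {p : ℕ} [Fact p.Prime] (L : Subgroup H) (hL : L.IsSubnormal) : Cfsg.largestPReduced p H ⊓ L = Cfsg.largestPReduced p H ⊓ (Cfsg.largestPReducedOf p L) ∧ Cfsg.IsPReducedNormal p ((Cfsg.largestPReduced p H ⊓ L).subgroupOf L) ∧ L ⊓ Subgroup.centralizer ((Cfsg.largestPReducedOf p L : Subgroup H) : Set H) = L ⊓ Subgroup.centralizer (Cfsg.largestPReduced p H : Set H) ∧ L ⊓ Subgroup.centralizer (Cfsg.largestPReduced p H : Set H) = L ⊓ Subgroup.centralizer ((Cfsg.largestPReduced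 p H ⊓ L : Subgroup H) : Set H) ∧ (Cfsg.pResidual p H ≤ L → (⁅(Cfsg.largestPReducedOf p L), L⁆ = ⊥ ↔ ⁅Cfsg.largestPReduced p H, (⊤ : Subgroup H)⁆ = ⊥)) := by
  have hY : IsPReducedNormal p (largestPReduced p H) := largestPReduced_isPReducedNormal
  have h2 := isPReducedNormal_inf_subnormal (p := p) hL
  have hVY : largestPReduced p H ⊓ L ≤ largestPReducedOf p L := le_yOf inf_le_right h2
  have h3b : L ⊓ Subgroup.centralizer (Cfsg.largestPReduced p H : Set H) =
      L ⊓ Subgroup.centralizer ((Cfsg.largestPReduced p H ⊓ L : Subgroup H) : Set H) :=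
    le_antisymm
      (inf_le_inf_left _ (Subgroup.centralizer_le (SetLike.coe_subset_coe.2 inf_le_left)))
      (le_inf inf_le_left (inf_centralizer_inf_le hL))
  have h3a : L ⊓ Subgroup.centralizer ((Cfsg.largestPReducedOf p L : Subgroup H) : Set H) =
      L ⊓ Subgroup.centralizer (Cfsg.largestPReduced p H : Set H) := by
    apply le_antisymm
    · rw [h3b]
      exact inf_le_inf_left _ (Subgroup.centralizer_le (SetLike.coe_subset_coe.2 hVY))
    · exact le_inf inf_le_left (inf_centralizer_le_centralizer_yOf hL)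
  refine ⟨le_antisymm (le_inf inf_le_left hVY) (inf_le_inf_left _ (yOf_le p L)), h2, h3a, h3b, ?_⟩
  intro hOp
  rw [Subgroup.commutator_eq_bot_iff_le_centralizer, Subgroup.commutator_eq_bot_iff_le_centralizer]
  constructor
  · intro h
    replace h := Subgroup.le_centralizer_iff.1 h
    rw [Subgroup.le_centralizer_iff]
    have h1 : L ≤ Subgroup.centralizer (Cfsg.largestPReduced p H : Set H) := by
      have : L ≤ L ⊓ Subgroup.centralizer ((Cfsg.largestPReducedOf p L : Subgroup H) : Set H) :=
        le_inf le_rfl h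
      rw [h3a] at this
      exact this.trans inf_le_right
    apply ((isPReducedNormal_iff (p := p)).1 hY).2.2 ⊤ inferInstance
    intro d _
    obtain ⟨k, hk⟩ := exists_pow_coprime (p := p) d
    exact ⟨k, h1 (hOp (mem_pResidual_of_coprime hk))⟩
  · intro h
    replace h := Subgroup.le_centralizer_iff.1 h
    rw [Subgroup.le_centralizer_iff]
    have : L ≤ L ⊓ Subgroup.centralizer (Cfsg.largestPReduced p H : Set H) :=
      le_inf le_rfl (le_top.trans h)
    rw [← h3a] at this
    exact this.trans inf_le_right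

end Cfsg.Agent.S2825
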