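import Cfsg.Statements.S2826
import Cfsg.Agent.Lib.Helper16.Trace
import Cfsg.Agent.Lib.Helper16.Subn2

set_option autoImplicit false
open Cfsg

namespace Cfsg.Agent.S2826

open Cfsg.Agent.Lib.Helper16
open scoped commutatorElement


/-- Let H be a finite group of characteristic p, T a Sylow p-subgroup, and V a normal elementary abelian p-subgroup of H containing Ω₁(Z(T)). Then C_H(Ω₁(Z(T))) = C_H([V, O^p(H)] ∩ Ω₁(Z(T))), O^p(H) being generated by the elements of order prime to p. -/
theorem result {H : Type*} [Group H] [Finite H] {p : ℕ} [Fact p.Prime] (hH : Subgroup.centralizer (Cfsg.pCore p H : Set H) ≤ Cfsg.pCore p H) (T : Sylow p H) (V : Subgroup H) [V.Normal] (hV : Cfsg.IsElementaryAbelian p V) (hZV : (Cfsg.omegaOne p ((T : Subgroup H) ⊓ Subgroup.centralizer (((T : Subgroup H) : Subgroup H) : Set H))) ≤ V) : Subgroup.centralizer ((Cfsg.omegaOne p ((T : Subgroup H) ⊓ Subgroup.centralizer (((T : Subgroup H) : Subgroup H) : Set H))) : Set H) = Subgroup.centralizer (((⁅V, Cfsg.pResidual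 p H⁆ ⊓ (Cfsg.omegaOne p ((T : Subgroup H) ⊓ Subgroup.centralizer (((T : Subgroup H) : Subgroup H) : Set H)))) : Subgroup H) : Set H) := by
  set Z := Cfsg.omegaOne p ((T : Subgroup H) ⊓ Subgroup.centralizer ((T : Subgroup H) : Set H)) with hZ
  have hTs : IsSyl p (T : Subgroup H) ⊤ := isSyl_sylow T
  have hVn : ∀ g : H, V.map (MulAut.conj g).toMonoidHom = V := fun g =>
    cj_eq_self_of_normal g inferInstance
  -- `Z_H ≤ V`
  have hZV' : Cfsg.sylowCenterClosure p (⊤ : Subgroup H) ≤ V := by
    apply zOf_le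
    intro S hS
    obtain ⟨m, -, hm⟩ := hTs.exists_conj_eq hS
    rw [← hm, centralizer_cj, ← cj_inf, ← omegaOne_cj, ← hVn m]
    exact cj_le_cj.2 hZV
  have hZe : Cfsg.IsElementaryAbelian p (Cfsg.sylowCenterClosure p (⊤ : Subgroup H)) :=
    isElementaryAbelian_of_le hV hZV'
  have hR : (Cfsg.pResidual p ↥(⊤ : Subgroup H)).map (⊤ : Subgroup H).subtype = Cfsg.pResidual p H := by
    rw [pResidual_map_subtype]
    unfold Cfsg.pResidual
    congr 1
    ext x
    simp
  have h1 := omegaZ_le_sup hZe hTs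
  rw [hR, ← hZ] at h1
  apply le_antisymm
  · exact Subgroup.centralizer_le (SetLike.coe_subset_coe.2 inf_le_right)
  · apply Subgroup.le_centralizer_iff.1
    intro v hv
    have hA : Cfsg.omegaOne p ((⊤ : Subgroup H) ⊓ Subgroup.centralizer ((⊤ : Subgroup H) : Set H)) ≤
        Subgroup.centralizer ((⊤ : Subgroup H) : Set H) := (omegaOne_le _).trans inf_le_right
    have hWn : ⁅Cfsg.sylowCenterClosure p (⊤ : Subgroup H), Cfsg.pResidual p H⁆ ≤
        Subgroup.normalizer ((Cfsg.omegaOne p ((⊤ : Subgroup H) ⊓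
          Subgroup.centralizer ((⊤ : Subgroup H) : Set H)) : Subgroup H) : Set H) := by
      refine le_trans ?_ (Subgroup.centralizer_le_normalizer _)
      apply Subgroup.le_centralizer_iff.1
      exact hA.trans (Subgroup.centralizer_le (SetLike.coe_subset_coe.2 le_top))
    obtain ⟨a, ha, w, hw, rfl⟩ := (mem_sup_of_le_normalizer hWn).1 (h1 hv)
    have hac : a ∈ Subgroup.centralizer ((⊤ : Subgroup H) : Set H) := hA ha
    apply Subgroup.mul_mem
    · exact Subgroup.centralizer_le (SetLike.coe_subset_coe.2 le_top) hac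
    · apply (Subgroup.le_centralizer_iff.1 (le_refl _))
      refine ⟨Subgroup.commutator_mono hZV' le_rfl hw, ?_⟩
      -- `w = a⁻¹ (a w) ∈ Ω₁ Z(T)`
      have haZ : a ∈ Z := omegaZ_self_le hTs ha
      have e : w = a⁻¹ * (a * w) := by group
      rw [e]
      exact Z.mul_mem (Z.inv_mem haZ) hv

end Cfsg.Agent.S2826
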