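import Cfsg.Statements.S2827
import Cfsg.Agent.Lib.Helper16.MinOver

set_option autoImplicit false
open Cfsg

namespace Cfsg.Agent.S2827

open Cfsg.Agent.Lib.Helper16
open scoped commutatorElement


/-- Let H be a finite p-irreducible group (not p-closed, and O^p(H) lies in every normal subgroup that is not p-closed) and T a Sylow p-subgroup. Then H is generated by the conjugates of T and H = H'·T; O^p(H) ≤ H'; and for every normal subgroup Y of T not contained in O_p(H), O^p(H) = [O^p(H), Y] and O^p(H) is contained in the normal closure of Y in H. -/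
theorem result {H : Type*} [Group H] [Finite H] {p : ℕ} [Fact p.Prime] (hH : Cfsg.IsPIrreducible p H) (T : Sylow p H) : Subgroup.normalClosure ((T : Subgroup H) : Set H) = ⊤ ∧ commutator H ⊔ (T : Subgroup H) = ⊤ ∧ Cfsg.pResidual p H ≤ commutator H ∧ ∀ Y : Subgroup H, Y ≤ (T : Subgroup H) → (T : Subgroup H) ≤ Subgroup.normalizer (Y : Set H) → ¬ Y ≤ Cfsg.pCore p H → ⁅Cfsg.pResidual p H, Y⁆ = Cfsg.pResidual p H ∧ Cfsg.pResidual p H ≤ Subgroup.normalClosure (Y : Set H) := by
  obtain ⟨hnpc, hirr⟩ := hH
  have hTs := isSyl_sylow T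
  -- a normal subgroup `N` containing a `p`-subgroup `Y ≰ O_p(H)` contains `O^p(H)`
  have key : ∀ (N Y : Subgroup H), N.Normal → IsPGroup p Y → Y ≤ N → ¬ Y ≤ Cfsg.pCore p H →
      Cfsg.pResidual p H ≤ N := by
    intro N Y hN hY hYN hYO
    apply hirr N hN
    intro hc
    apply hYO
    have h1 := pgroup_le_pCoreOf_of_isPClosed hc hY hYN
    have h2 : pCoreOf p N ≤ pCoreOf p (⊤ : Subgroup H) :=
      pCoreOf_le_pCoreOf_of_normal le_top Subgroup.le_normalizer_of_normal
    rw [pCoreOf_top] at h2
    exact h1.trans h2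
  have hTO : ¬ (T : Subgroup H) ≤ Cfsg.pCore p H := by
    intro h
    apply hnpc
    have h1 : (T : Subgroup H) = Cfsg.pCore p H := le_antisymm h (pCore_le_sylow T)
    have h2 : IsPClosed p ↥(⊤ : Subgroup H) := by
      apply isPClosed_of_isSyl_normal hTs
      rw [h1]; exact Subgroup.le_normalizer_of_normal
    intro P
    have h3 : (P : Subgroup H) = Cfsg.pCore p H := by
      have := (isSyl_sylow P).eq_pCoreOf h2
      rwa [pCoreOf_top] at this
    rw [h3]; infer_instance
  have h1 : Subgroup.normalClosure ((T : Subgroup H) : Set H) = ⊤ := by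
    rw [eq_top_iff, ← pResidual_sup_sylow T]
    exact sup_le (key _ T Subgroup.normalClosure_normal T.isPGroup' Subgroup.le_normalClosure hTO)
      Subgroup.le_normalClosure
  have h2 : commutator H ⊔ (T : Subgroup H) = ⊤ := by
    have hn : (commutator H ⊔ (T : Subgroup H)).Normal := by
      constructor
      intro x hx g
      have h3 : g * x * g⁻¹ = ⁅g, x⁆ * x := by simp only [commutatorElement_def]; group
      rw [h3]
      exact Subgroup.mul_mem _ (Subgroup.mem_sup_left (Subgroup.commutator_mem_commutator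
        (Subgroup.mem_top g) (Subgroup.mem_top x))) hx
    rw [eq_top_iff, ← h1]
    exact Subgroup.normalClosure_le_normal (SetLike.coe_subset_coe.2 le_sup_right)
  refine ⟨h1, h2, pResidual_le_of_sup_pgroup T.isPGroup' h2, ?_⟩
  intro Y hYT hTY hYO
  have hYp : IsPGroup p Y := T.isPGroup'.to_le hYT
  have h4 := key _ Y Subgroup.normalClosure_normal hYp Subgroup.le_normalClosure hYO
  refine ⟨?_, h4⟩
  set R := Cfsg.pResidual p H with hR
  have hRY : ⁅R, Y⁆ ≤ R := commutator_le_left_of_le_normalizer Subgroup.le_normalizer_of_normal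
  apply le_antisymm hRY
  -- `[R,Y] Y` is normal in `H = R T`
  have hTn : (T : Subgroup H) ≤ Subgroup.normalizer ((⁅R, Y⁆ : Subgroup H) : Set H) := by
    intro t ht
    rw [← cj_eq_self_iff, Subgroup.map_commutator, cj_eq_self_of_normal t inferInstance,
      cj_eq_self_iff.2 (hTY ht)]
  have hYn : Y ≤ Subgroup.normalizer ((⁅R, Y⁆ : Subgroup H) : Set H) := le_normalizer_commutator_right R Y
  have hRn : R ≤ Subgroup.normalizer ((⁅R, Y⁆ : Subgroup H) : Set H) := le_normalizer_commutator_left R Y
  have hnorm : (⁅R, Y⁆ ⊔ Y).Normal := by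
    rw [← Subgroup.normalizer_eq_top_iff, eq_top_iff, ← pResidual_sup_sylow T]
    apply sup_le
    · intro r hr
      rw [← cj_eq_self_iff]
      have hle : ∀ r ∈ R, (⁅R, Y⁆ ⊔ Y).map (MulAut.conj r).toMonoidHom ≤ ⁅R, Y⁆ ⊔ Y := by
        intro r hr
        rw [cj_sup, cj_eq_self_iff.2 (hRn hr)]
        apply sup_le le_sup_left
        intro x hx
        obtain ⟨y, hy, rfl⟩ := Subgroup.mem_map.1 hx
        have h5 : (MulAut.conj r).toMonoidHom y = ⁅r, y⁆ * y := by
          simp only [commutatorElement_def, MulEquiv.coe_toMonoidHom, MulAut.conj_apply]; group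
        rw [h5]
        exact Subgroup.mul_mem _ (Subgroup.mem_sup_left (Subgroup.commutator_mem_commutator hr hy))
          (Subgroup.mem_sup_right hy)
      apply le_antisymm (hle r hr)
      have := hle r⁻¹ (R.inv_mem hr)
      rwa [cj_le_iff, inv_inv] at this
    · intro t ht
      rw [← cj_eq_self_iff, cj_sup, cj_eq_self_iff.2 (hTn ht), cj_eq_self_iff.2 (hTY ht)]
  have h6 : R ≤ ⁅R, Y⁆ ⊔ Y := h4.trans (Subgroup.normalClosure_le_normal (SetLike.coe_subset_coe.2 le_sup_right))
  exact pResidual_le_of_le_sup hRn hYp hYn h6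

end Cfsg.Agent.S2827
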