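import Cfsg.Statements.S2828
import Cfsg.Agent.Lib.Helper10.PIrrQuot
-- import your own Cfsg.Agent.* helpers here

set_option autoImplicit false
open Cfsg
open Cfsg.Agent.Lib.Helper10.PIrrQuot

namespace Cfsg.Agent.S2828

/-- Let H be a finite group, p a prime and D a normal p-subgroup of H. Then H is p-irreducible if and only if H/D is p-irreducible, and H is strongly p-irreducible if and only if H/D is strongly p-irreducible. -/
theorem result {H : Type*} [Group H] [Finite H] {p : ℕ} [Fact p.Prime] (D : Subgroup H) [D.Normal] (hD : IsPGroup p ↥D) : (Cfsg.IsPIrreducible p H ↔ Cfsg.IsPIrreducible p (H ⧸ D)) ∧ (Cfsg.IsStronglyPIrreducible p H ↔ Cfsg.IsStronglyPIrreducible p (H ⧸ D)) := by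
  constructor
  · unfold Cfsg.IsPIrreducible
    rw [isPClosed_quot_iff D hD]
    rw [transfer D hD (fun N => ¬ Cfsg.IsPClosed p ↥N) (fun N => ¬ Cfsg.IsPClosed p ↥N)
      (fun N => not_congr (isPClosed_map_iff D hD N))]
  · unfold Cfsg.IsStronglyPIrreducible
    rw [isPClosed_quot_iff D hD]
    rw [transfer D hD (fun N => ¬ ⁅N, (⊤ : Subgroup H)⁆ ≤ Cfsg.pCore p H)
      (fun N => ¬ ⁅N, (⊤ : Subgroup (H ⧸ D))⁆ ≤ Cfsg.pCore p (H ⧸ D))
      (fun N => not_congr (comm_le_pCore_iff D hD N))]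

end Cfsg.Agent.S2828
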