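import Cfsg.Statements.S2829
import Cfsg.Agent.Lib.Helper16.Cores

set_option autoImplicit false
open Cfsg

namespace Cfsg.Agent.S2829

open Cfsg.Agent.Lib.Helper16


/-- Every strongly p-irreducible finite group is p-irreducible. -/
theorem result {H : Type*} [Group H] [Finite H] {p : ℕ} [Fact p.Prime] (hH : Cfsg.IsStronglyPIrreducible p H) : Cfsg.IsPIrreducible p H := by
  refine ⟨hH.1, ?_⟩
  intro N hN hNc
  apply hH.2 N hN
  intro hle
  apply hNc
  intro P
  -- `D = O_p(H) ∩ N` is a normal `p`-subgroup of `N`, so it lies in `P`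
  have hD : ((pCore p H).subgroupOf N) ≤ (P : Subgroup N) := by
    apply normal_pgroup_le_sylow
    · infer_instance
    · exact pCore_isPGroup.comap_of_injective N.subtype N.subtype_injective
  constructor
  intro x hx n
  have h1 : (n : H) * x * (n : H)⁻¹ * (x : H)⁻¹ ∈ pCore p H := by
    apply hle
    have := Subgroup.commutator_mem_commutator (H₁ := N) (H₂ := ⊤) n.2 (Subgroup.mem_top (x : H))
    simpa [commutatorElement_def] using this
  have h2 : n * x * n⁻¹ * x⁻¹ ∈ (P : Subgroup N) := hD (by
    rw [Subgroup.mem_subgroupOf]; simpa using h1)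
  have := (P : Subgroup N).mul_mem h2 hx
  simpa using this

end Cfsg.Agent.S2829
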