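import Cfsg.Statements.S2830
import Cfsg.Agent.Lib.Helper16.PIrr

set_option autoImplicit false
open Cfsg

namespace Cfsg.Agent.S2830

open Cfsg.Agent.Lib.Helper16
open scoped commutatorElement


/-- Let H act by conjugation on the elementary abelian p-subgroup V of a finite group G (H ≤ N(V)), with H p-irreducible and O^p(H) not centralizing V. Then C_H(V) is p-closed and C_T(V) ≤ O_p(H) for every p-subgroup T of H. If in addition O_p(H) centralizes V, then C_T(V) = T ∩ O_p(H) for every p-subgroup T of H, and V is p-reduced for H: O_p(H/C_H(V)) = 1. -/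
theorem result {G : Type*} [Group G] [Finite G] {p : ℕ} [Fact p.Prime] (V H : Subgroup G) (hV : Cfsg.IsElementaryAbelian p V) (hHV : H ≤ Subgroup.normalizer (V : Set G)) (hH : Cfsg.IsPIrreducible p ↥H) (hnc : ¬ (Cfsg.pResidual p ↥H).map H.subtype ≤ Subgroup.centralizer (V : Set G)) [hn : ((Subgroup.centralizer (V : Set G)).subgroupOf H).Normal] : Cfsg.IsPClosed p ↥(H ⊓ Subgroup.centralizer (V : Set G)) ∧ (∀ T : Subgroup G, T ≤ H → IsPGroup p ↥T → T ⊓ Subgroup.centralizer (V : Set G) ≤ Cfsg.pCoreOf p H) ∧ (Cfsg.pCoreOf p H ≤ Subgroup.centralizer (V : Set G) → (∀ T : Subgroup G, T ≤ H → IsPGroup p ↥T → T ⊓ Subgroup.centralizer (V : Set G) = T ⊓ Cfsg.pCoreOf p H) ∧ Cfsg.pCore p (↥H ⧸ (Subgroup.centralizer (V : Set G)).subgroupOf H) = ⊥) := by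
  have hH' := isPIrreducible_iff.1 hH
  set C := H ⊓ Subgroup.centralizer (V : Set G) with hC
  have hCH : C ≤ H := inf_le_left
  have hCn : H ≤ Subgroup.normalizer (C : Set G) := by
    rw [← Subgroup.normal_subgroupOf_iff_le_normalizer hCH, hC, Subgroup.inf_subgroupOf_left]
    exact hn
  have hcl : Cfsg.IsPClosed p ↥C := by
    by_contra h
    exact hnc ((hH'.2 C hCH hCn h).trans inf_le_right)
  have h2 : ∀ T : Subgroup G, T ≤ H → IsPGroup p ↥T →
      T ⊓ Subgroup.centralizer (V : Set G) ≤ Cfsg.pCoreOf p H := by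
    intro T hTH hT
    have h3 : T ⊓ Subgroup.centralizer (V : Set G) ≤ pCoreOf p C :=
      pgroup_le_pCoreOf_of_isPClosed hcl (hT.to_le inf_le_left) (inf_le_inf_right _ hTH)
    exact h3.trans (pCoreOf_le_pCoreOf_of_normal hCH hCn)
  refine ⟨hcl, h2, fun hO => ⟨fun T hTH hT => ?_, ?_⟩⟩
  · exact le_antisymm (le_inf inf_le_left (h2 T hTH hT)) (inf_le_inf_left _ hO)
  · apply pCore_quotient_eq_bot_of_isPIrreducible hH
    · intro h
      exact hnc (Subgroup.map_le_iff_le_comap.2 h)
    · rw [← pCoreOf_subgroupOf]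
      exact Subgroup.comap_mono hO

end Cfsg.Agent.S2830
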