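import Cfsg.Statements.S2831
import Cfsg.Agent.Lib.Helper16.MinOver

set_option autoImplicit false
open Cfsg

namespace Cfsg.Agent.S2831

open Cfsg.Agent.Lib.Helper16
open scoped commutatorElement


/-- Let H be a finite group with Sylow p-subgroup T such that H is T-minimal (H is generated by the conjugates of T and T lies in exactly one maximal subgroup of H). Then H is p-irreducible: H is not p-closed and O^p(H) lies in every normal subgroup of H that is not p-closed. -/
theorem result {H : Type*} [Group H] [Finite H] {p : ℕ} [Fact p.Prime] (T : Sylow p H) (hmin : Cfsg.IsMinimalOver (T : Subgroup H)) : Cfsg.IsPIrreducible p H := by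
  have hmin' := hmin
  obtain ⟨hnc, M, ⟨hMco, hTM⟩, -⟩ := hmin
  have hle : ∀ X : Subgroup H, (T : Subgroup H) ≤ X → X ≠ ⊤ → X ≤ M :=
    fun X hX hne => IsMinimalOver.le_of_ne_top hmin' hMco hTM hX hne
  refine ⟨?_, ?_⟩
  · intro hc
    have hT := hc T
    rw [Subgroup.normalClosure_eq_self] at hnc
    rw [hnc] at hTM
    exact hMco.1 (top_le_iff.1 hTM)
  · intro N hN hNc
    have hS : IsSyl p ((T : Subgroup H) ⊓ N) N :=
      (isSyl_sylow T).inf_normal le_top Subgroup.le_normalizer_of_normal
    by_cases hNS : Subgroup.normalizer (((T : Subgroup H) ⊓ N : Subgroup H) : Set H) = ⊤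
    · exfalso
      apply hNc
      apply isPClosed_of_isSyl_normal hS
      rw [hNS]; exact le_top
    · have hTn : (T : Subgroup H) ≤ Subgroup.normalizer (((T : Subgroup H) ⊓ N : Subgroup H) : Set H) := by
        refine le_trans ?_ Subgroup.inf_normalizer_le_normalizer_inf
        exact le_inf Subgroup.le_normalizer Subgroup.le_normalizer_of_normal
      have h1 := hle _ hTn hNS
      have h2 : N ⊔ (T : Subgroup H) = ⊤ := by
        by_contra hne
        have h3 := hle _ le_sup_right hne
        apply hMco.1
        rw [eq_top_iff]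
        intro h _
        obtain ⟨n, hn, hnh⟩ := frattini_arg hS (M := ⊤) Subgroup.le_normalizer_of_normal (Subgroup.mem_top h)
        have h4 : n ∈ M := h3 (Subgroup.mem_sup_left hn)
        have := M.mul_mem (M.inv_mem h4) (h1 hnh)
        simpa using this
      exact pResidual_le_of_sup_pgroup T.isPGroup' h2

end Cfsg.Agent.S2831
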