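import Cfsg.Statements.S2832
import Cfsg.Agent.Lib.Helper16.Quot

set_option autoImplicit false
open Cfsg

namespace Cfsg.Agent.S2832

open Cfsg.Agent.Lib.Helper16
open scoped commutatorElement


/-- Let H be a finite group with Sylow p-subgroup T such that H is T-minimal (generated by the conjugates of T, with T in exactly one maximal subgroup), and let N be a normal subgroup of H. Then either H/N is a p-group or H/N is minimal over the image of T in the same sense. -/
theorem result {H : Type*} [Group H] [Finite H] {p : ℕ} [Fact p.Prime] (T : Sylow p H) (hmin : Cfsg.IsMinimalOver (T : Subgroup H)) (N : Subgroup H) [N.Normal] : IsPGroup p (H ⧸ N) ∨ Cfsg.IsMinimalOver ((T : Subgroup H).map (QuotientGroup.mk' N)) := by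
  have hsurj : Function.Surjective (QuotientGroup.mk' N) := QuotientGroup.mk'_surjective N
  have hker : (QuotientGroup.mk' N).ker = N := QuotientGroup.ker_mk' N
  by_cases hNT : N ⊔ (T : Subgroup H) = ⊤
  · left; exact isPGroup_quotient_of_sup T.isPGroup' hNT
  right
  obtain ⟨hcl, M, ⟨hM, hTM⟩, huniq⟩ := hmin
  obtain ⟨M', hM', hle⟩ := exists_coatom_ge hNT
  have hMM' : M' = M := huniq M' ⟨hM', le_sup_right.trans hle⟩
  subst hMM'
  have hNM : N ≤ M' := le_sup_left.trans hle
  refine ⟨?_, M'.map (QuotientGroup.mk' N), ⟨isCoatom_map_of_surjective hsurj hM' (hker.le.trans hNM),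
    Subgroup.map_mono hTM⟩, ?_⟩
  · have := Subgroup.map_normalClosure ((T : Subgroup H) : Set H) (QuotientGroup.mk' N) hsurj
    rw [hcl, ← MonoidHom.range_eq_map, MonoidHom.range_eq_top.2 hsurj] at this
    rw [Subgroup.coe_map, ← this]
  · rintro K ⟨hK, hTK⟩
    have h1 := huniq (K.comap (QuotientGroup.mk' N)) ⟨isCoatom_comap_of_surjective hsurj hK,
      Subgroup.map_le_iff_le_comap.1 hTK⟩
    rw [← h1, Subgroup.map_comap_eq_self_of_surjective hsurj]

end Cfsg.Agent.S2832
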