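import Cfsg.Statements.S2833
import Cfsg.Agent.Lib.Helper16.FrakH3

set_option autoImplicit false
open Cfsg

namespace Cfsg.Agent.S2833

open Cfsg.Agent.Lib.Helper16
open scoped commutatorElement


/-- Let V be a subgroup of a finite group G normalized by the subgroup L, let X ≤ L and g ∈ L with [V, X, X] = 1 and L generated by X and gXg⁻¹. Put W = [V, L]. Then W = [V, X]·[V, gXg⁻¹], C_W(X) = [V, X], and C_W(L) = [V, X] ∩ [V, gXg⁻¹]. -/
theorem result {G : Type*} [Group G] [Finite G] (V L : Subgroup G) (hLV : L ≤ Subgroup.normalizer (V : Set G)) (X : Subgroup G) (hX : X ≤ L) (g : G) (hg : g ∈ L) (hq : ⁅⁅V, X⁆, X⁆ = ⊥) (hgen : X ⊔ X.map (MulAut.conj g).toMonoidHom = L) (W : Subgroup G) (hW : W = ⁅V, L⁆) : ⁅V, X⁆ ⊔ ⁅V, X.map (MulAut.conj g).toMonoidHom⁆ = W ∧ W ⊓ Subgroup.centralizer (X : Set G) = ⁅V, X⁆ ∧ W ⊓ Subgroup.centralizer (L : Set G) = ⁅V, X⁆ ⊓ ⁅V, X.map (MulAut.conj g).toMonoidHom⁆ := by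
  set Xg := X.map (MulAut.conj g).toMonoidHom with hXg
  have hVg : V.map (MulAut.conj g).toMonoidHom = V := cj_eq_self_iff.2 (hLV hg)
  have hXgL : Xg ≤ L := by rw [← hgen]; exact le_sup_right
  have hA : (⁅V, X⁆).map (MulAut.conj g).toMonoidHom = ⁅V, Xg⁆ := by
    rw [Subgroup.map_commutator, hVg]
  have hq' : ⁅⁅V, Xg⁆, Xg⁆ = ⊥ := by
    rw [← hA, hXg, ← Subgroup.map_commutator, hq, Subgroup.map_bot]
  have hXV : X ≤ Subgroup.normalizer (V : Set G) := hX.trans hLV
  have hXgV : Xg ≤ Subgroup.normalizer (V : Set G) := hXgL.trans hLV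
  have hAV : ⁅V, X⁆ ≤ V := commutator_le_left_of_le_normalizer hXV
  have hBV : ⁅V, Xg⁆ ≤ V := commutator_le_left_of_le_normalizer hXgV
  set U := ⁅V, X⁆ ⊔ ⁅V, Xg⁆ with hU
  have hUV : U ≤ V := sup_le hAV hBV
  -- a subgroup of `V` containing `[V, X]` is `X`-invariant
  have hinv : ∀ X' : Subgroup G, ⁅V, X'⁆ ≤ U → X' ≤ Subgroup.normalizer (U : Set G) := by
    intro X' h
    apply le_normalizer_of_commutator_le
    exact (Subgroup.commutator_mono hUV le_rfl).trans h
  have hLU : L ≤ Subgroup.normalizer (U : Set G) := by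
    rw [← hgen]
    exact sup_le (hinv X le_sup_left) (hinv Xg le_sup_right)
  have h1 : U = W := by
    rw [hW]
    apply le_antisymm
    · exact sup_le (Subgroup.commutator_mono le_rfl hX) (Subgroup.commutator_mono le_rfl hXgL)
    · rw [Subgroup.commutator_comm]
      conv_lhs => rw [← hgen]
      apply sup_commutator_le_of_le_normalizer
      · rw [hgen]; exact hLU
      · rw [Subgroup.commutator_comm]; exact le_sup_left
      · rw [Subgroup.commutator_comm]; exact le_sup_right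
  have hcX : ⁅V, X⁆ ≤ Subgroup.centralizer (X : Set G) :=
    Subgroup.commutator_eq_bot_iff_le_centralizer.1 hq
  have hcXg : ⁅V, Xg⁆ ≤ Subgroup.centralizer (Xg : Set G) :=
    Subgroup.commutator_eq_bot_iff_le_centralizer.1 hq'
  have hcL : Subgroup.centralizer (X : Set G) ⊓ Subgroup.centralizer (Xg : Set G) ≤
      Subgroup.centralizer (L : Set G) := by
    apply Subgroup.le_centralizer_iff.1
    rw [← hgen]
    exact sup_le (Subgroup.le_centralizer_iff.1 inf_le_left) (Subgroup.le_centralizer_iff.1 inf_le_right)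
  have hfix : ∀ b ∈ Subgroup.centralizer (L : Set G), g⁻¹ * b * g = b := by
    intro b hb
    have := (Subgroup.mem_centralizer_iff.1 hb) g hg
    calc g⁻¹ * b * g = g⁻¹ * (b * g) := by group
      _ = g⁻¹ * (g * b) := by rw [this]
      _ = b := by group
  have h2 : W ⊓ Subgroup.centralizer (X : Set G) = ⁅V, X⁆ := by
    apply le_antisymm
    · rintro w ⟨hw, hwX⟩
      rw [← h1] at hw
      obtain ⟨a, ha, b, hb, rfl⟩ := (mem_sup_of_le_normalizer
        (hBV.trans (le_normalizer_commutator_left V X))).1 hw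
      have hbX : b ∈ Subgroup.centralizer (X : Set G) := by
        have e : b = a⁻¹ * (a * b) := by group
        rw [e]
        exact Subgroup.mul_mem _ (Subgroup.inv_mem _ (hcX ha)) hwX
      have hbL : b ∈ Subgroup.centralizer (L : Set G) := hcL ⟨hbX, hcXg hb⟩
      have hb' : b ∈ ⁅V, X⁆ := by
        rw [← hA, mem_cj, hfix b hbL] at hb
        exact hb
      exact Subgroup.mul_mem _ ha hb'
    · rw [← h1]
      exact le_inf le_sup_left hcX
  refine ⟨h1, h2, ?_⟩
  apply le_antisymm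
  · intro w hw
    have hwX : w ∈ ⁅V, X⁆ := by
      rw [← h2]
      exact ⟨hw.1, Subgroup.centralizer_le (SetLike.coe_subset_coe.2 hX) hw.2⟩
    refine Subgroup.mem_inf.2 ⟨hwX, ?_⟩
    rw [← hA, mem_cj, hfix w hw.2]
    exact hwX
  · rw [← h1]
    exact le_inf (inf_le_left.trans le_sup_left) ((inf_le_inf hcX hcXg).trans hcL)

end Cfsg.Agent.S2833
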