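import Cfsg.Statements.S2834
import Cfsg.Agent.S0520
import Cfsg.Agent.Lib.Helper16.PClosed

set_option autoImplicit false
open Cfsg

namespace Cfsg.Agent.S2834

section aux

open Cfsg.Agent.S0520

variable {G : Type*} [Group G] {p : ℕ}

theorem op_le (L : Subgroup G) : pCoreOf p L ≤ L := Cfsg.Agent.Lib.Helper16.pCoreOf_le L

theorem op_p [Finite G] [Fact p.Prime] (L : Subgroup G) : IsPGroup p (pCoreOf p L) :=
  Cfsg.Agent.Lib.Helper16.pCoreOf_isPGroup L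

theorem le_op {N L : Subgroup G} (h1 : N ≤ L) (h2 : L ≤ Subgroup.normalizer (N : Set G))
    (h3 : IsPGroup p N) : N ≤ pCoreOf p L := Cfsg.Agent.Lib.Helper16.le_pCoreOf h1 h2 h3

theorem le_norm_op (L : Subgroup G) : L ≤ Subgroup.normalizer (pCoreOf p L : Set G) :=
  Cfsg.Agent.Lib.Helper16.le_normalizer_pCoreOf L

theorem op_cj [Finite G] [Fact p.Prime] (g : G) (L : Subgroup G) :
    cj g (pCoreOf p L) = pCoreOf p (cj g L) := Cfsg.Agent.Lib.Helper16.pCoreOf_cj g L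

theorem cj_eq_iff_norm {g : G} {H : Subgroup G} :
    cj g H = H ↔ g ∈ Subgroup.normalizer (H : Set G) := Cfsg.Agent.Lib.Helper16.cj_eq_self_iff

theorem cj_self {g : G} {H : Subgroup G} (hg : g ∈ H) : cj g H = H :=
  Cfsg.Agent.Lib.Helper16.cj_eq_self_of_mem hg

theorem cj_inf' (g : G) (H K : Subgroup G) : cj g (H ⊓ K) = cj g H ⊓ cj g K :=
  Cfsg.Agent.Lib.Helper16.cj_inf g H K

theorem cj_sup' (g : G) (H K : Subgroup G) : cj g (H ⊔ K) = cj g H ⊔ cj g K :=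
  Cfsg.Agent.Lib.Helper16.cj_sup g H K

theorem cj_lt {g : G} {A B : Subgroup G} (h : A < B) : cj g A < cj g B :=
  lt_of_le_of_ne (cj_mono h.le)
    (fun e => h.ne (Subgroup.map_injective (MulAut.conj g).injective e))

theorem le_cj_inv_iff {g : G} {X K : Subgroup G} : X ≤ cj g⁻¹ K ↔ cj g X ≤ K := by
  rw [le_cj_iff, inv_inv]

theorem cj_op_self {g : G} {H : Subgroup G} (hg : g ∈ H) : cj g (pCoreOf p H) = pCoreOf p H :=
  cj_eq_iff_norm.2 (le_norm_op H hg)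

/-- the conclusion of the lemma, for subgroups of an ambient group -/
def Concl (p : ℕ) (H M A : Subgroup G) : Prop :=
  ∃ L : Subgroup G, L ≤ H ∧ A ⊔ pCoreOf p H ≤ L ∧ ∃ L₀ : Subgroup G, A ⊔ pCoreOf p L ≤ L₀ ∧ L₀ < L ∧
    (∀ X : Subgroup G, A ⊔ pCoreOf p L ≤ X → X < L → X ≤ L₀) ∧
    (∃ g ∈ H, L₀ = L ⊓ cj g M) ∧
    ∀ x ∈ L, x ∉ L₀ → (A ⊔ cj x A) ⊔ pCoreOf p L = L

theorem concl_conj [Finite G] [Fact p.Prime] {H M A : Subgroup G} {g : G} (hg : g ∈ H)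
    (h : Concl p H M (cj g A)) : Concl p H M A := by
  obtain ⟨L', hL'H, hAL', L'₀, h1, h2, h3, ⟨k, hk, h4⟩, h5⟩ := h
  have hopL : pCoreOf p (cj g⁻¹ L') = cj g⁻¹ (pCoreOf p L') := (op_cj g⁻¹ L').symm
  have E1 : A ⊔ pCoreOf p (cj g⁻¹ L') = cj g⁻¹ (cj g A ⊔ pCoreOf p L') := by
    rw [cj_sup', cj_inv_cj, hopL]
  refine ⟨cj g⁻¹ L', ?_, ?_, cj g⁻¹ L'₀, ?_, cj_lt h2, ?_, ⟨g⁻¹ * k, H.mul_mem (H.inv_mem hg) hk, ?_⟩,
    ?_⟩
  · rw [← cj_self (H.inv_mem hg)]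
    exact cj_mono hL'H
  · rw [le_cj_inv_iff, cj_sup', cj_op_self hg]
    exact hAL'
  · rw [E1]
    exact cj_mono h1
  · intro X hX hXL
    rw [E1, ← le_cj_iff] at hX
    rw [le_cj_inv_iff]
    apply h3 _ hX
    have := cj_lt (g := g) hXL
    rwa [cj_cj_inv] at this
  · rw [h4, cj_inf', cj_mul]
  · intro x hx hx0
    rw [mem_cj, inv_inv] at hx hx0
    have h6 := h5 _ hx hx0
    have h7 := congrArg (cj g⁻¹) h6
    rw [cj_sup', cj_sup', cj_inv_cj, ← hopL, ← cj_mul, ← cj_mul] at h7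
    have e : g⁻¹ * (g * x * g⁻¹) * g = x := by group
    rwa [e] at h7

theorem concl_up {H H₁ M B : Subgroup G} (hH₁ : H₁ ≤ H) (hop : pCoreOf p H ≤ pCoreOf p H₁)
    (h : Concl p H₁ (H₁ ⊓ M) B) : Concl p H M B := by
  obtain ⟨L, hLH, hBL, L₀, h1, h2, h3, ⟨k, hk, h4⟩, h5⟩ := h
  refine ⟨L, hLH.trans hH₁, (sup_le_sup_left hop B).trans hBL, L₀, h1, h2, h3, ⟨k, hH₁ hk, ?_⟩, h5⟩
  rw [h4, cj_inf', cj_self hk, ← inf_assoc, inf_eq_left.2 hLH]

open Cfsg.Agent.Lib.Helper13 in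
open Cfsg.Agent.Lib.Helper13.TwoConj in
theorem main [Finite G] [Fact p.Prime] (n : ℕ) : ∀ (H T M A : Subgroup G), Nat.card H = n →
    T ≤ M → M < H → IsPGroup p T → (∀ P : Subgroup G, P ≤ H → IsPGroup p P → T ≤ P → P ≤ T) →
    (∀ X : Subgroup G, T ≤ X → X < H → X ≤ M) →
    ¬ (H ≤ Subgroup.normalizer (T : Set G)) →
    A ≤ T → ¬ A ≤ pCoreOf p H → Concl p H M A := by
  induction n using Nat.strong_induction_on with
  | _ n ih =>
  intro H T M A hn hTM hMH hTp hTmax hU hTn hAT hA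
  obtain ⟨Q, hQdef⟩ : ∃ Q, Q = pCoreOf p H := ⟨_, rfl⟩
  have hQH : Q ≤ H := hQdef ▸ op_le H
  have hQp : IsPGroup p Q := hQdef ▸ op_p H
  have hHQ : H ≤ Subgroup.normalizer (Q : Set G) := hQdef ▸ le_norm_op H
  have hsupP : ∀ P : Subgroup G, P ≤ H → IsPGroup p P → IsPGroup p (P ⊔ Q : Subgroup G) :=
    fun P hP hPp => hPp.to_sup_of_normal_right' hQp (hP.trans hHQ)
  have hTH : T ≤ H := hTM.trans hMH.le
  have hQT : Q ≤ T := le_sup_right.trans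
    (hTmax (T ⊔ Q) (sup_le hTH hQH) (hsupP T hTH hTp) le_sup_left)
  have hcjQ : ∀ x ∈ H, cj x Q = Q := fun x hx => cj_eq_iff_norm.2 (hHQ hx)
  by_cases hcase : ∀ X : Subgroup G, A ⊔ Q ≤ X → X < H → X ≤ M
  · -- first case: L = H
    refine ⟨H, le_rfl, sup_le (hAT.trans hTH) (op_le H), M, ?_, hMH, ?_,
      ⟨1, H.one_mem, by rw [cj_one, inf_eq_right.2 hMH.le]⟩, ?_⟩
    · rw [← hQdef]; exact sup_le (hAT.trans hTM) (hQT.trans hTM)
    · rw [← hQdef]; exact hcase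
    · rw [← hQdef]
      intro x hxH hxM
      by_contra hne
      have hYH : (A ⊔ cj x A) ⊔ Q ≤ H := by
        refine sup_le (sup_le (hAT.trans hTH) ?_) hQH
        rw [← cj_self hxH]
        exact cj_mono (hAT.trans hTH)
      have hYM : (A ⊔ cj x A) ⊔ Q ≤ M :=
        hcase _ (sup_le (le_sup_left.trans le_sup_left) le_sup_right) (lt_of_le_of_ne hYH hne)
      have hxA : cj x A ≤ M := (le_sup_right.trans le_sup_left).trans hYM
      have h1 : A ⊔ Q ≤ cj x⁻¹ M := by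
        rw [le_cj_inv_iff, cj_sup', hcjQ x hxH]
        exact sup_le hxA (hQT.trans hTM)
      have h2 : cj x⁻¹ M < H := by
        have := cj_lt (g := x⁻¹) hMH
        rwa [cj_self (H.inv_mem hxH)] at this
      have h3 : cj x⁻¹ M = M :=
        Subgroup.eq_of_le_of_card_ge (hcase _ h1 h2) (by rw [card_cj])
      have h4 : x⁻¹ ∈ Subgroup.normalizer (M : Set G) := cj_eq_iff_norm.1 h3
      have h5 : x ∈ H ⊓ Subgroup.normalizer (M : Set G) :=
        ⟨hxH, by simpa using Subgroup.inv_mem _ h4⟩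
      by_cases hNM : H ⊓ Subgroup.normalizer (M : Set G) < H
      · exact hxM (hU _ (le_inf hTH (hTM.trans Subgroup.le_normalizer)) hNM h5)
      · have hHN : H ≤ Subgroup.normalizer (M : Set G) := by
          by_contra hc
          exact hNM (lt_of_le_of_ne inf_le_left (fun e => hc (inf_eq_left.1 e)))
        have hNT : H ⊓ Subgroup.normalizer (T : Set G) ≤ M :=
          hU _ (le_inf hTH Subgroup.le_normalizer)
            (lt_of_le_of_ne inf_le_left (fun e => hTn (inf_eq_left.1 e)))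
        apply hMH.not_ge
        intro h hh
        have h6 : cj h T ≤ M := by
          rw [← cj_eq_iff_norm.2 (hHN hh)]
          exact cj_mono hTM
        obtain ⟨m, hm, hmT⟩ := sylconj (p := p) M T (cj h T) hTM h6 hTp (hTp.map _)
          (fun P hPM hP hTP => hTmax P (hPM.trans hMH.le) hP hTP)
        have hmM : m ∈ M := Subgroup.map_subtype_le _ hm
        have h7 : cj h T = cj m T := Subgroup.eq_of_le_of_card_ge hmT (by rw [card_cj, card_cj])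
        have h8 : cj (m⁻¹ * h) T = T := by rw [cj_mul, h7, cj_inv_cj]
        have h9 : m⁻¹ * h ∈ M :=
          hNT ⟨H.mul_mem (H.inv_mem (hMH.le hmM)) hh, cj_eq_iff_norm.1 h8⟩
        have := M.mul_mem hmM h9
        rwa [mul_inv_cancel_left] at this
  · -- second case
    push Not at hcase
    obtain ⟨X₀, hX₀1, hX₀2, hX₀3⟩ := hcase
    obtain ⟨𝓟, h𝓟⟩ : ∃ 𝓟 : Set (Subgroup G × Subgroup G), 𝓟 = {z | A ⊔ Q ≤ z.1 ∧ z.1 < H ∧
      ¬ z.1 ≤ M ∧ A ≤ z.2 ∧ z.2 ≤ z.1 ⊓ M ∧ IsPGroup p z.2} := ⟨_, rfl⟩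
    have hmem : ∀ Y P : Subgroup G, (Y, P) ∈ 𝓟 ↔ (A ⊔ Q ≤ Y ∧ Y < H ∧
      ¬ Y ≤ M ∧ A ≤ P ∧ P ≤ Y ⊓ M ∧ IsPGroup p P) := by
      intro Y P; rw [h𝓟]; exact Iff.rfl
    have hne : 𝓟.Nonempty := ⟨(X₀, A), (hmem _ _).2 ⟨hX₀1, hX₀2, hX₀3, le_rfl,
      le_inf (le_sup_left.trans hX₀1) (hAT.trans hTM), hTp.to_le hAT⟩⟩
    obtain ⟨z₀, hz₀, hmax⟩ := Set.exists_max_image 𝓟 (fun z => Nat.card z.2) (Set.toFinite _) hne
    obtain ⟨⟨H₁, T₁⟩, ⟨hz₁, hz₁c⟩, hmin⟩ := Set.exists_min_image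
      {z | z ∈ 𝓟 ∧ Nat.card z.2 = Nat.card z₀.2} (fun z => Nat.card z.1) (Set.toFinite _)
      ⟨z₀, hz₀, rfl⟩
    simp only at hz₁c
    obtain ⟨hAQ₁, hH₁H, hH₁M, hAT₁, hT₁le, hT₁p⟩ := (hmem _ _).1 hz₁
    have hmax' : ∀ Y P : Subgroup G, (Y, P) ∈ 𝓟 → Nat.card P ≤ Nat.card T₁ := by
      intro Y P h
      rw [hz₁c]
      exact hmax _ h
    have hmin' : ∀ Y : Subgroup G, (Y, T₁) ∈ 𝓟 → Nat.card H₁ ≤ Nat.card Y := by
      intro Y h
      exact hmin (Y, T₁) ⟨h, hz₁c⟩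
    have hT₁H₁ : T₁ ≤ H₁ := hT₁le.trans inf_le_left
    have hT₁M : T₁ ≤ M := hT₁le.trans inf_le_right
    have hT₁H : T₁ ≤ H := hT₁H₁.trans hH₁H.le
    have hQH₁ : Q ≤ H₁ := le_sup_right.trans hAQ₁
    -- F1
    have hQT₁ : Q ≤ T₁ := by
      have h1 : (H₁, T₁ ⊔ Q) ∈ 𝓟 := (hmem _ _).2 ⟨hAQ₁, hH₁H, hH₁M, hAT₁.trans le_sup_left,
        sup_le hT₁le (le_inf hQH₁ (hQT.trans hTM)), hsupP T₁ hT₁H hT₁p⟩
      have h2 : T₁ = T₁ ⊔ Q := Subgroup.eq_of_le_of_card_ge le_sup_left (hmax' _ _ h1)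
      rw [h2]
      exact le_sup_right
    have hAQT₁ : A ⊔ Q ≤ T₁ := sup_le hAT₁ hQT₁
    -- F2
    obtain ⟨m, hm, hmT⟩ := sylconj (p := p) M T T₁ hTM hT₁M hTp hT₁p
      (fun P hPM hP hTP => hTmax P (hPM.trans hMH.le) hP hTP)
    have hmM : m ∈ M := Subgroup.map_subtype_le _ hm
    have hmH : m ∈ H := hMH.le hmM
    have hT₁ne : T₁ ≠ cj m T := by
      intro e
      have h1 : T ≤ cj m⁻¹ H₁ := by
        rw [le_cj_inv_iff, ← e]; exact hT₁H₁
      have h2 : cj m⁻¹ H₁ < H := by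
        have := cj_lt (g := m⁻¹) hH₁H
        rwa [cj_self (H.inv_mem hmH)] at this
      have h3 := hU _ h1 h2
      rw [← le_cj_iff, cj_self hmM] at h3
      exact hH₁M h3
    have hT'p : IsPGroup p (cj m T) := hTp.map _
    have hT₂lt := lt_inf_normalizer hT'p (lt_of_le_of_ne hmT hT₁ne)
    obtain ⟨T₂, hT₂def⟩ : ∃ T₂, T₂ = cj m T ⊓ Subgroup.normalizer (T₁ : Set G) := ⟨_, rfl⟩
    rw [← hT₂def] at hT₂lt
    have hT₂M : T₂ ≤ M := by
      rw [hT₂def, ← cj_self hmM]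
      exact inf_le_left.trans (cj_mono hTM)
    have hT₂N : T₂ ≤ Subgroup.normalizer (T₁ : Set G) := hT₂def ▸ inf_le_right
    have hT₂p : IsPGroup p T₂ := hT₂def ▸ hT'p.to_le inf_le_left
    -- F3
    have hF3 : ¬ H ≤ Subgroup.normalizer (T₁ : Set G) := by
      intro h
      apply hA
      rw [← hQdef] 
      exact hAT₁.trans (hQdef ▸ le_op hT₁H h hT₁p)
    -- F4
    have hF4 : ∀ Y : Subgroup G, A ⊔ Q ≤ Y → Y ≤ H → T₂ ≤ Y → ¬ Y ≤ M → Y = H := by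
      intro Y h1 h2 h3 h4
      by_contra hc
      have h5 : (Y, T₂) ∈ 𝓟 := (hmem _ _).2 ⟨h1, lt_of_le_of_ne h2 hc, h4, hAT₁.trans hT₂lt.le,
        le_inf h3 hT₂M, hT₂p⟩
      exact absurd (hmax' _ _ h5) (not_le.2 (card_lt_of_lt hT₂lt))
    have hNY : ∀ Z : Subgroup G, Z ≤ H → Z ≤ Subgroup.normalizer (T₁ : Set G) → Z ≤ M := by
      intro Z hZH hZN
      by_contra hc
      have := hF4 (H ⊓ Subgroup.normalizer (T₁ : Set G))
        (hAQT₁.trans (le_inf hT₁H Subgroup.le_normalizer)) inf_le_left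
        (le_inf (hT₂M.trans hMH.le) hT₂N) (fun h => hc ((le_inf hZH hZN).trans h))
      exact hF3 (inf_eq_left.1 this)
    -- F5
    have hF5 : ∀ P : Subgroup G, P ≤ H₁ → IsPGroup p P → T₁ ≤ P → P ≤ T₁ := by
      intro P hPH₁ hPp hTP
      by_contra hc
      have hlt : T₁ < P := lt_of_le_of_ne hTP (fun e => hc e.ge)
      have hP₁ := lt_inf_normalizer hPp hlt
      have h1 : P ⊓ Subgroup.normalizer (T₁ : Set G) ≤ M :=
        hNY _ (inf_le_left.trans (hPH₁.trans hH₁H.le)) inf_le_right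
      have h2 : (H₁, P ⊓ Subgroup.normalizer (T₁ : Set G)) ∈ 𝓟 := (hmem _ _).2
        ⟨hAQ₁, hH₁H, hH₁M, hAT₁.trans hP₁.le, le_inf (inf_le_left.trans hPH₁) h1,
          hPp.to_le inf_le_left⟩
      exact absurd (hmax' _ _ h2) (not_le.2 (card_lt_of_lt hP₁))
    -- F6
    have hF6 : ¬ H₁ ≤ Subgroup.normalizer (T₁ : Set G) := fun h => hH₁M (hNY _ hH₁H.le h)
    -- F7
    have hF7 : ∀ X : Subgroup G, T₁ ≤ X → X < H₁ → X ≤ H₁ ⊓ M := by
      intro X hTX hXH₁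
      by_contra hc
      have hXM : ¬ X ≤ M := fun h => hc (le_inf hXH₁.le h)
      have h1 : (X, T₁) ∈ 𝓟 := (hmem _ _).2 ⟨hAQT₁.trans hTX, hXH₁.trans hH₁H, hXM, hAT₁,
        le_inf hTX hT₁M, hT₁p⟩
      exact absurd (hmin' _ h1) (not_le.2 (card_lt_of_lt hXH₁))
    -- F8
    have hF8 : H₁ ⊓ M < H₁ := lt_of_le_of_ne inf_le_left (fun e => hH₁M (inf_eq_left.1 e))
    -- F9
    have hF9 : H₁ ⊔ T₂ = H := hF4 _ (hAQ₁.trans le_sup_left)
      (sup_le hH₁H.le (hT₂M.trans hMH.le)) le_sup_right (fun h => hH₁M (le_sup_left.trans h))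
    have hQop : pCoreOf p H ≤ pCoreOf p H₁ := by
      rw [← hQdef]
      exact le_op hQH₁ (hH₁H.le.trans hHQ) hQp
    by_cases hB : ∃ g ∈ H, cj g A ≤ T₁ ∧ ¬ cj g A ≤ pCoreOf p H₁
    · obtain ⟨g, hgH, hgA, hgA'⟩ := hB
      have hc := ih (Nat.card H₁) (hn ▸ card_lt_of_lt hH₁H) H₁ T₁ (H₁ ⊓ M) (cj g A) rfl hT₁le hF8
        hT₁p hF5 hF7 hF6 hgA hgA'
      exact concl_conj hgH (concl_up hH₁H.le hQop hc)
    · exfalso
      push Not at hB
      obtain ⟨W, hW⟩ : ∃ W, W = ⨆ g : {g : G // g ∈ H ∧ cj g A ≤ T₁}, cj g.1 A := ⟨_, rfl⟩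
      have hWop : W ≤ pCoreOf p H₁ := by
        rw [hW]
        exact iSup_le fun g => hB g.1 g.2.1 g.2.2
      have hAW : A ≤ W := by
        rw [hW]
        refine le_iSup_of_le ⟨1, H.one_mem, by rw [cj_one]; exact hAT₁⟩ ?_
        rw [cj_one]
      have hstab : ∀ l ∈ H, (∀ g ∈ H, cj g A ≤ T₁ → cj (l * g) A ≤ T₁) → cj l W ≤ W := by
        intro l hl h
        rw [hW, cj, Subgroup.map_iSup]
        refine iSup_le fun g => ?_
        refine le_iSup_of_le ⟨l * g.1, H.mul_mem hl g.2.1, h g.1 g.2.1 g.2.2⟩ ?_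
        show cj l (cj g.1 A) ≤ cj (l * g.1) A
        rw [cj_mul]
      have hnorm : ∀ Z : Subgroup G, (∀ l ∈ Z, cj l W ≤ W) →
          Z ≤ Subgroup.normalizer (W : Set G) := by
        intro Z hZ
        apply le_normalizer_of_forall'
        intro l hl w hw
        exact hZ l hl (Subgroup.mem_map.2 ⟨w, hw, rfl⟩)
      have hH₁W : H₁ ≤ Subgroup.normalizer (W : Set G) := by
        apply hnorm
        intro l hl
        apply hstab l (hH₁H.le hl)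
        intro g hg hgA
        rw [cj_mul]
        have h1 : cj l (cj g A) ≤ cj l (pCoreOf p H₁) := cj_mono (hB g hg hgA)
        rw [cj_op_self hl] at h1
        have h2 : pCoreOf p H₁ ≤ T₁ := by
          have h3 : IsPGroup p (T₁ ⊔ pCoreOf p H₁ : Subgroup G) :=
            hT₁p.to_sup_of_normal_right' (op_p H₁) (hT₁H₁.trans (le_norm_op H₁))
          exact le_sup_right.trans (hF5 _ (sup_le hT₁H₁ (op_le H₁)) h3 le_sup_left)
        exact h1.trans h2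
      have hT₂W : T₂ ≤ Subgroup.normalizer (W : Set G) := by
        apply hnorm
        intro l hl
        apply hstab l (hMH.le (hT₂M hl))
        intro g _ hgA
        rw [cj_mul, ← cj_eq_iff_norm.2 (hT₂N hl)]
        exact cj_mono hgA
      have hHW : H ≤ Subgroup.normalizer (W : Set G) := by
        rw [← hF9]
        exact sup_le hH₁W hT₂W
      exact hA (hAW.trans (le_op (hWop.trans ((op_le H₁).trans hH₁H.le)) hHW
        ((op_p H₁).to_le hWop)))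

end aux


/-- The L-Lemma: let H be a finite group with Sylow p-subgroup T such that H is T-minimal (generated by the conjugates of T, T in exactly one maximal subgroup M), and let A ≤ T with A not contained in O_p(H). Then there is a subgroup L of H containing A·O_p(H) such that (a) A·O_p(L) lies in exactly one maximal subgroup L₀ of L, and L₀ = L ∩ gMg⁻¹ for some g ∈ H; (b) L = ⟨A, xAx⁻¹⟩·O_p(L) for every x ∈ L outside L₀. -/
theorem result {H : Type*} [Group H] [Finite H] {p : ℕ} [Fact p.Prime] (T : Sylow p H) (hmin : Cfsg.IsMinimalOver (T : Subgroup H)) (M : Subgroup H) (hM : IsCoatom M ∧ (T : Subgroup H) ≤ M) (A : Subgroup H) (hAT : A ≤ (T : Subgroup H)) (hA : ¬ A ≤ Cfsg.pCore p H) : ∃ L : Subgroup H, A ⊔ Cfsg.pCore p H ≤ L ∧ ∃ L₀ : Subgroup H, A ⊔ (Cfsg.pCoreOf p L) ≤ L₀ ∧ L₀ < L ∧ (∀ X : Subgroup H, A ⊔ (Cfsg.pCoreOf p L) ≤ X → X < L → X ≤ L₀) ∧ (∃ g : H, L₀ = L ⊓ ((M : Subgroup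 H).map (MulAut.conj (g : H)).toMonoidHom)) ∧ ∀ x ∈ L, x ∉ L₀ → (A ⊔ ((A : Subgroup H).map (MulAut.conj (x : H)).toMonoidHom)) ⊔ (Cfsg.pCoreOf p L) = L := by
  classical
  obtain ⟨hnc, M', _, huniq⟩ := hmin
  have hMeq : ∀ M'' : Subgroup H, IsCoatom M'' → (T : Subgroup H) ≤ M'' → M'' = M := by
    intro M'' h1 h2
    rw [huniq M'' ⟨h1, h2⟩, huniq M hM]
  have hU : ∀ X : Subgroup H, (T : Subgroup H) ≤ X → X < ⊤ → X ≤ M := by
    intro X hTX hX
    rcases eq_top_or_exists_le_coatom X with h | ⟨M'', hM'', hXM''⟩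
    · exact absurd h hX.ne
    · rw [← hMeq M'' hM'' (hTX.trans hXM'')]
      exact hXM''
  have hTn : ¬ ((⊤ : Subgroup H) ≤ Subgroup.normalizer ((T : Subgroup H) : Set H)) := by
    intro h
    have hn : (T : Subgroup H).Normal := Subgroup.normalizer_eq_top_iff.1 (top_le_iff.1 h)
    have h1 : (T : Subgroup H) = ⊤ := by
      rw [← hnc]
      exact (Subgroup.normalClosure_eq_self (T : Subgroup H)).symm
    exact hM.1.1 (top_le_iff.1 (h1 ▸ hM.2))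
  have hA' : ¬ A ≤ pCoreOf p (⊤ : Subgroup H) := by
    rw [Cfsg.Agent.Lib.Helper16.pCoreOf_top]
    exact hA
  obtain ⟨L, _, hAL, L₀, h1, h2, h3, ⟨g, _, h4⟩, h5⟩ := main (p := p) _ ⊤ (T : Subgroup H) M A rfl
    hM.2 hM.1.lt_top T.2 (fun P _ hP hTP => (T.3 hP hTP).le) hU hTn hAT hA'
  rw [Cfsg.Agent.Lib.Helper16.pCoreOf_top] at hAL
  exact ⟨L, hAL, L₀, h1, h2, h3, ⟨g, h4⟩, h5⟩

end Cfsg.Agent.S2834
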