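import Cfsg.Statements.S2835
import Cfsg.Agent.Lib.Helper16.MinOver

set_option autoImplicit false
open Cfsg

namespace Cfsg.Agent.S2835

open Cfsg.Agent.Lib.Helper16
open scoped commutatorElement


/-- Let L be a finite group, L₀ a maximal subgroup, T a Sylow p-subgroup of L₀ and Y ≤ T, and suppose L is Y-minimal (generated by the conjugates of Y, with Y in exactly one maximal subgroup, necessarily L₀). Then N_L(T) ≤ L₀, O_p(L) ≤ L₀ and T is a Sylow p-subgroup of L; N_L(L₀) = L₀; L = ⟨Y, gYg⁻¹⟩ for each g ∈ L outside L₀; and if Y is abelian then Y ∩ gYg⁻¹ = C_Y(L) for each such g. -/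
theorem result {L : Type*} [Group L] [Finite L] {p : ℕ} [Fact p.Prime] (L₀ : Subgroup L) (hL₀ : IsCoatom L₀) (T : Sylow p ↥L₀) (Y : Subgroup L) (hYT : Y ≤ (T : Subgroup ↥L₀).map L₀.subtype) (hmin : Cfsg.IsMinimalOver Y) : Subgroup.normalizer (((T : Subgroup ↥L₀).map L₀.subtype : Subgroup L) : Set L) ≤ L₀ ∧ Cfsg.pCore p L ≤ L₀ ∧ (∃ P : Sylow p L, (P : Subgroup L) = (T : Subgroup ↥L₀).map L₀.subtype) ∧ Subgroup.normalizer (L₀ : Set L) = L₀ ∧ (∀ g : L, g ∉ L₀ → Y ⊔ Y.map (MulAut.conj g).toMonoidHom = ⊤) ∧ (IsMulCommutative ↥Y → ∀ g : L, g ∉ L₀ → Y ⊓ Y.map (MulAut.conj g).toMonoidHom = Y ⊓ Subgroup.center L) := by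
  have hmin' := hmin
  obtain ⟨hnc, -⟩ := hmin
  set T' : Subgroup L := (T : Subgroup ↥L₀).map L₀.subtype with hT'
  have hTs : IsSyl p T' L₀ := isSyl_mk T
  have hYL₀ : Y ≤ L₀ := hYT.trans hTs.le
  have hle : ∀ X : Subgroup L, Y ≤ X → X ≠ ⊤ → X ≤ L₀ :=
    fun X hX hne => IsMinimalOver.le_of_ne_top hmin' hL₀ hYL₀ hX hne
  -- a normal subgroup containing Y is everything
  have hnormal : ∀ X : Subgroup L, X.Normal → Y ≤ X → X = ⊤ := by
    intro X hX hYX
    rw [eq_top_iff, ← hnc]
    exact Subgroup.normalClosure_le_normal hYX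
  have h1 : Subgroup.normalizer (T' : Set L) ≤ L₀ := by
    apply hle _ (hYT.trans Subgroup.le_normalizer)
    intro htop
    have hn : T'.Normal := Subgroup.normalizer_eq_top_iff.1 htop
    have := hnormal T' hn hYT
    apply hL₀.1
    rw [eq_top_iff, ← this]; exact hTs.le
  have h3 : IsSyl p T' ⊤ := by
    apply isSyl_of_max hTs.isPGroup le_top
    intro Q hQ hTQ _
    by_contra hne
    have hlt : T' < Q := lt_of_le_of_ne hTQ (fun h => hne h.symm)
    obtain ⟨x, hxQ, hxN, hxT⟩ := exists_mem_normalizer_not_mem hQ hlt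
    -- T' ⊔ ⟨x⟩ is a p-subgroup of L₀
    have h5 : T' ⊔ Subgroup.zpowers x ≤ Q := sup_le hTQ (by rwa [Subgroup.zpowers_le])
    have h6 : T' ⊔ Subgroup.zpowers x ≤ L₀ := sup_le hTs.le (by rw [Subgroup.zpowers_le]; exact h1 hxN)
    have h7 := hTs.max (hQ.to_le h5) le_sup_left h6
    apply hxT
    rw [← h7]
    exact Subgroup.mem_sup_right (Subgroup.mem_zpowers x)
  have h4 : Subgroup.normalizer (L₀ : Set L) = L₀ := by
    rcases hL₀.le_iff.1 (Subgroup.le_normalizer (H := L₀)) with h | h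
    · exfalso
      have hn : L₀.Normal := Subgroup.normalizer_eq_top_iff.1 h
      exact hL₀.1 (hnormal L₀ hn hYL₀)
    · exact h
  have h5 : ∀ g : L, g ∉ L₀ → Y ⊔ Y.map (MulAut.conj g).toMonoidHom = ⊤ := by
    intro g hg
    by_contra hne
    have h6 := hle _ le_sup_left hne
    have h7 : Y.map (MulAut.conj g).toMonoidHom ≤ L₀ := le_sup_right.trans h6
    rw [cj_le_iff] at h7
    have hco : IsCoatom (L₀.map (MulAut.conj g⁻¹).toMonoidHom) := by
      refine ⟨?_, ?_⟩
      · intro h
        apply hL₀.1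
        have := congrArg (fun K => K.map (MulAut.conj g).toMonoidHom) h
        simp only [cj_cj_inv] at this
        rw [this, cj_eq_self_of_mem (Subgroup.mem_top g)]
      · intro K hK
        have h8 : L₀ < K.map (MulAut.conj g).toMonoidHom := by
          have h9 : (L₀.map (MulAut.conj g⁻¹).toMonoidHom).map (MulAut.conj g).toMonoidHom <
              K.map (MulAut.conj g).toMonoidHom :=
            lt_of_le_of_ne (cj_le_cj.2 hK.le) (fun h => hK.ne (Subgroup.map_injective (MulAut.conj g).injective h))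
          rwa [cj_cj_inv] at h9
        have h10 := hL₀.2 _ h8
        have := congrArg (fun K => K.map (MulAut.conj g⁻¹).toMonoidHom) h10
        simp only [cj_inv_cj] at this
        rw [this, cj_eq_self_of_mem (Subgroup.mem_top _)]
    obtain ⟨-, M₀, -, huniq⟩ := hmin'
    have e1 := huniq _ ⟨hco, h7⟩
    have e2 := huniq _ ⟨hL₀, hYL₀⟩
    have e3 : L₀.map (MulAut.conj g⁻¹).toMonoidHom = L₀ := e1.trans e2.symm
    rw [cj_eq_self_iff, h4] at e3
    exact hg (by simpa using L₀.inv_mem e3)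
  refine ⟨h1, ?_, isSyl_top_iff.1 h3, h4, h5, ?_⟩
  · obtain ⟨P, hP⟩ := isSyl_top_iff.1 h3
    have := pCore_le_sylow P
    rw [hP] at this
    exact this.trans hTs.le
  · intro hcomm g hg
    apply le_antisymm
    · intro z hz
      refine Subgroup.mem_inf.2 ⟨hz.1, ?_⟩
      rw [Subgroup.mem_center_iff]
      have hcen : Y ⊔ Y.map (MulAut.conj g).toMonoidHom ≤ Subgroup.centralizer ({z} : Set L) := by
        apply sup_le
        · intro y hy
          rw [Subgroup.mem_centralizer_singleton_iff]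
          have := mul_comm' (⟨y, hy⟩ : Y) ⟨z, hz.1⟩
          exact congrArg Subtype.val this
        · intro y hy
          rw [Subgroup.mem_centralizer_singleton_iff]
          have hy' := mem_cj.1 hy
          have hz' := mem_cj.1 hz.2
          have := mul_comm' (⟨_, hy'⟩ : Y) ⟨_, hz'⟩
          have h8 : g⁻¹ * y * g * (g⁻¹ * z * g) = g⁻¹ * z * g * (g⁻¹ * y * g) := congrArg Subtype.val this
          have h9 : g * (g⁻¹ * y * g * (g⁻¹ * z * g)) * g⁻¹ = g * (g⁻¹ * z * g * (g⁻¹ * y * g)) * g⁻¹ := by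
            rw [h8]
          simpa [mul_assoc] using h9
      rw [h5 g hg] at hcen
      intro x
      have := hcen (Subgroup.mem_top x)
      rw [Subgroup.mem_centralizer_singleton_iff] at this
      exact this
    · intro z hz
      refine Subgroup.mem_inf.2 ⟨hz.1, ?_⟩
      rw [mem_cj]
      have := (Subgroup.mem_center_iff.1 hz.2) g
      have h8 : g⁻¹ * z * g = z := by rw [mul_assoc, ← this]; group
      rw [h8]; exact hz.1

end Cfsg.Agent.S2835
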