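import Cfsg.Statements.S2836
import Cfsg.Agent.Lib.Helper16.FMEx2
import Cfsg.Agent.S2835

set_option autoImplicit false
open Cfsg

namespace Cfsg.Agent.S2836

open Cfsg.Agent.Lib.Helper16
open scoped commutatorElement


/-- Let L be a finite group, L₀ a maximal subgroup, T a Sylow p-subgroup of L₀, Y ≤ T, and suppose L is Y-minimal. Let D be the intersection of the conjugates of L₀ (the core of L₀). Then D contains O_p(L) and D/O_p(L) is the Frattini subgroup of L/O_p(L), so D is p-closed; and every normal subgroup N of L contained in L₀ is p-closed with N/O_p(N) a nilpotent group of order prime to p. -/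
theorem result {L : Type*} [Group L] [Finite L] {p : ℕ} [Fact p.Prime] (L₀ : Subgroup L) (hL₀ : IsCoatom L₀) (T : Sylow p ↥L₀) (Y : Subgroup L) (hYT : Y ≤ (T : Subgroup ↥L₀).map L₀.subtype) (hmin : Cfsg.IsMinimalOver Y) : (Cfsg.pCore p L ≤ L₀.normalCore ∧ (L₀.normalCore).map (QuotientGroup.mk' (Cfsg.pCore p L)) = frattini (L ⧸ Cfsg.pCore p L) ∧ Cfsg.IsPClosed p ↥(L₀.normalCore)) ∧ ∀ (N : Subgroup L) [N.Normal], N ≤ L₀ → Cfsg.IsPClosed p ↥N ∧ Group.IsNilpotent (↥N ⧸ Cfsg.pCore p ↥N) ∧ (Nat.card (↥N ⧸ Cfsg.pCore p ↥N)).Coprime p := by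
  obtain ⟨-, hOL₀, ⟨P, hP⟩, -, -, -⟩ := Cfsg.Agent.S2835.result L₀ hL₀ T Y hYT hmin
  set T' := (T : Subgroup ↥L₀).map L₀.subtype with hT'
  have hT'L₀ : T' ≤ L₀ := Subgroup.map_subtype_le _
  have hYL₀ : Y ≤ L₀ := hYT.trans hT'L₀
  have hTs : IsSyl p T' ⊤ := by rw [← hP]; exact isSyl_sylow P
  have huniq : ∀ X : Subgroup L, Y ≤ X → X ≠ ⊤ → X ≤ L₀ := fun X hX hne =>
    IsMinimalOver.le_of_ne_top hmin hL₀ hYL₀ hX hne
  have hOc := pCore_characteristic (G := L) (p := p)
  have hOn : (Cfsg.pCore p L).Normal := inferInstance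
  -- step 1
  have h1 : ∀ N : Subgroup L, N.Normal → N ≤ L₀ → IsSyl p (T' ⊓ N) N ∧ (T' ⊓ N).Normal := by
    intro N hN hNL₀
    have hs : IsSyl p (T' ⊓ N) N := hTs.inf_normal le_top Subgroup.le_normalizer_of_normal
    refine ⟨hs, ?_⟩
    rw [← Subgroup.normalizer_eq_top_iff]
    by_contra hne
    have hX : Subgroup.normalizer ((T' ⊓ N : Subgroup L) : Set L) ≤ L₀ := by
      apply huniq _ _ hne
      refine hYT.trans ?_
      exact (le_inf Subgroup.le_normalizer Subgroup.le_normalizer_of_normal).trans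
        (normalizer_inf_le _ _)
    apply hL₀.1
    rw [eq_top_iff]
    intro g _
    obtain ⟨n, hn, hng⟩ := frattini_arg hs (M := ⊤) Subgroup.le_normalizer_of_normal
      (Subgroup.mem_top g)
    have e : g = n⁻¹ * (n * g) := by group
    rw [e]
    exact L₀.mul_mem (L₀.inv_mem (hNL₀ hn)) (hX hng)
  have h1c : ∀ N : Subgroup L, N.Normal → N ≤ L₀ → Cfsg.IsPClosed p ↥N := by
    intro N hN hNL₀
    obtain ⟨hs, hn⟩ := h1 N hN hNL₀
    exact isPClosed_of_isSyl_normal hs Subgroup.le_normalizer_of_normal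
  set D := L₀.normalCore with hD
  have hDn : D.Normal := inferInstance
  have hDL₀ : D ≤ L₀ := L₀.normalCore_le
  have hOD : Cfsg.pCore p L ≤ D := Subgroup.normal_le_normalCore.2 hOL₀
  -- `D` maps into the Frattini subgroup
  have h2 : D.map (QuotientGroup.mk' (Cfsg.pCore p L)) ≤ frattini (L ⧸ Cfsg.pCore p L) := by
    rw [Cfsg.Agent.H4.le_frattini_iff]
    intro Kb hKb
    by_contra hcon
    have hK : IsCoatom (Kb.comap (QuotientGroup.mk' (Cfsg.pCore p L))) :=
      isCoatom_comap_of_surjective (QuotientGroup.mk'_surjective _) hKb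
    set K := Kb.comap (QuotientGroup.mk' (Cfsg.pCore p L)) with hKdef
    have hOK : Cfsg.pCore p L ≤ K := by
      intro x hx
      rw [hKdef, Subgroup.mem_comap, QuotientGroup.mk'_apply, (QuotientGroup.eq_one_iff x).2 hx]
      exact Subgroup.one_mem _
    have hDK : ¬ D ≤ K := fun h => hcon (Subgroup.map_le_iff_le_comap.2 h)
    have hsup : K ⊔ D = ⊤ := by
      apply hK.2
      exact lt_of_le_of_ne le_sup_left (fun h => hDK (h ▸ le_sup_right))
    obtain ⟨hs, hn⟩ := h1 D hDn hDL₀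
    have hT₀K : T' ⊓ D ≤ K := (le_pCore hn hs.isPGroup).trans hOK
    obtain ⟨S₁, hS₁⟩ := exists_isSyl p K
    have hS₁M : IsSyl p S₁ ⊤ :=
      isSyl_of_supplement Subgroup.le_normalizer_of_normal hsup hs hT₀K hS₁
    obtain ⟨m, -, hmT⟩ := hS₁M.exists_conj_eq hTs
    have hYK : Y ≤ K.map (MulAut.conj m).toMonoidHom := by
      refine hYT.trans ?_
      rw [← hmT]; exact cj_le_cj.2 hS₁.le
    have hKne : K.map (MulAut.conj m).toMonoidHom ≠ ⊤ := by
      intro h
      apply hK.1
      apply cj_injective m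
      rw [h, cj_eq_self_of_normal m (inferInstance : (⊤ : Subgroup L).Normal)]
    have hKL₀ := huniq _ hYK hKne
    apply hL₀.1
    rw [eq_top_iff]
    have h3 : (K ⊔ D).map (MulAut.conj m).toMonoidHom ≤ L₀ := by
      rw [cj_sup, cj_eq_self_of_normal m hDn]
      exact sup_le hKL₀ hDL₀
    rw [hsup, cj_eq_self_of_normal m (inferInstance : (⊤ : Subgroup L).Normal)] at h3
    exact h3
  refine ⟨⟨hOD, ?_, h1c D hDn hDL₀⟩, ?_⟩
  · apply le_antisymm h2
    -- the Frattini subgroup lies in the image of the maximal subgroup `L₀`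
    have hL₀b : IsCoatom (L₀.map (QuotientGroup.mk' (Cfsg.pCore p L))) :=
      isCoatom_map_of_surjective (QuotientGroup.mk'_surjective _) hL₀
        (by rw [QuotientGroup.ker_mk']; exact hOL₀)
    have h3 : (frattini (L ⧸ Cfsg.pCore p L)).comap (QuotientGroup.mk' (Cfsg.pCore p L)) ≤ L₀ := by
      have h4 := Subgroup.comap_mono (f := QuotientGroup.mk' (Cfsg.pCore p L))
        (frattini_le_coatom hL₀b)
      rwa [Subgroup.comap_map_eq_self (by rw [QuotientGroup.ker_mk']; exact hOL₀)] at h4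
    have h5 : (frattini (L ⧸ Cfsg.pCore p L)).comap (QuotientGroup.mk' (Cfsg.pCore p L)) ≤ D :=
      Subgroup.normal_le_normalCore.2 h3
    have h6 := Subgroup.map_mono (f := QuotientGroup.mk' (Cfsg.pCore p L)) h5
    rwa [Subgroup.map_comap_eq_self_of_surjective (QuotientGroup.mk'_surjective _)] at h6
  · intro N hN hNL₀
    obtain ⟨hs, hn⟩ := h1 N hN hNL₀
    have hcl := h1c N hN hNL₀
    have hND : N ≤ D := Subgroup.normal_le_normalCore.2 hNL₀
    have hcore : Cfsg.pCoreOf p N = T' ⊓ N := (hs.eq_pCoreOf hcl).symm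
    refine ⟨hcl, ?_, ?_⟩
    · -- embed into the Frattini subgroup
      have hcN := pCore_characteristic (G := ↥N) (p := p)
      let f : ↥N →* L ⧸ Cfsg.pCore p L := (QuotientGroup.mk' (Cfsg.pCore p L)).comp N.subtype
      have hf1 : ∀ x ∈ Cfsg.pCore p ↥N, f x = 1 := by
        intro x hx
        have h3 : (x : L) ∈ Cfsg.pCoreOf p N := ⟨x, hx, rfl⟩
        rw [hcore] at h3
        have h4 : (x : L) ∈ Cfsg.pCore p L := le_pCore hn hs.isPGroup h3
        exact (QuotientGroup.eq_one_iff (x : L)).2 h4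
      have hf2 : ∀ x : ↥N, f x = 1 → x ∈ Cfsg.pCore p ↥N := by
        intro x hx
        have h3 : (x : L) ∈ Cfsg.pCore p L := (QuotientGroup.eq_one_iff (x : L)).1 hx
        have h4 : (x : L) ∈ Cfsg.pCoreOf p N := by
          rw [hcore]
          refine ⟨?_, x.2⟩
          rw [← hP]
          exact pCore_le_sylow P h3
        obtain ⟨y, hy, hyx⟩ := h4
        have : y = x := Subtype.ext hyx
        rwa [← this]
      let g : ↥N ⧸ Cfsg.pCore p ↥N →* L ⧸ Cfsg.pCore p L := QuotientGroup.lift _ f hf1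
      have hg : ∀ y, g y ∈ frattini (L ⧸ Cfsg.pCore p L) := by
        intro y
        obtain ⟨x, rfl⟩ := QuotientGroup.mk'_surjective _ y
        exact h2 ⟨x, hND x.2, rfl⟩
      let g' : ↥N ⧸ Cfsg.pCore p ↥N →* ↥(frattini (L ⧸ Cfsg.pCore p L)) := g.codRestrict _ hg
      have hker : g'.ker = ⊥ := by
        rw [eq_bot_iff]
        intro y hy
        obtain ⟨x, rfl⟩ := QuotientGroup.mk'_surjective _ y
        rw [MonoidHom.mem_ker] at hy
        have h3 : f x = 1 := congrArg Subtype.val hy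
        rw [Subgroup.mem_bot]
        exact (QuotientGroup.eq_one_iff x).2 (hf2 x h3)
      have := frattini_nilpotent (G := L ⧸ Cfsg.pCore p L)
      exact Subgroup.isNilpotent_of_ker_le_center g' (by rw [hker]; exact bot_le)
    · have hpp : p.Prime := Fact.out
      obtain ⟨P', hP'⟩ := isPClosed_iff.1 hcl
      have h3 : Cfsg.pCore p ↥N = (P' : Subgroup ↥N) := by
        have := congrArg (fun X => X.subgroupOf N) hP'
        simp only [pCoreOf_subgroupOf] at this
        rw [this]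
        exact Subgroup.comap_map_eq_self_of_injective N.subtype_injective _
      rw [← Subgroup.index_eq_card, h3, Nat.coprime_comm, hpp.coprime_iff_not_dvd]
      exact P'.not_dvd_index

end Cfsg.Agent.S2836
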