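import Cfsg.Statements.S2837
import Cfsg.Agent.Lib.Helper16.Frat2
import Cfsg.Agent.S2835

set_option autoImplicit false
open Cfsg

namespace Cfsg.Agent.S2837

open Cfsg.Agent.Lib.Helper16
open scoped commutatorElement


/-- Let L be a finite group of characteristic p, L₀ a maximal subgroup, Y an elementary abelian p-subgroup of L₀ with L Y-minimal and O_p(L) ≤ N_L(Y). Put A = the normal closure of O_p(L) ∩ Y in L. Then for every g ∈ L outside L₀: Φ(A) = A' = [A ∩ Y, A] = [A ∩ Y, A ∩ gYg⁻¹] ≤ C_Y(L), and Y ∩ gYg⁻¹ = (A ∩ Y) ∩ (A ∩ gYg⁻¹) = C_Y(L) = C_A(L). -/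
theorem result {L : Type*} [Group L] [Finite L] {p : ℕ} [Fact p.Prime] (hchar : Subgroup.centralizer (Cfsg.pCore p L : Set L) ≤ Cfsg.pCore p L) (L₀ : Subgroup L) (hL₀ : IsCoatom L₀) (Y : Subgroup L) (hYL₀ : Y ≤ L₀) (hYel : Cfsg.IsElementaryAbelian p Y) (hmin : Cfsg.IsMinimalOver Y) (hOY : Cfsg.pCore p L ≤ Subgroup.normalizer (Y : Set L)) (A : Subgroup L) (hA : A = Subgroup.normalClosure (((Cfsg.pCore p L ⊓ Y : Subgroup L)) : Set L)) (g : L) (hg : g ∉ L₀) : (frattini ↥A).map A.subtype = ⁅A, A⁆ ∧ ⁅A, A⁆ = ⁅A ⊓ Y, A⁆ ∧ ⁅A ⊓ Y, A⁆ = ⁅A ⊓ Y, A ⊓ Y.map (MulAut.conj g).toMonoidHom⁆ ∧ ⁅A ⊓ Y, A⁆ ≤ Y ⊓ Subgroup.center L ∧ Y ⊓ Y.map (MulAut.conj g).toMonoidHom = Y ⊓ Subgroup.center L ∧ (A ⊓ Y) ⊓ (A ⊓ Y.map (MulAut.conj g).toMonoidHom) = Y ⊓ Subgroup.center L ∧ A ⊓ Subgroup.center L = Y ⊓ Subgroup.center L := by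
  obtain ⟨S, ⟨T, hT⟩, hYS⟩ := exists_isSyl_ge (IsElementaryAbelian.isPGroup' hYel) hYL₀
  rw [hT] at hYS
  obtain ⟨-, -, -, -, hgen, hint⟩ := Cfsg.Agent.S2835.result L₀ hL₀ T Y hYS hmin
  have hgen := hgen g hg
  have hint := hint hYel.1 g hg
  set P := Cfsg.pCore p L with hP
  have hPc := pCore_characteristic (G := L) (p := p)
  have hPn : P.Normal := inferInstance
  have hPp : IsPGroup p P := pCore_isPGroup
  set Yg := Y.map (MulAut.conj g).toMonoidHom with hYg
  set B := P ⊓ Y with hB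
  set Bg := P ⊓ Yg with hBg
  have hBgB : B.map (MulAut.conj g).toMonoidHom = Bg := by
    rw [hB, cj_inf, cj_eq_self_of_normal g hPn]
  have hYgel : Cfsg.IsElementaryAbelian p Yg := isElementaryAbelian_cj hYel g
  have hPYg : P ≤ Subgroup.normalizer (Yg : Set L) := by
    rw [hYg, normalizer_cj, ← cj_eq_self_of_normal g hPn]
    exact cj_le_cj.2 hOY
  have hnP : ∀ X : Subgroup L, X ≤ Subgroup.normalizer (P : Set L) :=
    fun X => Subgroup.le_normalizer_of_normal
  have hPB : P ≤ Subgroup.normalizer (B : Set L) := (le_inf (hnP P) hOY).trans (normalizer_inf_le _ _)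
  have hPBg : P ≤ Subgroup.normalizer (Bg : Set L) :=
    (le_inf (hnP P) hPYg).trans (normalizer_inf_le _ _)
  have hYc : Y ≤ Subgroup.centralizer (Y : Set L) := Subgroup.le_centralizer_iff_isMulCommutative.2 hYel.1
  have hYgc : Yg ≤ Subgroup.centralizer (Yg : Set L) :=
    Subgroup.le_centralizer_iff_isMulCommutative.2 hYgel.1
  have hcPY : ⁅P, Y⁆ ≤ B := le_inf (commutator_le_left_of_le_normalizer (hnP Y))
    (by rw [Subgroup.commutator_comm]; exact commutator_le_left_of_le_normalizer hOY)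
  have hcPYg : ⁅P, Yg⁆ ≤ Bg := le_inf (commutator_le_left_of_le_normalizer (hnP Yg))
    (by rw [Subgroup.commutator_comm]; exact commutator_le_left_of_le_normalizer hPYg)
  set U := B ⊔ Bg with hU
  have hUP : U ≤ P := sup_le inf_le_left inf_le_left
  have hUn : U.Normal := by
    rw [← Subgroup.normalizer_eq_top_iff, eq_top_iff, ← hgen]
    apply sup_le
    · exact le_normalizer_of_commutator_le
        (((Subgroup.commutator_mono hUP le_rfl).trans hcPY).trans le_sup_left)
    · exact le_normalizer_of_commutator_le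
        (((Subgroup.commutator_mono hUP le_rfl).trans hcPYg).trans le_sup_right)
  have hAn : A.Normal := by rw [hA]; exact Subgroup.normalClosure_normal
  have hBA : B ≤ A := by rw [hA]; exact Subgroup.le_normalClosure
  have hBgA : Bg ≤ A := by
    rw [← hBgB, ← cj_eq_self_of_normal g hAn]; exact cj_le_cj.2 hBA
  have hAU : A = U := by
    apply le_antisymm
    · rw [hA]; exact Subgroup.normalClosure_le_normal (SetLike.coe_subset_coe.2 le_sup_left)
    · exact sup_le hBA hBgA
  have hAP : A ≤ P := hAU ▸ hUP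
  have hAY : A ⊓ Y = B := le_antisymm (inf_le_inf_right Y hAP) (le_inf hBA inf_le_right)
  have hAYg : A ⊓ Yg = Bg := le_antisymm (inf_le_inf_right Yg hAP) (le_inf hBgA inf_le_right)
  rw [hAY, hAYg]
  set W := ⁅B, Bg⁆ with hW
  have hBB : ⁅B, B⁆ = ⊥ := Subgroup.commutator_eq_bot_iff_le_centralizer.2
    ((inf_le_right.trans hYc).trans (Subgroup.centralizer_le (SetLike.coe_subset_coe.2 inf_le_right)))
  have hBgBg : ⁅Bg, Bg⁆ = ⊥ := Subgroup.commutator_eq_bot_iff_le_centralizer.2
    ((inf_le_right.trans hYgc).trans (Subgroup.centralizer_le (SetLike.coe_subset_coe.2 inf_le_right)))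
  have hPW : P ≤ Subgroup.normalizer (W : Set L) :=
    (le_inf hPB hPBg).trans (normalizer_inf_le_commutator B Bg)
  have hBA' : ⁅B, A⁆ = W := by
    apply le_antisymm
    · rw [hAU, Subgroup.commutator_comm]
      apply sup_commutator_le_of_le_normalizer (hUP.trans hPW)
      · rw [hBB]; exact bot_le
      · rw [Subgroup.commutator_comm]
    · exact Subgroup.commutator_mono le_rfl hBgA
  have hBgA' : ⁅Bg, A⁆ ≤ W := by
    rw [hAU, Subgroup.commutator_comm]
    apply sup_commutator_le_of_le_normalizer (hUP.trans hPW)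
    · exact le_rfl
    · rw [hBgBg]; exact bot_le
  have hAA : ⁅A, A⁆ = W := by
    apply le_antisymm
    · conv_lhs => rw [hAU]
      apply sup_commutator_le_of_le_normalizer (hUP.trans hPW)
      · rw [← hAU]; exact hBA'.le
      · rw [← hAU]; exact hBgA'
    · exact Subgroup.commutator_mono hBA hBgA
  have hWle : W ≤ B ⊓ Bg := le_inf
    (commutator_le_left_of_le_normalizer (inf_le_left.trans hPB))
    (by rw [hW, Subgroup.commutator_comm]
        exact commutator_le_left_of_le_normalizer (inf_le_left.trans hPBg))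
  have hBBg : B ⊓ Bg ≤ Y ⊓ Subgroup.center L := by
    rw [← hint]; exact inf_le_inf inf_le_right inf_le_right
  -- `C_Y(L) ≤ B ∩ B^g`
  have hZn : (Y ⊓ Subgroup.center L).Normal := by
    refine ⟨fun z hz x => ?_⟩
    have : x * z * x⁻¹ = z := by
      rw [Subgroup.mem_center_iff.1 hz.2 x]; group
    rw [this]; exact hz
  have hZP : Y ⊓ Subgroup.center L ≤ P :=
    le_pCore hZn ((IsElementaryAbelian.isPGroup' hYel).to_le inf_le_left)
  have hZB : Y ⊓ Subgroup.center L ≤ B ⊓ Bg := by
    apply le_inf (le_inf hZP inf_le_left) (le_inf hZP _)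
    rw [← hint]; exact inf_le_right
  refine ⟨?_, ?_, ?_, ?_, hint, le_antisymm hBBg hZB, ?_⟩
  · apply le_antisymm
    · apply frattini_map_le (p := p) le_rfl
      intro x hx
      rw [hAU] at hx
      obtain ⟨b, hb, c, hc, rfl⟩ := (mem_sup_of_le_normalizer (inf_le_left.trans hPB)).1 hx
      have hbA : b ∈ A := hBA hb
      have hcA : c ∈ A := hBgA hc
      rw [mem_comm_iff (A.pow_mem (A.mul_mem hbA hcA) p)]
      have e1 : (⟨(b * c) ^ p, A.pow_mem (A.mul_mem hbA hcA) p⟩ : A) =
          ((⟨b, hbA⟩ : A) * ⟨c, hcA⟩) ^ p := rfl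
      have e2 : (⟨b, hbA⟩ : A) ^ p = 1 := Subtype.ext (hYel.2 b hb.2)
      have e3 : (⟨c, hcA⟩ : A) ^ p = 1 := Subtype.ext (hYgel.2 c hc.2)
      rw [e1, map_pow, map_mul, mul_pow, ← map_pow, ← map_pow, e2, e3, map_one, one_mul]
    · exact commutator_le_frattini_map (hPp.to_le hAP)
  · rw [hAA, hBA']
  · exact hBA'
  · rw [hBA']; exact hWle.trans hBBg
  · apply le_antisymm
    · rintro a ⟨haA, haZ⟩
      refine ⟨?_, haZ⟩
      rw [SetLike.mem_coe, hAU] at haA
      obtain ⟨b, hb, c, hc, rfl⟩ := (mem_sup_of_le_normalizer (inf_le_left.trans hPB)).1 haA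
      have hcen : ∀ x : L, x * (b * c) = (b * c) * x := fun x => Subgroup.mem_center_iff.1 haZ x
      -- `c` is centralised by `Y` and `Y^g`
      have hcY : c ∈ Subgroup.centralizer (Y : Set L) := by
        have h1 : b * c ∈ Subgroup.centralizer (Y : Set L) := by
          rw [Subgroup.mem_centralizer_iff]; intro y _; exact hcen y
        have e : c = b⁻¹ * (b * c) := by group
        rw [e]
        exact Subgroup.mul_mem _ (Subgroup.inv_mem _ (hYc hb.2)) h1
      have hcL : Y ⊔ Yg ≤ Subgroup.centralizer ({c} : Set L) := by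
        apply sup_le
        · intro y hy
          rw [Subgroup.mem_centralizer_singleton_iff]
          exact ((Subgroup.mem_centralizer_iff.1 hcY) y hy)
        · intro y hy
          rw [Subgroup.mem_centralizer_singleton_iff]
          exact ((Subgroup.mem_centralizer_iff.1 (hYgc hc.2)) y hy)
      have hcZ : c ∈ Subgroup.center L := by
        rw [Subgroup.mem_center_iff]
        intro x
        have : x ∈ Subgroup.centralizer ({c} : Set L) := hcL (by rw [hgen]; trivial)
        exact (Subgroup.mem_centralizer_singleton_iff.1 this)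
      have hcY' : c ∈ Y := by
        have h1 : g⁻¹ * c * g ∈ Y := mem_cj.1 hc.2
        have h2 : g⁻¹ * c * g = c := by
          rw [mul_assoc, ← Subgroup.mem_center_iff.1 hcZ g]; group
        rwa [h2] at h1
      exact Y.mul_mem hb.2 hcY'
    · exact le_inf ((hZB.trans inf_le_left).trans hBA) inf_le_right

end Cfsg.Agent.S2837
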