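import Cfsg.Statements.S2841
import Cfsg.Agent.Lib.Helper16.WC2

set_option autoImplicit false
open Cfsg

namespace Cfsg.Agent.S2841

open Cfsg.Agent.Lib.Helper16
open scoped commutatorElement

theorem cj_le_comm_sup {H : Type*} [Group H] (N Q : Subgroup H) {m : H} (hm : m ∈ N) :
    Q.map (MulAut.conj m).toMonoidHom ≤ ⁅N, Q⁆ ⊔ Q := by
  intro x hx
  obtain ⟨q, hq, rfl⟩ := Subgroup.mem_map.1 hx
  have h5 : (MulAut.conj m).toMonoidHom q = ⁅m, q⁆ * q := by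
    simp only [commutatorElement_def, MulEquiv.coe_toMonoidHom, MulAut.conj_apply]; group
  rw [h5]
  exact Subgroup.mul_mem _ (Subgroup.mem_sup_left (Subgroup.commutator_mem_commutator hm hq))
    (Subgroup.mem_sup_right hq)

theorem partA {H : Type*} [Group H] [Finite H] {p : ℕ} [Fact p.Prime] {Q N : Subgroup H}
    (h : WC p Q) (hQ : IsPGroup p Q) (hn : Q ≤ Subgroup.normalizer (N : Set H)) (n : H) (hnN : n ∈ N) :
    ∃ a ∈ N ⊓ Subgroup.normalizer (Q : Set H), ∃ b ∈ ⁅N, Q⁆, n = a * b := by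
  obtain ⟨k, hk, hk'⟩ := h.conj_in hQ (le_sup_right : Q ≤ ⁅N, Q⁆ ⊔ Q)
    (cj_le_comm_sup N Q (N.inv_mem hnN))
  obtain ⟨c, hc, q, hq, rfl⟩ := (mem_sup_of_le_normalizer (le_normalizer_commutator_right N Q)).1 hk
  rw [← cj_cj c q, cj_eq_self_of_mem hq] at hk'
  have hcN : c ∈ N := commutator_le_left_of_le_normalizer hn hc
  refine ⟨(c⁻¹ * n⁻¹)⁻¹, Subgroup.inv_mem _ (Subgroup.mem_inf.2 ⟨N.mul_mem (N.inv_mem hcN)
    (N.inv_mem hnN), ?_⟩), c⁻¹, Subgroup.inv_mem _ hc, by group⟩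
  rw [← cj_eq_self_iff, ← cj_cj, hk', cj_inv_cj]

theorem partB {H : Type*} [Group H] [Finite H] {p : ℕ} [Fact p.Prime] {Q N : Subgroup H}
    (h : WC p Q) (hQ : IsPGroup p Q) (c : H) (hc : c ∈ ⁅N, Q⁆) :
    ∃ a ∈ Q ⊓ ⁅N, Q⁆, ∃ b ∈ ⁅⁅N, Q⁆, Q⁆, c = a * b := by
  set N1 := ⁅N, Q⁆ with hN1
  set N2 := ⁅N1, Q⁆ with hN2
  set X := N2 ⊔ Q with hX
  have hQN1 : Q ≤ Subgroup.normalizer (N1 : Set H) := le_normalizer_commutator_right N Q
  have hQN2 : Q ≤ Subgroup.normalizer (N2 : Set H) := le_normalizer_commutator_right N1 Q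
  have hN21 : N2 ≤ N1 := commutator_le_left_of_le_normalizer hQN1
  have hle : ∀ k ∈ N1 ⊔ Q, Q.map (MulAut.conj k).toMonoidHom ≤ X := by
    intro k hk
    obtain ⟨c, hc, q, hq, rfl⟩ := (mem_sup_of_le_normalizer hQN1).1 hk
    rw [← cj_cj c q, cj_eq_self_of_mem hq]
    exact cj_le_comm_sup N1 Q hc
  have hN1X : N1 ≤ X := by
    rw [hN1, Subgroup.commutator_le]
    intro n hn q hq
    obtain ⟨k, hk, hk'⟩ := h.conj_in hQ (le_sup_right : Q ≤ N1 ⊔ Q) (cj_le_comm_sup N Q hn)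
    have h1 : n * q * n⁻¹ ∈ X := by
      apply hle k hk
      rw [← hk']
      exact conj_mem_cj hq
    have h2 : ⁅n, q⁆ = n * q * n⁻¹ * q⁻¹ := by simp only [commutatorElement_def]
    rw [h2]
    exact X.mul_mem h1 (X.inv_mem (Subgroup.mem_sup_right hq))
  obtain ⟨m, hm, q, hq, hmq⟩ := (mem_sup_of_le_normalizer hQN2).1 (hN1X (N1.inv_mem hc))
  have hcq : c = q⁻¹ * m⁻¹ := by
    rw [← inv_inv c, hmq]; group
  refine ⟨q⁻¹, Subgroup.mem_inf.2 ⟨Q.inv_mem hq, ?_⟩, m⁻¹, N2.inv_mem hm, hcq⟩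
  have : q⁻¹ = c * m := by rw [hcq]; group
  rw [this]
  exact N1.mul_mem hc (hN21 hm)

/-- Let Q be a nontrivial p-subgroup of the finite group H that is a weakly closed subgroup and N a normal subgroup of H. Then N = N_N(Q)·[N, Q] and [N, Q] = (Q ∩ [N, Q])·[N, Q, Q]. -/
theorem result {H : Type*} [Group H] [Finite H] {p : ℕ} [Fact p.Prime] (Q : Subgroup H) (hQp : IsPGroup p ↥Q) (hQ1 : Q ≠ ⊥) (hwc : Cfsg.IsWeaklyClosedSubgroup p Q) (N' : Subgroup H) [N'.Normal] : (∀ n : H, n ∈ N' → ∃ a ∈ N' ⊓ Subgroup.normalizer ((Q : Subgroup H) : Set H), ∃ b ∈ ⁅N', Q⁆, n = a * b) ∧ (∀ c : H, c ∈ ⁅N', Q⁆ → ∃ a ∈ Q ⊓ ⁅N', Q⁆, ∃ b ∈ ⁅⁅N', Q⁆, Q⁆, c = a * b) := by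
  have h := (wc_iff hQp).1 hwc
  exact ⟨fun n hn => partA h hQp Subgroup.le_normalizer_of_normal n hn, fun c hc => partB h hQp c hc⟩

end Cfsg.Agent.S2841
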