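import Cfsg.Statements.S2846
import Cfsg.Agent.Lib.Helper16.FMEx3
import Cfsg.Agent.S2843

set_option autoImplicit false
open Cfsg

namespace Cfsg.Agent.S2846

open Cfsg.Agent.Lib.Helper16
open scoped commutatorElement


/-- Let Q be a nontrivial large p-subgroup of the finite group H, S a Sylow p-subgroup containing Q, and L a subgroup containing S with O_p(L) ≠ 1 and C_H(O_p(L)) ≤ O_p(L). Then there are a subgroup M containing S having the basic property (M ∈ 𝔐_H, writing Y_X for the largest p-reduced normal subgroup of X and 𝓛_H for the set of subgroups X with O_p(X) ≠ 1 and C_H(O_p(X)) ≤ O_p(X): M ∈ 𝓛_H, M·C_H(Y_M) is the only maximal member of 𝓛_H containing M and its largest p-reduced normal subgroup is again Y_M, C_M(Y_M) is p-closed, and the image of C_M(Y_M) in M/O_p(M) lies in the Frattini subgroup of M/O_p(M)) and a subgroup L* with S ≤ L* ≤ M, O_p(L*) ≠ 1, C_H(O_p(L*)) ≤ O_p(L*), such that L·C_H(Y_L) = L*·C_H(Y_L),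 the weak closures of Q in L and in L* agree and lie in that of M, and Y_L = Y_{L*} ≤ Y_M. If moreover Q is not normal in L, then Q is normal in neither L* nor M. -/
theorem result {H : Type*} [Group H] [Finite H] {p : ℕ} [Fact p.Prime] (Q : Subgroup H) (hQp : IsPGroup p ↥Q) (hQ1 : Q ≠ ⊥) (hLg : Cfsg.IsLarge Q) (S : Sylow p H) (hQS : Q ≤ (S : Subgroup H)) (L : Subgroup H) (hSL : (S : Subgroup H) ≤ L) (hL : L ∈ Cfsg.charPSubgroups p H) : ∃ M Ls : Subgroup H, (S : Subgroup H) ≤ M ∧ Cfsg.IsInFrakM p M ∧ (S : Subgroup H) ≤ Ls ∧ Ls ≤ M ∧ Ls ∈ Cfsg.charPSubgroups p H ∧ L ⊔ Subgroup.centralizer (((Cfsg.largestPReducedOf p L) : Subgroup H) : Set H) = Ls ⊔ Subgroup.centralizer (((Cfsg.largestPReducedOf p L) : Subgroup H) : Set H) ∧ Cfsg.weakClosure Q L = Cfsg.weakClosure Q Ls ∧ Cfsg.weakClosure Q Ls ≤ Cfsg.weakClosure Q M ∧ (Cfsg.largestPReducedOf p L) = (Cfsg.largestPReducedOf p Ls) ∧ (Cfsg.largestPReducedOf p Ls) ≤ (Cfsg.largestPReducedOf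 p M) ∧ (¬ L ≤ Subgroup.normalizer ((Q : Subgroup H) : Set H) → ¬ Ls ≤ Subgroup.normalizer ((Q : Subgroup H) : Set H) ∧ ¬ M ≤ Subgroup.normalizer ((Q : Subgroup H) : Set H)) := by
  have hPC : ∀ R : Subgroup H, IsPGroup p R → R ≠ ⊥ →
      (S : Subgroup H) ≤ Subgroup.normalizer (R : Set H) →
      Subgroup.normalizer (R : Set H) ∈ Cfsg.charPSubgroups p H := by
    intro R hR hR1 hTR
    have hRO : R ≤ Cfsg.pCoreOf p (Subgroup.normalizer (R : Set H)) :=
      le_pCoreOf Subgroup.le_normalizer le_rfl hR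
    have hne : Cfsg.pCoreOf p (Subgroup.normalizer (R : Set H)) ≠ ⊥ :=
      fun h => hR1 (le_bot_iff.1 (h ▸ hRO))
    rw [mem_charP_iff]
    exact ⟨hne, large_parabolic hQp hQ1 hLg ⟨S, hTR⟩ (pCoreOf_ne_bot_iff.1 hne)⟩
  obtain ⟨M, Ls, h1, h2, h3, h4, h5, h6, h7, h8⟩ := exists_frakM S hPC hSL hL
  set Y := Cfsg.largestPReducedOf p L with hY
  have hS1 : (S : Subgroup H) ≠ ⊥ := fun h => hQ1 (le_bot_iff.1 (h ▸ hQS))
  set U := Cfsg.omegaOne p ((S : Subgroup H) ⊓ Subgroup.centralizer ((S : Subgroup H) : Set H)) with hU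
  have hU1 : U ≠ ⊥ := omegaZ_ne_bot S.isPGroup' hS1
  have hUY : U ≤ Y := omegaZ_le_yOf ((isSyl_sylow S).of_le hSL le_top) (charP_type hL)
  have hY1 : Y ≠ ⊥ := fun h => hU1 (le_bot_iff.1 (h ▸ hUY))
  have hYp : IsPGroup p Y := IsElementaryAbelian.isPGroup' (yOf_isElementaryAbelian L)
  have hUQ : U ≤ Subgroup.centralizer (Q : Set H) :=
    ((omegaOne_le _).trans inf_le_right).trans (Subgroup.centralizer_le (SetLike.coe_subset_coe.2 hQS))
  have hCQ : Subgroup.centralizer (Y : Set H) ≤ Subgroup.normalizer (Q : Set H) :=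
    ((Subgroup.centralizer_le (SetLike.coe_subset_coe.2 hUY)).trans
      (Subgroup.centralizer_le_normalizer _)).trans (hLg.2 U hUQ hU1)
  have hw1 := (Cfsg.Agent.S2843.result Q hQp hQ1 hLg L (hQS.trans hSL) Y hYp hY1
    (le_normalizer_yOf p L)).1
  have hw2 := (Cfsg.Agent.S2843.result Q hQp hQ1 hLg Ls (hQS.trans h3) Y hYp hY1
    (by rw [h6]; exact le_normalizer_yOf p Ls)).1
  refine ⟨M, Ls, h1, h2, h3, h4, h5, h8, ?_, weakClosure_mono h4, h6, ?_, ?_⟩
  · rw [hw1, hw2, h8]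
  · rw [← h6]; exact h7
  · intro hn
    have hLs : ¬ Ls ≤ Subgroup.normalizer (Q : Set H) := by
      intro h
      apply hn
      refine le_trans (le_sup_left : L ≤ L ⊔ Subgroup.centralizer (Y : Set H)) ?_
      rw [h8]
      exact sup_le h hCQ
    exact ⟨hLs, fun h => hLs (h4.trans h)⟩

end Cfsg.Agent.S2846
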