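import Cfsg.Statements.S2849
import Cfsg.Agent.Lib.Helper16.Asym

set_option autoImplicit false
open Cfsg

namespace Cfsg.Agent.S2849

open Cfsg.Agent.Lib.Helper16
open scoped commutatorElement


/-- Standing hypotheses: G a finite group, S a Sylow p-subgroup, Q a nontrivial large p-subgroup of G contained in S (C_G(Q) ≤ Q and N_G(U) ≤ N_G(Q) for all nontrivial U ≤ C_G(Q)), and M a subgroup containing S with the basic property (M ∈ 𝔐_G(S)); Y_M denotes the largest p-reduced normal subgroup of M and M† = M·C_G(Y_M). Suppose Y_M is asymmetric in G. Then for every subgroup R with Y_M ≤ R ≤ M†, the normal closure of Y_M in N_G(R) is elementary abelian. -/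
theorem result {G : Type*} [Group G] [Finite G] {p : ℕ} [Fact p.Prime] (S : Sylow p G) (Q : Subgroup G) (hQp : IsPGroup p ↥Q) (hQ1 : Q ≠ ⊥) (hQS : Q ≤ (S : Subgroup G)) (hQ : Cfsg.IsLarge Q) (M : Subgroup G) (hSM : (S : Subgroup G) ≤ M) (hM : Cfsg.IsInFrakM p M) (hasym : ¬ Cfsg.IsSymmetricIn (Cfsg.largestPReducedOf p M)) (R : Subgroup G) (hYR : (Cfsg.largestPReducedOf p M) ≤ R) (hRM : R ≤ (M ⊔ Subgroup.centralizer (((Cfsg.largestPReducedOf p M) : Subgroup G) : Set G))) : Cfsg.IsElementaryAbelian p ((Subgroup.normalClosure ((((Cfsg.largestPReducedOf p M)).subgroupOf (Subgroup.normalizer ((R : Subgroup G) : Set G)) : Subgroup ↥(Subgroup.normalizer ((R : Subgroup G) : Set G))) : Set ↥(Subgroup.normalizer ((R : Subgroup G) : Set G)))).map (Subgroup.normalizer ((R : Subgroup G) : Set G)).subtype) := by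
  have hRN : R ≤ Subgroup.normalizer (largestPReducedOf p M : Set G) :=
    hRM.trans (dagger_le_normalizer_yOf M)
  rw [map_normalClosure_subgroupOf (hYR.trans Subgroup.le_normalizer)]
  apply isElementaryAbelian_iSup_cj (yOf_isElementaryAbelian M)
  intro g hg
  have hg' : R.map (MulAut.conj g).toMonoidHom = R := cj_eq_self_iff.2 hg
  apply comm_eq_bot_of_asym hasym
  · refine le_trans ?_ hRN
    rw [← hg']; exact cj_le_cj.2 hYR
  · rw [normalizer_cj]
    refine hYR.trans ?_
    rw [← hg']; exact cj_le_cj.2 hRN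

end Cfsg.Agent.S2849
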