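import Cfsg.Statements.S2850
import Cfsg.Agent.Lib.Helper16.Asym2

set_option autoImplicit false
open Cfsg

namespace Cfsg.Agent.S2850

open Cfsg.Agent.Lib.Helper16
open scoped commutatorElement


/-- Standing hypotheses: G a finite group, S a Sylow p-subgroup, Q a nontrivial large p-subgroup of G contained in S (C_G(Q) ≤ Q and N_G(U) ≤ N_G(Q) for all nontrivial U ≤ C_G(Q)), and M a subgroup containing S with the basic property (M ∈ 𝔐_G(S)); Y_M denotes the largest p-reduced normal subgroup of M and M† = M·C_G(Y_M). Suppose Y_M is asymmetric in G. Then N_G(L) ≤ N_G(O_p(M)) ≤ M† for every p-subgroup L containing O_p(M); O_p(M) is a weakly closed subgroup of G; for every subgroup L containing O_p(M), L ∩ M† contains a Sylow p-subgroup of L; and two elements of Y_M conjugate in G are conjugate in M. -/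
theorem result {G : Type*} [Group G] [Finite G] {p : ℕ} [Fact p.Prime] (S : Sylow p G) (Q : Subgroup G) (hQp : IsPGroup p ↥Q) (hQ1 : Q ≠ ⊥) (hQS : Q ≤ (S : Subgroup G)) (hQ : Cfsg.IsLarge Q) (M : Subgroup G) (hSM : (S : Subgroup G) ≤ M) (hM : Cfsg.IsInFrakM p M) (hasym : ¬ Cfsg.IsSymmetricIn (Cfsg.largestPReducedOf p M)) : (∀ L : Subgroup G, IsPGroup p ↥L → (Cfsg.pCoreOf p M) ≤ L → Subgroup.normalizer ((L : Subgroup G) : Set G) ≤ Subgroup.normalizer (((Cfsg.pCoreOf p M) : Subgroup G) : Set G) ∧ Subgroup.normalizer (((Cfsg.pCoreOf p M) : Subgroup G) : Set G) ≤ (M ⊔ Subgroup.centralizer (((Cfsg.largestPReducedOf p M) : Subgroup G) : Set G))) ∧ Cfsg.IsWeaklyClosedSubgroup p (Cfsg.pCoreOf p M) ∧ (∀ L : Subgroup G, (Cfsg.pCoreOf p M) ≤ L → Cfsg.IsParabolic p ((L ⊓ (M ⊔ Subgroup.centralizer (((Cfsg.largestPReducedOf p M) : Subgroup G) : Set G))).subgroupOf L)) ∧ (∀ x ∈ (Cfsg.largestPReducedOf p M), ∀ g : G, g * x * g⁻¹ ∈ (Cfsg.largestPReducedOf p M)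 → ∃ m ∈ M, m * x * m⁻¹ = g * x * g⁻¹) := by
  have hwc := asym_wc S hQp hQ1 hQ hSM hM hasym
  have hPp : IsPGroup p (pCoreOf p M) := pCoreOf_isPGroup M
  have hND := asym_normalizer_pCoreOf_le_dagger S hQp hQ1 hQ hSM hM hasym
  refine ⟨fun L hL hPL => ⟨asym_normalizer_le S hQp hQ1 hQ hSM hM hasym hL hPL, hND⟩,
    (wc_iff hPp).2 hwc, fun L hPL => ?_, ?_⟩
  · obtain ⟨T, hT⟩ := hwc.isParabolic hPp hPL
    refine ⟨T, hT.trans ?_⟩
    intro x hx
    rw [Subgroup.mem_subgroupOf] at hx ⊢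
    exact Subgroup.mem_inf.2 ⟨x.2, hND hx⟩
  · intro x hx g hgx
    set x' := g * x * g⁻¹ with hx'
    have hPC := pCoreOf_le_centralizer_yOf (p := p) M
    have h1 : pCoreOf p M ≤ Subgroup.centralizer ({x'} : Set G) :=
      hPC.trans (Subgroup.centralizer_le (by
        intro z hz
        rw [Set.mem_singleton_iff] at hz
        rw [hz]; exact hgx))
    have h2 : (pCoreOf p M).map (MulAut.conj g).toMonoidHom ≤ Subgroup.centralizer ({x'} : Set G) := by
      rintro _ ⟨a, ha, rfl⟩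
      rw [Subgroup.mem_centralizer_singleton_iff]
      have h3 : x * a = a * x := (Subgroup.mem_centralizer_iff.1 (hPC ha)) x hx
      simp only [MulEquiv.coe_toMonoidHom, MulAut.conj_apply, hx']
      calc g * a * g⁻¹ * (g * x * g⁻¹) = g * (a * x) * g⁻¹ := by group
        _ = g * (x * a) * g⁻¹ := by rw [h3]
        _ = g * x * g⁻¹ * (g * a * g⁻¹) := by group
    obtain ⟨k, hk, hk'⟩ := hwc.conj_in hPp h1 h2
    have h4 : k⁻¹ * g ∈ dagger p M := by
      apply hND
      rw [← cj_eq_self_iff, ← cj_cj, hk', cj_inv_cj]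
    have hMn : M ≤ Subgroup.normalizer
        ((Subgroup.centralizer (largestPReducedOf p M : Set G) : Subgroup G) : Set G) :=
      (le_normalizer_yOf p M).trans (normalizer_le_normalizer_centralizer _)
    unfold dagger at h4
    rw [sup_comm] at h4
    obtain ⟨c, hc, m, hm, hcm⟩ := (mem_sup_of_le_normalizer hMn).1 h4
    refine ⟨m, hm, ?_⟩
    have hy : m * x * m⁻¹ ∈ largestPReducedOf p M :=
      (Subgroup.mem_normalizer_iff.1 (le_normalizer_yOf p M hm) x).1 hx
    have hcy : m * x * m⁻¹ * c = c * (m * x * m⁻¹) := (Subgroup.mem_centralizer_iff.1 hc) _ hy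
    have hkx : k * x' = x' * k := (Subgroup.mem_centralizer_singleton_iff.1 hk)
    have hg : g = k * (c * m) := by rw [← hcm]; group
    have h5 : x' = k * (m * x * m⁻¹) * k⁻¹ := by
      calc x' = k * (c * (m * x * m⁻¹)) * c⁻¹ * k⁻¹ := by rw [hx', hg]; group
        _ = k * (m * x * m⁻¹ * c) * c⁻¹ * k⁻¹ := by rw [hcy]
        _ = k * (m * x * m⁻¹) * k⁻¹ := by group
    calc m * x * m⁻¹ = k⁻¹ * (k * (m * x * m⁻¹) * k⁻¹) * k := by group
      _ = k⁻¹ * x' * k := by rw [← h5]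
      _ = k⁻¹ * (x' * k) := by group
      _ = k⁻¹ * (k * x') := by rw [hkx]
      _ = x' := by group

end Cfsg.Agent.S2850
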