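import Cfsg.Statements.S2851
import Cfsg.Agent.Lib.Helper16.QFit

set_option autoImplicit false
open Cfsg

namespace Cfsg.Agent.S2851

open Cfsg.Agent.Lib.Helper16
open scoped commutatorElement


/-- Standing hypotheses: G a finite group, S a Sylow p-subgroup, Q a nontrivial large p-subgroup of G contained in S, M a subgroup containing S with the basic property (M ∈ 𝔐_G(S)); Y_M the largest p-reduced normal subgroup of M and M† = M·C_G(Y_M). Let F be the preimage in M† of the generalized Fitting subgroup of M†/C_{M†}(Y_M). If Y_M is asymmetric in G and H is a subgroup of characteristic p containing F, then Y_M ≤ Y_H. -/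
theorem result {G : Type*} [Group G] [Finite G] {p : ℕ} [Fact p.Prime] (S : Sylow p G) (Q : Subgroup G) (hQp : IsPGroup p ↥Q) (hQ1 : Q ≠ ⊥) (hQS : Q ≤ (S : Subgroup G)) (hQ : Cfsg.IsLarge Q) (M : Subgroup G) (hSM : (S : Subgroup G) ≤ M) (hM : Cfsg.IsInFrakM p M) (hasym : ¬ Cfsg.IsSymmetricIn (Cfsg.largestPReducedOf p M)) [hn : ((Subgroup.centralizer (((Cfsg.largestPReducedOf p M) : Subgroup G) : Set G)).subgroupOf (M ⊔ Subgroup.centralizer (((Cfsg.largestPReducedOf p M) : Subgroup G) : Set G))).Normal] (F : Subgroup G) (hF : F = ((Cfsg.generalizedFittingSubgroup (↥(M ⊔ Subgroup.centralizer (((Cfsg.largestPReducedOf p M) : Subgroup G) : Set G)) ⧸ (Subgroup.centralizer (((Cfsg.largestPReducedOf p M) : Subgroup G) : Set G)).subgroupOf (M ⊔ Subgroup.centralizer (((Cfsg.largestPReducedOf p M) : Subgroup G) : Set G)))).comap (QuotientGroup.mk' ((Subgroup.centralizer (((Cfsg.largestPReducedOf p M) : Subgroup G) : Set G)).subgroupOf (M ⊔ Subgroup.centralizer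 (((Cfsg.largestPReducedOf p M) : Subgroup G) : Set G))))).map ((M ⊔ Subgroup.centralizer (((Cfsg.largestPReducedOf p M) : Subgroup G) : Set G))).subtype) (H : Subgroup G) (hFH : F ≤ H) (hH : Subgroup.centralizer (Cfsg.pCore p ↥H : Set ↥H) ≤ Cfsg.pCore p ↥H) : (Cfsg.largestPReducedOf p M) ≤ Cfsg.largestPReducedOf p H := by
  set Y := Cfsg.largestPReducedOf p M with hY
  set C := Subgroup.centralizer (Y : Set G) with hC
  set Md := M ⊔ C with hMd
  have hYMd : Y = Cfsg.largestPReducedOf p Md := hM.2.2.2.1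
  have hred : RedFor p Y Md := by
    have := yOf_redFor (p := p) Md
    rwa [← hYMd] at this
  have hO : Cfsg.pCore p (↥Md ⧸ C.subgroupOf Md) = ⊥ := pCore_quotient_eq_bot_of_redFor hred
  have hYe : Cfsg.IsElementaryAbelian p Y := yOf_isElementaryAbelian M
  have hYC : Y ≤ C := Subgroup.le_centralizer_iff_isMulCommutative.2 hYe.1
  have hCF : C ≤ F := by
    intro c hc
    rw [hF]
    refine ⟨⟨c, (le_sup_right : C ≤ Md) hc⟩, ?_, rfl⟩
    rw [SetLike.mem_coe, Subgroup.mem_comap]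
    have : QuotientGroup.mk' (C.subgroupOf Md) ⟨c, (le_sup_right : C ≤ Md) hc⟩ = 1 := by
      rw [QuotientGroup.mk'_apply, QuotientGroup.eq_one_iff]
      exact hc
    rw [this]
    exact Subgroup.one_mem _
  have hK : ∀ X : Subgroup G, X ≤ Md → F ≤ Subgroup.normalizer (X : Set G) →
      (∀ x ∈ X, ∃ k : ℕ, x ^ p ^ k ∈ C) → X ≤ C := by
    intro X hX1 hX2 hX3
    rw [hF] at hX2
    exact le_of_normalized_by_genFitting hO hX1 hX2 hX3
  have hCH : C ≤ H := hCF.trans hFH
  have hYH : Y ≤ H := hYC.trans hCH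
  have hPH : Cfsg.pCoreOf p M ≤ H := (pCoreOf_le_centralizer_yOf M).trans hCH
  obtain ⟨T₁, hT₁, hPT₁⟩ := exists_isSyl_ge (pCoreOf_isPGroup (p := p) M) hPH
  have hT₁Md : T₁ ≤ Md := asym_le_dagger S hQp hQ1 hQ hSM hM hasym hT₁.isPGroup hPT₁
  -- `O_p(H) ≤ C`
  have hOC : Cfsg.pCoreOf p H ≤ C := by
    apply hK _ ((pCoreOf_le_isSyl hT₁).trans hT₁Md) (hFH.trans (le_normalizer_pCoreOf H))
    intro x hx
    obtain ⟨k, hk⟩ := (pCoreOf_isPGroup (p := p) H) ⟨x, hx⟩
    refine ⟨k, ?_⟩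
    have : x ^ p ^ k = 1 := congrArg Subtype.val hk
    rw [this]; exact Subgroup.one_mem _
  have hYO : Y ≤ Cfsg.pCoreOf p H :=
    (le_inf hYH (Subgroup.le_centralizer_iff.1 hOC)).trans (hasCharP_iff.1 hH)
  set V := ⨆ h : H, Y.map (MulAut.conj (h : G)).toMonoidHom with hV
  set Z := Cfsg.omegaOne p (Cfsg.pCoreOf p H ⊓ Subgroup.centralizer (Cfsg.pCoreOf p H : Set G)) with hZ
  have hYZ : Y ≤ Z := fun y hy =>
    mem_omegaOne ⟨hYO hy, (Subgroup.le_centralizer_iff.1 hOC) hy⟩ (hYe.2 y hy)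
  have hHZ : H ≤ Subgroup.normalizer (Z : Set G) := by
    intro g hg
    have h1 := cj_eq_self_iff.2 (le_normalizer_pCoreOf (p := p) H hg)
    rw [← cj_eq_self_iff, hZ, omegaOne_cj, cj_inf, ← centralizer_cj, h1]
  have hVZ : V ≤ Z := iSup_cj_le_of_le_normalizer hYZ hHZ
  have hZe : Cfsg.IsElementaryAbelian p Z := omegaOne_isElementaryAbelian
    (inf_le_right.trans (Subgroup.centralizer_le (SetLike.coe_subset_coe.2 inf_le_left)))
  have hVe : Cfsg.IsElementaryAbelian p V := isElementaryAbelian_of_le hZe hVZ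
  have hVH : V ≤ H := iSup_cj_le hYH
  have hYV : Y ≤ V := le_iSup_cj Y H
  refine hYV.trans (le_yOf hVH ?_)
  rw [isPReducedNormal_subgroupOf_iff' hVH]
  refine ⟨le_normalizer_iSup_cj Y H, hVe, ?_⟩
  intro D hDH hHD hD
  have hCVC : Subgroup.centralizer (V : Set G) ≤ C :=
    Subgroup.centralizer_le (SetLike.coe_subset_coe.2 hYV)
  have hD₀ : IsSyl p (T₁ ⊓ D) D := hT₁.inf_normal hDH hHD
  have hDMd : D ≤ Md := le_of_pow_mem hD₀ hD (hCVC.trans le_sup_right) (inf_le_left.trans hT₁Md)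
  have hDC : D ≤ C := hK D hDMd (hFH.trans hHD) (fun d hd => by
    obtain ⟨k, hk⟩ := hD d hd
    exact ⟨k, hCVC hk⟩)
  apply Subgroup.le_centralizer_iff.1
  apply iSup_le
  intro h
  apply Subgroup.le_centralizer_iff.1
  have h1 := cj_eq_self_iff.2 (hHD h.2)
  rw [← h1, centralizer_cj]
  exact cj_le_cj.2 hDC

end Cfsg.Agent.S2851
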