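import Cfsg.Statements.S2853
import Cfsg.Agent.Lib.Helper16.FrakH2

set_option autoImplicit false
open Cfsg

namespace Cfsg.Agent.S2853

open Cfsg.Agent.Lib.Helper16
open scoped commutatorElement


/-- Standing hypotheses: G a finite group, S a Sylow p-subgroup, Q a nontrivial large p-subgroup of G contained in S, M a subgroup containing S with the basic property (M ∈ 𝔐_G(S)); Y_M the largest p-reduced normal subgroup of M and M† = M·C_G(Y_M). Suppose Y_M is char-p-tall and asymmetric in G and H ∈ ℌ_G(O_p(M)). Then every Sylow p-subgroup of H ∩ M† is a Sylow p-subgroup of H; O_p(H) normalizes O_p(M) and Y_M; O^p(H) = [O^p(H), Y_M] and H = O^p(H)·O_p(M); O^p(H)·Y_M is the normal closure of Y_M in H; and H is the normal closure of O_p(M) in H. Here O^p(H) is the subgroup generated by the elements of H of order prime to p. -/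
theorem result {G : Type*} [Group G] [Finite G] {p : ℕ} [Fact p.Prime] (S : Sylow p G) (Q : Subgroup G) (hQp : IsPGroup p ↥Q) (hQ1 : Q ≠ ⊥) (hQS : Q ≤ (S : Subgroup G)) (hQ : Cfsg.IsLarge Q) (M : Subgroup G) (hSM : (S : Subgroup G) ≤ M) (hM : Cfsg.IsInFrakM p M) (htall : Cfsg.IsCharPTall p (Cfsg.largestPReducedOf p M)) (hasym : ¬ Cfsg.IsSymmetricIn (Cfsg.largestPReducedOf p M)) (H : Subgroup G) (hH : Cfsg.IsInFrakH p M H) (R : Subgroup G) (hR : R = (Cfsg.pResidual p ↥H).map H.subtype) : (∀ T : Sylow p ↥(H ⊓ (M ⊔ Subgroup.centralizer (((Cfsg.largestPReducedOf p M) : Subgroup G) : Set G))), ∃ P : Sylow p ↥H, ((P : Subgroup ↥H).map H.subtype) = (T : Subgroup ↥(H ⊓ (M ⊔ Subgroup.centralizer (((Cfsg.largestPReducedOf p M) : Subgroup G) : Set G)))).map (H ⊓ (M ⊔ Subgroup.centralizer (((Cfsg.largestPReducedOf p M) : Subgroup G) : Set G))).subtype) ∧ Cfsg.pCoreOf p H ≤ Subgroup.normalizer (((Cfsg.pCoreOf p M) : Subgroup G) : Set G) ⊓ Subgroup.normalizer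 (((Cfsg.largestPReducedOf p M) : Subgroup G) : Set G) ∧ ⁅R, (Cfsg.largestPReducedOf p M)⁆ = R ∧ R ⊔ (Cfsg.pCoreOf p M) = H ∧ R ⊔ (Cfsg.largestPReducedOf p M) = (Subgroup.normalClosure ((((Cfsg.largestPReducedOf p M)).subgroupOf H : Subgroup ↥H) : Set ↥H)).map H.subtype ∧ (Subgroup.normalClosure ((((Cfsg.pCoreOf p M)).subgroupOf H : Subgroup ↥H) : Set ↥H)).map H.subtype = H := by
  subst hR
  have hwc := asym_wc S hQp hQ1 hQ hSM hM hasym
  have hPp : IsPGroup p (pCoreOf p M) := pCoreOf_isPGroup M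
  have hND := asym_normalizer_pCoreOf_le_dagger S hQp hQ1 hQ hSM hM hasym
  refine ⟨?_, ?_, frakH_comm hH, frakH_res_sup hH, ?_, ?_⟩
  · intro T
    obtain ⟨T0, hT0⟩ := hwc.isParabolic hPp hH.2.1
    have h1 : IsSyl p ((T0 : Subgroup ↥H).map H.subtype) H := isSyl_mk T0
    have h2 : (T0 : Subgroup ↥H).map H.subtype ≤ H ⊓ dagger p M :=
      le_inf h1.le ((Subgroup.map_le_iff_le_comap.2 hT0).trans hND)
    have h3 := h1.of_le h2 inf_le_left
    obtain ⟨x, hx, hx'⟩ := h3.exists_conj_eq (isSyl_mk T)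
    have h4 := h1.cj_mem (Subgroup.mem_inf.1 hx).1
    rw [hx'] at h4
    obtain ⟨P', hP'⟩ := h4
    exact ⟨P', hP'.symm⟩
  · have h1 : pCoreOf p H ≤ Subgroup.normalizer (pCoreOf p M : Set G) :=
      le_sup_left.trans (hwc.le_normalizer (IsPGroup.to_sup_of_normal_left' (pCoreOf_isPGroup H) hPp
        (hH.2.1.trans (le_normalizer_pCoreOf H))) le_sup_right)
    exact le_inf h1 (h1.trans (hND.trans (dagger_le_normalizer_yOf M)))
  · rw [map_normalClosure_subgroupOf (frakH_yOf_le hH)]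
    exact frakH_res_sup_Y hH
  · rw [map_normalClosure_subgroupOf hH.2.1]
    exact frakH_closure_P hH

end Cfsg.Agent.S2853
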