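import Cfsg.Statements.S2854
import Cfsg.Agent.Lib.Helper16.FrakH3

set_option autoImplicit false
open Cfsg

namespace Cfsg.Agent.S2854

open Cfsg.Agent.Lib.Helper16
open scoped commutatorElement


/-- Standing hypotheses: G a finite group, S a Sylow p-subgroup, Q a nontrivial large p-subgroup of G contained in S, M a subgroup containing S with the basic property (M ∈ 𝔐_G(S)); Y_M the largest p-reduced normal subgroup of M and M† = M·C_G(Y_M). Suppose Y_M is asymmetric in G, H ∈ ℌ_G(O_p(M)), and H ≤ N_G(gQg⁻¹) for some g ∈ G. Then gQg⁻¹ ≤ O_p(H·gQg⁻¹) ≤ N_G(O_p(M)) ≤ N_G(Y_M) = M†; H is normal in H·gQg⁻¹ with O^p(H) = O^p(H·gQg⁻¹); and H·gQg⁻¹ is p-irreducible. -/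
theorem result {G : Type*} [Group G] [Finite G] {p : ℕ} [Fact p.Prime] (S : Sylow p G) (Q : Subgroup G) (hQp : IsPGroup p ↥Q) (hQ1 : Q ≠ ⊥) (hQS : Q ≤ (S : Subgroup G)) (hQ : Cfsg.IsLarge Q) (M : Subgroup G) (hSM : (S : Subgroup G) ≤ M) (hM : Cfsg.IsInFrakM p M) (hasym : ¬ Cfsg.IsSymmetricIn (Cfsg.largestPReducedOf p M)) (H : Subgroup G) (hH : Cfsg.IsInFrakH p M H) (g : G) (hHQ : H ≤ Subgroup.normalizer ((((Q : Subgroup G).map (MulAut.conj (g : G)).toMonoidHom) : Subgroup G) : Set G)) : ((Q : Subgroup G).map (MulAut.conj (g : G)).toMonoidHom) ≤ Cfsg.pCoreOf p (H ⊔ ((Q : Subgroup G).map (MulAut.conj (g : G)).toMonoidHom)) ∧ Cfsg.pCoreOf p (H ⊔ ((Q : Subgroup G).map (MulAut.conj (g : G)).toMonoidHom)) ≤ Subgroup.normalizer (((Cfsg.pCoreOf p M) : Subgroup G) : Set G) ∧ Subgroup.normalizer (((Cfsg.pCoreOf p M) : Subgroup G) : Set G) ≤ Subgroup.normalizer (((Cfsg.largestPReducedOf p M) : Subgroup G) : Set G) ∧ Subgroup.normalizer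 (((Cfsg.largestPReducedOf p M) : Subgroup G) : Set G) = (M ⊔ Subgroup.centralizer (((Cfsg.largestPReducedOf p M) : Subgroup G) : Set G)) ∧ (H.subgroupOf (H ⊔ ((Q : Subgroup G).map (MulAut.conj (g : G)).toMonoidHom))).Normal ∧ (Cfsg.pResidual p ↥H).map H.subtype = (Cfsg.pResidual p ↥(H ⊔ ((Q : Subgroup G).map (MulAut.conj (g : G)).toMonoidHom))).map (H ⊔ ((Q : Subgroup G).map (MulAut.conj (g : G)).toMonoidHom)).subtype ∧ Cfsg.IsPIrreducible p ↥(H ⊔ ((Q : Subgroup G).map (MulAut.conj (g : G)).toMonoidHom)) := by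
  have hwc := asym_wc S hQp hQ1 hQ hSM hM hasym
  have hPp : IsPGroup p (pCoreOf p M) := pCoreOf_isPGroup M
  have hND := asym_normalizer_pCoreOf_le_dagger S hQp hQ1 hQ hSM hM hasym
  set Qg := Q.map (MulAut.conj g).toMonoidHom with hQg
  set Ht := H ⊔ Qg with hHt
  have hQgp : IsPGroup p Qg := isPGroup_cj g hQp
  have hPH : pCoreOf p M ≤ H := hH.2.1
  have h1 : Qg ≤ pCoreOf p Ht := le_pCoreOf le_sup_right (sup_le hHQ Subgroup.le_normalizer) hQgp
  have h2 : pCoreOf p Ht ≤ Subgroup.normalizer (pCoreOf p M : Set G) :=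
    le_sup_left.trans (hwc.le_normalizer (IsPGroup.to_sup_of_normal_left' (pCoreOf_isPGroup Ht) hPp
      ((hPH.trans le_sup_left).trans (le_normalizer_pCoreOf Ht))) le_sup_right)
  have hQgH : Qg ≤ Subgroup.normalizer (H : Set G) := by
    intro q hq
    rw [← cj_eq_self_iff]
    conv_lhs => rw [← frakH_closure_P hH]
    conv_rhs => rw [← frakH_closure_P hH]
    rw [cj_iSup]
    congr 1
    funext h
    rw [cj_eq_self_iff, normalizer_cj]
    have h3 : Qg.map (MulAut.conj (h : G)).toMonoidHom = Qg := cj_eq_self_iff.2 (hHQ h.2)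
    have h4 : q ∈ Qg.map (MulAut.conj (h : G)).toMonoidHom := by rw [h3]; exact hq
    exact cj_le_cj.2 (h1.trans h2) h4
  have hHtH : Ht ≤ Subgroup.normalizer (H : Set G) := sup_le Subgroup.le_normalizer hQgH
  have h6 : (Cfsg.pResidual p ↥H).map H.subtype = (Cfsg.pResidual p ↥Ht).map Ht.subtype := by
    rw [pResidual_map_subtype, pResidual_map_subtype]
    congr 1
    ext x
    constructor
    · rintro ⟨hx, hc⟩; exact ⟨Subgroup.mem_sup_left hx, hc⟩
    · rintro ⟨hx, hc⟩; exact ⟨mem_of_coprime_of_mem_sup hQgp hQgH hx hc, hc⟩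
  refine ⟨h1, h2, hND.trans (dagger_le_normalizer_yOf M),
    normalizer_yOf_eq_dagger S hQp hQ1 hQ hSM hM,
    (Subgroup.normal_subgroupOf_iff_le_normalizer le_sup_left).2 hHtH, h6, ?_⟩
  rw [isPIrreducible_iff]
  refine ⟨fun h => frakH_not_isPClosed hH (isPClosed_of_le le_sup_left h), ?_⟩
  intro N hN hn hc
  rw [← h6]
  have hQgN : Qg ≤ Subgroup.normalizer (N : Set G) := le_sup_right.trans hn
  apply pResOf_le_of_le_sup hQgp hQgN
  set N1 := (N ⊔ Qg) ⊓ H with hN1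
  have hHN1 : H ≤ Subgroup.normalizer (N1 : Set G) :=
    (le_inf ((le_inf (le_sup_left.trans hn) hHQ).trans (normalizer_inf_le_sup _ _))
      Subgroup.le_normalizer).trans (normalizer_inf_le _ _)
  refine le_trans (frakH_irr hH inf_le_right hHN1 ?_) inf_le_left
  intro hc1
  apply hc
  have h7 := isPClosed_sup_pgroup hc1 hQgp (inf_le_right.trans hHQ)
  apply isPClosed_of_le _ h7
  intro x hx
  obtain ⟨h, hh, q, hq, rfl⟩ := (mem_sup_of_le_normalizer hQgH).1 (hN hx)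
  have hh1 : h ∈ N1 := by
    refine Subgroup.mem_inf.2 ⟨?_, hh⟩
    have := Subgroup.mul_mem (N ⊔ Qg) (Subgroup.mem_sup_left hx)
      (Subgroup.mem_sup_right (Qg.inv_mem hq))
    simpa using this
  exact Subgroup.mul_mem _ (Subgroup.mem_sup_right hh1) (Subgroup.mem_sup_left hq)

end Cfsg.Agent.S2854
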