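import Cfsg.Statements.S2864
import Cfsg.Agent.Lib.Helper16.Frat2
import Cfsg.Agent.Lib.Helper16.FMEx2

set_option autoImplicit false
open Cfsg

namespace Cfsg.Agent.S2864

open Cfsg.Agent.Lib.Helper16
open scoped commutatorElement


/-- Standing hypotheses: G a finite group, S a Sylow p-subgroup, Q a nontrivial large p-subgroup of G contained in S, M a subgroup containing S with the basic property (M ∈ 𝔐_G(S)); Y_M the largest p-reduced normal subgroup of M and M† = M·C_G(Y_M). Let I be a nontrivial normal p-subgroup of M and Y ≤ O_p(M†); let L be a subgroup of G containing Y and A a normal p-subgroup of L with I ≤ A ≤ M. If [Y, A] ≤ [I, A], then Y ≤ O_p(L). -/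
theorem result {G : Type*} [Group G] [Finite G] {p : ℕ} [Fact p.Prime] (S : Sylow p G) (Q : Subgroup G) (hQp : IsPGroup p ↥Q) (hQ1 : Q ≠ ⊥) (hQS : Q ≤ (S : Subgroup G)) (hQ : Cfsg.IsLarge Q) (M : Subgroup G) (hSM : (S : Subgroup G) ≤ M) (hM : Cfsg.IsInFrakM p M) (I : Subgroup G) (hI1 : I ≠ ⊥) (hIp : IsPGroup p ↥I) (hIM : I ≤ M ∧ M ≤ Subgroup.normalizer ((I : Subgroup G) : Set G)) (Y : Subgroup G) (hY : Y ≤ (Cfsg.pCoreOf p (M ⊔ Subgroup.centralizer (((Cfsg.largestPReducedOf p M) : Subgroup G) : Set G)))) (L : Subgroup G) (hYL : Y ≤ L) (A : Subgroup G) (hAp : IsPGroup p ↥A) (hAL : A ≤ L ∧ L ≤ Subgroup.normalizer ((A : Subgroup G) : Set G)) (hIA : I ≤ A) (hAM : A ≤ M) (hc : ⁅Y, A⁆ ≤ ⁅I, A⁆) : Y ≤ (Cfsg.pCoreOf p L) := by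
  set Md := M ⊔ Subgroup.centralizer ((Cfsg.largestPReducedOf p M : Subgroup G) : Set G) with hMd
  obtain ⟨hAL1, hAL2⟩ := hAL
  obtain ⟨hIM1, hIM2⟩ := hIM
  have hYp : IsPGroup p Y := (pCoreOf_isPGroup Md).to_le hY
  set K := ⨆ l : L, Y.map (MulAut.conj (l : G)).toMonoidHom with hK
  have hKL : K ≤ L := iSup_cj_le hYL
  have hLK : L ≤ Subgroup.normalizer (K : Set G) := le_normalizer_iSup_cj Y L
  have hYK : Y ≤ K := le_iSup_cj Y L
  set A' := ⁅A, A⁆ with hA'
  have hLA' : L ≤ Subgroup.normalizer (A' : Set G) :=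
    (le_inf hAL2 hAL2).trans (normalizer_inf_le_commutator A A)
  -- `K` acts trivially on `A/A'`
  have h2 : ⁅K, A⁆ ≤ A' := by
    apply iSup_commutator_le_of_le_normalizer _ _ _ (hKL.trans hLA')
    intro l
    have e1 := cj_eq_self_iff.2 (hAL2 l.2)
    have e2 := cj_eq_self_iff.2 (hLA' l.2)
    rw [← e1, ← e2, ← Subgroup.map_commutator]
    exact cj_le_cj.2 (hc.trans (Subgroup.commutator_mono hIA le_rfl))
  set R := (Cfsg.pResidual p ↥K).map K.subtype with hR
  set C₀ := Subgroup.centralizer (A : Set G) with hC₀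
  have h3 : R ≤ C₀ := by
    rw [hR, pResidual_map_subtype, Subgroup.closure_le]
    rintro x ⟨hx, hxc⟩
    have hXK : Subgroup.zpowers x ≤ K := by rwa [Subgroup.zpowers_le]
    have := le_centralizer_of_comm_le_commutator hAp ((hXK.trans hKL).trans hAL2)
      (by rw [Nat.card_zpowers]; exact hxc) ((Subgroup.commutator_mono hXK le_rfl).trans h2)
    exact this (Subgroup.mem_zpowers x)
  -- `C_G(A) ≤ M†`
  have hNI : Subgroup.normalizer (I : Set G) ∈ Cfsg.charPSubgroups p G := by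
    have hRO : I ≤ Cfsg.pCoreOf p (Subgroup.normalizer (I : Set G)) :=
      le_pCoreOf Subgroup.le_normalizer le_rfl hIp
    have hne : Cfsg.pCoreOf p (Subgroup.normalizer (I : Set G)) ≠ ⊥ :=
      fun h => hI1 (le_bot_iff.1 (h ▸ hRO))
    rw [mem_charP_iff]
    exact ⟨hne, large_parabolic hQp hQ1 hQ ⟨S, hSM.trans hIM2⟩ (pCoreOf_ne_bot_iff.1 hne)⟩
  have h4 : C₀ ≤ Md :=
    ((Subgroup.centralizer_le (SetLike.coe_subset_coe.2 hIA)).trans
      (Subgroup.centralizer_le_normalizer _)).trans (le_dagger_of_charP hM hNI hIM2)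
  set P₁ := Cfsg.pCoreOf p Md with hP₁
  set P₀ := Cfsg.pCoreOf p C₀ with hP₀
  have hLC₀ : L ≤ Subgroup.normalizer (C₀ : Set G) :=
    hAL2.trans (normalizer_le_normalizer_centralizer A)
  have hLP₀ : L ≤ Subgroup.normalizer (P₀ : Set G) :=
    hLC₀.trans (normalizer_le_normalizer_pCoreOf C₀)
  have h5 : ⁅Y, C₀⁆ ≤ P₀ := by
    have h51 : P₁ ⊓ C₀ ≤ P₀ := by
      apply le_pCoreOf inf_le_right _ ((pCoreOf_isPGroup Md).to_le inf_le_left)
      exact (le_inf (h4.trans (le_normalizer_pCoreOf Md)) Subgroup.le_normalizer).trans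
        (normalizer_inf_le _ _)
    refine le_trans (le_inf ?_ ?_) h51
    · exact (Subgroup.commutator_mono hY h4).trans
        (commutator_le_left_of_le_normalizer (le_normalizer_pCoreOf Md))
    · rw [Subgroup.commutator_comm]
      exact commutator_le_left_of_le_normalizer (hYL.trans hLC₀)
  have h6 : ⁅K, C₀⁆ ≤ P₀ := by
    apply iSup_commutator_le_of_le_normalizer _ _ _ (hKL.trans hLP₀)
    intro l
    have e1 := cj_eq_self_iff.2 (hLC₀ l.2)
    have e2 := cj_eq_self_iff.2 (hLP₀ l.2)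
    rw [← e1, ← e2, ← Subgroup.map_commutator]
    exact cj_le_cj.2 h5
  have h7 : IsPGroup p ↥K := by
    apply isPGroup_iSup_of_comm_le _ (fun l => isPGroup_cj _ hYp) (pCoreOf_isPGroup C₀)
      (hKL.trans hLP₀)
    exact (Subgroup.commutator_mono le_rfl h3).trans h6
  exact hYK.trans (le_pCoreOf hKL hLK h7)

end Cfsg.Agent.S2864
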