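import Cfsg.Statements.S2872
import Mathlib
-- import your own Cfsg.Agent.* helpers here
import Cfsg.Agent.H5.Fus
import Cfsg.Agent.H5.SylowNum

set_option autoImplicit false
open Cfsg

namespace Cfsg.Agent.S2872



/-- Let S be a Sylow 2-subgroup of the finite group G. Then G has a proper normal subgroup of 2-power index (O²(G) ≠ G), or Ω₁(Z(S)) is contained in the Frattini subgroup of S, or N_G(S) acts nontrivially on Ω₁(Z(S)) by conjugation. -/
theorem result {G : Type*} [Group G] [Finite G] (S : Sylow 2 G) : Cfsg.pResidual 2 G ≠ ⊤ ∨ Cfsg.omegaOne 2 ((S : Subgroup G) ⊓ Subgroup.centralizer ((S : Subgroup G) : Set G)) ≤ (frattini ↥(S : Subgroup G)).map (S : Subgroup G).subtype ∨ ∃ g ∈ Subgroup.normalizer ((S : Subgroup G) : Set G), ∃ z ∈ Cfsg.omegaOne 2 ((S : Subgroup G) ⊓ Subgroup.centralizer ((S : Subgroup G) : Set G)), g * z * g⁻¹ ≠ z := by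
  classical
  by_contra hcon
  push Not at hcon
  obtain ⟨hres, hfr, hcent⟩ := hcon
  -- a generator outside the Frattini subgroup
  have hex : ∃ z : G, z ∈ (S : Subgroup G) ⊓ Subgroup.centralizer ((S : Subgroup G) : Set G) ∧ z ^ 2 = 1 ∧
      z ∉ (frattini ↥(S : Subgroup G)).map (S : Subgroup G).subtype := by
    by_contra h
    push Not at h
    apply hfr
    unfold Cfsg.omegaOne
    rw [Subgroup.closure_le]
    rintro x ⟨hx1, hx2⟩
    exact h x hx1 hx2
  obtain ⟨z, hz, hz2, hzF⟩ := hex
  have hzS : z ∈ (S : Subgroup G) := hz.1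
  have hzΩ : z ∈ Cfsg.omegaOne 2 ((S : Subgroup G) ⊓ Subgroup.centralizer ((S : Subgroup G) : Set G)) :=
    Subgroup.subset_closure ⟨hz, hz2⟩
  have hzF' : (⟨z, hzS⟩ : (S : Subgroup G)) ∉ frattini ↥(S : Subgroup G) := by
    intro h
    exact hzF ⟨⟨z, hzS⟩, h, rfl⟩
  obtain ⟨M0, hM0, hzM0⟩ : ∃ M0 : Subgroup (S : Subgroup G), IsCoatom M0 ∧ (⟨z, hzS⟩ : (S : Subgroup G)) ∉ M0 := by
    by_contra h
    push Not at h
    apply hzF'
    unfold frattini Order.radical
    simp only [Subgroup.mem_iInf]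
    intro M hM
    exact h M hM
  have hidx : M0.index = 2 := by
    obtain ⟨m, hm⟩ := IsPGroup.iff_card.mp S.2
    obtain ⟨n, hn⟩ := IsPGroup.iff_card.mp (S.2.to_subgroup M0)
    have hlt : n < m := by
      by_contra hge
      push Not at hge
      apply hM0.1
      apply Subgroup.eq_top_of_le_card
      rw [hm, hn]
      exact Nat.pow_le_pow_right (by norm_num) hge
    obtain ⟨K, hK, hMK⟩ := Sylow.exists_subgroup_card_pow_succ (p := 2) (n := n)
      (by rw [hm]; exact pow_dvd_pow 2 hlt) hn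
    have hKtop : K = ⊤ := by
      apply hM0.2
      apply lt_of_le_of_ne hMK
      intro h
      rw [h, hK] at hn
      have := Nat.pow_right_injective (le_refl 2) hn
      omega
    have h1 := M0.card_mul_index
    rw [hn, ← Subgroup.card_top (G := (S : Subgroup G)), ← hKtop, hK, pow_succ] at h1
    exact Nat.eq_of_mul_eq_mul_left (by positivity) h1
  have hrel : (M0.map (S : Subgroup G).subtype).relIndex (S : Subgroup G) = 2 := by
    unfold Subgroup.relIndex Subgroup.subgroupOf
    rw [Subgroup.comap_map_eq_self_of_injective (Subgroup.subtype_injective _)]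
    exact hidx
  have hzM : z ∉ M0.map (S : Subgroup G).subtype := by
    rintro ⟨y, hy, hyz⟩
    apply hzM0
    have : y = ⟨z, hzS⟩ := Subtype.ext hyz
    rwa [← this]
  obtain ⟨N, hNn, hNi, hzN⟩ := Cfsg.Agent.H5Fus.refined_transfer S (M0.map (S : Subgroup G).subtype) hrel z hz2 hzS
    (by
      intro s hs
      exact (Subgroup.mem_centralizer_iff.mp hz.2 s hs))
    (by
      intro g hg
      have h1 := hcent g⁻¹ (inv_mem hg) z hzΩ
      rw [inv_inv] at h1
      rw [h1]
      exact hzM)
  have hle : Cfsg.pResidual 2 G ≤ N := by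
    unfold Cfsg.pResidual
    rw [Subgroup.closure_le]
    intro g hg
    apply Cfsg.Agent.H5SylowNum.mem_of_coprime_index
    rw [hNi]
    exact (Nat.Coprime.symm hg)
  rw [hres, top_le_iff] at hle
  rw [hle, Subgroup.index_top] at hNi
  norm_num at hNi

end Cfsg.Agent.S2872
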