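import Cfsg.Statements.S2873
import Cfsg.Agent.H1.Fit

set_option autoImplicit false
open Cfsg

namespace Cfsg.Agent.S2873

open DihedralGroup

section aux

variable {G : Type*} [Group G]

/-- two involutions whose product has odd order are conjugate. -/
theorem conj_of_odd {s t : G} (hs : s * s = 1) (ht : t * t = 1) {k : ℕ}
    (h : (s * t) ^ (2 * k + 1) = 1) : ∃ g : G, g * s * g⁻¹ = t := by
  have hs' : s⁻¹ = s := inv_eq_of_mul_eq_one_left hs
  have ht' : t⁻¹ = t := inv_eq_of_mul_eq_one_left ht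
  obtain ⟨w, hw⟩ : ∃ w : G, w = s * t := ⟨_, rfl⟩
  rw [← hw] at h
  have hinv : s * w * s⁻¹ = w⁻¹ := by
    rw [hw, mul_inv_rev, hs', ht']
    calc s * (s * t) * s = (s * s) * t * s := by group
      _ = t * s := by rw [hs, one_mul]
  have hk : s * w ^ k * s⁻¹ = (w ^ k)⁻¹ := by
    rw [← conj_pow, hinv, inv_pow]
  have hk2 : s * (w ^ k)⁻¹ * s⁻¹ = w ^ k := by
    calc s * (w ^ k)⁻¹ * s⁻¹ = (s * w ^ k * s⁻¹)⁻¹ := by group
      _ = w ^ k := by rw [hk, inv_inv]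
  have h2k : w ^ k * w ^ k = w⁻¹ := by
    apply eq_inv_of_mul_eq_one_left
    rw [← pow_add, ← pow_succ]
    rw [← h]; congr 1; omega
  refine ⟨w ^ k, ?_⟩
  calc w ^ k * s * (w ^ k)⁻¹ = w ^ k * (s * (w ^ k)⁻¹ * s⁻¹) * s := by group
    _ = (w ^ k * w ^ k) * s := by rw [hk2]
    _ = w⁻¹ * s := by rw [h2k]
    _ = t := by rw [hw, mul_inv_rev, hs', ht', mul_assoc, hs, mul_one]

theorem comm_of_invert {n₁ n₂ w : G} (h1 : n₁ * w * n₁⁻¹ = w⁻¹) (h2 : n₂ * w * n₂⁻¹ = w⁻¹) :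
    (n₁⁻¹ * n₂) * w = w * (n₁⁻¹ * n₂) := by
  calc n₁⁻¹ * n₂ * w = n₁⁻¹ * (n₂ * w * n₂⁻¹) * n₂ := by group
    _ = n₁⁻¹ * (n₁ * w * n₁⁻¹) * n₂ := by rw [h2, h1]
    _ = w * (n₁⁻¹ * n₂) := by group

/-- the preimage of the rotations. -/
def rot {r : ℕ} (φ : G →* DihedralGroup r) : Subgroup G where
  carrier := {g | ∃ i, φ g = DihedralGroup.r i}
  one_mem' := ⟨0, by rw [map_one, r_zero]⟩
  mul_mem' := by
    rintro a b ⟨i, hi⟩ ⟨j, hj⟩
    exact ⟨i + j, by rw [map_mul, hi, hj, r_mul_r]⟩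
  inv_mem' := by
    rintro a ⟨i, hi⟩
    exact ⟨-i, by rw [map_inv, hi, inv_r]⟩

instance rot_normal {r : ℕ} (φ : G →* DihedralGroup r) : (rot φ).Normal := by
  constructor
  rintro n ⟨i, hi⟩ g
  show ∃ j, φ (g * n * g⁻¹) = DihedralGroup.r j
  rw [map_mul, map_mul, map_inv, hi]
  rcases φ g with j | j
  · exact ⟨j + i + -j, by rw [inv_r, r_mul_r, r_mul_r]⟩
  · exact ⟨j - (j + i), by rw [inv_sr, sr_mul_r, sr_mul_sr]⟩

theorem core [Finite G] {r : ℕ} [hrp : Fact r.Prime] (hr : r ≠ 2) (Q : Subgroup G) [hQn : Q.Normal]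
    (hQ2 : IsPGroup 2 Q) (φ : G →* DihedralGroup r) (hφs : Function.Surjective φ)
    (hmemQ : ∀ g, g ∈ Q ↔ φ g = 1) (R : Sylow r G)
    (hC : Q ⊓ Subgroup.centralizer ((R : Subgroup G) : Set G) = ⊥) :
    Nonempty (↥(Subgroup.normalizer ((R : Subgroup G) : Set G)) ≃* DihedralGroup r) ∧
    ∀ a : G, a ∈ Subgroup.normalizer ((R : Subgroup G) : Set G) → orderOf a = 2 →
      (∀ b : G, orderOf b = 2 → b ∉ Q → ∃ g : G, g * a * g⁻¹ = b) ∧
      Nat.card ↥(Q ⊓ Subgroup.centralizer ({a} : Set G)) ^ 2 = Nat.card ↥Q := by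
  classical
  have hp2 : Fact (Nat.Prime 2) := ⟨Nat.prime_two⟩
  have hrodd : ∃ k, r = 2 * k + 1 := by
    rcases hrp.out.eq_two_or_odd with h | h
    · exact absurd h hr
    · exact ⟨r / 2, by omega⟩
  obtain ⟨k, hk⟩ := hrodd
  have h2ne : (2 : ZMod r) ≠ 0 := by
    intro h
    have h1 : ((2 : ℕ) : ZMod r) = 0 := by exact_mod_cast h
    rw [ZMod.natCast_eq_zero_iff] at h1
    exact hr ((Nat.prime_dvd_prime_iff_eq hrp.out Nat.prime_two).1 h1)
  have hRQ : ∀ z ∈ (R : Subgroup G), z ∈ Q → z = 1 := by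
    intro z hz hzQ
    have := IsPGroup.disjoint_of_ne r 2 hr (R : Subgroup G) Q R.2 hQ2
    exact Subgroup.disjoint_def.1 this hz hzQ
  obtain ⟨N, hNdef⟩ : ∃ N : Subgroup G, N = Subgroup.normalizer ((R : Subgroup G) : Set G) := ⟨_, rfl⟩
  rw [← hNdef]
  have hRN : (R : Subgroup G) ≤ N := hNdef ▸ Subgroup.le_normalizer
  have hNQ : ∀ n ∈ N, n ∈ Q → n = 1 := by
    intro n hn hnQ
    have h1 : n ∈ Q ⊓ Subgroup.centralizer ((R : Subgroup G) : Set G) := by
      refine Subgroup.mem_inf.2 ⟨hnQ, ?_⟩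
      rw [Subgroup.mem_centralizer_iff]
      intro y hy
      have hy' : y ∈ (R : Subgroup G) := hy
      have h2 : n * y * n⁻¹ ∈ (R : Subgroup G) := by
        rw [hNdef] at hn
        exact (Subgroup.mem_normalizer_iff.1 hn y).1 hy'
      have h3 : n * y * n⁻¹ * y⁻¹ ∈ (R : Subgroup G) := Subgroup.mul_mem _ h2 (Subgroup.inv_mem _ hy')
      have h4 : n * y * n⁻¹ * y⁻¹ ∈ Q := by
        have h5 : y * n⁻¹ * y⁻¹ ∈ Q := hQn.conj_mem _ (Q.inv_mem hnQ) y
        have h6 : n * y * n⁻¹ * y⁻¹ = n * (y * n⁻¹ * y⁻¹) := by group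
        rw [h6]; exact Q.mul_mem hnQ h5
      have h7 := hRQ _ h3 h4
      calc y * n = (n * y * n⁻¹ * y⁻¹)⁻¹ * (n * y) := by group
        _ = n * y := by rw [h7]; simp
    rw [hC] at h1
    exact Subgroup.mem_bot.1 h1
  have hinjN : ∀ n ∈ N, ∀ n' ∈ N, φ n = φ n' → n = n' := by
    intro n hn n' hn' h
    have h1 : n⁻¹ * n' ∈ Q := by rw [hmemQ, map_mul, map_inv, h, inv_mul_cancel]
    have h2 := hNQ _ (N.mul_mem (N.inv_mem hn) hn') h1
    exact (inv_mul_eq_one.1 h2)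
  have hsq : ∀ b : G, b * b = 1 → b ∉ Q → ∃ j, φ b = sr j := by
    intro b hb hbQ
    rcases hφb : φ b with i | j
    · exfalso
      apply hbQ
      have h1 : φ b * φ b = 1 := by rw [← map_mul, hb, map_one]
      rw [hφb, r_mul_r, one_def] at h1
      have h2 : i + i = 0 := by injection h1
      have h3 : i * 2 = 0 := by rw [mul_two]; exact h2
      have h4 : i = 0 := by
        rcases mul_eq_zero.1 h3 with h | h
        · exact h
        · exact absurd h h2ne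
      rw [hmemQ, hφb, h4, r_zero]
    · exact ⟨j, rfl⟩
  have hRrot : (R : Subgroup G) ≤ rot φ := by
    intro z hz
    rcases hφz : φ z with i | j
    · exact ⟨i, hφz⟩
    · exfalso
      have h1 : φ (z * z) = 1 := by rw [map_mul, hφz, sr_mul_self]
      have h2 : z * z = 1 := hRQ _ (Subgroup.mul_mem _ hz hz) ((hmemQ _).2 h1)
      obtain ⟨e, he⟩ := R.2 ⟨z, hz⟩
      have he' : z ^ r ^ e = 1 := congrArg Subtype.val he
      have h3 : orderOf z ∣ 2 := orderOf_dvd_of_pow_eq_one (by rw [pow_two]; exact h2)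
      have h4 : orderOf z ∣ r ^ e := orderOf_dvd_of_pow_eq_one he'
      have h5 : Nat.Coprime 2 (r ^ e) :=
        Nat.Coprime.pow_right e ((Nat.coprime_primes Nat.prime_two hrp.out).2 (Ne.symm hr))
      have h6 : orderOf z = 1 := Nat.eq_one_of_dvd_coprimes h5 h3 h4
      have h7 : z = 1 := orderOf_eq_one_iff.1 h6
      rw [h7, map_one, one_def] at hφz
      cases hφz
  have hrG : r ∣ Nat.card G := by
    obtain ⟨g, hg⟩ := hφs (DihedralGroup.r 1)
    have h1 : orderOf (φ g) ∣ orderOf g := orderOf_map_dvd φ g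
    rw [hg, orderOf_r_one] at h1
    exact h1.trans (orderOf_dvd_natCard g)
  obtain ⟨y, hyR, hy1⟩ : ∃ y ∈ (R : Subgroup G), y ≠ 1 := by
    by_contra hcon
    push Not at hcon
    exact R.ne_bot_of_dvd_card hrG ((Subgroup.eq_bot_iff_forall _).2 hcon)
  obtain ⟨m, hm⟩ := hRrot hyR
  have hm0 : m ≠ 0 := by
    intro h
    apply hy1
    apply hRQ y hyR
    rw [hmemQ, hm, h, r_zero]
  have hyN : y ∈ N := hRN hyR
  have hpow : ∀ i : ZMod r, ∃ j : ℕ, φ (y ^ j) = DihedralGroup.r i := by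
    intro i
    refine ⟨(m⁻¹ * i).val, ?_⟩
    rw [map_pow, hm, r_pow, ZMod.natCast_zmod_val, ← mul_assoc, mul_inv_cancel₀ hm0, one_mul]
  have hyr : y ^ r = 1 := by
    apply hRQ _ (Subgroup.pow_mem _ hyR r)
    rw [hmemQ, map_pow, hm, r_pow, ZMod.natCast_self, mul_zero, r_zero]
  have hfrat : N ⊔ rot φ = ⊤ := by
    rw [hNdef]
    exact Sylow.normalizer_sup_eq_top' R hRrot
  have hsurjN : ∀ d : DihedralGroup r, ∃ n ∈ N, φ n = d := by
    intro d
    obtain ⟨g, hg⟩ := hφs d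
    have h1 : g ∈ ((N ⊔ rot φ : Subgroup G) : Set G) := by rw [hfrat]; trivial
    rw [Subgroup.mul_normal] at h1
    obtain ⟨n, hn, c, hc, rfl⟩ := Set.mem_mul.1 h1
    obtain ⟨i, hi⟩ := hc
    obtain ⟨j, hj⟩ := hpow i
    exact ⟨n * y ^ j, N.mul_mem hn (N.pow_mem hyN j), by rw [← hg, map_mul, map_mul, hj, hi]⟩
  have hCy : ∀ q ∈ Q, q * y = y * q → q = 1 := by
    intro q hq hqy
    have h1 : q ∈ Q ⊓ Subgroup.centralizer ((R : Subgroup G) : Set G) := by
      refine Subgroup.mem_inf.2 ⟨hq, ?_⟩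
      rw [Subgroup.mem_centralizer_iff]
      intro z hz
      have hz' : z ∈ (R : Subgroup G) := hz
      obtain ⟨i, hi⟩ := hRrot hz'
      obtain ⟨j, hj⟩ := hpow i
      have h2 : z = y ^ j := hinjN z (hRN hz') _ (N.pow_mem hyN j) (by rw [hi, hj])
      rw [h2]
      exact ((Commute.pow_right (show Commute q y from hqy) j).eq).symm
    rw [hC] at h1
    exact Subgroup.mem_bot.1 h1
  have hconj : ∀ u ∈ Q, ∃ q ∈ Q, q * y * q⁻¹ = y * u := by
    have hfm : ∀ q : ↥Q, y⁻¹ * (q : G) * y * (q : G)⁻¹ ∈ Q := by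
      intro q
      have h1 : y⁻¹ * (q : G) * y⁻¹⁻¹ ∈ Q := hQn.conj_mem _ q.2 y⁻¹
      rw [inv_inv] at h1
      exact Q.mul_mem h1 (Q.inv_mem q.2)
    have hinj : Function.Injective (fun q : ↥Q => (⟨y⁻¹ * (q : G) * y * (q : G)⁻¹, hfm q⟩ : ↥Q)) := by
      intro q q' h
      have h1 : y⁻¹ * (q : G) * y * (q : G)⁻¹ = y⁻¹ * (q' : G) * y * (q' : G)⁻¹ :=
        congrArg Subtype.val h
      have h2 : ((q' : G)⁻¹ * (q : G)) * y = y * ((q' : G)⁻¹ * (q : G)) := by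
        calc ((q' : G)⁻¹ * (q : G)) * y
            = (q' : G)⁻¹ * y * (y⁻¹ * (q : G) * y * (q : G)⁻¹) * (q : G) := by group
          _ = (q' : G)⁻¹ * y * (y⁻¹ * (q' : G) * y * (q' : G)⁻¹) * (q : G) := by rw [h1]
          _ = y * ((q' : G)⁻¹ * (q : G)) := by group
      have h3 := hCy _ (Q.mul_mem (Q.inv_mem q'.2) q.2) h2
      exact Subtype.ext (inv_mul_eq_one.1 h3).symm
    have hsur := Finite.injective_iff_surjective.1 hinj
    intro u hu
    obtain ⟨q, hq⟩ := hsur ⟨u, hu⟩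
    have hq' : y⁻¹ * (q : G) * y * (q : G)⁻¹ = u := congrArg Subtype.val hq
    refine ⟨q, q.2, ?_⟩
    rw [← hq']; group
  refine ⟨⟨MulEquiv.ofBijective (φ.comp N.subtype) ⟨?_, ?_⟩⟩, ?_⟩
  · intro n n' h
    exact Subtype.ext (hinjN n n.2 n' n'.2 h)
  · intro d
    obtain ⟨n, hn, hd⟩ := hsurjN d
    exact ⟨⟨n, hn⟩, hd⟩
  have hN2 : ∀ j : ZMod r, ∃ b ∈ N, φ b = sr j ∧ b * b = 1 ∧ b ∉ Q := by
    intro j
    obtain ⟨b, hb, hφb⟩ := hsurjN (sr j)
    refine ⟨b, hb, hφb, ?_, ?_⟩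
    · apply hNQ _ (N.mul_mem hb hb)
      rw [hmemQ, map_mul, hφb, sr_mul_self]
    · intro h
      rw [hmemQ, hφb, one_def] at h
      cases h
  have hstep1 : ∀ a ∈ N, a * a = 1 → a ∉ Q → ∀ b ∈ N, b * b = 1 → b ∉ Q →
      ∃ g : G, g * a * g⁻¹ = b := by
    intro a ha haa haQ b hb hbb hbQ
    obtain ⟨i, hi⟩ := hsq a haa haQ
    obtain ⟨j, hj⟩ := hsq b hbb hbQ
    apply conj_of_odd haa hbb (k := k)
    rw [← hk]
    apply hNQ _ (N.pow_mem (N.mul_mem ha hb) r)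
    rw [hmemQ, map_pow, map_mul, hi, hj, sr_mul_sr, r_pow, ZMod.natCast_self, mul_zero, r_zero]
  have hstep2 : ∀ b : G, b * b = 1 → b ∉ Q →
      ∃ b' ∈ N, b' * b' = 1 ∧ b' ∉ Q ∧ ∃ g : G, g * b * g⁻¹ = b' := by
    intro b hbb hbQ
    obtain ⟨j, hj⟩ := hsq b hbb hbQ
    obtain ⟨b', hb'N, hφb', hb'b', hb'Q⟩ := hN2 (j + m)
    refine ⟨b', hb'N, hb'b', hb'Q, ?_⟩
    apply conj_of_odd hbb hb'b' (k := k)
    rw [← hk]
    have hu : y⁻¹ * (b * b') ∈ Q := by
      rw [hmemQ, map_mul, map_inv, map_mul, hm, hj, hφb', sr_mul_sr, add_sub_cancel_left,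
        inv_mul_cancel]
    obtain ⟨q, hq, hqy⟩ := hconj _ hu
    have h1 : b * b' = q * y * q⁻¹ := by rw [hqy]; group
    rw [h1, conj_pow, hyr]; group
  intro a ha hao
  have haa : a * a = 1 := by
    have := pow_orderOf_eq_one a
    rwa [hao, pow_two] at this
  have ha1 : a ≠ 1 := by
    intro h
    rw [h, orderOf_one] at hao
    omega
  have haQ : a ∉ Q := fun h => ha1 (hNQ a ha h)
  have hpart1 : ∀ b : G, b * b = 1 → b ∉ Q → ∃ g : G, g * a * g⁻¹ = b := by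
    intro b hbb hbQ
    obtain ⟨b', hb'N, hb'b', hb'Q, g₁, hg₁⟩ := hstep2 b hbb hbQ
    obtain ⟨g₂, hg₂⟩ := hstep1 a ha haa haQ b' hb'N hb'b' hb'Q
    refine ⟨g₁⁻¹ * g₂, ?_⟩
    calc g₁⁻¹ * g₂ * a * (g₁⁻¹ * g₂)⁻¹ = g₁⁻¹ * (g₂ * a * g₂⁻¹) * g₁ := by group
      _ = g₁⁻¹ * (g₁ * b * g₁⁻¹) * g₁ := by rw [hg₂, hg₁]
      _ = b := by group
  refine ⟨fun b hbo hbQ => hpart1 b (by
    have := pow_orderOf_eq_one b
    rwa [hbo, pow_two] at this) hbQ, ?_⟩
  obtain ⟨i, hi⟩ := hsq a haa haQ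
  obtain ⟨b, hbN, hφb, hbb, hbQ⟩ := hN2 (i + m)
  have hab : a * b = y := hinjN _ (N.mul_mem ha hbN) _ hyN (by
    rw [map_mul, hi, hφb, sr_mul_sr, add_sub_cancel_left, hm])
  have ha' : a⁻¹ = a := inv_eq_of_mul_eq_one_left haa
  have hb' : b⁻¹ = b := inv_eq_of_mul_eq_one_left hbb
  obtain ⟨g, hg⟩ := hpart1 b hbb hbQ
  have hmemC : ∀ t c : G, c ∈ Q ⊓ Subgroup.centralizer ({t} : Set G) ↔ c ∈ Q ∧ c * t = t * c := by
    intro t c
    rw [Subgroup.mem_inf, Subgroup.mem_centralizer_singleton_iff]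
  have hcard : Nat.card ↥(Q ⊓ Subgroup.centralizer ({b} : Set G)) =
      Nat.card ↥(Q ⊓ Subgroup.centralizer ({a} : Set G)) := by
    have hmap : (Q ⊓ Subgroup.centralizer ({a} : Set G)).map (MulAut.conj g).toMonoidHom =
        Q ⊓ Subgroup.centralizer ({b} : Set G) := by
      ext x
      constructor
      · rintro ⟨c, hc, rfl⟩
        obtain ⟨hcQ, hca⟩ := (hmemC a c).1 hc
        refine (hmemC b _).2 ⟨hQn.conj_mem c hcQ g, ?_⟩
        show g * c * g⁻¹ * b = b * (g * c * g⁻¹)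
        rw [← hg]
        calc g * c * g⁻¹ * (g * a * g⁻¹) = g * (c * a) * g⁻¹ := by group
          _ = g * (a * c) * g⁻¹ := by rw [hca]
          _ = _ := by group
      · intro hx
        obtain ⟨hxQ, hxb⟩ := (hmemC b x).1 hx
        refine ⟨g⁻¹ * x * g, (hmemC a _).2 ⟨?_, ?_⟩, ?_⟩
        · have := hQn.conj_mem x hxQ g⁻¹
          rwa [inv_inv] at this
        · have hag : a = g⁻¹ * b * g := by rw [← hg]; group
          rw [hag]
          calc g⁻¹ * x * g * (g⁻¹ * b * g) = g⁻¹ * (x * b) * g := by group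
            _ = g⁻¹ * (b * x) * g := by rw [hxb]
            _ = _ := by group
        · show g * (g⁻¹ * x * g) * g⁻¹ = x
          group
    rw [← hmap, Subgroup.card_map_of_injective (MulAut.conj g).injective]
  have hbij : Function.Bijective (fun cd : ↥(Q ⊓ Subgroup.centralizer ({a} : Set G)) ×
      ↥(Q ⊓ Subgroup.centralizer ({b} : Set G)) =>
      (⟨(cd.1 : G) * (cd.2 : G), Q.mul_mem ((hmemC _ _).1 cd.1.2).1 ((hmemC _ _).1 cd.2.2).1⟩ : ↥Q)) := by
    constructor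
    · rintro ⟨c, d⟩ ⟨c', d'⟩ h
      have h1 : (c : G) * (d : G) = (c' : G) * (d' : G) := congrArg Subtype.val h
      have he : (c' : G)⁻¹ * (c : G) = (d' : G) * (d : G)⁻¹ := by
        calc (c' : G)⁻¹ * (c : G) = (c' : G)⁻¹ * ((c : G) * (d : G)) * (d : G)⁻¹ := by group
          _ = (c' : G)⁻¹ * ((c' : G) * (d' : G)) * (d : G)⁻¹ := by rw [h1]
          _ = _ := by group
      have hc : Commute (c : G) a := ((hmemC _ _).1 c.2).2
      have hc' : Commute (c' : G) a := ((hmemC _ _).1 c'.2).2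
      have hd : Commute (d : G) b := ((hmemC _ _).1 d.2).2
      have hd' : Commute (d' : G) b := ((hmemC _ _).1 d'.2).2
      have hea : Commute ((c' : G)⁻¹ * (c : G)) a := hc'.inv_left.mul_left hc
      have heb : Commute ((c' : G)⁻¹ * (c : G)) b := by
        rw [he]; exact hd'.mul_left hd.inv_left
      have hey : Commute ((c' : G)⁻¹ * (c : G)) y := hab ▸ hea.mul_right heb
      have h2 := hCy _ (Q.mul_mem (Q.inv_mem ((hmemC _ _).1 c'.2).1) ((hmemC _ _).1 c.2).1) hey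
      have h3 : (c' : G) = c := inv_mul_eq_one.1 h2
      have h4 : (d : G) = d' := by
        rw [h3] at h1
        exact mul_left_cancel h1
      exact Prod.ext (Subtype.ext h3.symm) (Subtype.ext h4)
    · rintro ⟨u, hu⟩
      have hφu : φ u = 1 := (hmemQ u).1 hu
      obtain ⟨t, ht⟩ : ∃ t : G, t = u⁻¹ * a * u := ⟨_, rfl⟩
      have htt : t * t = 1 := by
        rw [ht]
        calc u⁻¹ * a * u * (u⁻¹ * a * u) = u⁻¹ * (a * a) * u := by group
          _ = 1 := by rw [haa]; group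
      have ht' : t⁻¹ = t := inv_eq_of_mul_eq_one_left htt
      have hφt : φ t = sr i := by rw [ht, map_mul, map_mul, map_inv, hφu, hi]; simp
      have hu2 : y⁻¹ * (t * b) ∈ Q := by
        rw [hmemQ, map_mul, map_inv, map_mul, hm, hφt, hφb, sr_mul_sr, add_sub_cancel_left,
          inv_mul_cancel]
      obtain ⟨q, hq, hqy⟩ := hconj _ hu2
      have hφq : φ q = 1 := (hmemQ q).1 hq
      have hy' : q * y * q⁻¹ = t * b := by rw [hqy]; group
      have hCy' : ∀ e ∈ Q, e * (t * b) = (t * b) * e → e = 1 := by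
        intro e he hcomm
        rw [← hy'] at hcomm
        have h1 : q⁻¹ * e * q ∈ Q := by
          have := hQn.conj_mem e he q⁻¹
          rwa [inv_inv] at this
        have h2 : (q⁻¹ * e * q) * y = y * (q⁻¹ * e * q) := by
          calc (q⁻¹ * e * q) * y = q⁻¹ * (e * (q * y * q⁻¹)) * q := by group
            _ = q⁻¹ * ((q * y * q⁻¹) * e) * q := by rw [hcomm]
            _ = _ := by group
        have h3 := hCy _ h1 h2
        calc e = q * (q⁻¹ * e * q) * q⁻¹ := by group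
          _ = 1 := by rw [h3]; group
      have hbi : b * (t * b) * b⁻¹ = (t * b)⁻¹ := by
        calc b * (t * b) * b⁻¹ = b * t := by group
          _ = b⁻¹ * t⁻¹ := by rw [hb', ht']
          _ = _ := by group
      have hti : t * (t * b) * t⁻¹ = (t * b)⁻¹ := by
        rw [mul_inv_rev, hb', ht']
        calc t * (t * b) * t = (t * t) * b * t := by group
          _ = b * t := by rw [htt, one_mul]
      have hqbi : (q * b * q⁻¹) * (t * b) * (q * b * q⁻¹)⁻¹ = (t * b)⁻¹ := by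
        rw [← hy', ← hab]
        calc q * b * q⁻¹ * (q * (a * b) * q⁻¹) * (q * b * q⁻¹)⁻¹ = q * (b * a * (b * b⁻¹)) * q⁻¹ := by
              group
          _ = q * (b⁻¹ * a⁻¹) * q⁻¹ := by rw [mul_inv_cancel, mul_one, ha', hb']
          _ = _ := by group
      have hqai : (q * a * q⁻¹) * (t * b) * (q * a * q⁻¹)⁻¹ = (t * b)⁻¹ := by
        rw [← hy', ← hab]
        calc q * a * q⁻¹ * (q * (a * b) * q⁻¹) * (q * a * q⁻¹)⁻¹ = q * ((a * a) * b * a⁻¹) * q⁻¹ := by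
              group
          _ = q * (b⁻¹ * a⁻¹) * q⁻¹ := by rw [haa, one_mul, hb']
          _ = _ := by group
      have e1 : b⁻¹ * (q * b * q⁻¹) = 1 := by
        apply hCy' _ _ (comm_of_invert hbi hqbi)
        rw [hmemQ]; simp [hφq]
      have e2 : t⁻¹ * (q * a * q⁻¹) = 1 := by
        apply hCy' _ _ (comm_of_invert hti hqai)
        rw [hmemQ]; simp [hφq, hφt, hi]
      have hqb : q⁻¹ * b = b * q⁻¹ := by
        have h1 : b = q * b * q⁻¹ := inv_mul_eq_one.1 e1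
        calc q⁻¹ * b = q⁻¹ * (q * b * q⁻¹) := by rw [← h1]
          _ = b * q⁻¹ := by group
      have hqa : (u * q) * a = a * (u * q) := by
        have h1 : t = q * a * q⁻¹ := inv_mul_eq_one.1 e2
        rw [ht] at h1
        calc (u * q) * a = u * (q * a * q⁻¹) * q := by group
          _ = u * (u⁻¹ * a * u) * q := by rw [← h1]
          _ = a * (u * q) := by group
      refine ⟨(⟨u * q, (hmemC _ _).2 ⟨Q.mul_mem hu hq, hqa⟩⟩,
        ⟨q⁻¹, (hmemC _ _).2 ⟨Q.inv_mem hq, hqb⟩⟩), ?_⟩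
      apply Subtype.ext
      show u * q * q⁻¹ = u
      group
  have hfin := Nat.card_congr (Equiv.ofBijective _ hbij)
  rw [Nat.card_prod, hcard] at hfin
  rw [pow_two]; exact hfin

end aux

/-- Let G be a finite group and r an odd prime such that G ⧸ O₂(G) is dihedral of order 2r, and let R be a Sylow r-subgroup of G with C_{O₂(G)}(R) = 1. Then N_G(R) is dihedral of order 2r; for any involution a of N_G(R), every involution of G outside O₂(G) is conjugate to a; and |C_{O₂(G)}(a)|² = |O₂(G)|. -/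
theorem result {G : Type*} [Group G] [Finite G] {r : ℕ} [Fact r.Prime] (hr : r ≠ 2) [hN : (Cfsg.pCore 2 G).Normal] (hquot : Nonempty (G ⧸ Cfsg.pCore 2 G ≃* DihedralGroup r)) (R : Sylow r G) (hC : Cfsg.pCore 2 G ⊓ Subgroup.centralizer ((R : Subgroup G) : Set G) = ⊥) : Nonempty (↥(Subgroup.normalizer ((R : Subgroup G) : Set G)) ≃* DihedralGroup r) ∧ ∀ a : G, a ∈ Subgroup.normalizer ((R : Subgroup G) : Set G) → orderOf a = 2 → (∀ b : G, orderOf b = 2 → b ∉ Cfsg.pCore 2 G → ∃ g : G, g * a * g⁻¹ = b) ∧ Nat.card ↥(Cfsg.pCore 2 G ⊓ Subgroup.centralizer ({a} : Set G)) ^ 2 = Nat.card ↥(Cfsg.pCore 2 G) := by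
  obtain ⟨e⟩ := hquot
  have hQ2 : IsPGroup 2 (Cfsg.pCore 2 G) := Cfsg.H1.pCore_isPGroup 2
  apply core hr (Cfsg.pCore 2 G) hQ2 (e.toMonoidHom.comp (QuotientGroup.mk' (Cfsg.pCore 2 G)))
    (e.surjective.comp (QuotientGroup.mk'_surjective _)) _ R hC
  intro g
  show g ∈ Cfsg.pCore 2 G ↔ e (QuotientGroup.mk' (Cfsg.pCore 2 G) g) = 1
  rw [EmbeddingLike.map_eq_one_iff, QuotientGroup.mk'_apply, QuotientGroup.eq_one_iff]

end Cfsg.Agent.S2873
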