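import Cfsg.Statements.S2879
import Cfsg.Agent.H17.SLN2

set_option autoImplicit false
open Cfsg

namespace Cfsg.Agent.S2879

/-- Let G be a finite solvable group with O(G) = 1 whose Sylow 2-subgroup T is dihedral of order at least 8 or semidihedral, with G ≠ T and Z(T) normal in G. Then G has a normal subgroup isomorphic to SL₂(3). -/
theorem result {G : Type*} [Group G] [Finite G] (hsol : IsSolvable G) (hO : Cfsg.oddCore G = ⊥) (T : Sylow 2 G) (hT : (∃ n : ℕ, 4 ≤ n ∧ Nonempty (↥(T : Subgroup G) ≃* DihedralGroup n)) ∨ Cfsg.IsQuasiDihedral ↥(T : Subgroup G)) (hne : (T : Subgroup G) ≠ ⊤) (hZ : ((T : Subgroup G) ⊓ Subgroup.centralizer ((T : Subgroup G) : Set G)).Normal) : ∃ U : Subgroup G, U.Normal ∧ Nonempty (↥U ≃* Matrix.SpecialLinearGroup (Fin 2) (ZMod 3)) := by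
  classical
  haveI : Fact (Nat.Prime 2) := ⟨Nat.prime_two⟩
  rcases hT with ⟨n, hn, ⟨e⟩⟩ | hq
  · obtain ⟨k, hk⟩ := IsPGroup.iff_card.mp T.isPGroup'
    rw [Nat.card_congr e.toEquiv, DihedralGroup.nat_card] at hk
    have hdvd : n ∣ 2 ^ k := ⟨2, by rw [← hk, mul_comm]⟩
    obtain ⟨j, -, rfl⟩ := (Nat.dvd_prime_pow Nat.prime_two).1 hdvd
    have hj : 2 ≤ j := by
      by_contra hlt
      have : j = 0 ∨ j = 1 := by omega
      rcases this with rfl | rfl <;> norm_num at hn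
    have hd := Cfsg.Agent.Tr.MC.Dat.of_equiv e (Cfsg.Agent.Tr.MC.dat_dihedral j)
    refine Cfsg.Agent.H17.SLN.main hsol hO T hd hj ?_ hne hZ
    rcases (by omega : j = 2 ∨ 3 ≤ j) with rfl | h3
    · apply hd.isPGroup_aut_dih
      have h0 : (DihedralGroup.sr 0 : DihedralGroup (2 ^ 2)) ^ 2 = 1 := by
        rw [pow_two (DihedralGroup.sr 0), DihedralGroup.sr_mul_self]
      rw [← map_pow, h0, map_one]
    · exact hd.isPGroup_aut h3
  · obtain ⟨m, a, b, hm, hd, -, -⟩ := Cfsg.Agent.Tr.MC.dat_of_quasiDihedral hq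
    exact Cfsg.Agent.H17.SLN.main hsol hO T hd (by omega) (hd.isPGroup_aut hm) hne hZ

end Cfsg.Agent.S2879
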