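import Cfsg.Statements.S2881
import Cfsg.Agent.H17.ExtraCount

set_option autoImplicit false
open Cfsg

namespace Cfsg.Agent.S2881

/-- Let E be an extraspecial 2-group of order 2^(2m+1) of plus type (containing an elementary abelian subgroup of order 2^(m+1)), and let ω be an automorphism of E of order 5 whose fixed points are exactly the centre of E. Then m is divisible by 4. -/
theorem result {E : Type*} [Group E] [Finite E] (m : ℕ) (hm : 1 ≤ m) (hE : Cfsg.IsExtraspecial 2 E) (hcard : Nat.card E = 2 ^ (2 * m + 1)) (hplus : ∃ A : Subgroup E, Cfsg.IsElementaryAbelian 2 A ∧ Nat.card A = 2 ^ (m + 1)) (ω : E ≃* E) (hω : orderOf ω = 5) (hfix : ∀ x : E, ω x = x ↔ x ∈ Subgroup.center E) : 4 ∣ m := by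
  classical
  obtain ⟨A, hA, hAc⟩ := hplus
  have hcount := Cfsg.Agent.H17.IsExtraspecial.card_orderOf_eq_four m hE hcard A hA hAc
  haveI := Fintype.ofFinite E
  let σ : Equiv.Perm {x : E // orderOf x = 4} :=
    ω.toEquiv.subtypeEquiv (fun x => by
      change orderOf x = 4 ↔ orderOf (ω x) = 4
      rw [MulEquiv.orderOf_eq])
  have hσ : ∀ (n : ℕ) (x : {x : E // orderOf x = 4}), (((σ ^ n) x : {x : E // orderOf x = 4}) : E) = (ω ^ n) (x : E) := by
    intro n
    induction n with
    | zero => intro x; rfl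
    | succ n ih =>
      intro x
      rw [pow_succ', pow_succ', Equiv.Perm.mul_apply, MulAut.mul_apply, ← ih x]
      rfl
  have hσ5 : σ ^ 5 ^ 1 = 1 := by
    ext x
    rw [pow_one, hσ 5 x, ← hω, pow_orderOf_eq_one]
    rfl
  haveI : Fact (Nat.Prime 5) := ⟨by norm_num⟩
  have hdvd : 5 ∣ Fintype.card {x : E // orderOf x = 4} := by
    by_contra hnd
    obtain ⟨a, ha⟩ := Equiv.Perm.exists_fixed_point_of_prime hnd hσ5
    have h1 : ω (a : E) = a := congrArg Subtype.val ha
    have h2 : (a : E) ∈ Subgroup.center E := (hfix a).mp h1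
    have h3 : (⟨(a : E), h2⟩ : Subgroup.center E) ^ 2 = 1 := by
      have := pow_card_eq_one' (x := (⟨(a : E), h2⟩ : Subgroup.center E))
      rwa [hE.2] at this
    have h4 : (a : E) ^ 2 = 1 := congrArg Subtype.val h3
    have h5 := orderOf_dvd_of_pow_eq_one h4
    rw [a.2] at h5
    omega
  rw [← Nat.card_eq_fintype_card, hcount] at hdvd
  -- arithmetic
  have h1 : 2 ^ (2 * m) - 2 ^ m = 2 ^ m * (2 ^ m - 1) := by
    rw [Nat.mul_sub, mul_one, ← pow_add]
    congr 2
    omega
  rw [h1] at hdvd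
  have h2 : 5 ∣ 2 ^ m - 1 := by
    have hc : Nat.Coprime 5 (2 ^ m) := Nat.Coprime.pow_right _ (by norm_num)
    exact hc.dvd_of_dvd_mul_left hdvd
  have h3 : 2 ^ m % 5 = 1 := by
    have : 1 ≤ 2 ^ m := Nat.one_le_two_pow
    omega
  have h4 : 2 ^ m % 5 = 2 ^ (m % 4) % 5 := by
    conv_lhs => rw [← Nat.div_add_mod m 4, pow_add, pow_mul]
    rw [Nat.mul_mod, Nat.pow_mod]
    norm_num
  rw [h4] at h3
  have h5 : m % 4 < 4 := Nat.mod_lt _ (by norm_num)
  apply Nat.dvd_of_mod_eq_zero
  interval_cases h : m % 4 <;> simp_all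

end Cfsg.Agent.S2881
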