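import Cfsg.Statements.S2911
import Mathlib
-- import your own Cfsg.Agent.* helpers here
import Cfsg.Agent.H5.Fus

set_option autoImplicit false
open Cfsg

namespace Cfsg.Agent.S2911


theorem aux_dec : ∀ y : Multiplicative (ZMod 2) × DihedralGroup 4, (∀ x, x * y = y * x) → (∀ w, w * w ≠ y) →
    y.1 ≠ 1 := by
  decide

theorem aux_c : (∀ x : Multiplicative (ZMod 2) × DihedralGroup 4, x * (Multiplicative.ofAdd 1, 1) = (Multiplicative.ofAdd 1, 1) * x) ∧
    (∀ w : Multiplicative (ZMod 2) × DihedralGroup 4, w * w ≠ (Multiplicative.ofAdd 1, 1)) ∧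
    ((Multiplicative.ofAdd 1, 1) : Multiplicative (ZMod 2) × DihedralGroup 4) ^ 2 = 1 := by
  decide

theorem main {G : Type*} [Group G] [Finite G] (S : Sylow 2 G)
    (e : ↥(S : Subgroup G) ≃* Multiplicative (ZMod 2) × DihedralGroup 4) :
    ∃ N : Subgroup G, N.Normal ∧ N.index = 2 := by
  classical
  let f : ↥(S : Subgroup G) →* Multiplicative (ZMod 2) :=
    (MonoidHom.fst (Multiplicative (ZMod 2)) (DihedralGroup 4)).comp e.toMonoidHom
  have hf : Function.Surjective f := by
    intro a
    exact ⟨e.symm (a, 1), by simp [f]⟩
  have hidx : f.ker.index = 2 := by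
    rw [Subgroup.index_ker, MonoidHom.range_eq_top.mpr hf, Subgroup.card_top]
    simp [Nat.card_eq_fintype_card]
  have hrel : (f.ker.map (S : Subgroup G).subtype).relIndex (S : Subgroup G) = 2 := by
    unfold Subgroup.relIndex Subgroup.subgroupOf
    rw [Subgroup.comap_map_eq_self_of_injective (Subgroup.subtype_injective _)]
    exact hidx
  set c0 : Multiplicative (ZMod 2) × DihedralGroup 4 := (Multiplicative.ofAdd 1, 1) with hc0
  set c : ↥(S : Subgroup G) := e.symm c0 with hc
  have hec : e c = c0 := by simp [hc]
  obtain ⟨N, h1, h2, -⟩ := Cfsg.Agent.H5Fus.refined_transfer S (f.ker.map (S : Subgroup G).subtype) hrel (c : G)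
    (by
      have : c ^ 2 = 1 := by
        apply e.injective
        rw [map_pow, hec, map_one]
        exact aux_c.2.2
      exact_mod_cast congrArg Subtype.val this)
    c.2
    (by
      intro s hs
      have : (⟨s, hs⟩ : (S : Subgroup G)) * c = c * ⟨s, hs⟩ := by
        apply e.injective
        rw [map_mul, map_mul, hec]
        exact aux_c.1 _
      exact congrArg Subtype.val this)
    (by
      intro g hg
      rintro ⟨y, hy, hyg⟩
      -- conjugation by g preserves S
      have hconj : ∀ x : G, x ∈ (S : Subgroup G) → g⁻¹ * x * g ∈ (S : Subgroup G) := by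
        intro x hx
        have hg' := (Subgroup.normalizer ((S : Subgroup G) : Set G)).inv_mem hg
        have := (Subgroup.mem_normalizer_iff.mp hg' x).mp hx
        simpa using this
      have hconj' : ∀ x : G, x ∈ (S : Subgroup G) → g * x * g⁻¹ ∈ (S : Subgroup G) := by
        intro x hx
        exact (Subgroup.mem_normalizer_iff.mp hg x).mp hx
      have hy1 : (e y).1 = 1 := hy
      apply aux_dec (e y) _ _ hy1
      · intro x
        -- y central in S
        have : e.symm x * y = y * e.symm x := by
          apply Subtype.ext
          show ((e.symm x : (S : Subgroup G)) : G) * (y : G) = (y : G) * ((e.symm x : (S : Subgroup G)) : G)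
          have hyg' : (y : G) = g⁻¹ * (c : G) * g := hyg
          rw [hyg']
          set u : G := ((e.symm x : (S : Subgroup G)) : G) with hu
          have hu' : g * u * g⁻¹ ∈ (S : Subgroup G) := hconj' u (e.symm x).2
          have hcomm : (⟨g * u * g⁻¹, hu'⟩ : (S : Subgroup G)) * c = c * ⟨g * u * g⁻¹, hu'⟩ := by
            apply e.injective
            rw [map_mul, map_mul, hec]
            exact aux_c.1 _
          have hcomm' : g * u * g⁻¹ * (c : G) = (c : G) * (g * u * g⁻¹) := congrArg Subtype.val hcomm
          calc u * (g⁻¹ * (c : G) * g) = g⁻¹ * (g * u * g⁻¹ * (c : G)) * g := by group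
            _ = g⁻¹ * ((c : G) * (g * u * g⁻¹)) * g := by rw [hcomm']
            _ = g⁻¹ * (c : G) * g * u := by group
        have h3 := congrArg e this
        simpa using h3
      · intro w hw
        -- c would be a square
        set v : G := ((e.symm w : (S : Subgroup G)) : G) with hv
        have hv' : g * v * g⁻¹ ∈ (S : Subgroup G) := hconj' v (e.symm w).2
        have hvv : e.symm w * e.symm w = y := by
          apply e.injective
          simpa using hw
        have hvv' : v * v = g⁻¹ * (c : G) * g := by
          have := congrArg Subtype.val hvv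
          rw [← hyg]
          exact this
        have hsq : (⟨g * v * g⁻¹, hv'⟩ : (S : Subgroup G)) * ⟨g * v * g⁻¹, hv'⟩ = c := by
          apply Subtype.ext
          show g * v * g⁻¹ * (g * v * g⁻¹) = (c : G)
          calc g * v * g⁻¹ * (g * v * g⁻¹) = g * (v * v) * g⁻¹ := by group
            _ = g * (g⁻¹ * (c : G) * g) * g⁻¹ := by rw [hvv']
            _ = (c : G) := by group
        have h4 := congrArg e hsq
        rw [map_mul, hec] at h4
        exact aux_c.2.1 _ h4)
  exact ⟨N, h1, h2⟩


/-- A finite group whose Sylow 2-subgroups are isomorphic to the direct product of a group of order 2 and a dihedral group of order 8 has a subgroup of index two. -/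
theorem result {G : Type*} [Group G] [Finite G] (S : Sylow 2 G) (hS : Nonempty (↥(S : Subgroup G) ≃* Multiplicative (ZMod 2) × DihedralGroup 4)) : ∃ H : Subgroup G, H.index = 2 := by
  obtain ⟨e⟩ := hS
  obtain ⟨N, -, h⟩ := main S e
  exact ⟨N, h⟩

end Cfsg.Agent.S2911
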