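import Cfsg.Statements.S2968
import Cfsg.Agent.H17.Isolated

set_option autoImplicit false
open Cfsg

namespace Cfsg.Agent.S2968

/-- Let G be a finite group, p a prime, P a Sylow p-subgroup of G and x ∈ P an element of p-power order which is isolated in G (the only conjugate of x commuting with x is x itself). Then x lies in the centre of P, and the subgroup generated by x is both strongly closed and weakly closed in P with respect to G. -/
theorem result {G : Type*} [Group G] [Finite G] {p : ℕ} [Fact p.Prime] (P : Sylow p G) (x : G) (hxP : x ∈ (P : Subgroup G)) (hx : ∃ k : ℕ, orderOf x = p ^ k) (hiso : Cfsg.IsIsolated x) : x ∈ (P : Subgroup G) ⊓ Subgroup.centralizer ((P : Subgroup G) : Set G) ∧ Cfsg.IsStronglyClosed (Subgroup.zpowers x) (P : Subgroup G) ∧ Cfsg.IsWeaklyClosed (Subgroup.zpowers x) (P : Subgroup G) := by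
  have hxp : ∃ k : ℕ, x ^ p ^ k = 1 := by
    obtain ⟨k, hk⟩ := hx
    exact ⟨k, by rw [← hk]; exact pow_orderOf_eq_one x⟩
  have hcen : ∀ r ∈ (P : Subgroup G), r * x = x * r :=
    H17.isolated_comm_of_mem_pgroup hiso P.2 hxP
  have hle : Subgroup.zpowers x ≤ (P : Subgroup G) := by
    rw [Subgroup.zpowers_le]; exact hxP
  refine ⟨⟨hxP, Subgroup.mem_centralizer_iff.mpr hcen⟩, ⟨hle, ?_⟩, ⟨hle, ?_⟩⟩
  · intro y hy g hg
    obtain ⟨m, rfl⟩ := Subgroup.mem_zpowers_iff.mp hy
    have hxN : x ∈ Subgroup.centralizer ({g * x ^ m * g⁻¹} : Set G) :=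
      Subgroup.mem_centralizer_singleton_iff.mpr (hcen _ hg).symm
    have hgN : g * x * g⁻¹ ∈ Subgroup.centralizer ({g * x ^ m * g⁻¹} : Set G) := by
      refine Subgroup.mem_centralizer_singleton_iff.mpr ?_
      have : x * x ^ m = x ^ m * x := ((Commute.refl x).zpow_right m).eq
      calc g * x * g⁻¹ * (g * x ^ m * g⁻¹) = g * (x * x ^ m) * g⁻¹ := by group
        _ = g * (x ^ m * x) * g⁻¹ := by rw [this]
        _ = g * x ^ m * g⁻¹ * (g * x * g⁻¹) := by group
    obtain ⟨n, hn, hnx⟩ := H17.isolated_conj_in hiso hxp hxN hgN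
    have h1 : n * (g * x ^ m * g⁻¹) * n⁻¹ = g * x ^ m * g⁻¹ := by
      have := Subgroup.mem_centralizer_singleton_iff.mp hn
      rw [this]; group
    have h2 : n * (g * x ^ m * g⁻¹) * n⁻¹ = x ^ m := by
      have : n * (g * x ^ m * g⁻¹) * n⁻¹ = (n * (g * x * g⁻¹) * n⁻¹) ^ m := by
        rw [conj_zpow, conj_zpow]
      rw [this, hnx]
    rw [← h1, h2]
    exact Subgroup.zpow_mem_zpowers x m
  · intro g hg
    have h1 : g * x * g⁻¹ ∈ (P : Subgroup G) := hg ⟨x, Subgroup.mem_zpowers x, rfl⟩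
    have h2 := hiso g (hcen _ h1).symm
    rw [MonoidHom.map_zpowers]
    simp only [MulEquiv.coe_toMonoidHom, MulAut.conj_apply]
    rw [h2]

end Cfsg.Agent.S2968
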