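import Mathlib
import Cfsg.Statements.S2971
import Cfsg.Agent.H9.Iso
import Cfsg.Agent.S0126

set_option autoImplicit false
open Cfsg
open scoped commutatorElement

namespace Cfsg.Agent.S2971

/-- Let G be a finite group and p an odd prime such that G has p-rank at most 1 (no elementary abelian subgroup of order p²). If x ∈ G is an isolated element of order p, then x is central modulo the largest normal subgroup of G of order prime to p. -/
theorem result {G : Type*} [Group G] [Finite G] {p : ℕ} [Fact p.Prime] (hp : p ≠ 2) (hrk : Cfsg.PRankLE p 1 G) (x : G) (hx : orderOf x = p) (hiso : Cfsg.IsIsolated x) : Cfsg.InZStar p x := by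
  have hcyc : ∀ P : Sylow p G, IsCyclic ↥(P : Subgroup G) := by
    intro P
    by_contra hnc
    obtain ⟨A, -, hA, hcard⟩ := Cfsg.Agent.S0126.result hp P.2 hnc
    have h1 := hrk (A.map (P : Subgroup G).subtype) ?_ ?_
    · rw [Nat.card_congr (A.equivMapOfInjective _ (Subgroup.subtype_injective _)).symm.toEquiv,
        hcard] at h1
      have hp2 : 1 < p := (Fact.out : p.Prime).one_lt
      have : p ^ 1 < p ^ 2 := Nat.pow_lt_pow_right hp2 (by norm_num)
      omega
    · refine ⟨⟨?_⟩⟩
      rintro ⟨_, a, ha, rfl⟩ ⟨_, b, hb, rfl⟩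
      apply Subtype.ext
      have := hA.1.is_comm.comm ⟨a, ha⟩ ⟨b, hb⟩
      have h2 := congrArg (fun z : A => ((z : (P : Subgroup G)) : G)) this
      simpa using h2
    · rintro _ ⟨a, ha, rfl⟩
      have := hA.2 a ha
      have h2 := congrArg (fun z : (P : Subgroup G) => (z : G)) this
      simpa using h2
  have hx1 : x ≠ 1 := by
    rintro rfl
    rw [orderOf_one] at hx
    exact (Fact.out : p.Prime).one_lt.ne hx
  obtain ⟨P, N, hN, hc⟩ := Cfsg.H9.exists_complement_of_isolated_cyclic ⟨1, by rw [hx, pow_one]⟩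
    hiso hx1 hcyc
  haveI := hN
  refine Cfsg.H9.inZStar_of_complement P ?_ N hc x
  intro a ha b hb
  haveI := hcyc P
  have := (IsCyclic.commGroup (α := ↥(P : Subgroup G))).mul_comm ⟨a, ha⟩ ⟨b, hb⟩
  exact congrArg Subtype.val this

end Cfsg.Agent.S2971
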