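import Mathlib
import Cfsg.Statements.S2972
import Cfsg.Agent.H9.Iso2

set_option autoImplicit false
open Cfsg
open scoped commutatorElement

namespace Cfsg.Agent.S2972

/-- Let G be a finite group, p a prime and x ∈ G an isolated element of order p (the only conjugate of x commuting with x is x) which is not central modulo the largest normal subgroup of order prime to p, while x is central modulo the largest normal subgroup of order prime to p in every proper subgroup containing x, and the image of x is so in every quotient of G by a nontrivial normal subgroup (a minimal counterexample to the Z*_p statement). Then the derived subgroup G' is a non-abelian simple group and G = G'⟨x⟩. -/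
theorem result {G : Type*} [Group G] [Finite G] {p : ℕ} [Fact p.Prime] (x : G) (hx : orderOf x = p) (hiso : Cfsg.IsIsolated x) (hnz : ¬ Cfsg.InZStar p x) (hmin : ∀ (H : Subgroup G) (hxH : x ∈ H), H ≠ ⊤ → Cfsg.InZStar p (⟨x, hxH⟩ : ↥H)) (hquot : ∀ (N : Subgroup G) [N.Normal], N ≠ ⊥ → Cfsg.InZStar p (QuotientGroup.mk x : G ⧸ N)) : IsSimpleGroup ↥(commutator G) ∧ ¬ IsMulCommutative ↥(commutator G) ∧ commutator G ⊔ Subgroup.zpowers x = ⊤ := by
  classical
  have hp : p.Prime := Fact.out
  have hxk : ∃ k : ℕ, orderOf x = p ^ k := ⟨1, by rw [hx, pow_one]⟩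
  -- (1)
  have hO : pPrimeCore p G = ⊥ := by
    by_contra hne
    apply hnz
    intro g
    have h1 := hquot (pPrimeCore p G) hne (QuotientGroup.mk g)
    rw [Cfsg.H9.pPrimeCore_quotient, Subgroup.mem_bot] at h1
    exact (QuotientGroup.eq_one_iff _).mp h1
  -- (2)
  have hnc : ∃ g : G, g * x * g⁻¹ ≠ x := by
    by_contra h
    push Not at h
    apply hnz
    intro g
    rw [h g, mul_inv_cancel]
    exact Subgroup.one_mem _
  have hcommute : ∀ g : G, (g * x * g⁻¹) * x = x * (g * x * g⁻¹) → g * x * g⁻¹ = x := by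
    intro g hg
    exact hiso g hg.symm
  -- (3)
  have hA : ∀ H : Subgroup G, H.IsSubnormal → x ∈ H → H ≠ ⊤ → ∀ h ∈ H, h * x * h⁻¹ = x := by
    intro H hsn hxH hne h hh
    have h1 := hmin H hxH hne ⟨h, hh⟩
    have h2 : pPrimeCore p ↥H = ⊥ := by
      have := Cfsg.H9.map_pPrimeCore_subnormal p hsn
      rw [hO, bot_inf_eq, Subgroup.map_eq_bot_iff_of_injective _ (Subgroup.subtype_injective _)]
        at this
      exact this
    rw [h2, Subgroup.mem_bot] at h1
    have := congrArg Subtype.val h1
    simp only [Subgroup.coe_mul, InvMemClass.coe_inv, Subgroup.coe_one] at this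
    exact mul_inv_eq_one.mp this
  -- (4)
  have hcl : Subgroup.normalClosure ({x} : Set G) = ⊤ := by
    by_contra hne
    obtain ⟨g, hg⟩ := hnc
    apply hg
    apply hcommute
    have hxK : x ∈ Subgroup.normalClosure ({x} : Set G) := Subgroup.subset_normalClosure rfl
    have hgK : g * x * g⁻¹ ∈ Subgroup.normalClosure ({x} : Set G) :=
      Subgroup.normalClosure_normal.conj_mem _ hxK g
    have := hA _ Subgroup.normalClosure_normal.isSubnormal hxK hne _ hgK
    calc g * x * g⁻¹ * x = (g * x * g⁻¹ * x * (g * x * g⁻¹)⁻¹) * (g * x * g⁻¹) := by group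
      _ = x * (g * x * g⁻¹) := by rw [this]
  -- (5)
  have hB : ∀ N : Subgroup G, N.Normal → N ⊔ Subgroup.zpowers x = ⊤ ∨ N ≤ Subgroup.center G := by
    intro N hN
    by_cases hH : N ⊔ Subgroup.zpowers x = ⊤
    · exact Or.inl hH
    right
    have hxH : x ∈ N ⊔ Subgroup.zpowers x :=
      (le_sup_right : Subgroup.zpowers x ≤ _) (Subgroup.mem_zpowers x)
    have hNH : N ≤ N ⊔ Subgroup.zpowers x := le_sup_left
    set W : Subgroup G := (pPrimeCore p ↥(N ⊔ Subgroup.zpowers x)).map
      (N ⊔ Subgroup.zpowers x).subtype with hW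
    have hWN : W ⊓ N = ⊥ := by
      have hn : ((W ⊓ N).subgroupOf N).Normal := by
        constructor
        intro w hw n
        rw [Subgroup.mem_subgroupOf] at hw ⊢
        simp only [Subgroup.coe_mul, InvMemClass.coe_inv]
        refine Subgroup.mem_inf.mpr ⟨?_, N.mul_mem (N.mul_mem n.2 w.2) (N.inv_mem n.2)⟩
        obtain ⟨w', hw', hww⟩ := (Subgroup.mem_inf.mp hw).1
        have hnorm : (pPrimeCore p ↥(N ⊔ Subgroup.zpowers x)).Normal := inferInstance
        refine ⟨⟨n, hNH n.2⟩ * w' * ⟨n, hNH n.2⟩⁻¹, hnorm.conj_mem _ hw' _, ?_⟩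
        simp only [Subgroup.coe_subtype, Subgroup.coe_mul, InvMemClass.coe_inv] at hww ⊢
        rw [hww]
      have hsn := hn.isSubnormal.trans' hN.isSubnormal
      rw [Subgroup.subgroupOf_map_subtype, inf_assoc, inf_idem] at hsn
      have hc : (Nat.card ↥(W ⊓ N)).Coprime p := by
        apply Nat.Coprime.coprime_dvd_left (Subgroup.card_dvd_of_le (inf_le_left : W ⊓ N ≤ W))
        rw [hW, Nat.card_congr ((pPrimeCore p ↥(N ⊔ Subgroup.zpowers x)).equivMapOfInjective _
          (Subgroup.subtype_injective _)).symm.toEquiv]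
        exact Cfsg.H9.pPrimeCore_coprime p
      have := Cfsg.H9.subnormal_le_pPrimeCore p hsn hc
      rwa [hO, le_bot_iff] at this
    have hcent : x ∈ Subgroup.centralizer (N : Set G) := by
      rw [Subgroup.mem_centralizer_iff]
      intro n hn
      have h1 := hmin _ hxH hH ⟨n, hNH hn⟩
      have h2 : n * x * n⁻¹ * x⁻¹ ∈ W ⊓ N := by
        refine Subgroup.mem_inf.mpr ⟨⟨_, h1, rfl⟩, ?_⟩
        have : n * x * n⁻¹ * x⁻¹ = n * (x * n⁻¹ * x⁻¹) := by group
        rw [this]
        exact N.mul_mem hn (hN.conj_mem _ (N.inv_mem hn) x)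
      rw [hWN, Subgroup.mem_bot] at h2
      calc n * x = (n * x * n⁻¹ * x⁻¹) * (x * n) := by group
        _ = x * n := by rw [h2, one_mul]
    have htop : Subgroup.centralizer (N : Set G) = ⊤ := by
      rw [eq_top_iff, ← hcl]
      apply Subgroup.normalClosure_le_normal
      simpa using hcent
    intro n hn
    rw [Subgroup.mem_center_iff]
    intro g
    have : g ∈ Subgroup.centralizer (N : Set G) := by rw [htop]; trivial
    rw [Subgroup.mem_centralizer_iff] at this
    exact (this n hn).symm
  -- (6)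
  have hZ : Subgroup.center G = ⊥ := by
    by_contra hne
    obtain ⟨g, hg⟩ := hnc
    apply hg
    apply hcommute
    have h1 := hquot (Subgroup.center G) hne (QuotientGroup.mk g)
    rw [Cfsg.H9.pPrimeCore_quotient_eq_bot_of_central hO _ le_rfl, Subgroup.mem_bot] at h1
    have h2 : g * x * g⁻¹ * x⁻¹ ∈ Subgroup.center G := (QuotientGroup.eq_one_iff _).mp h1
    rw [Subgroup.mem_center_iff] at h2
    have h3 := h2 x
    calc g * x * g⁻¹ * x = (g * x * g⁻¹ * x⁻¹ * x) * x := by group
      _ = (x * (g * x * g⁻¹ * x⁻¹)) * x := by rw [h3]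
      _ = _ := by group
  have hC : ∀ N : Subgroup G, N.Normal → N ≠ ⊥ → N ⊔ Subgroup.zpowers x = ⊤ := by
    intro N hN hne
    rcases hB N hN with h | h
    · exact h
    · rw [hZ, le_bot_iff] at h
      exact absurd h hne
  -- (8)
  have hG' : commutator G ≠ ⊥ := by
    intro h
    obtain ⟨g, hg⟩ := hnc
    apply hg
    have : ⁅g, x⁆ ∈ commutator G := by
      rw [commutator_def]
      exact Subgroup.commutator_mem_commutator (Subgroup.mem_top g) (Subgroup.mem_top x)
    rw [h, Subgroup.mem_bot, commutatorElement_def] at this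
    exact mul_inv_eq_one.mp this
  -- (9)
  have hlay : layer G ≠ ⊥ := by
    intro h
    have h1 := (Cfsg.H9.centralizer_fitting_le_iff (G := G)).mpr h
    rw [Cfsg.H9.fitting_eq_pCore_of_pPrimeCore_eq_bot hO] at h1
    have hz : IsPGroup p (Subgroup.zpowers x) := by
      apply IsPGroup.of_card (n := 1)
      rw [Nat.card_zpowers, hx, pow_one]
    obtain ⟨S, hS⟩ := hz.exists_le_sylow
    have hxS : x ∈ (S : Subgroup G) := hS (Subgroup.mem_zpowers x)
    have hOS : pCore p G ≤ (S : Subgroup G) := by
      obtain ⟨S', hS'⟩ := (Cfsg.H9.pCore_isPGroup p (G := G)).exists_le_sylow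
      obtain ⟨g, hg⟩ := MulAction.exists_smul_eq G S' S
      intro y hy
      have hn : (pCore p G).Normal := inferInstance
      have h2 := hS' (hn.conj_mem y hy g⁻¹)
      rw [← hg, Sylow.coe_subgroup_smul, Subgroup.mem_pointwise_smul_iff_inv_smul_mem]
      simpa [MulAut.smul_def, MulAut.conj_apply] using h2
    have hxc : x ∈ Subgroup.centralizer (pCore p G : Set G) := by
      rw [Subgroup.mem_centralizer_iff]
      intro y hy
      exact Cfsg.Agent.H17.isolated_comm_of_mem_pgroup hiso S.2 hxS y (hOS hy)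
    have hxO := h1 hxc
    have htop : pCore p G = ⊤ := by
      rw [eq_top_iff, ← hcl]
      apply Subgroup.normalClosure_le_normal
      simpa using hxO
    obtain ⟨g, hg⟩ := hnc
    apply hg
    have := Cfsg.Agent.H17.isolated_comm_of_mem_pgroup hiso (Cfsg.H9.pCore_isPGroup p (G := G)) hxO g
      (by rw [htop]; trivial)
    rw [this]; group
  rw [Ne, Cfsg.H9.layer_eq_bot_iff] at hlay
  push Not at hlay
  obtain ⟨T, hT⟩ := hlay
  have hlayn : (layer G).Normal := inferInstance
  have hlay' : layer G ≠ ⊥ := by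
    intro h
    have := Cfsg.H9.component_le_layer hT
    rw [h, le_bot_iff] at this
    exact Cfsg.H9.comp_ne_bot hT this
  have hTn : T.Normal := by
    rw [← Subgroup.normalizer_eq_top_iff, eq_top_iff, ← hC _ hlayn hlay']
    apply sup_le (Cfsg.H9.layer_le_normalizer_component hT)
    rw [Subgroup.zpowers_le]
    exact Cfsg.H9.isolated_mem_normalizer_component hO hxk hiso hT
  have hTeq : commutator G = T := by
    apply le_antisymm
    · exact Cfsg.H9.commutator_le_of_sup_zpowers T x (hC T hTn (Cfsg.H9.comp_ne_bot hT))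
    · rw [commutator_def]
      calc T = ⁅T, T⁆ := (Cfsg.H9.comp_perfect hT).symm
        _ ≤ ⁅(⊤ : Subgroup G), ⊤⁆ := Subgroup.commutator_mono le_top le_top
  have hZT : T ⊓ Subgroup.centralizer (T : Set G) = ⊥ := by
    by_contra hne
    have hn : (T ⊓ Subgroup.centralizer (T : Set G)).Normal := inferInstance
    have h1 := Cfsg.H9.commutator_le_of_sup_zpowers _ x (hC _ hn hne)
    rw [hTeq] at h1
    have h2 : ⁅T, T⁆ = ⊥ := by
      rw [Cfsg.H9.comm_iff]
      intro a ha b hb
      have := (Subgroup.mem_inf.mp (h1 hb)).2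
      rw [Subgroup.mem_centralizer_iff] at this
      exact this a ha
    rw [Cfsg.H9.comp_perfect hT] at h2
    exact Cfsg.H9.comp_ne_bot hT h2
  have hcT : Subgroup.center ↥T = ⊥ := by
    rw [eq_bot_iff]
    intro z hz
    rw [Subgroup.mem_bot]
    apply Subtype.ext
    have : (z : G) ∈ T ⊓ Subgroup.centralizer (T : Set G) := by
      refine Subgroup.mem_inf.mpr ⟨z.2, ?_⟩
      rw [Subgroup.mem_centralizer_iff]
      intro t ht
      rw [Subgroup.mem_center_iff] at hz
      exact congrArg Subtype.val (hz ⟨t, ht⟩)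
    rw [hZT, Subgroup.mem_bot] at this
    exact this
  rw [hTeq]
  refine ⟨?_, ?_, hC T hTn (Cfsg.H9.comp_ne_bot hT)⟩
  · haveI := hT.2.2
    exact ((QuotientGroup.quotientMulEquivOfEq hcT).trans QuotientGroup.quotientBot).symm.isSimpleGroup
  · intro hab
    have h2 : ⁅T, T⁆ = ⊥ := by
      rw [Cfsg.H9.comm_iff]
      intro a ha b hb
      exact congrArg Subtype.val (hab.is_comm.comm ⟨a, ha⟩ ⟨b, hb⟩)
    rw [Cfsg.H9.comp_perfect hT] at h2
    exact Cfsg.H9.comp_ne_bot hT h2

end Cfsg.Agent.S2972
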