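import Mathlib
import Cfsg.Statements.S2975
import Cfsg.Agent.H9.Iso3

set_option autoImplicit false
open Cfsg
open scoped commutatorElement

namespace Cfsg.Agent.S2975

/-- Let G be a finite group, p a prime and x ∈ G an isolated element of order p (the only conjugate of x commuting with x is x) which is not central modulo the largest normal subgroup of order prime to p, while x is central modulo the largest normal subgroup of order prime to p in every proper subgroup containing x, and the image of x is so in every quotient of G by a nontrivial normal subgroup (a minimal counterexample to the Z*_p statement). Then for every prime q, every q-subgroup of G that is normalized by x and maximal among the q-subgroups normalized by x is either trivial or a Sylow q-subgroup of G; and C_G(x) permutes the x-invariant Sylow q-subgroups of G transitively by conjugation. -/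
theorem result {G : Type*} [Group G] [Finite G] {p : ℕ} [Fact p.Prime] (x : G) (hx : orderOf x = p) (hiso : Cfsg.IsIsolated x) (hnz : ¬ Cfsg.InZStar p x) (hmin : ∀ (H : Subgroup G) (hxH : x ∈ H), H ≠ ⊤ → Cfsg.InZStar p (⟨x, hxH⟩ : ↥H)) (hquot : ∀ (N : Subgroup G) [N.Normal], N ≠ ⊥ → Cfsg.InZStar p (QuotientGroup.mk x : G ⧸ N)) (q : ℕ) [Fact q.Prime] : (∀ Q : Subgroup G, IsPGroup q ↥Q → x ∈ Subgroup.normalizer (Q : Set G) → (∀ R : Subgroup G, IsPGroup q ↥R → x ∈ Subgroup.normalizer (R : Set G) → Q ≤ R → R = Q) → Q = ⊥ ∨ ∃ S : Sylow q G, (S : Subgroup G) = Q) ∧ (∀ S₁ S₂ : Sylow q G, x ∈ Subgroup.normalizer ((S₁ : Subgroup G) : Set G) → x ∈ Subgroup.normalizer ((S₂ : Subgroup G) : Set G) → ∃ c ∈ Subgroup.centralizer ({x} : Set G), (S₁ : Subgroup G).map (MulAut.conj c).toMonoidHom = (S₂ : Subgroup G)) := by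
  classical
  have hp : p.Prime := Fact.out
  have hq : q.Prime := Fact.out
  have hxk' : ∃ k : ℕ, x ^ p ^ k = 1 := ⟨1, by rw [pow_one, ← hx]; exact pow_orderOf_eq_one x⟩
  have hO : pPrimeCore p G = ⊥ := by
    by_contra hne
    apply hnz
    intro g
    have h1 := hquot (pPrimeCore p G) hne (QuotientGroup.mk g)
    rw [Cfsg.H9.pPrimeCore_quotient, Subgroup.mem_bot] at h1
    exact (QuotientGroup.eq_one_iff _).mp h1
  refine ⟨?_, ?_⟩
  · intro Q hQ hxQ hmax
    by_cases hQb : Q = ⊥
    · left; exact hQb
    right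
    by_cases hqp : q = p
    · have hz : IsPGroup q (Subgroup.zpowers x) := by
        apply IsPGroup.of_card (n := 1)
        rw [Nat.card_zpowers, hx, pow_one, hqp]
      have h1 : IsPGroup q (Subgroup.zpowers x ⊔ Q : Subgroup G) :=
        hz.to_sup_of_normal_right' hQ (Subgroup.zpowers_le.mpr hxQ)
      obtain ⟨S, hS⟩ := h1.exists_le_sylow
      exact ⟨S, hmax S S.2 (Subgroup.le_normalizer (hS ((le_sup_left : Subgroup.zpowers x ≤ _)
        (Subgroup.mem_zpowers x)))) (le_sup_right.trans hS)⟩
    · have hNtop : Subgroup.normalizer (Q : Set G) ≠ ⊤ := by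
        intro h
        have hn : Q.Normal := Subgroup.normalizer_eq_top_iff.mp h
        have hc : (Nat.card Q).Coprime p := by
          obtain ⟨n, hn⟩ := hQ.exists_card_eq
          rw [hn]
          exact Nat.Coprime.pow_left n ((Nat.coprime_primes hq hp).mpr hqp)
        have := Cfsg.H9.le_pPrimeCore p hn hc
        rw [hO, le_bot_iff] at this
        exact hQb this
      have h1 := Cfsg.H9.not_dvd_index_of_max_invariant hqp hx Q hQ hxQ (hmin _ hxQ hNtop) hmax
      exact ⟨hQ.toSylow h1, rfl⟩
  · intro S₁ S₂ h1 h2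
    obtain ⟨g, hg⟩ := MulAction.exists_smul_eq G S₁ S₂
    have hmap : (S₁ : Subgroup G).map (MulAut.conj g).toMonoidHom = (S₂ : Subgroup G) := by
      rw [← hg]; rfl
    have hgx : g * x * g⁻¹ ∈ Subgroup.normalizer ((S₂ : Subgroup G) : Set G) := by
      apply Cfsg.H9.mem_normalizer_of_conj_mem'
      intro k hk
      rw [← hmap] at hk ⊢
      obtain ⟨s, hs, rfl⟩ := hk
      refine ⟨x * s * x⁻¹, (Subgroup.mem_normalizer_iff.mp h1 s).mp hs, ?_⟩
      simp only [MulEquiv.coe_toMonoidHom, MulAut.conj_apply]
      group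
    obtain ⟨n, hn, hnx⟩ := Cfsg.Agent.H17.isolated_conj_in hiso hxk' h2 hgx
    refine ⟨n * g, ?_, ?_⟩
    · rw [Subgroup.mem_centralizer_singleton_iff]
      calc n * g * x = (n * (g * x * g⁻¹) * n⁻¹) * (n * g) := by group
        _ = x * (n * g) := by rw [hnx]
    · have e : (S₁ : Subgroup G).map (MulAut.conj (n * g)).toMonoidHom =
          ((S₁ : Subgroup G).map (MulAut.conj g).toMonoidHom).map (MulAut.conj n).toMonoidHom := by
        rw [Subgroup.map_map]
        congr 1
        ext y
        simp [MulAut.conj_apply, mul_assoc]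
      rw [e, hmap]
      exact Subgroup.mem_normalizer_iff_map_conj_eq.mp hn

end Cfsg.Agent.S2975
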