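import Cfsg.Statements.S3011
import Cfsg.Agent.S0200

set_option autoImplicit false
open Cfsg

namespace Cfsg.Agent.S3011

open Subgroup

theorem commute_of_sq {G : Type*} [Group G] {u k : G} (hu : Odd (orderOf u))
    (h : Commute (u ^ 2) k) : Commute u k := by
  obtain ⟨m, hm⟩ := hu
  have h1 : u = (u ^ 2) ^ (m + 1) := by
    rw [← pow_mul]
    have : 2 * (m + 1) = orderOf u + 1 := by omega
    rw [this, pow_succ, pow_orderOf_eq_one, one_mul]
  rw [h1]
  exact h.pow_left _

theorem eq_one_of_eq_inv {G : Type*} [Group G] {x : G} (hx : Odd (orderOf x)) (h : x = x⁻¹) :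
    x = 1 := by
  have h2 : x ^ 2 = 1 := by
    rw [sq]
    nth_rewrite 2 [h]
    exact mul_inv_cancel x
  have h3 : orderOf x ∣ 2 := orderOf_dvd_of_pow_eq_one h2
  have h4 : orderOf x = 1 := by
    rcases (Nat.dvd_prime Nat.prime_two).mp h3 with h | h
    · exact h
    · rw [h] at hx; exact absurd hx (by decide)
  exact orderOf_eq_one_iff.mp h4

theorem eq_one_of_inverts {G : Type*} [Group G] {u k : G} (hu : Odd (orderOf u))
    (hk : Odd (orderOf k)) (h : u * k * u⁻¹ = k⁻¹) : k = 1 := by
  have h1 : Commute (u ^ 2) k := by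
    have e : u ^ 2 * k * (u ^ 2)⁻¹ = k := by
      calc u ^ 2 * k * (u ^ 2)⁻¹ = u * (u * k * u⁻¹) * u⁻¹ := by rw [sq]; group
        _ = u * k⁻¹ * u⁻¹ := by rw [h]
        _ = (u * k * u⁻¹)⁻¹ := by group
        _ = k := by rw [h, inv_inv]
    exact mul_inv_eq_iff_eq_mul.mp e
  have h2 := commute_of_sq hu h1
  apply eq_one_of_eq_inv hk
  rw [← h, h2.eq]; group

/-- Let G be a finite group and V a nontrivial elementary abelian 2-subgroup of G of order at most 4 such that, whenever an element of V inverts an element h of G of odd order, some nontrivial element of V commutes with h. Then V meets O₂(G) nontrivially. (The case of order at most 4 has a short argument from the Baer–Suzuki theorem.) -/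
theorem result {G : Type*} [Group G] [Finite G] (V : Subgroup G) (hV : Cfsg.IsElementaryAbelian 2 V) (hV1 : V ≠ ⊥) (hS : Cfsg.IsSidkiPair V) (h4 : Nat.card V ≤ 4) : V ⊓ Cfsg.pCore 2 G ≠ ⊥ := by
  intro hbot
  have hnot : ∀ v ∈ V, v ≠ 1 → ∃ h : G, h ≠ 1 ∧ Odd (orderOf h) ∧ v * h * v⁻¹ = h⁻¹ := by
    intro v hv hv1
    apply Cfsg.Agent.S0200.result v (orderOf_eq_prime (hV.2 v hv) hv1)
    intro N hN hN2 hvN
    have hle : N ≤ Cfsg.pCore 2 G := le_sSup ⟨hN, hN2⟩
    have : v ∈ V ⊓ Cfsg.pCore 2 G := ⟨hv, hle hvN⟩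
    rw [hbot, mem_bot] at this
    exact hv1 this
  obtain ⟨⟨a, ha⟩, ha1'⟩ := Subgroup.ne_bot_iff_exists_ne_one.mp hV1
  have ha1 : a ≠ 1 := fun h => ha1' (Subtype.ext h)
  obtain ⟨h, hh1, hho, hah⟩ := hnot a ha ha1
  obtain ⟨b, hb, hb1, hbh⟩ := hS h a ha hho hah
  obtain ⟨k, hk1, hko, hbk⟩ := hnot b hb hb1
  obtain ⟨w, hw, hw1, hwk⟩ := hS k b hb hko hbk
  classical
  have hasq : a * a = 1 := by rw [← sq]; exact hV.2 a ha
  have hbsq : b * b = 1 := by rw [← sq]; exact hV.2 b hb
  have hab : a ≠ b := by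
    rintro rfl
    apply hh1
    apply eq_one_of_eq_inv hho
    rw [← hah, hbh]; group
  have hwb : w ≠ b := by
    rintro rfl
    apply hk1
    apply eq_one_of_eq_inv hko
    rw [← hbk, hwk]; group
  have hVset : ∀ v ∈ V, v = 1 ∨ v = a ∨ v = b ∨ v = a * b := by
    have hT : ({1, a, b, a * b} : Finset G).card = 4 := by
      rw [Finset.card_insert_of_notMem, Finset.card_insert_of_notMem, Finset.card_insert_of_notMem,
        Finset.card_singleton]
      · simp only [Finset.mem_singleton]
        intro h1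
        apply ha1
        have : a * b = 1 * b := by rw [one_mul]; exact h1.symm
        exact mul_right_cancel this
      · simp only [Finset.mem_insert, Finset.mem_singleton, not_or]
        refine ⟨hab, ?_⟩
        intro h1
        apply hb1
        have : a * b = a * 1 := by rw [mul_one]; exact h1.symm
        exact mul_left_cancel this
      · simp only [Finset.mem_insert, Finset.mem_singleton, not_or]
        refine ⟨fun h => ha1 h.symm, fun h => hb1 h.symm, ?_⟩
        intro h1
        apply hab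
        have : a * b = b * b := by rw [hbsq]; exact h1.symm
        exact mul_right_cancel this
    have hsub : (({1, a, b, a * b} : Finset G) : Set G) ⊆ (V : Set G) := by
      intro x hx
      simp only [Finset.coe_insert, Finset.coe_singleton, Set.mem_insert_iff,
        Set.mem_singleton_iff] at hx
      rcases hx with rfl | rfl | rfl | rfl
      · exact V.one_mem
      · exact ha
      · exact hb
      · exact V.mul_mem ha hb
    have heq := Set.eq_of_subset_of_ncard_le hsub (by
      rw [Set.ncard_coe_finset, hT, ← Nat.card_coe_set_eq]; exact h4) (Set.toFinite _)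
    intro v hv
    have : v ∈ (({1, a, b, a * b} : Finset G) : Set G) := by rw [heq]; exact hv
    simpa using this
  -- `w` inverts `h`
  have W1 : MulAut.conj w h = h⁻¹ := by
    rcases hVset w hw with h1 | h1 | h1 | h1
    · exact absurd h1 hw1
    · rw [h1]; simpa using hah
    · exact absurd h1 hwb
    · rw [h1, map_mul, MulAut.mul_apply]
      have : MulAut.conj b h = h := by
        rw [MulAut.conj_apply, hbh]; group
      rw [this]; simpa using hah
  have hVset' : ∀ v ∈ V, v = 1 ∨ v = w ∨ v = b ∨ v = w * b := by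
    intro v hv
    rcases hVset w hw with h1 | h1 | h1 | h1
    · exact absurd h1 hw1
    · rw [h1]; exact hVset v hv
    · exact absurd h1 hwb
    · rcases hVset v hv with h2 | h2 | h2 | h2
      · exact Or.inl h2
      · right; right; right
        rw [h1, h2, mul_assoc, hbsq, mul_one]
      · exact Or.inr (Or.inr (Or.inl h2))
      · right; left; rw [h1, h2]
  have W2 : MulAut.conj w k = k := by rw [MulAut.conj_apply, hwk]; group
  have B1 : MulAut.conj b h = h := by rw [MulAut.conj_apply, hbh]; group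
  have B2 : MulAut.conj b k = k⁻¹ := by simpa using hbk
  have comm_iff : ∀ v x : G, v * x = x * v ↔ MulAut.conj v x = x := by
    intro v x
    rw [MulAut.conj_apply, mul_inv_eq_iff_eq_mul]
  have cwb : ∀ x : G, MulAut.conj (w * b) x = MulAut.conj w (MulAut.conj b x) := by
    intro x
    simp only [MulAut.conj_apply]; group
  set k' := h⁻¹ * k * h with hk'
  have hk'o : Odd (orderOf k') := by
    have : k' = MulAut.conj h⁻¹ k := by simp [hk']
    rw [this, MulEquiv.orderOf_eq]; exact hko
  have hk'1 : k' ≠ 1 := by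
    intro h1
    apply hk1
    have : k = h * k' * h⁻¹ := by rw [hk']; group
    rw [this, h1]; group
  have B3 : MulAut.conj b k' = k'⁻¹ := by
    rw [hk', map_mul, map_mul, map_inv, B1, B2]; group
  have W3 : MulAut.conj w k' = h * k * h⁻¹ := by
    rw [hk', map_mul, map_mul, map_inv, W1, W2, inv_inv]
  obtain ⟨w', hw', hw'1, hw'k⟩ := hS k' b hb hk'o (by simpa using B3)
  rw [comm_iff] at hw'k
  rcases hVset' w' hw' with h1 | h1 | h1 | h1
  · exact hw'1 h1
  · -- h and k commute
    rw [h1, W3] at hw'k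
    have hc2 : Commute (h ^ 2) k := by
      have : h ^ 2 * k = h * (h * k * h⁻¹) * h := by rw [sq]; group
      change h ^ 2 * k = k * h ^ 2
      rw [this, hw'k, hk', sq]; group
    have hc : Commute h k := commute_of_sq hho hc2
    have hxo : Odd (orderOf (h * k)) :=
      Odd.of_dvd_nat (hho.mul hko) hc.orderOf_mul_dvd_mul_orderOf
    have C1 : MulAut.conj (w * b) (h * k) = (h * k)⁻¹ := by
      rw [cwb, map_mul, map_mul, B1, B2, map_inv, W1, W2, mul_inv_rev,
        (hc.inv_inv).eq]
    obtain ⟨w'', hw'', hw''1, hw''k⟩ := hS (h * k) (w * b) (V.mul_mem hw hb) hxo (by rw [← MulAut.conj_apply]; exact C1)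
    rw [comm_iff] at hw''k
    rcases hVset' w'' hw'' with h2 | h2 | h2 | h2
    · exact hw''1 h2
    · rw [h2, map_mul, W1, W2] at hw''k
      exact hh1 (eq_one_of_eq_inv hho (mul_right_cancel hw''k).symm)
    · rw [h2, map_mul, B1, B2] at hw''k
      exact hk1 (eq_one_of_eq_inv hko (mul_left_cancel hw''k).symm)
    · rw [h2, C1] at hw''k
      have h3 : h * k = 1 := eq_one_of_eq_inv hxo hw''k.symm
      have h4 : k = h⁻¹ := eq_inv_of_mul_eq_one_right h3
      rw [h4, map_inv, W1, inv_inv] at W2
      exact hh1 (eq_one_of_eq_inv hho W2)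
  · rw [h1, B3] at hw'k
    exact hk'1 (eq_one_of_eq_inv hk'o hw'k.symm)
  · rw [h1, cwb, B3, map_inv, W3] at hw'k
    apply hk1
    apply eq_one_of_inverts (u := h ^ 2) (Odd.of_dvd_nat hho (orderOf_pow_dvd 2)) hko
    calc h ^ 2 * k * (h ^ 2)⁻¹ = (h * (h * k * h⁻¹)⁻¹ * h⁻¹)⁻¹ := by group
      _ = (h * k' * h⁻¹)⁻¹ := by rw [hw'k]
      _ = k⁻¹ := by rw [hk']; group

end Cfsg.Agent.S3011
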