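import Mathlib
import Cfsg.Statements.S3049
import Cfsg.Agent.H9.Iso4
import Cfsg.Agent.S1946

set_option autoImplicit false
open Cfsg
open scoped commutatorElement

namespace Cfsg.Agent.S3049

/-- Let G be a finite group and p an odd prime with O_{p'}(G) = 1. Suppose that G has p-rank at most 2 (no elementary abelian subgroup of order p³) and that some element x of order p is isolated in G (no G-conjugate of x other than x commutes with x) and not central. Then the generalized Fitting subgroup F*(G) is a non-abelian simple group. Since O_{p'}(G) = 1, such an x is not central modulo O_{p'}(G): the hypotheses describe a counterexample to the Z*_p statement in p-rank at most 2. -/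
theorem result {G : Type*} [Group G] [Finite G] {p : ℕ} [Fact p.Prime] (hp : p ≠ 2) (hcore : Cfsg.pPrimeCore p G = ⊥)
    (hrank : Cfsg.PRankLE p 2 G) (x : G) (hx : orderOf x = p) (hiso : Cfsg.IsIsolated x) (hnc : x ∉ Subgroup.center G) :
    IsSimpleGroup ↥(Cfsg.generalizedFittingSubgroup G) ∧ ¬ IsMulCommutative ↥(Cfsg.generalizedFittingSubgroup G) := by
  classical
  have hpp : p.Prime := Fact.out
  have hz : IsPGroup p (Subgroup.zpowers x) := by
    apply IsPGroup.of_card (n := 1)
    rw [Nat.card_zpowers, hx, pow_one]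
  obtain ⟨S, hS⟩ := hz.exists_le_sylow
  have hxS : x ∈ (S : Subgroup G) := hS (Subgroup.mem_zpowers x)
  have hxc : ∀ s ∈ (S : Subgroup G), s * x = x * s := fun s hs =>
    Cfsg.Agent.H17.isolated_comm_of_mem_pgroup hiso S.2 hxS s hs
  have hfit : fittingSubgroup G = pCore p G := Cfsg.H9.fitting_eq_pCore_of_pPrimeCore_eq_bot hcore
  have hOS : pCore p G ≤ (S : Subgroup G) :=
    (Cfsg.H9.pCore_isPGroup p (G := G)).le_sylow_of_normal S
  -- Claim 1
  have hex : ∃ L : Subgroup G, IsComponent L ∧ x ∉ Subgroup.centralizer (L : Set G) := by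
    by_contra hcon
    push Not at hcon
    apply hnc
    have h1 : generalizedFittingSubgroup G ≤ Subgroup.centralizer ({x} : Set G) := by
      apply sup_le
      · apply sSup_le
        intro L hL l hl
        have := hcon L hL
        rw [Subgroup.mem_centralizer_iff] at this
        rw [Subgroup.mem_centralizer_singleton_iff]
        exact this l hl
      · rw [hfit]
        intro y hy
        rw [Subgroup.mem_centralizer_singleton_iff]
        exact hxc y (hOS hy)
    have h2 : x ∈ generalizedFittingSubgroup G := by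
      apply Cfsg.H9.centralizer_genFitting_le
      rw [Subgroup.mem_centralizer_iff]
      intro y hy
      have := h1 hy
      rw [Subgroup.mem_centralizer_singleton_iff] at this
      exact this
    rw [Subgroup.mem_center_iff]
    intro g
    have hn : (generalizedFittingSubgroup G).Normal := inferInstance
    have h3 := h1 (hn.conj_mem x h2 g)
    rw [Subgroup.mem_centralizer_singleton_iff] at h3
    have h4 := hiso g h3.symm
    calc g * x = (g * x * g⁻¹) * g := by group
      _ = x * g := by rw [h4]
  obtain ⟨L, hL, hxL⟩ := hex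
  have hfin : ∀ K : Subgroup G, IsComponent K → ¬ (Nat.card K).Coprime p := by
    intro K hK hcop
    have := Cfsg.H9.subnormal_le_pPrimeCore p hK.1 hcop
    rw [hcore, le_bot_iff] at this
    exact Cfsg.H9.comp_ne_bot hK this
  obtain ⟨Q, hQ⟩ := Cfsg.Agent.S0542.result p L hL.1 S
  have hnp := Cfsg.H9.not_hasNormalPComplement_of_perfect (p := p) hL.2.1 (hfin L hL)
  rw [Cfsg.Agent.S1946.result Q] at hnp
  push Not at hnp
  obtain ⟨a, haQ, hap, g, hgQ, hne⟩ := hnp
  have hap' : a ^ p = 1 := by
    rcases hap with h | h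
    · exact h
    · exact absurd h.1 hp
  have hne1 : g * a * g⁻¹ ≠ a := by
    have := hne 1 (Subgroup.one_mem _)
    simpa using this
  rw [hQ, Subgroup.mem_subgroupOf] at haQ hgQ
  simp only [Subgroup.coe_mul, InvMemClass.coe_inv] at hgQ
  have hne2 : (g : G) * a * (g : G)⁻¹ ≠ a := by
    intro h
    apply hne1
    apply Subtype.ext
    simpa using h
  have ha1 : (a : G) ≠ 1 := by
    intro h
    apply hne2
    rw [h]; simp
  have hau : orderOf (a : G) = p := by
    apply orderOf_eq_prime _ ha1
    have := congrArg Subtype.val hap'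
    simpa using this
  -- main claim
  have hmain : (S : Subgroup G) ⊓ Subgroup.centralizer (L : Set G) = ⊥ := by
    by_contra hne3
    have hpg : IsPGroup p ↥((S : Subgroup G) ⊓ Subgroup.centralizer (L : Set G)) :=
      S.2.to_le inf_le_left
    have hdvd : p ∣ Nat.card ↥((S : Subgroup G) ⊓ Subgroup.centralizer (L : Set G)) := by
      obtain ⟨n, hn⟩ := hpg.exists_card_eq
      rw [hn]
      apply dvd_pow_self
      rintro rfl
      rw [pow_zero] at hn
      exact hne3 (Subgroup.card_eq_one.mp hn)
    obtain ⟨⟨d, hd⟩, hdo⟩ := exists_prime_orderOf_dvd_card' p hdvd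
    rw [Subgroup.orderOf_mk] at hdo
    have hdS := (Subgroup.mem_inf.mp hd).1
    have hdC := (Subgroup.mem_inf.mp hd).2
    rw [Subgroup.mem_centralizer_iff] at hdC
    have hzC : ∀ w ∈ Subgroup.zpowers d, ∀ l ∈ L, l * w = w * l := by
      intro w hw l hl
      obtain ⟨j, rfl⟩ := Subgroup.mem_zpowers_iff.mp hw
      exact ((show Commute l d from hdC l hl).zpow_right j).eq
    have hconj : ∀ w ∈ Subgroup.zpowers (a : G), w ≠ 1 → (g : G) * w * (g : G)⁻¹ ≠ w := by
      intro w hw hw1 h
      obtain ⟨j, hj⟩ := Subgroup.mem_zpowers_iff.mp (Cfsg.H9.mem_zpowers_of_prime hau hw hw1)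
      apply hne2
      rw [← hj, ← conj_zpow, h]
    have hdisj : Subgroup.zpowers (a : G) ⊓ Subgroup.zpowers d = ⊥ := by
      rw [eq_bot_iff]
      intro w hw
      rw [Subgroup.mem_bot]
      by_contra hw1
      apply hconj w (Subgroup.mem_inf.mp hw).1 hw1
      rw [hzC w (Subgroup.mem_inf.mp hw).2 g g.2]; group
    obtain ⟨a', ha', b, hb, hab⟩ := Cfsg.H9.mem_sup_zpowers_of_rank_two hrank hau hdo
      (by rw [← hx]; exact pow_orderOf_eq_one x) (hdC a a.2) (hxc a haQ) (hxc d hdS) hdisj
    have hgx : (g : G) * x * (g : G)⁻¹ = ((g : G) * a' * (g : G)⁻¹) * b := by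
      rw [← hab]
      calc (g : G) * (a' * b) * (g : G)⁻¹ = (g : G) * a' * ((g : G)⁻¹ * ((g : G) * b)) * (g : G)⁻¹ := by
            group
        _ = (g : G) * a' * ((g : G)⁻¹ * (b * (g : G))) * (g : G)⁻¹ := by rw [hzC b hb g g.2]
        _ = _ := by
          have := hzC b hb (g : G)⁻¹ (L.inv_mem g.2)
          calc (g : G) * a' * ((g : G)⁻¹ * (b * (g : G))) * (g : G)⁻¹
              = (g : G) * a' * (((g : G)⁻¹ * b) * (g : G)) * (g : G)⁻¹ := by group
            _ = (g : G) * a' * ((b * (g : G)⁻¹) * (g : G)) * (g : G)⁻¹ := by rw [this]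
            _ = (g : G) * a' * (b * (g : G)⁻¹) := by group
            _ = (g : G) * a' * ((g : G)⁻¹ * b) := by rw [this]
            _ = _ := by group
    have hgS : (g : G) * x * (g : G)⁻¹ ∈ (S : Subgroup G) := by
      rw [hgx]
      apply Subgroup.mul_mem
      · obtain ⟨j, rfl⟩ := Subgroup.mem_zpowers_iff.mp ha'
        rw [← conj_zpow]
        exact Subgroup.zpow_mem _ hgQ j
      · exact (Subgroup.zpowers_le.mpr hdS) hb
    have hgx2 := hiso g (hxc _ hgS).symm
    have ha'1 : a' = 1 := by
      by_contra h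
      apply hconj a' ha' h
      have : (g : G) * a' * (g : G)⁻¹ * b = a' * b := by rw [← hgx, hgx2, hab]
      exact mul_right_cancel this
    apply hxL
    rw [Subgroup.mem_centralizer_iff]
    intro l hl
    rw [← hab, ha'1, one_mul]
    exact hzC b hb l hl
  have hlf := Cfsg.H9.layer_comm_fitting (G := G)
  rw [Cfsg.H9.comm_iff] at hlf
  have hOp : fittingSubgroup G = ⊥ := by
    rw [eq_bot_iff, ← hmain]
    intro y hy
    refine Subgroup.mem_inf.mpr ⟨hOS (hfit ▸ hy), ?_⟩
    rw [Subgroup.mem_centralizer_iff]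
    intro l hl
    exact hlf l (Cfsg.H9.component_le_layer hL hl) y hy
  have huniq : ∀ K : Subgroup G, IsComponent K → K = L := by
    intro K hK
    rcases Cfsg.H9.component_eq_or_comm hK hL with h | h
    · exact h
    exfalso
    rw [Cfsg.H9.comm_iff] at h
    obtain ⟨QK, hQK⟩ := Cfsg.Agent.S0542.result p K hK.1 S
    apply hfin K hK
    have hb : (QK : Subgroup ↥K) = ⊥ := by
      rw [hQK, eq_bot_iff]
      intro y hy
      rw [Subgroup.mem_subgroupOf] at hy
      rw [Subgroup.mem_bot]
      apply Subtype.ext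
      have : (y : G) ∈ (S : Subgroup G) ⊓ Subgroup.centralizer (L : Set G) := by
        refine Subgroup.mem_inf.mpr ⟨hy, ?_⟩
        rw [Subgroup.mem_centralizer_iff]
        intro l hl
        exact (h y y.2 l hl).symm
      rw [hmain, Subgroup.mem_bot] at this
      exact this
    have h4 := QK.not_dvd_index
    rw [hb, Subgroup.index_bot] at h4
    exact ((Nat.Prime.coprime_iff_not_dvd hpp).mpr h4).symm
  have hlay : layer G = L := by
    apply le_antisymm
    · apply sSup_le
      intro K hK
      rw [huniq K hK]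
    · exact Cfsg.H9.component_le_layer hL
  have hFs : generalizedFittingSubgroup G = L := by
    unfold generalizedFittingSubgroup
    rw [hlay, hOp, sup_bot_eq]
  have hcL : Subgroup.center ↥L = ⊥ := by
    have hsn : ((Subgroup.center ↥L).map L.subtype).IsSubnormal :=
      (inferInstance : (Subgroup.center ↥L).Normal).isSubnormal.trans' hL.1
    have hnil : Group.IsNilpotent ↥((Subgroup.center ↥L).map L.subtype) := by
      apply Cfsg.H9.isNilpotent_of_comm
      rintro ⟨_, y, hy, rfl⟩ ⟨_, w, hw, rfl⟩
      apply Subtype.ext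
      have hy' := Subgroup.mem_center_iff.mp (show y ∈ Subgroup.center ↥L from hy)
      exact congrArg (fun t : ↥L => (t : G)) (hy' w).symm
    have := Cfsg.H9.subnormal_le_fitting hsn hnil
    rw [hOp, le_bot_iff, Subgroup.map_eq_bot_iff_of_injective _ (Subgroup.subtype_injective _)]
      at this
    exact this
  rw [hFs]
  refine ⟨?_, ?_⟩
  · haveI := hL.2.2
    exact ((QuotientGroup.quotientMulEquivOfEq hcL).trans QuotientGroup.quotientBot).symm.isSimpleGroup
  · intro hab
    have h2 : ⁅L, L⁆ = ⊥ := by
      rw [Cfsg.H9.comm_iff]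
      intro a ha b hb
      exact congrArg Subtype.val (hab.is_comm.comm ⟨a, ha⟩ ⟨b, hb⟩)
    rw [Cfsg.H9.comp_perfect hL] at h2
    exact Cfsg.H9.comp_ne_bot hL h2

end Cfsg.Agent.S3049
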