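import Cfsg.Statements.S3060
import Cfsg.Agent.H17.DStar2
import Cfsg.Agent.H12.Cores
import Cfsg.Agent.Lib.Helper16.Basic

set_option autoImplicit false
open Cfsg

namespace Cfsg.Agent.S3060

open Subgroup Cfsg.Agent.H17 Cfsg.Agent.Lib.Helper16
open scoped commutatorElement

/-- The D*-Theorem. For a finite p-group S let D*(S) be the subgroup generated by the abelian subgroups A of S such that every x ∈ S with ⟨A, x⟩ of nilpotency class at most two centralizes A. Let p be an odd prime and H a finite p-stable group with Sylow p-subgroup S. Here H is p-stable in the following sense: the largest normal p-subgroup O_p(H) contains its centralizer in H, and for every normal p-subgroup P of H, every element acting quadratically on P has image in O_p(H/C_H(P)). Then D*(S) is a normal subgroup of H. -/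
theorem result {G : Type*} [Group G] [Finite G] {p : ℕ} [Fact p.Prime] (hp : p ≠ 2)
    (hc : Subgroup.centralizer (Cfsg.pCore p G : Set G) ≤ Cfsg.pCore p G)
    (hst : ∀ (P : Subgroup G) [P.Normal], IsPGroup p P → Cfsg.IsPStableOn p P) (S : Sylow p G) :
    (Cfsg.dStarOf (S : Subgroup G)).Normal := by
  set P : Subgroup G := (S : Subgroup G) with hP
  have hPp : IsPGroup p P := S.2
  set D := Cfsg.dStarOf P with hD
  set Q := Cfsg.pCore p G with hQ
  have hQn : Q.Normal := by
    have := Cfsg.Agent.H12.pCore_characteristic p G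
    exact normal_of_characteristic _
  have hQp : IsPGroup p Q := Cfsg.Agent.H12.pCore_isPGroup p G
  have hQP : Q ≤ P := Cfsg.Agent.H12.pCore_le_sylow S
  have hDP : D ≤ P := dStarOf_le P
  have hDc : D ≤ centralizer (D : Set G) := dStarOf_abelian hPp
  have hPD : P ≤ normalizer (D : Set G) := le_normalizer_dStarOf P
  have hDQ : D ≤ Q := by
    intro d hd
    have hquad : ⁅⁅Q, zpowers d⁆, zpowers d⁆ = ⊥ := by
      have hz : zpowers d ≤ D := by rwa [zpowers_le]
      have h1 : ⁅Q, zpowers d⁆ ≤ D :=
        (commutator_mono hQP hz).trans (le_normalizer_iff_commutator_le_right.mp hPD)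
      rw [eq_bot_iff]
      refine (commutator_mono h1 hz).trans ?_
      rw [le_bot_iff, commutator_eq_bot_iff_le_centralizer]; exact hDc
    have h2 := hst Q hQp d hquad
    set C := centralizer (Q : Set G) with hC
    set K := (Cfsg.pCore p (G ⧸ C)).comap (QuotientGroup.mk' C) with hK
    have hKn : K.Normal := by
      have := Cfsg.Agent.H12.pCore_characteristic p (G ⧸ C)
      have : (Cfsg.pCore p (G ⧸ C)).Normal := normal_of_characteristic _
      exact Normal.comap this _
    have hKp : IsPGroup p K := by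
      intro k
      obtain ⟨a, ha⟩ := (Cfsg.Agent.H12.pCore_isPGroup p (G ⧸ C)) ⟨QuotientGroup.mk' C k.1, k.2⟩
      have h3 : (k.1) ^ (p ^ a) ∈ C := by
        apply (QuotientGroup.eq_one_iff _).mp
        have := congrArg Subtype.val ha
        simpa using this
      obtain ⟨b, hb⟩ := hQp ⟨_, hc h3⟩
      refine ⟨a + b, ?_⟩
      apply Subtype.ext
      have := congrArg Subtype.val hb
      simp only [SubmonoidClass.mk_pow, OneMemClass.coe_one] at this
      simp only [SubmonoidClass.coe_pow, OneMemClass.coe_one]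
      rw [pow_add, pow_mul]; exact this
    exact (Cfsg.Agent.H12.le_pCore hKn hKp) h2
  have hcj : ∀ g : G, D.map (MulAut.conj g).toMonoidHom ≤ centralizer (D : Set G) := by
    intro g
    apply dStarOf_centralizes hPp
    · exact ((map_mono hDQ).trans (Normal.map_conj_eq Q g).le).trans hQP
    · rw [centralizer_cj]; exact map_mono hDc
    · rw [normalizer_cj]
      calc D ≤ Q := hDQ
        _ = Q.map (MulAut.conj g).toMonoidHom := (Normal.map_conj_eq Q g).symm
        _ ≤ (normalizer (D : Set G)).map (MulAut.conj g).toMonoidHom := map_mono (hQP.trans hPD)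
  set N := ⨆ g : G, D.map (MulAut.conj g).toMonoidHom with hN
  have hcj2 : ∀ g h : G, D.map (MulAut.conj h).toMonoidHom ≤
      centralizer ((D.map (MulAut.conj g).toMonoidHom : Subgroup G) : Set G) := by
    intro g h
    rw [centralizer_cj]
    have := map_mono (f := (MulAut.conj g).toMonoidHom) (hcj (g⁻¹ * h))
    rwa [cj_cj, mul_inv_cancel_left] at this
  have hNc : N ≤ centralizer (N : Set G) := by
    apply iSup_le
    intro h
    rw [le_centralizer_iff]
    apply iSup_le
    intro g
    exact hcj2 h g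
  have hNn : N.Normal := by
    constructor
    intro n hn x
    have : N.map (MulAut.conj x).toMonoidHom ≤ N := by
      rw [Subgroup.map_iSup]
      apply iSup_le
      intro g
      rw [cj_cj]
      exact le_iSup (fun g : G => D.map (MulAut.conj g).toMonoidHom) (x * g)
    exact this ⟨n, hn, rfl⟩
  have hNQ : N ≤ Q := iSup_le (fun g => (map_mono hDQ).trans (Normal.map_conj_eq Q g).le)
  have hDN : D ≤ N := by
    have := le_iSup (fun g : G => D.map (MulAut.conj g).toMonoidHom) 1
    simp only [cj_one] at this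
    exact this
  have hND : N ≤ D := by
    apply le_dStarOf (hNQ.trans hQP) hNc
    intro x hx hcl
    have hquad : ⁅⁅N, zpowers x⁆, zpowers x⁆ = ⊥ := by
      rw [eq_bot_iff, ← hcl]
      exact commutator_mono (commutator_mono le_sup_left le_sup_right) le_sup_right
    have hxR := hst N (hQp.to_le hNQ) x hquad
    have hq : ∀ n ∈ N, ⁅n, x⁆ * x = x * ⁅n, x⁆ := by
      intro n hn
      have h1 : ⁅n, x⁆ ∈ ⁅N, zpowers x⁆ := commutator_mem_commutator hn (mem_zpowers x)
      have h2 : ⁅⁅n, x⁆, x⁆ ∈ ⁅⁅N, zpowers x⁆, zpowers x⁆ :=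
        commutator_mem_commutator h1 (mem_zpowers x)
      rw [hquad, mem_bot, commutatorElement_eq_one_iff_mul_comm] at h2
      exact h2
    suffices hsuff : ∀ g : G, g⁻¹ * x * g ∈ centralizer (D : Set G) by
      have h1 : N ≤ centralizer ((zpowers x : Subgroup G) : Set G) := by
        apply iSup_le
        intro g
        rw [le_centralizer_iff, zpowers_le, mem_centralizer_iff]
        rintro _ ⟨d, hd, rfl⟩
        have h2 := (mem_centralizer_iff.mp (hsuff g)) d hd
        have h3 : g * (d * (g⁻¹ * x * g)) * g⁻¹ = g * (g⁻¹ * x * g * d) * g⁻¹ := by rw [h2]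
        simpa [mul_assoc] using h3
      rw [le_centralizer_iff, zpowers_le] at h1
      exact h1
    intro g
    set y := g⁻¹ * x * g with hy
    set C := centralizer (N : Set G) with hC
    have hRn : (Cfsg.pCore p (G ⧸ C)).Normal := by
      have := Cfsg.Agent.H12.pCore_characteristic p (G ⧸ C)
      exact normal_of_characteristic _
    have hyR : (QuotientGroup.mk' C y) ∈ Cfsg.pCore p (G ⧸ C) := by
      have := hRn.conj_mem _ hxR (QuotientGroup.mk' C g)⁻¹
      rw [inv_inv] at this
      rw [hy, map_mul, map_mul, map_inv]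
      exact this
    have hyP : (QuotientGroup.mk' C y) ∈ P.map (QuotientGroup.mk' C) :=
      Cfsg.Agent.H12.pCore_le_sylow (S.mapSurjective (QuotientGroup.mk'_surjective C)) hyR
    obtain ⟨y', hy'P, hy'⟩ := hyP
    have hcC : y'⁻¹ * y ∈ C := QuotientGroup.eq.mp hy'
    have hact : ∀ n ∈ N, y' * n * y'⁻¹ = y * n * y⁻¹ := by
      intro n hn
      have h1 := (mem_centralizer_iff.mp hcC) n hn
      have h2 : y * n * y⁻¹ = y' * ((y'⁻¹ * y) * n) * y⁻¹ := by group
      rw [h2, ← h1]; group
    have hcomm_eq : ∀ n ∈ N, ⁅n, y'⁆ = ⁅n, y⁆ := by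
      intro n hn
      rw [commutatorElement_def, commutatorElement_def]
      have h1 := hact n⁻¹ (N.inv_mem hn)
      calc n * y' * n⁻¹ * y'⁻¹ = n * (y' * n⁻¹ * y'⁻¹) := by group
        _ = n * (y * n⁻¹ * y⁻¹) := by rw [h1]
        _ = n * y * n⁻¹ * y⁻¹ := by group
    have hcommN : ∀ n ∈ N, ⁅n, y⁆ ∈ N := by
      intro n hn
      rw [commutatorElement_def]
      have : n * y * n⁻¹ * y⁻¹ = n * (y * n⁻¹ * y⁻¹) := by group
      rw [this]
      exact N.mul_mem hn (hNn.conj_mem _ (N.inv_mem hn) y)
    have hqy : ∀ n ∈ N, y * ⁅n, y⁆ * y⁻¹ = ⁅n, y⁆ := by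
      intro n hn
      have h1 := hq (g * n * g⁻¹) (hNn.conj_mem n hn g)
      have h2 : ⁅n, y⁆ = g⁻¹ * ⁅g * n * g⁻¹, x⁆ * g := by
        rw [hy, commutatorElement_def, commutatorElement_def]; group
      rw [h2, hy]
      calc g⁻¹ * x * g * (g⁻¹ * ⁅g * n * g⁻¹, x⁆ * g) * (g⁻¹ * x * g)⁻¹
          = g⁻¹ * (x * ⁅g * n * g⁻¹, x⁆) * x⁻¹ * g := by group
        _ = g⁻¹ * (⁅g * n * g⁻¹, x⁆ * x) * x⁻¹ * g := by rw [h1]
        _ = g⁻¹ * ⁅g * n * g⁻¹, x⁆ * g := by group
    have hy'C : y' ∈ centralizer (D : Set G) := by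
      apply dStarOf_prop hPp hy'P
      apply cl2_of_central_commutators hDc (N ⊓ centralizer ({y'} : Set G))
      · exact inf_le_left.trans (hNc.trans (centralizer_le hDN))
      · intro w hw
        exact ((mem_centralizer_iff.mp hw.2) y' rfl).symm
      · intro d hd
        have hdN := hDN hd
        rw [hcomm_eq d hdN]
        refine Subgroup.mem_inf.mpr ⟨hcommN d hdN, ?_⟩
        rw [mem_centralizer_iff]
        intro w hw
        rw [Set.mem_singleton_iff] at hw
        rw [hw]
        have h1 := hact _ (hcommN d hdN)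
        rw [hqy d hdN] at h1
        exact mul_inv_eq_iff_eq_mul.mp h1
    have : y = y' * (y'⁻¹ * y) := by group
    rw [this]
    exact mul_mem hy'C ((centralizer_le hDN) hcC)
  have : D = N := le_antisymm hDN hND
  rw [this]; exact hNn

end Cfsg.Agent.S3060
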