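import Cfsg.Statements.S3195
import Mathlib
import Cfsg.Agent.S3011

set_option autoImplicit false
open Cfsg

namespace Cfsg.Agent.S3195

/-- Let A be a Klein four-subgroup of a finite group G. If every G-conjugate of every involution of A commutes with some involution of A (its centralizer meets A nontrivially), then A meets the largest normal 2-subgroup O₂(G) nontrivially. -/
theorem result {G : Type*} [Group G] [Finite G]
    (A : Subgroup G) (hA : IsKleinFour ↥A)
    (h : ∀ a ∈ A, a ≠ 1 → ∀ g : G, A ⊓ Subgroup.centralizer ({g * a * g⁻¹} : Set G) ≠ ⊥) :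
    A ⊓ Cfsg.pCore 2 G ≠ ⊥ := by
  have hexp : Monoid.exponent ↥A = 2 := hA.exponent_two
  have hcard : Nat.card ↥A = 4 := hA.card_four
  have hcomm : ∀ x ∈ A, ∀ y ∈ A, x * y = y * x := by
    intro x hx y hy
    have := mul_comm_of_exponent_two hexp (⟨x, hx⟩ : ↥A) ⟨y, hy⟩
    exact congrArg Subtype.val this
  have hEA : Cfsg.IsElementaryAbelian 2 A := by
    refine ⟨⟨⟨fun a b => mul_comm_of_exponent_two hexp a b⟩⟩, ?_⟩
    intro a ha
    have := Monoid.pow_exponent_eq_one (⟨a, ha⟩ : ↥A)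
    rw [hexp] at this
    exact congrArg Subtype.val this
  have hne : A ≠ ⊥ := by
    intro h0
    rw [h0, Subgroup.card_bot] at hcard
    omega
  refine Cfsg.Agent.S3011.result A hEA hne ?_ (le_of_eq hcard)
  intro k v hv hodd hinv
  by_cases hv1 : v = 1
  · subst hv1
    have hk : k = 1 := by
      apply Cfsg.Agent.S3011.eq_one_of_eq_inv hodd
      simpa using hinv
    obtain ⟨⟨w, hw⟩, hw1⟩ := Subgroup.ne_bot_iff_exists_ne_one.mp hne
    exact ⟨w, hw, fun h0 => hw1 (Subtype.ext h0), by rw [hk]; simp⟩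
  · obtain ⟨m, hm⟩ := hodd
    set u := k ^ (m + 1) with hu
    have hu2 : u * u = k := by
      rw [hu, ← pow_add]
      have : m + 1 + (m + 1) = orderOf k + 1 := by omega
      rw [this, pow_succ, pow_orderOf_eq_one, one_mul]
    have hvu : v * u * v⁻¹ = u⁻¹ := by
      have : v * k ^ (m + 1) * v⁻¹ = (v * k * v⁻¹) ^ (m + 1) := (conj_pow).symm
      rw [hu, this, hinv, inv_pow]
    have hconj : u⁻¹ * v * u⁻¹⁻¹ = k⁻¹ * v := by
      calc u⁻¹ * v * u⁻¹⁻¹ = u⁻¹ * (v * u * v⁻¹) * v := by group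
        _ = u⁻¹ * u⁻¹ * v := by rw [hvu]
        _ = (u * u)⁻¹ * v := by group
        _ = k⁻¹ * v := by rw [hu2]
    have h1 := h v hv hv1 u⁻¹
    rw [hconj] at h1
    obtain ⟨⟨w, hw⟩, hw1⟩ := Subgroup.ne_bot_iff_exists_ne_one.mp h1
    have hwA : w ∈ A := hw.1
    have hwc : w * (k⁻¹ * v) = (k⁻¹ * v) * w := by
      have h5 : w ∈ Subgroup.centralizer ({k⁻¹ * v} : Set G) := hw.2
      rw [Subgroup.mem_centralizer_singleton_iff] at h5
      exact h5
    refine ⟨w, hwA, fun h0 => hw1 (Subtype.ext h0), ?_⟩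
    have hwv : w * v = v * w := hcomm w hwA v hv
    have h2 : w * k⁻¹ = k⁻¹ * w := by
      have e1 : w * k⁻¹ = w * (k⁻¹ * v) * v⁻¹ := by group
      have e2 : k⁻¹ * w = k⁻¹ * (v * w) * v⁻¹ := by
        rw [← hwv]; group
      rw [e1, hwc, e2]; group
    have h3 : Commute w k⁻¹ := h2
    exact (Commute.inv_right_iff.mp h3).eq

end Cfsg.Agent.S3195
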