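import Cfsg.Statements.S3246
import Cfsg.Agent.S1957
import Cfsg.Agent.S1292
import Cfsg.Agent.H9.NFour
import Cfsg.Agent.H9.CharP
import Cfsg.Agent.H9.PConstr
import Cfsg.Agent.H9.Local2
import Cfsg.Agent.H17.CharPBridge
import Cfsg.Agent.H14.Klein
import Cfsg.Agent.Lib.Helper8.Klein
import Cfsg.Agent.Lib.Helper13.NonCyclic

set_option autoImplicit false
open Cfsg

namespace Cfsg.Agent.S3246


open Subgroup Cfsg.Agent.H12 Cfsg.Agent.H6 Cfsg.Agent.S1957

set_option maxHeartbeats 1000000 in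
theorem four_centralizes {G : Type*} [Group G] [Finite G]
    (h2 : ∀ T : Subgroup G, IsPGroup 2 T → T ≠ ⊥ →
      Cfsg.IsOfCharacteristicTwo ↥(Subgroup.normalizer (T : Set G)))
    (P : Sylow 2 G) (U : Subgroup G) (hUP : U ≤ (P : Subgroup G))
    (hUn : (P : Subgroup G) ≤ Subgroup.normalizer (U : Set G))
    (hU4 : IsKleinFour ↥U)
    (hUZ : ¬ IsCyclic ↥((P : Subgroup G) ⊓ Subgroup.centralizer ((P : Subgroup G) : Set G)) →
      U ≤ Subgroup.centralizer ((P : Subgroup G) : Set G))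
    (K : Subgroup G) (hK : Odd (Nat.card K)) (hUK : U ≤ Subgroup.normalizer (K : Set G)) :
    U ≤ Subgroup.centralizer (K : Set G) := by
  classical
  haveI := hU4
  have hcopK : (Nat.card K).Coprime 2 := Nat.Coprime.symm (Nat.coprime_two_left.mpr hK)
  have key : ∀ u ∈ U, u ≠ 1 → K ⊓ centralizer {u} ≤ centralizer (U : Set G) := by
    intro u huU hu1
    have huu : u * u = 1 := KleinAct.mul_self_of_mem huU
    obtain ⟨H, hHdef⟩ : ∃ H : Subgroup G, H = normalizer (zpowers u : Set G) := ⟨_, rfl⟩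
    have hcommH : ∀ h : G, h * u = u * h → h ∈ H := by
      intro h hh
      rw [hHdef, mem_normalizer_iff]
      have hcomm : ∀ v ∈ zpowers u, h * v * h⁻¹ = v := by
        intro v hv
        obtain ⟨k, rfl⟩ := mem_zpowers_iff.mp hv
        have h2 : Commute h (u ^ k) := (show Commute h u from hh).zpow_right k
        rw [h2.eq]; group
      intro x
      constructor
      · intro hx; rw [hcomm x hx]; exact hx
      · intro hx
        have h1 := hcomm _ hx
        have h4 : h⁻¹ * (h * (h * x * h⁻¹) * h⁻¹) * h = h * x * h⁻¹ := by group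
        have h5 : h⁻¹ * (h * x * h⁻¹) * h = x := by group
        rw [h1, h5] at h4
        rw [h4]; exact hx
    have hHc : ∀ h ∈ H, h * u = u * h := by
      intro h hh
      rw [hHdef] at hh
      have hmem : h * u * h⁻¹ ∈ zpowers u := (mem_normalizer_iff.mp hh u).mp (mem_zpowers u)
      obtain ⟨k, hk⟩ := mem_zpowers_iff.mp hmem
      have hu2 : u ^ (2 : ℤ) = 1 := by
        rw [zpow_two]; exact huu
      rcases Int.even_or_odd' k with ⟨m, hm | hm⟩
      · exfalso
        rw [hm, zpow_mul, hu2, one_zpow] at hk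
        apply hu1
        have e : u = h⁻¹ * (h * u * h⁻¹) * h := by group
        rw [e, ← hk]; group
      · rw [hm, zpow_add, zpow_mul, hu2, one_zpow, one_mul, zpow_one] at hk
        rw [eq_mul_inv_iff_mul_eq] at hk
        exact hk.symm
    have hZp : IsPGroup 2 (zpowers u) := by
      refine P.2.to_le ?_
      rw [zpowers_le]; exact hUP huU
    have hZ1 : zpowers u ≠ ⊥ := by
      intro h; rw [zpowers_eq_bot] at h; exact hu1 h
    have hchar0 := h2 (zpowers u) hZp hZ1
    rw [← hHdef] at hchar0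
    have hchar : centralizer (pCore 2 ↥H : Set ↥H) ≤ pCore 2 ↥H := hchar0
    obtain ⟨Q, hQdef⟩ : ∃ Q : Subgroup G, Q = (pCore 2 ↥H).map H.subtype := ⟨_, rfl⟩
    have hQ : IsPGroup 2 Q := by rw [hQdef]; exact (pCore_isPGroup 2 ↥H).map _
    have hQnorm : ∀ h ∈ H, ∀ q ∈ Q, h * q * h⁻¹ ∈ Q := by
      intro h hh q hq
      rw [hQdef] at hq ⊢
      obtain ⟨q', hq', rfl⟩ := hq
      have hn : (pCore 2 ↥H).Normal := by
        haveI := pCore_characteristic 2 ↥H
        infer_instance
      exact ⟨⟨h, hh⟩ * q' * ⟨h, hh⟩⁻¹, hn.conj_mem q' hq' ⟨h, hh⟩, rfl⟩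
    have hHQ : H ≤ normalizer (Q : Set G) := by
      intro h hh
      rw [mem_normalizer_iff]
      intro q
      constructor
      · exact hQnorm h hh q
      · intro hq
        have := hQnorm h⁻¹ (H.inv_mem hh) _ hq
        have e : h⁻¹ * (h * q * h⁻¹) * h⁻¹⁻¹ = q := by group
        rwa [e] at this
    have hP0H : (P : Subgroup G) ⊓ centralizer (U : Set G) ≤ H := by
      intro x hx
      apply hcommH
      exact (mem_centralizer_iff.mp hx.2 u huU).symm
    have hNU := core_normalizes P U hUP hUn hUZ Q hQ (hP0H.trans hHQ)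
    have hUcomm : ∀ a ∈ U, ∀ b ∈ U, a * b = b * a := by
      intro a ha b hb
      have := (IsKleinFour.isMulCommutative (G := U)).is_comm.comm ⟨a, ha⟩ ⟨b, hb⟩
      exact congrArg Subtype.val this
    have hUH : U ≤ H := fun v hv => hcommH v (hUcomm v hv u huU)
    have hUQ : ∀ v (hv : v ∈ U), (⟨v, hUH hv⟩ : ↥H) ∈ pCore 2 ↥H := by
      intro v hv
      apply chain hchar ⟨u, hUH huU⟩ (Subtype.ext huu) (fun h => Subtype.ext (hHc h h.2))
      intro q hq
      have hqQ : (q : G) ∈ Q := by rw [hQdef]; exact ⟨q, hq, rfl⟩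
      have h1 : (q : G) * v * (q : G)⁻¹ ∈ U := hNU q hqQ v hv
      have hqu : (q : G) * u = u * (q : G) := hHc q q.2
      have h2 : (q : G) * v * (q : G)⁻¹ = v ∨ (q : G) * v * (q : G)⁻¹ = u * v := by
        by_cases hv1 : v = 1
        · left; rw [hv1]; group
        by_cases hvu : u = v
        · left; rw [← hvu, hqu]; group
        have e : v = (q : G)⁻¹ * ((q : G) * v * (q : G)⁻¹) * (q : G) := by group
        rcases KleinAct.cases_of_mem huU hv h1 hu1 hv1 hvu with h | h | h | h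
        · exfalso; apply hv1; rw [e, h]; group
        · exfalso; apply hvu; rw [e, h, mul_assoc, ← hqu]; group
        · left; exact h
        · right; exact h
      rcases h2 with h | h
      · left
        apply Subtype.ext
        change v * (q : G) * v⁻¹ = (q : G)
        rw [mul_inv_eq_iff_eq_mul] at h
        rw [← h]; group
      · right
        apply Subtype.ext
        change v * (q : G) * v⁻¹ = u * (q : G)
        rw [mul_inv_eq_iff_eq_mul] at h
        calc v * (q : G) * v⁻¹ = (u * (u * v * (q : G))) * v⁻¹ := by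
              rw [← mul_assoc, ← mul_assoc, huu, one_mul]
          _ = (u * ((q : G) * v)) * v⁻¹ := by rw [← h]
          _ = u * (q : G) := by group
    intro d hd
    have hdK : d ∈ K := hd.1
    have hdu : d * u = u * d := by
      have := mem_centralizer_iff.mp hd.2 u (Set.mem_singleton u)
      exact this.symm
    have hdH : d ∈ H := hcommH d hdu
    rw [mem_centralizer_iff]
    intro v hv
    have hvQ : v ∈ Q := by rw [hQdef]; exact ⟨⟨v, hUH hv⟩, hUQ v hv, rfl⟩
    have hc1 : d * v * d⁻¹ * v⁻¹ ∈ Q := Q.mul_mem (hQnorm d hdH v hvQ) (Q.inv_mem hvQ)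
    have hc2 : d * v * d⁻¹ * v⁻¹ ∈ K := by
      have h1 : v * d⁻¹ * v⁻¹ ∈ K := (mem_normalizer_iff.mp (hUK hv) d⁻¹).mp (K.inv_mem hdK)
      have e : d * v * d⁻¹ * v⁻¹ = d * (v * d⁻¹ * v⁻¹) := by group
      rw [e]; exact K.mul_mem hdK h1
    have hbot : Q ⊓ K = ⊥ := inf_eq_bot_of_pGroup_of_coprime hQ hcopK
    have hc3 : d * v * d⁻¹ * v⁻¹ = 1 := by
      have : d * v * d⁻¹ * v⁻¹ ∈ Q ⊓ K := ⟨hc1, hc2⟩
      rw [hbot, mem_bot] at this
      exact this
    rw [mul_inv_eq_one, mul_inv_eq_iff_eq_mul] at hc3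
    exact hc3.symm
  haveI : IsMulCommutative U := IsKleinFour.isMulCommutative
  have hcop : (Nat.card U).Coprime (Nat.card K) := by
    rw [IsKleinFour.card_four]
    have : (2 ^ 2).Coprime (Nat.card K) := Nat.Coprime.pow_left 2 hcopK.symm
    exact this
  have hgen := Cfsg.Agent.S0058.result U K IsKleinFour.not_isCyclic hUK hcop
  have hKU : K ≤ centralizer (U : Set G) := by
    rw [← hgen]
    apply iSup₂_le
    intro a ha
    exact key a ha.1 ha.2
  exact le_centralizer_iff.mp hKU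


theorem mem_normalizer_zpowers {G : Type*} [Group G] {u h : G} (hh : h * u = u * h) :
    h ∈ normalizer (zpowers u : Set G) := by
  rw [mem_normalizer_iff]
  have hcomm : ∀ v ∈ zpowers u, h * v * h⁻¹ = v := by
    intro v hv
    obtain ⟨k, rfl⟩ := mem_zpowers_iff.mp hv
    have h2 : Commute h (u ^ k) := (show Commute h u from hh).zpow_right k
    rw [h2.eq]; group
  intro x
  constructor
  · intro hx; rw [hcomm x hx]; exact hx
  · intro hx
    have h1 := hcomm _ hx
    have h4 : h⁻¹ * (h * (h * x * h⁻¹) * h⁻¹) * h = h * x * h⁻¹ := by group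
    have h5 : h⁻¹ * (h * x * h⁻¹) * h = x := by group
    rw [h1, h5] at h4
    rw [h4]; exact hx

theorem no_invariant {G : Type*} [Group G] [Finite G]
    (h2 : ∀ T : Subgroup G, IsPGroup 2 T → T ≠ ⊥ →
      Cfsg.IsOfCharacteristicTwo ↥(Subgroup.normalizer (T : Set G)))
    (S : Sylow 2 G) (z : G) (hz1 : z ≠ 1) (hzS : z ∈ (S : Subgroup G))
    (hzc : ∀ x ∈ (S : Subgroup G), x * z = z * x) (X : Subgroup G) (hX : Odd (Nat.card X))
    (hSX : (S : Subgroup G) ≤ normalizer (X : Set G)) (hXz : ∀ x ∈ X, x * z = z * x) : X = ⊥ := by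
  classical
  have hcopX : (Nat.card X).Coprime 2 := Nat.Coprime.symm (Nat.coprime_two_left.mpr hX)
  obtain ⟨H, hHdef⟩ : ∃ H : Subgroup G, H = normalizer (zpowers z : Set G) := ⟨_, rfl⟩
  have hZp : IsPGroup 2 (zpowers z) := by
    refine S.2.to_le ?_
    rw [zpowers_le]; exact hzS
  have hZ1 : zpowers z ≠ ⊥ := by
    intro h; rw [zpowers_eq_bot] at h; exact hz1 h
  have hchar0 := h2 (zpowers z) hZp hZ1
  rw [← hHdef] at hchar0
  have hchar : centralizer (pCore 2 ↥H : Set ↥H) ≤ pCore 2 ↥H := hchar0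
  have hSH : (S : Subgroup G) ≤ H := by
    intro x hx; rw [hHdef]; exact mem_normalizer_zpowers (hzc x hx)
  have hXH : X ≤ H := by
    intro x hx; rw [hHdef]; exact mem_normalizer_zpowers (hXz x hx)
  obtain ⟨Q, hQdef⟩ : ∃ Q : Subgroup G, Q = (pCore 2 ↥H).map H.subtype := ⟨_, rfl⟩
  have hQ : IsPGroup 2 Q := by rw [hQdef]; exact (pCore_isPGroup 2 ↥H).map _
  have hQnorm : ∀ h ∈ H, ∀ q ∈ Q, h * q * h⁻¹ ∈ Q := by
    intro h hh q hq
    rw [hQdef] at hq ⊢
    obtain ⟨q', hq', rfl⟩ := hq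
    have hn : (pCore 2 ↥H).Normal := by
      haveI := pCore_characteristic 2 ↥H
      infer_instance
    exact ⟨⟨h, hh⟩ * q' * ⟨h, hh⟩⁻¹, hn.conj_mem q' hq' ⟨h, hh⟩, rfl⟩
  have hHQ : H ≤ normalizer (Q : Set G) := fun h hh =>
    Cfsg.Agent.Lib.Helper8.mem_normalizer_of_conj_mem (hQnorm h hh)
  have hQS : Q ≤ (S : Subgroup G) := by
    have h1 : IsPGroup 2 ((S : Subgroup G) ⊔ Q : Subgroup G) :=
      IsPGroup.to_sup_of_normal_right' S.2 hQ (hSH.trans hHQ)
    have h3 := S.3 h1 le_sup_left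
    calc Q ≤ (S : Subgroup G) ⊔ Q := le_sup_right
      _ = (S : Subgroup G) := h3
  have hbot : Q ⊓ X = ⊥ := inf_eq_bot_of_pGroup_of_coprime hQ hcopX
  rw [eq_bot_iff]
  intro x hx
  have hxH : x ∈ H := hXH hx
  have hcomm : ∀ q ∈ Q, q * x = x * q := by
    intro q hq
    have hc1 : x * q * x⁻¹ * q⁻¹ ∈ Q := Q.mul_mem (hQnorm x hxH q hq) (Q.inv_mem hq)
    have hc2 : x * q * x⁻¹ * q⁻¹ ∈ X := by
      have h1 : q * x⁻¹ * q⁻¹ ∈ X :=
        (mem_normalizer_iff.mp (hSX (hQS hq)) x⁻¹).mp (X.inv_mem hx)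
      have e : x * q * x⁻¹ * q⁻¹ = x * (q * x⁻¹ * q⁻¹) := by group
      rw [e]; exact X.mul_mem hx h1
    have hc3 : x * q * x⁻¹ * q⁻¹ = 1 := by
      have : x * q * x⁻¹ * q⁻¹ ∈ Q ⊓ X := ⟨hc1, hc2⟩
      rw [hbot, mem_bot] at this
      exact this
    rw [mul_inv_eq_one, mul_inv_eq_iff_eq_mul] at hc3
    exact hc3.symm
  have hxc : (⟨x, hxH⟩ : ↥H) ∈ centralizer (pCore 2 ↥H : Set ↥H) := by
    rw [mem_centralizer_iff]
    intro q hq
    apply Subtype.ext
    exact hcomm q (by rw [hQdef]; exact ⟨q, hq, rfl⟩)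
  have hxQ : x ∈ Q := by rw [hQdef]; exact ⟨⟨x, hxH⟩, hchar hxc, rfl⟩
  have : x ∈ Q ⊓ X := ⟨hxQ, hx⟩
  rw [hbot] at this
  exact this

theorem exists_four {G : Type*} [Group G] [Finite G] (S : Sylow 2 G) (A : Subgroup G)
    (hAS : A ≤ (S : Subgroup G)) (hA3 : ¬ Cfsg.PRankLE 2 2 ↥A) :
    ∃ U : Subgroup G, U ≤ (S : Subgroup G) ∧ (S : Subgroup G) ≤ normalizer (U : Set G) ∧
      IsKleinFour ↥U ∧
      (¬ IsCyclic ↥((S : Subgroup G) ⊓ centralizer ((S : Subgroup G) : Set G)) →
        U ≤ centralizer ((S : Subgroup G) : Set G)) := by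
  classical
  by_cases hcyc : IsCyclic ↥((S : Subgroup G) ⊓ centralizer ((S : Subgroup G) : Set G))
  · unfold Cfsg.PRankLE at hA3
    push Not at hA3
    obtain ⟨B, _, hB2, hBc⟩ := hA3
    have hinj : Function.Injective (Subgroup.inclusion hAS) := Subgroup.inclusion_injective hAS
    have hEc : Nat.card (B.map (Subgroup.inclusion hAS)) = Nat.card B :=
      (Nat.card_congr (B.equivMapOfInjective _ hinj).toEquiv).symm
    obtain ⟨U', hU'n, hU'c, hU'2⟩ := Cfsg.H9.NFour.exists_normal_four (S := ↥(S : Subgroup G)) S.2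
      (B.map (Subgroup.inclusion hAS)) (by rw [hEc]; norm_num at hBc ⊢; exact hBc)
      (by
        rintro _ ⟨b, hb, rfl⟩
        rw [← map_pow, hB2 b hb, map_one])
    refine ⟨U'.map (S : Subgroup G).subtype, Subgroup.map_subtype_le _, ?_, ?_, fun h => absurd hcyc h⟩
    · intro s hs
      apply Cfsg.Agent.Lib.Helper8.mem_normalizer_of_conj_mem
      rintro _ ⟨a, ha, rfl⟩
      exact ⟨⟨s, hs⟩ * a * ⟨s, hs⟩⁻¹, hU'n.conj_mem a ha ⟨s, hs⟩, rfl⟩
    · apply Cfsg.Agent.Lib.Helper8.isKleinFour_of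
      · rw [← hU'c]
        exact (Nat.card_congr (U'.equivMapOfInjective _ (Subgroup.subtype_injective _)).toEquiv).symm
      · rintro _ ⟨a, ha, rfl⟩
        have := hU'2 a ha
        rw [sq] at this
        exact congrArg Subtype.val this
  · obtain ⟨Z, hZdef⟩ : ∃ Z : Subgroup G,
        Z = (S : Subgroup G) ⊓ centralizer ((S : Subgroup G) : Set G) := ⟨_, rfl⟩
    rw [← hZdef] at hcyc
    have hZcomm : ∀ a b : ↥Z, a * b = b * a := by
      intro a b
      apply Subtype.ext
      have ha : (a : G) ∈ (S : Subgroup G) ⊓ centralizer ((S : Subgroup G) : Set G) :=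
        hZdef ▸ a.2
      have hb : (b : G) ∈ (S : Subgroup G) ⊓ centralizer ((S : Subgroup G) : Set G) :=
        hZdef ▸ b.2
      exact (mem_centralizer_iff.mp hb.2 a ha.1)
    let _ : CommGroup ↥Z := { (inferInstance : Group ↥Z) with mul_comm := hZcomm }
    obtain ⟨r, hr, x, y, hx, hy, hy1, hxy⟩ :=
      Cfsg.Agent.Lib.Helper13.exists_prime_torsion_of_not_isCyclic (A := ↥Z) hcyc
    have hZS : Z ≤ (S : Subgroup G) := by rw [hZdef]; exact inf_le_left
    have hZp : IsPGroup 2 ↥Z := S.2.to_le hZS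
    have hr2 : r = 2 := by
      obtain ⟨k, hk⟩ := hZp y
      haveI : Fact r.Prime := ⟨hr⟩
      have h1 : orderOf y = r := orderOf_eq_prime hy hy1
      have h2 : orderOf y ∣ 2 ^ k := orderOf_dvd_of_pow_eq_one hk
      rw [h1] at h2
      exact (Nat.prime_dvd_prime_iff_eq hr Nat.prime_two).mp (hr.dvd_of_dvd_pow h2)
    subst hr2
    have hx1 : x ≠ 1 := by
      intro h
      apply hxy 0
      rw [pow_zero, mul_one, h]
    have hxney : x ≠ y := by
      intro h
      apply hxy 1
      rw [pow_one, h, ← sq, hy]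
    have hxx : (x : G) * (x : G) = 1 := by
      have := congrArg Subtype.val hx
      rw [sq] at this
      exact this
    have hyy : (y : G) * (y : G) = 1 := by
      have := congrArg Subtype.val hy
      rw [sq] at this
      exact this
    have hUZ : closure ({(x : G), (y : G)} : Set G) ≤ Z := by
      rw [closure_le]
      rintro g (rfl | rfl)
      · exact x.2
      · exact y.2
    have hZC : Z ≤ centralizer ((S : Subgroup G) : Set G) := by rw [hZdef]; exact inf_le_right
    refine ⟨closure ({(x : G), (y : G)} : Set G), hUZ.trans hZS, ?_, ?_, fun _ => hUZ.trans hZC⟩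
    · exact (le_centralizer_iff.mp (hUZ.trans hZC)).trans (centralizer_le_normalizer _)
    · exact Cfsg.Agent.H14.isKleinFour_closure hxx hyy (congrArg Subtype.val (hZcomm x y))
        (fun h => hx1 (Subtype.ext h)) (fun h => hy1 (Subtype.ext h))
        (fun h => hxney (Subtype.ext h))

theorem bridge {X : Type*} [Group X] [Finite X]
    (h : Cfsg.IsPConstrained 2 X ∧ Cfsg.oddCore X = ⊥) :
    Cfsg.generalizedFittingSubgroup X = Cfsg.pCore 2 X :=
  Cfsg.Agent.H17.genFitting_eq_pCore_iff_centralizer.mpr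
    (Cfsg.H9.centralizer_pCore_le_iff.mpr ⟨Cfsg.H9.isPConstrained_iff.mp h.1, h.2⟩)

/-- Let G be a finite group whose Sylow 2-subgroup S has a self-centralizing normal subgroup of rank at least 3. Suppose that either every maximal 2-local subgroup of G is 2-constrained with no nontrivial normal subgroup of odd order, or the centralizer of every involution of G is 2-constrained with no nontrivial normal subgroup of odd order. Then S normalizes no nontrivial subgroup of G of odd order and every 2-local subgroup of G is 2-constrained. -/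
theorem result {G : Type*} [Group G] [Finite G]
    (S : Sylow 2 G) (A : Subgroup G) (hA : Cfsg.IsSCN (S : Subgroup G) A) (hA3 : ¬ Cfsg.PRankLE 2 2 ↥A)
    (h : (∀ M : Subgroup G, Cfsg.IsMaximalTwoLocal M → Cfsg.IsPConstrained 2 ↥M ∧ Cfsg.oddCore ↥M = ⊥) ∨
      (∀ t : G, orderOf t = 2 → Cfsg.IsPConstrained 2 ↥(Subgroup.centralizer ({t} : Set G)) ∧
        Cfsg.oddCore ↥(Subgroup.centralizer ({t} : Set G)) = ⊥)) :
    (∀ X : Subgroup G, Odd (Nat.card ↥X) → (S : Subgroup G) ≤ Subgroup.normalizer (X : Set G) → X = ⊥) ∧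
      (∀ T : Subgroup G, IsPGroup 2 ↥T → T ≠ ⊥ → Cfsg.IsPConstrained 2 ↥(Subgroup.normalizer (T : Set G))) := by

  classical
  have hF : ∀ T : Subgroup G, IsPGroup 2 ↥T → T ≠ ⊥ →
      Cfsg.generalizedFittingSubgroup ↥(Subgroup.normalizer (T : Set G)) =
        Cfsg.pCore 2 ↥(Subgroup.normalizer (T : Set G)) := by
    rcases h with h | h
    · intro T hT hT1
      obtain ⟨M, hMmem, hMmax⟩ := Set.Finite.exists_maximal
        (s := {N : Subgroup G | Cfsg.IsTwoLocal N ∧ Subgroup.normalizer (T : Set G) ≤ N})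
        (Set.toFinite _) ⟨Subgroup.normalizer (T : Set G), ⟨T, hT, hT1, rfl⟩, le_rfl⟩
      have hMax : Cfsg.IsMaximalTwoLocal M := by
        refine ⟨hMmem.1, ?_⟩
        intro N hN hMN
        exact le_antisymm (hMmax ⟨hN, hMmem.2.trans hMN⟩ hMN) hMN
      have hM := bridge (h M hMax)
      have hTM : T ≤ M := Subgroup.le_normalizer.trans hMmem.2
      have hT' : IsPGroup 2 ↥(T.subgroupOf M) := hT.comap_subtype
      have h1 := Cfsg.H9.genFitting_normalizer hM (T.subgroupOf M) hT'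
      rw [← Subgroup.subgroupOf_normalizer_eq hTM] at h1
      exact Cfsg.H9.genFitting_eq_pCore_congr (Subgroup.subgroupOfEquivOfLe hMmem.2) h1
    · exact fun T hT hT1 => Cfsg.Agent.S1292.result (fun t ht => bridge (h t ht)) T hT hT1
  have h2 : ∀ T : Subgroup G, IsPGroup 2 T → T ≠ ⊥ →
      Cfsg.IsOfCharacteristicTwo ↥(Subgroup.normalizer (T : Set G)) := fun T hT hT1 =>
    Cfsg.Agent.H17.genFitting_eq_pCore_iff_centralizer.mp (hF T hT hT1)
  constructor
  · intro X hX hSX
    obtain ⟨U, hUS, hUn, hU4, hUZ⟩ := exists_four S A hA.1 hA3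
    have hUX := four_centralizes h2 S U hUS hUn hU4 hUZ X hX (hUS.trans hSX)
    have hU1 : U ≠ ⊥ := by
      intro h
      have h4 : Nat.card U = 4 := IsKleinFour.card_four
      rw [h] at h4
      simp at h4
    obtain ⟨z, hzU, hz1, hzc⟩ := Cfsg.Agent.S1957.exists_central S.2 hUS hUn hU1
    refine no_invariant h2 S z hz1 (hUS hzU) hzc X hX hSX ?_
    intro x hx
    exact Subgroup.mem_centralizer_iff.mp (hUX hzU) x hx
  · intro T hT hT1
    rw [Cfsg.H9.isPConstrained_iff]
    exact (Cfsg.H9.centralizer_pCore_le_iff.mp (h2 T hT hT1)).1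

end Cfsg.Agent.S3246
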