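import Cfsg.Statements.S3374
import Cfsg.Agent.Tr.FrobSL

set_option autoImplicit false
open Cfsg

namespace Cfsg.Agent.S3374

/-- table of a faithful fixed-point-free representation `SL₂(5) → SL₂(11)`: the entry at index
`((a*5+b)*5+c)*5+d` is `((A*11+B)*11+C)*11+D`. -/
def tbl : List ℕ := [0,0,0,0,0,0,0,0,0,0,0,0,0,0,0,0,0,0,0,0,0,0,0,0,0,0,0,0,0,0,0,0,0,0,0,0,0,0,0,0,0,0,0,0,0,1221,6564,2477,14067,10420,0,0,0,0,0,0,0,0,0,0,11971,11048,5327,13041,5462,0,0,0,0,0,0,0,0,0,0,0,0,0,0,0,0,0,0,0,0,0,0,0,0,0,4133,10642,3063,9325,5056,0,0,0,0,0,0,0,0,0,0,231,5684,2037,13627,9540,0,0,0,0,0,0,0,0,0,0,0,0,0,0,0,0,1332,0,0,0,0,1850,0,0,0,0,2887,0,0,0,0,7889,0,0,0,0,3598,0,0,0,0,1740,0,0,0,0,0,7988,0,0,0,0,0,9035,0,0,0,0,0,1693,11752,0,0,0,0,0,3767,0,0,0,0,0,0,8925,0,6794,0,0,0,0,0,0,12898,0,0,0,0,0,0,1155,0,7009,0,0,0,0,0,0,0,2573,0,0,12788,0,0,6388,0,0,0,0,0,0,0,49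13,0,0,3708,0,0,0,10872,0,0,0,0,0,0,0,0,825,0,0,0,4803,0,0,0,12121,0,0,0,0,0,2397,0,0,0,0,11696,0,0,0,0,572,0,0,0,0,5145,0,0,0,0,13850,0,0,0,0,11586,0,0,14639,0,0,0,0,0,0,0,10367,0,0,8298,0,0,3411,0,0,0,0,0,0,0,1012,0,0,0,0,0,10257,7713,0,0,0,0,0,8644,0,0,0,0,0,6034,0,0,0,0,0,4705,0,0,0,8738,0,0,0,8534,0,0,0,3997,0,0,0,0,0,0,0,0,6245,0,0,0,13960,0,2971,0,0,0,0,0,0,6474,0,0,0,0,0,0,6135,0,2668,0,0,0,0,0,13707,0,0,0,0,2254,0,0,0,0,10959,0,0,0,0,880,0,0,0,0,4408,0,0,0,0,2144,0,0,0,0,0,0,11984,0,9969,0,0,0,0,0,0,9630,0,13133,0,0,0,0,0,0,11399,0,0,0,9859,0,0,0,10655,0,0,0,0,0,0,0,0,7570,0,0,0,7366,0,0,0,440,0,0,0,0,0,10070,0,0,0,0,0,7460,8391,0,0,0,0,0,5847,0,0,0,0,0,4518,0,0,12693,0,0,0,0,0,0,0,7806,0,0,5737,0,0,0,0,0,0,0,1465,0,0,0,0,13320,0,0,0,0,12506,0,0,0,0,8215,0,0,0,0,13217,0,0,0,0,14254,0,0,0,0,12396,0,0,0,3983,0,0,0,11301,0,0,0,627,0,0,0,5232,0,0,0,0,0,0,0,0,9095,0,0,11191,0,0,9716,0,0,0,0,0,0,0,3316,0,0,13531,0,0,0,0,0,0,0,12337,0,297,0,0,0,0,0,0,3206,0,9310,0,0,0,0,0,0,7179,0,0,0,0,0,0,14364,4352,0,0,0,0,0,14411,0,0,0,0,0,7069,0,0,0,0,0,6664,0]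

def code (a b c d : ZMod 5) : ℕ := tbl.getD (((a.val * 5 + b.val) * 5 + c.val) * 5 + d.val) 0

def E00 (a b c d : ZMod 5) : ZMod 11 := ((code a b c d / 1331 % 11 : ℕ) : ZMod 11)
def E01 (a b c d : ZMod 5) : ZMod 11 := ((code a b c d / 121 % 11 : ℕ) : ZMod 11)
def E10 (a b c d : ZMod 5) : ZMod 11 := ((code a b c d / 11 % 11 : ℕ) : ZMod 11)
def E11 (a b c d : ZMod 5) : ZMod 11 := ((code a b c d % 11 : ℕ) : ZMod 11)

set_option maxRecDepth 100000 in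
theorem hdet : ∀ a b c d : ZMod 5, a * d - b * c = 1 →
    E00 a b c d * E11 a b c d - E01 a b c d * E10 a b c d = 1 := by decide +kernel

set_option maxRecDepth 100000 in
theorem hmul : ∀ a b c d : ZMod 5, a * d - b * c = 1 → ∀ a' b' c' d' : ZMod 5, a' * d' - b' * c' = 1 →
      E00 (a * a' + b * c') (a * b' + b * d') (c * a' + d * c') (c * b' + d * d') =
        E00 a b c d * E00 a' b' c' d' + E01 a b c d * E10 a' b' c' d' ∧
      E01 (a * a' + b * c') (a * b' + b * d') (c * a' + d * c') (c * b' + d * d') =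
        E00 a b c d * E01 a' b' c' d' + E01 a b c d * E11 a' b' c' d' ∧
      E10 (a * a' + b * c') (a * b' + b * d') (c * a' + d * c') (c * b' + d * d') =
        E10 a b c d * E00 a' b' c' d' + E11 a b c d * E10 a' b' c' d' ∧
      E11 (a * a' + b * c') (a * b' + b * d') (c * a' + d * c') (c * b' + d * d') =
        E10 a b c d * E01 a' b' c' d' + E11 a b c d * E11 a' b' c' d' := by decide +kernel

set_option maxRecDepth 100000 in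
theorem hfpf : ∀ a b c d : ZMod 5, a * d - b * c = 1 → E00 a b c d + E11 a b c d = 2 →
      a = 1 ∧ b = 0 ∧ c = 0 ∧ d = 1 := by decide +kernel

/-- SL(2,5) occurs as a Frobenius complement: there is a finite group L with a subgroup H isomorphic to SL(2,5) which is a non-trivial proper subgroup meeting each conjugate gHg⁻¹ with g outside H trivially. -/
theorem result :
    ∃ (L : Type) (_ : Group L) (_ : Finite L) (H : Subgroup L),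
      Cfsg.IsFrobeniusComplement H ∧ Nonempty (H ≃* Matrix.SpecialLinearGroup (Fin 2) (ZMod 5)) := by
  haveI : Fact (Nat.Prime 5) := ⟨by norm_num⟩
  haveI : Fact (Nat.Prime 11) := ⟨by norm_num⟩
  exact Cfsg.Agent.Tr.FrobSL.frob_of_table E00 E01 E10 E11 hdet hmul hfpf

end Cfsg.Agent.S3374
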