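import Mathlib
import Cfsg.Statements.S3554
-- import your own Cfsg.Agent.* helpers here

set_option autoImplicit false
open Cfsg

namespace Cfsg.Agent.S3554

/-- Let G act faithfully and transitively on a finite set and suppose G has a non-trivial cyclic normal subgroup. Then some element of G of prime order fixes no point. -/
theorem result {G Ω : Type*} [Group G] [Finite G] [MulAction G Ω] [FaithfulSMul G Ω] [Finite Ω]
    (htrans : MulAction.IsPretransitive G Ω) (C : Subgroup G) (hC : C.Normal) (hC1 : C ≠ ⊥) (hcyc : IsCyclic ↥C) :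
    ∃ g : G, (orderOf g).Prime ∧ ∀ ω : Ω, g • ω ≠ ω := by
  classical
  haveI : Fintype C := Fintype.ofFinite C
  have hcard : Nat.card C ≠ 1 := by
    intro h1
    exact hC1 (Subgroup.card_eq_one.mp h1)
  obtain ⟨p, hp, hpd⟩ := Nat.exists_prime_and_dvd hcard
  haveI := Fact.mk hp
  obtain ⟨x', hx'⟩ := exists_prime_orderOf_dvd_card' p hpd
  have key : ∀ y' : C, y' ^ p = 1 → y' ∈ Subgroup.zpowers x' := by
    intro y' hy'
    have h1 : (Finset.univ.filter (fun z : C => z ^ p = 1)).card ≤ p :=
      IsCyclic.card_pow_eq_one_le hp.pos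
    have h2 : ((Subgroup.zpowers x' : Set C).toFinset) ⊆ Finset.univ.filter (fun z : C => z ^ p = 1) := by
      intro z hz
      simp only [Set.mem_toFinset, SetLike.mem_coe] at hz
      simp only [Finset.mem_filter, Finset.mem_univ, true_and]
      obtain ⟨k, rfl⟩ := hz
      show (x' ^ k) ^ p = 1
      rw [← zpow_natCast, ← zpow_mul, mul_comm, zpow_mul, zpow_natCast, ← hx', pow_orderOf_eq_one, one_zpow]
    have h3 : ((Subgroup.zpowers x' : Set C).toFinset).card = p := by
      rw [Set.toFinset_card, ← hx', ← Nat.card_eq_fintype_card]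
      exact Nat.card_zpowers x'
    have h4 := Finset.eq_of_subset_of_card_le h2 (by rw [h3]; exact h1)
    have : y' ∈ Finset.univ.filter (fun z : C => z ^ p = 1) := by simp [hy']
    rw [← h4] at this
    simpa using this
  refine ⟨(x' : G), ?_, ?_⟩
  · rw [Subgroup.orderOf_coe, hx']; exact hp
  · intro ω hω
    have hall : ∀ ω' : Ω, (x' : G) • ω' = ω' := by
      intro ω'
      obtain ⟨g, rfl⟩ := MulAction.exists_smul_eq G ω ω'
      have hmem : g⁻¹ * (x' : G) * g ∈ C := by
        have := hC.conj_mem (x' : G) x'.2 g⁻¹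
        simpa using this
      have hpow : (⟨g⁻¹ * (x' : G) * g, hmem⟩ : C) ^ p = 1 := by
        apply Subtype.ext
        show (g⁻¹ * (x' : G) * g) ^ p = 1
        have h5 : (x' : G) ^ p = 1 := by
          have : x' ^ p = 1 := by rw [← hx', pow_orderOf_eq_one]
          exact_mod_cast congrArg Subtype.val this
        have h6 : g⁻¹ * (x' : G) * g = g⁻¹ * (x' : G) * g⁻¹⁻¹ := by simp
        rw [h6, conj_pow, h5]; simp
      obtain ⟨k, hk⟩ := key _ hpow
      have hk' : (x' : G) ^ k = g⁻¹ * (x' : G) * g := by
        have := congrArg Subtype.val hk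
        simpa using this
      have hstab : (x' : G) ^ k ∈ MulAction.stabilizer G ω :=
        (MulAction.stabilizer G ω).zpow_mem hω k
      rw [hk', MulAction.mem_stabilizer_iff, mul_smul, mul_smul] at hstab
      have := congrArg (fun z => g • z) hstab
      simpa using this
    have hx1 : (x' : G) = 1 := by
      apply FaithfulSMul.eq_of_smul_eq_smul (α := Ω)
      intro a; rw [hall a, one_smul]
    have : orderOf (x' : G) = 1 := by rw [hx1, orderOf_one]
    rw [Subgroup.orderOf_coe, hx'] at this
    exact hp.one_lt.ne' this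


end Cfsg.Agent.S3554
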