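import Mathlib
import Cfsg.Statements.S4812
import Cfsg.Agent.H14.PSL2Char

namespace Cfsg.Agent.S4812

open Cfsg Cfsg.Agent.H14

theorem result (F : Type*) [Field F] [Fintype F] [CharP F 2] (q : ℕ) (hq : Fintype.card F = q) (h4 : 4 ≤ q) {S : Type*} [Group S] [Finite S] (hS : Nonempty (S ≃* Matrix.ProjectiveSpecialLinearGroup (Fin 2) F) ∨ Nonempty (S ≃* Matrix.SpecialLinearGroup (Fin 2) F)) : Cfsg.degreePrimes S = {r : ℕ | r.Prime ∧ r ∣ q * (q ^ 2 - 1)} ∧ ∀ r s : ℕ, (Cfsg.degreeGraph S).Adj r s ↔ (r ≠ s ∧ r.Prime ∧ s.Prime ∧ ((r ∣ q + 1 ∧ s ∣ q + 1) ∨ (r ∣ q - 1 ∧ s ∣ q - 1))) := by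
  classical
  subst hq
  obtain ⟨n, -, hn⟩ := FiniteField.card F 2
  have h5 : Fintype.card F ≠ 5 := by
    intro h
    have : 2 ∣ Fintype.card F := by
      rw [hn]; exact dvd_pow_self 2 n.ne_zero
    omega
  have h := cdLike_of_equiv h4 h5 hS
  exact ⟨h.degreePrimes_eq (by omega), h.adj_iff Nat.prime_two hn⟩

end Cfsg.Agent.S4812
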