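import Cfsg.Statements.S3669
import Mathlib
import Cfsg.Agent.S4812
import Cfsg.Agent.S0252
import Cfsg.Agent.S0494
import Cfsg.Agent.S0493
import Cfsg.Agent.S0003
import Cfsg.Agent.H25.KGV
import Cfsg.Agent.Lib.Helper21.SimpleOrd

set_option autoImplicit false
open Cfsg

namespace Cfsg.Agent.S3669

universe u

theorem exists_normal_of_not_simple {X : Type*} [Group X] [Nontrivial X] (h : ¬ IsSimpleGroup X) :
    ∃ H : Subgroup X, H.Normal ∧ H ≠ ⊥ ∧ H ≠ ⊤ := by
  by_contra hcon
  push Not at hcon
  apply h
  refine ⟨fun H hH => ?_⟩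
  by_cases hb : H = ⊥
  · exact Or.inl hb
  · exact Or.inr (hcon H hH hb)

theorem solvable_of_normal {X : Type*} [Group X] (H : Subgroup X) [H.Normal]
    (h1 : Group.IsSolvable H) (h2 : Group.IsSolvable (X ⧸ H)) : Group.IsSolvable X := by
  refine Group.isSolvable_of_ker_le_range H.subtype (QuotientGroup.mk' H) ?_
  rw [QuotientGroup.ker_mk', Subgroup.range_subtype]

theorem solvable_lt_sixty (n : ℕ) : ∀ (X : Type u) [Group X] [Finite X], Nat.card X = n → n < 60 →
    Group.IsSolvable X := by
  induction n using Nat.strong_induction_on with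
  | _ n ih =>
    intro X _ _ hn hlt
    by_cases hnt : Nontrivial X
    · by_cases hs : IsSimpleGroup X
      · by_cases hc : IsCyclic X
        · haveI : IsMulCommutative X := IsCyclic.isMulCommutative (α := X)
          exact Group.isSolvable_of_comm (fun a b => mul_comm' a b)
        · have := Cfsg.Agent.S0493.result (G := X) hc (by omega)
          omega
      · obtain ⟨H, hH, hb, ht⟩ := exists_normal_of_not_simple hs
        have h1 := H.card_mul_index
        have h2 : Nat.card H ≠ 1 := fun h => hb ((Subgroup.card_eq_one).mp h)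
        have h3 : H.index ≠ 1 := fun h => ht (Subgroup.index_eq_one.mp h)
        have h4 : 0 < Nat.card H := Nat.card_pos
        have h5 : 0 < H.index := Nat.pos_of_ne_zero (Subgroup.index_ne_zero_of_finite)
        have h6 : Nat.card H < n := by
          rw [← hn, ← h1]
          have : 2 ≤ H.index := by omega
          nlinarith
        have h7 : H.index < n := by
          rw [← hn, ← h1]
          have : 2 ≤ Nat.card H := by omega
          nlinarith
        exact solvable_of_normal H (ih _ h6 H rfl (by omega))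
          (ih _ h7 (X ⧸ H) (by rw [Subgroup.index]) (by omega))
    · rw [not_nontrivial_iff_subsingleton] at hnt
      infer_instance


/-- The character degree graph of a finite group has as vertices the primes dividing some irreducible complex character degree, two distinct primes being joined when their product divides some irreducible character degree; two groups have the same character degree graph when they have the same vertices and the same joined pairs. A finite group of order 60 with the same character degree graph as the alternating group A₅ (whose character degrees are 1, 3, 4, 5, so the graph has vertices 2, 3, 5 and no edges) is isomorphic to A₅. -/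
theorem result {G : Type*} [Group G] [Finite G] (hcard : Nat.card G = 60)
    (hΓ : Cfsg.degreePrimes G = Cfsg.degreePrimes (alternatingGroup (Fin 5)) ∧ Cfsg.degreeGraph G = Cfsg.degreeGraph (alternatingGroup (Fin 5))) : Nonempty (G ≃* alternatingGroup (Fin 5)) := by
  haveI : Fact (Nat.Prime 5) := ⟨by norm_num⟩
  haveI : Fact (Nat.Prime 2) := ⟨by norm_num⟩
  haveI : Nontrivial G := Finite.one_lt_card_iff_nontrivial.mp (by rw [hcard]; norm_num)
  -- 5 is a degree prime of A5
  have h5A : 5 ∈ Cfsg.degreePrimes (alternatingGroup (Fin 5)) := by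
    haveI : Fintype (GaloisField 2 2) := Fintype.ofFinite _
    have hc4 : Fintype.card (GaloisField 2 2) = 4 := by
      rw [← Nat.card_eq_fintype_card, GaloisField.card 2 2 (by norm_num)]
      norm_num
    obtain ⟨e⟩ := Cfsg.Agent.S0252.result (F := GaloisField 2 2) hc4
    have := (Cfsg.Agent.S4812.result (GaloisField 2 2) 4 hc4 le_rfl
      (S := alternatingGroup (Fin 5)) (Or.inl ⟨e.symm⟩)).1
    rw [this]
    exact ⟨by norm_num, by norm_num⟩
  rw [← hΓ.1] at h5A
  obtain ⟨-, d, ⟨χ, hχ⟩, h5d⟩ := h5A
  by_cases hs : IsSimpleGroup G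
  · exact Cfsg.Agent.S0494.result hcard
  exfalso
  obtain ⟨H, hH, hb, ht⟩ := exists_normal_of_not_simple hs
  have hsol : Group.IsSolvable G := by
    have h1 := H.card_mul_index
    have h2 : Nat.card H ≠ 1 := fun h => hb ((Subgroup.card_eq_one).mp h)
    have h3 : H.index ≠ 1 := fun h => ht (Subgroup.index_eq_one.mp h)
    have h4 : 0 < Nat.card H := Nat.card_pos
    have h5 : 0 < H.index := Nat.pos_of_ne_zero (Subgroup.index_ne_zero_of_finite)
    have h6 : Nat.card H < 60 := by
      rw [← hcard, ← h1]
      have : 2 ≤ H.index := by omega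
      nlinarith
    have h7 : H.index < 60 := by
      rw [← hcard, ← h1]
      have : 2 ≤ Nat.card H := by omega
      nlinarith
    exact solvable_of_normal H (solvable_lt_sixty _ H rfl h6)
      (solvable_lt_sixty _ (G ⧸ H) (by rw [Subgroup.index]) h7)
  obtain ⟨K, hK⟩ := Cfsg.Agent.S0003.result (G := G) 15 4 (by rw [hcard]) (by norm_num)
  -- Sylow 5 of K is normal in K
  obtain ⟨Q⟩ : Nonempty (Sylow 5 K) := inferInstance
  have hQc : Nat.card (Q : Subgroup K) = 5 ^ 1 :=
    Cfsg.Agent.Lib.Helper21.card_sylow_of_card_eq Q 1 3 (by rw [hK]; norm_num) (by norm_num)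
  have hQ1 : Nat.card (Sylow 5 K) = 1 := by
    have h1 := card_sylow_modEq_one 5 K
    have h2 := Q.card_dvd_index
    have h3 := (Q : Subgroup K).card_mul_index
    rw [hQc, hK] at h3
    have h4 : (Q : Subgroup K).index = 3 := by omega
    rw [h4] at h2
    have h5 := Nat.le_of_dvd (by norm_num) h2
    unfold Nat.ModEq at h1
    generalize Nat.card (Sylow 5 K) = m at *
    interval_cases m <;> simp_all
  haveI : Subsingleton (Sylow 5 K) := (Nat.card_eq_one_iff_unique.mp hQ1).1
  have hQn : (Q : Subgroup K).Normal := Q.normal_of_subsingleton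
  obtain ⟨P⟩ : Nonempty (Sylow 5 G) := inferInstance
  have hPc : Nat.card (P : Subgroup G) = 5 ^ 1 :=
    Cfsg.Agent.Lib.Helper21.card_sylow_of_card_eq P 1 12 (by rw [hcard]; norm_num) (by norm_num)
  -- the image of Q is a Sylow 5-subgroup of G
  have hQm : Nat.card ((Q : Subgroup K).map K.subtype) = 5 ^ 1 := by
    rw [Subgroup.card_map_of_injective K.subtype_injective, hQc]
  obtain ⟨P', hP'⟩ : ∃ P' : Sylow 5 G, (P' : Subgroup G) = (Q : Subgroup K).map K.subtype := by
    have hpg : IsPGroup 5 ((Q : Subgroup K).map K.subtype) := IsPGroup.of_card hQm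
    obtain ⟨P', hle⟩ := hpg.exists_le_sylow
    refine ⟨P', ?_⟩
    have hP'c : Nat.card (P' : Subgroup G) = 5 ^ 1 :=
      Cfsg.Agent.Lib.Helper21.card_sylow_of_card_eq P' 1 12 (by rw [hcard]; norm_num) (by norm_num)
    exact (Subgroup.eq_of_le_of_card_ge hle (by rw [hQm, hP'c])).symm
  have hKN : K ≤ Subgroup.normalizer ((P' : Subgroup G) : Set G) := by
    rw [hP']
    intro k hk
    rw [Subgroup.mem_normalizer_iff]
    intro x
    constructor
    · rintro ⟨y, hy, rfl⟩
      exact ⟨⟨k, hk⟩ * y * ⟨k, hk⟩⁻¹, hQn.conj_mem y hy ⟨k, hk⟩, rfl⟩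
    · rintro ⟨y, hy, hyx⟩
      refine ⟨⟨k, hk⟩⁻¹ * y * ⟨k, hk⟩, ?_, ?_⟩
      · have := hQn.conj_mem y hy ⟨k, hk⟩⁻¹
        rw [inv_inv] at this
        exact this
      · simp only [Subgroup.subtype_apply, Subgroup.coe_mul, Subgroup.coe_inv] at hyx ⊢
        rw [hyx]; group
  have h15 : 15 ∣ Nat.card (Subgroup.normalizer ((P' : Subgroup G) : Set G)) := by
    rw [← hK]
    exact Subgroup.card_dvd_of_le hKN
  have hmul := Cfsg.Agent.Lib.Helper21.card_normalizer_mul_card_sylow P'
  rw [hcard] at hmul
  have hn1 : Nat.card (Sylow 5 G) = 1 := by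
    have h1 := card_sylow_modEq_one 5 G
    unfold Nat.ModEq at h1
    obtain ⟨c, hc⟩ := h15
    rw [hc] at hmul
    generalize Nat.card (Sylow 5 G) = m at *
    have hm4 : c * m = 4 := by nlinarith
    have : m ∣ 4 := Dvd.intro_left _ hm4
    have := Nat.le_of_dvd (by norm_num) this
    interval_cases m <;> simp_all
  haveI : Subsingleton (Sylow 5 G) := (Nat.card_eq_one_iff_unique.mp hn1).1
  haveI hPn : (P : Subgroup G).Normal := P.normal_of_subsingleton
  have hcomm : ∀ a ∈ (P : Subgroup G), ∀ b ∈ (P : Subgroup G), a * b = b * a := by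
    haveI : IsCyclic (P : Subgroup G) := isCyclic_of_prime_card (p := 5) (by rw [hPc]; norm_num)
    haveI : IsMulCommutative (P : Subgroup G) := IsCyclic.isMulCommutative (α := (P : Subgroup G))
    intro a ha b hb
    have := mul_comm' (⟨a, ha⟩ : (P : Subgroup G)) ⟨b, hb⟩
    exact congrArg Subtype.val this
  have hdvd := Cfsg.Agent.H25.KGV.charDegree_dvd_index_of_normal_comm χ (P : Subgroup G) hcomm
  have hidx : (P : Subgroup G).index = 12 := by
    have := (P : Subgroup G).card_mul_index
    rw [hPc, hcard] at this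
    omega
  rw [hχ, hidx] at hdvd
  have := h5d.trans hdvd
  omega

end Cfsg.Agent.S3669
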