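import Cfsg.Statements.S3810
import Cfsg.Agent.S0095
import Cfsg.Agent.H20.Extra4

set_option autoImplicit false
open Cfsg

namespace Cfsg.Agent.S3810

open Subgroup Cfsg.Agent.H20 Cfsg.Agent.S3741

theorem sup_zpowers_abelian {S : Type*} [Group S] (N : Subgroup S) (y : S)
    (hN : N ≤ centralizer (N : Set S)) (hy : y ∈ centralizer (N : Set S)) :
    N ⊔ zpowers y ≤ centralizer ((N ⊔ zpowers y : Subgroup S) : Set S) := by
  have h1 : N ⊔ zpowers y ≤ centralizer (N : Set S) := sup_le hN (zpowers_le.2 hy)
  have h2 : N ⊔ zpowers y ≤ centralizer {y} := by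
    apply sup_le
    · intro n hn
      rw [mem_centralizer_singleton_iff]
      exact (mem_centralizer_iff.1 hy) n hn
    · rw [zpowers_le, mem_centralizer_singleton_iff]
  apply sup_le (le_centralizer_iff.1 h1)
  rw [zpowers_le, mem_centralizer_iff]
  intro m hm
  exact mem_centralizer_singleton_iff.1 (h2 hm)

theorem index_eq_of_card {S : Type*} [Group S] [Finite S] {p : ℕ} [hp : Fact p.Prime]
    (hS : Nat.card S = p ^ 4) (A : Subgroup S) (hA : Nat.card A = p ^ 3) : A.index = p := by
  have := A.card_mul_index
  rw [hA, hS] at this
  have h2 : p ^ 3 * A.index = p ^ 3 * p := by rw [this]; ring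
  exact Nat.eq_of_mul_eq_mul_left (pow_pos hp.out.pos 3) h2

/-- Let S be a finite p-group with an extraspecial subgroup of index p. Then S has an abelian subgroup of index p if and only if S has order p⁴. -/
theorem result {S : Type*} [Group S] [Finite S] (p : ℕ) [Fact p.Prime] (hS : IsPGroup p S) (Q : Subgroup S) (hQ : Cfsg.IsExtraspecial p ↥Q) (hQi : Q.index = p) :
    (∃ A : Subgroup S, IsMulCommutative ↥A ∧ A.index = p) ↔ Nat.card S = p ^ 4 := by
  have hp : p.Prime := Fact.out
  have hQn : Q.Normal := normal_of_index_eq_prime hS Q hQi
  have hQna := IsExtraspecial.not_abelian hQ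
  constructor
  · rintro ⟨A, hA, hAi⟩
    have hAn : A.Normal := normal_of_index_eq_prime hS A hAi
    have hAc : A ≤ centralizer (A : Set S) := le_centralizer_iff_isMulCommutative.2 hA
    have h1 : A.relIndex Q ∣ p := hAi ▸ relIndex_dvd_index_of_normal A Q
    have h2 : (A.subgroupOf Q).index = p := by
      rcases (Nat.dvd_prime hp).1 h1 with h | h
      · exfalso
        apply hQna
        intro a b
        ext
        have hQA := relIndex_eq_one.1 h
        exact ((mem_centralizer_iff.1 (hAc (hQA b.2))) a (hQA a.2))
      · exact h
    have h3 : A.subgroupOf Q ≤ centralizer ((A.subgroupOf Q : Subgroup Q) : Set Q) := by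
      intro a ha
      rw [mem_centralizer_iff]
      intro b hb
      ext
      exact (mem_centralizer_iff.1 (hAc (mem_subgroupOf.1 ha))) b (mem_subgroupOf.1 hb)
    have h4 := IsExtraspecial.card_le_of_abelian_index hQ _ h3 h2
    obtain ⟨n, hn, hc⟩ := Cfsg.Agent.S0095.result hQ
    rw [hc] at h4
    have h5 : 2 * n + 1 ≤ 3 := (Nat.pow_le_pow_iff_right hp.one_lt).1 h4
    have h6 : n = 1 := by omega
    subst h6
    rw [← Q.card_mul_index, hc, hQi]
    ring
  · intro hcard
    set Z := (center Q).map Q.subtype with hZdef
    have hZn : Z.Normal := center_map_normal Q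
    have hZc : Nat.card Z = p := by rw [hZdef, card_center_map, hQ.2]
    have hZle : Z ≤ center S := le_center_of_normal_of_card_le hS _ hZc.le
    have hSna : ¬ (⊤ : Subgroup S) ≤ centralizer ((⊤ : Subgroup S) : Set S) := by
      intro h
      apply hQna
      intro a b
      ext
      exact ((mem_centralizer_iff.1 (h (mem_top (b : S)))) a (mem_top _))
    have hZtop : Z ≠ ⊤ := by
      intro h
      apply hSna
      rw [← h]
      intro z hz
      rw [mem_centralizer_iff]
      intro w _
      exact mem_center_iff.1 (hZle hz) w
    obtain ⟨a, haZ, hacomm⟩ := exists_central_mod hS Z hZtop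
    have hZab : Z ≤ centralizer (Z : Set S) := by
      intro z hz
      rw [mem_centralizer_iff]
      intro w _
      exact mem_center_iff.1 (hZle hz) w
    have haZc : a ∈ centralizer (Z : Set S) := by
      rw [mem_centralizer_iff]
      intro w hw
      exact (mem_center_iff.1 (hZle hw) a).symm
    set N := Z ⊔ zpowers a with hN
    have hZN : Z < N := by
      refine lt_of_le_of_ne le_sup_left ?_
      intro h
      apply haZ
      rw [h]
      exact le_sup_right (a := Z) (mem_zpowers a)
    have hNcard : p * p ≤ Nat.card N := by
      have := mul_card_le_of_lt hS hZN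
      rwa [hZc] at this
    have hNab : N ≤ centralizer (N : Set S) := sup_zpowers_abelian Z a hZab haZc
    by_cases hac : a ∈ centralizer ((⊤ : Subgroup S) : Set S)
    · -- `N` is central
      have hNc : ∀ x : S, x ∈ centralizer (N : Set S) := by
        intro x
        have h1 : N ≤ centralizer {x} := by
          apply sup_le
          · intro z hz
            rw [mem_centralizer_singleton_iff]
            exact (mem_center_iff.1 (hZle hz) x).symm
          · rw [zpowers_le, mem_centralizer_singleton_iff]
            exact ((mem_centralizer_iff.1 hac) x (mem_top x)).symm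
        rw [mem_centralizer_iff]
        intro n hn
        exact mem_centralizer_singleton_iff.1 (h1 hn)
      have hNtop : N ≠ ⊤ := by
        intro h
        apply hSna
        rw [← h]; exact hNab
      obtain ⟨x, -, hx⟩ := SetLike.exists_of_lt (lt_top_iff_ne_top.2 hNtop)
      have hab := sup_zpowers_abelian N x hNab (hNc x)
      have hlt : N < N ⊔ zpowers x := by
        refine lt_of_le_of_ne le_sup_left ?_
        intro h
        apply hx
        rw [h]
        exact le_sup_right (a := N) (mem_zpowers x)
      have hne : N ⊔ zpowers x ≠ ⊤ := by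
        intro h
        apply hSna
        rw [← h]; exact hab
      have c1 := mul_card_le_of_lt hS hlt
      have c2 := mul_card_le_of_lt hS (lt_top_iff_ne_top.2 hne)
      rw [Subgroup.card_top, hcard] at c2
      have c3 : Nat.card (N ⊔ zpowers x : Subgroup S) = p ^ 3 := by
        apply le_antisymm
        · have : p * Nat.card (N ⊔ zpowers x : Subgroup S) ≤ p * p ^ 3 := by
            calc _ ≤ p ^ 4 := c2
              _ = p * p ^ 3 := by ring
          exact Nat.le_of_mul_le_mul_left this hp.pos
        · calc p ^ 3 = p * (p * p) := by ring
            _ ≤ p * Nat.card N := Nat.mul_le_mul_left _ hNcard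
            _ ≤ _ := c1
      exact ⟨_, le_centralizer_iff_isMulCommutative.1 hab, index_eq_of_card hcard _ c3⟩
    · have c1 := card_cent ⊤ Z hZc a (fun b _ => hacomm b)
        (fun z hz b _ => (mem_center_iff.1 (hZle hz) b).symm) hac
      rw [card_inf_centralizer_singleton, top_inf_eq, Subgroup.card_top, hcard] at c1
      have c2 : Nat.card (centralizer {a}) = p ^ 3 := by
        have : p * Nat.card (centralizer {a}) = p * p ^ 3 := by rw [c1]; ring
        exact Nat.eq_of_mul_eq_mul_left hp.pos this
      have hNA : N ≤ centralizer {a} := by
        apply sup_le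
        · intro z hz
          rw [mem_centralizer_singleton_iff]
          exact (mem_center_iff.1 (hZle hz) a).symm
        · rw [zpowers_le, mem_centralizer_singleton_iff]
      have hAN : centralizer {a} ≤ centralizer (N : Set S) := by
        rw [le_centralizer_iff]
        apply sup_le
        · intro z hz
          rw [mem_centralizer_iff]
          intro w _
          exact mem_center_iff.1 (hZle hz) w
        · rw [zpowers_le, mem_centralizer_iff]
          intro w hw
          exact mem_centralizer_singleton_iff.1 hw
      have hab := le_centralizer_self_of_central hS (centralizer {a}) N hNA hAN (by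
        rw [c2]
        calc p ^ 3 = p * (p * p) := by ring
          _ ≤ p * Nat.card N := Nat.mul_le_mul_left _ hNcard)
      exact ⟨_, le_centralizer_iff_isMulCommutative.1 hab, index_eq_of_card hcard _ c2⟩

end Cfsg.Agent.S3810
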