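import Cfsg.Statements.S3771
import Cfsg.Agent.S3810

set_option autoImplicit false
open Cfsg

namespace Cfsg.Agent.S3771

open Subgroup Cfsg.Agent.H20 Cfsg.Agent.S3741 Cfsg.Agent.S3810

/-- Let p be a prime and R a finite p-group of p-rank at most 2 (no elementary abelian subgroup of order p³) in which every element has order dividing p. Then R has order at most p³. -/
theorem result {R : Type*} [Group R] [Finite R] {p : ℕ} [Fact p.Prime] (hR : IsPGroup p R) (hrank : Cfsg.PRankLE p 2 R) (hexp : ∀ x : R, x ^ p = 1) : Nat.card R ≤ p ^ 3 := by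
  have hp : p.Prime := Fact.out
  have hrk : ∀ A : Subgroup R, A ≤ centralizer (A : Set R) → Nat.card A ≤ p ^ 2 := fun A hA =>
    hrank A (le_centralizer_iff_isMulCommutative.1 hA) (fun a _ => hexp a)
  by_cases hab : (⊤ : Subgroup R) ≤ centralizer ((⊤ : Subgroup R) : Set R)
  · have := hrk ⊤ hab
    rw [Subgroup.card_top] at this
    exact this.trans (Nat.pow_le_pow_right hp.pos (by norm_num))
  have hnt : Nontrivial R := by
    by_contra h
    rw [not_nontrivial_iff_subsingleton] at h
    apply hab
    intro x _
    rw [mem_centralizer_iff]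
    intro y _
    exact Subsingleton.elim _ _
  have := hR.center_nontrivial
  obtain ⟨⟨z, hz⟩, hz1⟩ := exists_ne (1 : center R)
  have hz1 : z ≠ 1 := fun h => hz1 (Subtype.ext h)
  set Z := zpowers z with hZdef
  have hZle : Z ≤ center R := zpowers_le.2 hz
  have hZn : Z.Normal := by
    constructor
    intro n hn g
    have := mem_center_iff.1 (hZle hn) g
    rw [this, mul_inv_cancel_right]
    exact hn
  have hZc : Nat.card Z = p := by
    rw [hZdef, Nat.card_zpowers]
    exact orderOf_eq_prime (hexp z) hz1
  have hZtop : Z ≠ ⊤ := by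
    intro h
    apply hab
    rw [← h]
    intro w hw
    rw [mem_centralizer_iff]
    intro v _
    exact mem_center_iff.1 (hZle hw) v
  obtain ⟨a, haZ, hacomm⟩ := exists_central_mod hR Z hZtop
  have hZab : Z ≤ centralizer (Z : Set R) := by
    intro z hz
    rw [mem_centralizer_iff]
    intro w _
    exact mem_center_iff.1 (hZle hz) w
  have haZc : a ∈ centralizer (Z : Set R) := by
    rw [mem_centralizer_iff]
    intro w hw
    exact (mem_center_iff.1 (hZle hw) a).symm
  set N := Z ⊔ zpowers a with hN
  have hZN : Z < N := by
    refine lt_of_le_of_ne le_sup_left ?_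
    intro h
    apply haZ
    rw [h]
    exact le_sup_right (a := Z) (mem_zpowers a)
  have hNcard : p * p ≤ Nat.card N := by
    have := mul_card_le_of_lt hR hZN
    rwa [hZc] at this
  have hNab : N ≤ centralizer (N : Set R) := sup_zpowers_abelian Z a hZab haZc
  have hNA : N ≤ centralizer {a} := by
    apply sup_le
    · intro z hz
      rw [mem_centralizer_singleton_iff]
      exact (mem_center_iff.1 (hZle hz) a).symm
    · rw [zpowers_le, mem_centralizer_singleton_iff]
  have hAN : centralizer {a} ≤ centralizer (N : Set R) := by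
    rw [le_centralizer_iff]
    apply sup_le
    · intro z hz
      rw [mem_centralizer_iff]
      intro w _
      exact mem_center_iff.1 (hZle hz) w
    · rw [zpowers_le, mem_centralizer_iff]
      intro w hw
      exact mem_centralizer_singleton_iff.1 hw
  have hCN : centralizer {a} ≤ N := by
    intro x hx
    by_contra hxN
    have hab' := sup_zpowers_abelian N x hNab (hAN hx)
    have hlt : N < N ⊔ zpowers x := by
      refine lt_of_le_of_ne le_sup_left ?_
      intro h
      apply hxN
      rw [h]
      exact le_sup_right (a := N) (mem_zpowers x)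
    have c1 := mul_card_le_of_lt hR hlt
    have c2 := hrk _ hab'
    have c3 : p * (p * p) ≤ p ^ 2 := (Nat.mul_le_mul_left _ hNcard).trans (c1.trans c2)
    have c4 : p ^ 3 ≤ p ^ 2 := by
      calc p ^ 3 = p * (p * p) := by ring
        _ ≤ p ^ 2 := c3
    have := (Nat.pow_le_pow_iff_right hp.one_lt).1 c4
    omega
  have hCcard : Nat.card (centralizer {a}) ≤ p ^ 2 :=
    (Subgroup.card_le_of_le hCN).trans (hrk N hNab)
  by_cases hac : a ∈ centralizer ((⊤ : Subgroup R) : Set R)
  · have : centralizer {a} = ⊤ := by
      rw [eq_top_iff]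
      intro x _
      rw [mem_centralizer_singleton_iff]
      exact (mem_centralizer_iff.1 hac) x (mem_top x)
    rw [this, Subgroup.card_top] at hCcard
    exact hCcard.trans (Nat.pow_le_pow_right hp.pos (by norm_num))
  · have c1 := card_cent ⊤ Z hZc a (fun b _ => hacomm b)
      (fun z hz b _ => (mem_center_iff.1 (hZle hz) b).symm) hac
    rw [card_inf_centralizer_singleton, top_inf_eq, Subgroup.card_top] at c1
    rw [← c1]
    calc p * Nat.card (centralizer {a}) ≤ p * p ^ 2 := Nat.mul_le_mul_left _ hCcard
      _ = p ^ 3 := by ring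

end Cfsg.Agent.S3771
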