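import Cfsg.Statements.S3910
import Mathlib
-- import your own Cfsg.Agent.* helpers here
import Cfsg.Agent.H4.Nilp

set_option autoImplicit false
open Cfsg

namespace Cfsg.Agent.S3910


theorem L1 {G : Type*} [Group G] (x y c : G) (hc : ∀ g, g * c = c * g) (h : y * x = x * y * c) (k : ℕ) :
    y * x ^ k = x ^ k * y * c ^ k := by
  induction k with
  | zero => simp
  | succ k ih =>
    have hck : c ^ k * x = x * c ^ k := ((show Commute x c from hc x).pow_right k).symm.eq
    calc y * x ^ (k+1) = (y * x ^ k) * x := by rw [pow_succ, mul_assoc]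
      _ = x ^ k * y * c ^ k * x := by rw [ih]
      _ = x ^ k * (y * x) * c ^ k := by rw [mul_assoc (x ^ k * y), hck]; simp only [mul_assoc]
      _ = x ^ k * (x * y * c) * c ^ k := by rw [h]
      _ = x ^ (k+1) * y * c ^ (k+1) := by rw [pow_succ, pow_succ']; simp only [mul_assoc]

theorem comm_comap {G : Type*} [Group G] (w : G) (a b : G)
    (ha : a ∈ (Subgroup.zpowers (QuotientGroup.mk' (Subgroup.center G) w)).comap (QuotientGroup.mk' (Subgroup.center G)))
    (hb : b ∈ (Subgroup.zpowers (QuotientGroup.mk' (Subgroup.center G) w)).comap (QuotientGroup.mk' (Subgroup.center G))) :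
    a * b = b * a := by
  obtain ⟨i, hi⟩ := Subgroup.mem_zpowers_iff.mp (Subgroup.mem_comap.mp ha)
  obtain ⟨j, hj⟩ := Subgroup.mem_zpowers_iff.mp (Subgroup.mem_comap.mp hb)
  rw [← map_zpow] at hi hj
  have h1 : (w ^ i)⁻¹ * a ∈ Subgroup.center G := QuotientGroup.eq.mp hi
  have h2 : (w ^ j)⁻¹ * b ∈ Subgroup.center G := QuotientGroup.eq.mp hj
  have ea : a = w ^ i * ((w ^ i)⁻¹ * a) := by group
  have eb : b = w ^ j * ((w ^ j)⁻¹ * b) := by group
  have c1 : ∀ g, Commute g ((w ^ i)⁻¹ * a) := fun g => Subgroup.mem_center_iff.mp h1 g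
  have c2 : ∀ g, Commute g ((w ^ j)⁻¹ * b) := fun g => Subgroup.mem_center_iff.mp h2 g
  have : Commute a b := by
    rw [ea, eb]
    exact Commute.mul_left (Commute.mul_right ((Commute.refl w).zpow_zpow i j) (c2 _)) (c1 _).symm
  exact this.eq


/-- A finite nilpotent group in which any two abelian subgroups of the same order are conjugate is cyclic. -/
theorem result {G : Type*} [Group G] [Finite G] (hB : ∀ A B : Subgroup G, IsMulCommutative ↥A → IsMulCommutative ↥B → Nat.card ↥A = Nat.card ↥B → ∃ g : G, B = A.map (MulAut.conj g).toMonoidHom) (hnil : Group.IsNilpotent G) : IsCyclic G := by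
  classical
  have hcomm : ∀ a b : G, a * b = b * a := by
    by_contra hnc
    push_neg at hnc
    have hZtop : Subgroup.center G ≠ ⊤ := by
      intro h
      obtain ⟨a, b, hab⟩ := hnc
      apply hab
      have hb : b ∈ Subgroup.center G := h ▸ Subgroup.mem_top b
      exact (Subgroup.mem_center_iff.mp hb) a
    haveI hnt : Nontrivial (G ⧸ Subgroup.center G) := by
      rw [← Finite.one_lt_card_iff_nontrivial]
      have h1 : (Subgroup.center G).index ≠ 1 := fun h => hZtop (Subgroup.index_eq_one.mp h)
      have h0 : (Subgroup.center G).index ≠ 0 := Subgroup.index_ne_zero_of_finite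
      have : Nat.card (G ⧸ Subgroup.center G) = (Subgroup.center G).index := rfl
      omega
    have hcz : Subgroup.center (G ⧸ Subgroup.center G) ≠ ⊥ := by
      have := Cfsg.Agent.H4.normal_inf_center_ne_bot (⊤ : Subgroup (G ⧸ Subgroup.center G)) top_ne_bot
      simpa using this
    -- an element of prime order in the centre of the quotient
    have hc1 : Nat.card (Subgroup.center (G ⧸ Subgroup.center G)) ≠ 1 := by
      intro h
      exact hcz (Subgroup.card_eq_one.mp h)
    obtain ⟨p, hp, hpd⟩ := Nat.exists_prime_and_dvd hc1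
    haveI := Fact.mk hp
    obtain ⟨⟨xb, hxb⟩, hxo⟩ := exists_prime_orderOf_dvd_card' p hpd
    have hxo' : orderOf xb = p := by
      rw [← hxo]; exact (Subgroup.orderOf_mk xb hxb).symm
    obtain ⟨x, rfl⟩ := QuotientGroup.mk'_surjective _ xb
    -- x is not central
    have hxZ : x ∉ Subgroup.center G := by
      intro h
      have : QuotientGroup.mk' (Subgroup.center G) x = 1 := (QuotientGroup.eq_one_iff x).mpr h
      rw [this, orderOf_one] at hxo'
      exact hp.one_lt.ne hxo'
    have hxp : x ^ p ∈ Subgroup.center G := by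
      have : (QuotientGroup.mk' (Subgroup.center G) x) ^ p = 1 := by rw [← hxo']; exact pow_orderOf_eq_one _
      rw [← map_pow] at this
      exact (QuotientGroup.eq_one_iff _).mp this
    obtain ⟨y, hy⟩ : ∃ y, y * x ≠ x * y := by
      by_contra hall
      push_neg at hall
      exact hxZ (Subgroup.mem_center_iff.mpr hall)
    set c := (x * y)⁻¹ * (y * x) with hcdef
    have hcZ : c ∈ Subgroup.center G := by
      apply QuotientGroup.eq.mp
      have := Subgroup.mem_center_iff.mp hxb (QuotientGroup.mk' (Subgroup.center G) y)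
      rw [← map_mul, ← map_mul] at this
      exact this.symm
    have hcc : ∀ g, g * c = c * g := Subgroup.mem_center_iff.mp hcZ
    have hyx : y * x = x * y * c := by rw [hcdef]; group
    have hcp : c ^ p = 1 := by
      have h1 := L1 x y c hcc hyx p
      have h2 : y * x ^ p = x ^ p * y := Subgroup.mem_center_iff.mp hxp y
      rw [h2] at h1
      exact (mul_eq_left.mp h1.symm)
    have hxy : x * y = y * x * c⁻¹ := by rw [hyx]; group
    have hcc' : ∀ g, g * c⁻¹ = c⁻¹ * g := Subgroup.mem_center_iff.mp (inv_mem hcZ)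
    have hyp : x * y ^ p = y ^ p * x := by
      have h1 := L1 y x c⁻¹ hcc' hxy p
      rw [inv_pow, hcp] at h1
      simpa using h1
    set yb := QuotientGroup.mk' (Subgroup.center G) y with hyb
    have hpn : p ∣ orderOf yb := by
      by_contra hnd
      have hcop : Nat.Coprime p (orderOf yb) := (Nat.Prime.coprime_iff_not_dvd hp).mpr hnd
      obtain ⟨u, v, huv⟩ := Nat.isCoprime_iff_coprime.mpr hcop
      have hyn : y ^ (orderOf yb) ∈ Subgroup.center G := by
        have : yb ^ (orderOf yb) = 1 := pow_orderOf_eq_one _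
        rw [hyb, ← map_pow] at this
        exact (QuotientGroup.eq_one_iff _).mp this
      have e1 : Commute x (y ^ p) := hyp
      have e2 : Commute x (y ^ (orderOf yb)) := Subgroup.mem_center_iff.mp hyn x
      have e3 : y = (y ^ p) ^ u * (y ^ (orderOf yb)) ^ v := by
        rw [← zpow_natCast, ← zpow_natCast, ← zpow_mul, ← zpow_mul, ← zpow_add, mul_comm _ u, mul_comm _ v, huv, zpow_one]
      have : Commute x y := by
        rw [e3]
        exact (e1.zpow_right u).mul_right (e2.zpow_right v)
      exact hy this.eq.symm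
    have hyo : orderOf (yb ^ (orderOf yb / p)) = p :=
      orderOf_pow_orderOf_div (orderOf_pos yb).ne' hpn
    set A := (Subgroup.zpowers (QuotientGroup.mk' (Subgroup.center G) x)).comap (QuotientGroup.mk' (Subgroup.center G)) with hA
    set B := (Subgroup.zpowers (QuotientGroup.mk' (Subgroup.center G) (y ^ (orderOf yb / p)))).comap (QuotientGroup.mk' (Subgroup.center G)) with hBdef
    have hAc : IsMulCommutative ↥A := ⟨⟨fun a b => Subtype.ext (comm_comap x (a : G) (b : G) a.2 b.2)⟩⟩
    have hBc : IsMulCommutative ↥B := ⟨⟨fun a b => Subtype.ext (comm_comap (y ^ (orderOf yb / p)) (a : G) (b : G) a.2 b.2)⟩⟩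
    have hidx : ∀ w : G, orderOf (QuotientGroup.mk' (Subgroup.center G) w) = p →
        Nat.card ((Subgroup.zpowers (QuotientGroup.mk' (Subgroup.center G) w)).comap (QuotientGroup.mk' (Subgroup.center G))) * Nat.card (G ⧸ Subgroup.center G) = Nat.card G * p := by
      intro w hw
      have h1 := Subgroup.card_mul_index ((Subgroup.zpowers (QuotientGroup.mk' (Subgroup.center G) w)).comap (QuotientGroup.mk' (Subgroup.center G)))
      rw [Subgroup.index_comap_of_surjective _ (QuotientGroup.mk'_surjective _)] at h1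
      have h2 := Subgroup.card_mul_index (Subgroup.zpowers (QuotientGroup.mk' (Subgroup.center G) w))
      rw [Nat.card_zpowers, hw] at h2
      rw [← h1, ← h2]
      ring
    have hcard : Nat.card A = Nat.card B := by
      have h1 := hidx x hxo'
      have h2 := hidx (y ^ (orderOf yb / p)) (by rw [map_pow]; exact hyo)
      have h3 : 0 < Nat.card (G ⧸ Subgroup.center G) := Nat.card_pos
      exact Nat.eq_of_mul_eq_mul_right h3 (h1.trans h2.symm)
    obtain ⟨g, hg⟩ := hB A B hAc hBc hcard
    have hAn : A.Normal := by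
      have : (Subgroup.zpowers (QuotientGroup.mk' (Subgroup.center G) x)).Normal := by
        constructor
        intro n hn g
        obtain ⟨i, rfl⟩ := Subgroup.mem_zpowers_iff.mp hn
        have : g * (QuotientGroup.mk' (Subgroup.center G) x) ^ i * g⁻¹ = (QuotientGroup.mk' (Subgroup.center G) x) ^ i := by
          have h1 : Commute g ((QuotientGroup.mk' (Subgroup.center G) x)) := Subgroup.mem_center_iff.mp hxb g
          rw [(h1.zpow_right i).eq]; group
        rw [this]
        exact Subgroup.zpow_mem_zpowers _ i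
      exact this.comap _
    have hxB : x ∈ B := by
      rw [hg]
      refine ⟨g⁻¹ * x * g, ?_, by simp [mul_assoc]⟩
      have hxA : x ∈ A := Subgroup.mem_comap.mpr (Subgroup.mem_zpowers _)
      have := hAn.conj_mem x hxA g⁻¹
      simpa using this
    have hBle : ∀ b ∈ B, b ∈ (Subgroup.zpowers (QuotientGroup.mk' (Subgroup.center G) y)).comap (QuotientGroup.mk' (Subgroup.center G)) := by
      intro b hb
      rw [hBdef, Subgroup.mem_comap, map_pow] at hb
      rw [Subgroup.mem_comap]
      exact (Subgroup.zpowers_le.mpr (Subgroup.pow_mem _ (Subgroup.mem_zpowers _) _)) hb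
    exact hy (comm_comap y y x (Subgroup.mem_comap.mpr (Subgroup.mem_zpowers _)) (hBle x hxB))
  letI : CommGroup G := { ‹Group G› with mul_comm := hcomm }
  obtain ⟨g, hg⟩ := Monoid.exists_orderOf_eq_exponent (G := G) (Monoid.ExponentExists.of_finite)
  refine ⟨g, fun h => ?_⟩
  have hd : orderOf h ∣ orderOf g := by rw [hg]; exact Monoid.order_dvd_exponent h
  have ho : orderOf (g ^ (orderOf g / orderOf h)) = orderOf h :=
    orderOf_pow_orderOf_div (orderOf_pos g).ne' hd
  obtain ⟨k, hk⟩ := hB (Subgroup.zpowers (g ^ (orderOf g / orderOf h))) (Subgroup.zpowers h)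
    ⟨⟨fun a b => Subtype.ext (hcomm _ _)⟩⟩ ⟨⟨fun a b => Subtype.ext (hcomm _ _)⟩⟩
    (by rw [Nat.card_zpowers, Nat.card_zpowers, ho])
  have hh : h ∈ Subgroup.zpowers h := Subgroup.mem_zpowers h
  rw [hk] at hh
  obtain ⟨a, ha, hah⟩ := hh
  have : h = a := by
    rw [← hah]
    show k * a * k⁻¹ = a
    rw [hcomm k a]; group
  rw [this]
  exact (Subgroup.zpowers_le.mpr (Subgroup.pow_mem _ (Subgroup.mem_zpowers _) _)) ha

end Cfsg.Agent.S3910
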