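import Cfsg.Statements.S4584
import Mathlib
-- import your own Cfsg.Agent.* helpers here
import Cfsg.Agent.H4.Nilp

set_option autoImplicit false
open Cfsg

namespace Cfsg.Agent.S4584


theorem top_of_lt {X : Type*} [Group X] {p : ℕ} (hp : p.Prime) (A B : Subgroup X)
    (hA : A.index = p) (hAB : A ≤ B) (x : X) (hx : x ∈ B) (hxA : x ∉ A) : B = ⊤ := by
  have h1 : A.relIndex B * B.index = A.index := Subgroup.relIndex_mul_index hAB
  rw [hA] at h1
  have h2 : B.index ∣ p := Dvd.intro_left _ h1
  rcases (Nat.dvd_prime hp).mp h2 with h | h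
  · exact Subgroup.index_eq_one.mp h
  · exfalso
    rw [h] at h1
    have h3 : A.relIndex B = 1 := Nat.eq_of_mul_eq_mul_right hp.pos (by simpa using h1)
    exact hxA (Subgroup.relIndex_eq_one.mp h3 hx)

theorem CZ {X : Type*} [Group X] {p : ℕ} (hp : p.Prime) (W : Subgroup X)
    (hW : ∀ w ∈ W, ∀ g, g * w = w * g) (hi : W.index ∣ p) : ∀ a b : X, a * b = b * a := by
  have key : ∀ y : X, ∀ g, g * y = y * g := by
    intro y
    by_cases hy : y ∈ W
    · exact hW y hy
    · rcases (Nat.dvd_prime hp).mp hi with h | h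
      · exact absurd (Subgroup.index_eq_one.mp h ▸ Subgroup.mem_top y) hy
      · have h1 : Subgroup.centralizer {y} = ⊤ :=
          top_of_lt hp W _ h (fun w hw => Subgroup.mem_centralizer_singleton_iff.mpr (hW w hw y).symm) y
            (Subgroup.mem_centralizer_singleton_iff.mpr rfl) hy
        intro g
        have hg : g ∈ Subgroup.centralizer {y} := h1 ▸ Subgroup.mem_top g
        exact Subgroup.mem_centralizer_singleton_iff.mp hg
  exact fun a b => key b a

theorem idx {X : Type*} [Group X] {p : ℕ} (hp : p.Prime) (Z A : Subgroup X)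
    (hZ : Z.index = p ^ 2) (hZA : Z ≤ A) (x : X) (hx : x ∈ A) (hxZ : x ∉ Z) (hA : A ≠ ⊤) :
    A.index = p := by
  have h1 : Z.relIndex A * A.index = Z.index := Subgroup.relIndex_mul_index hZA
  rw [hZ] at h1
  obtain ⟨k, hk, hk2⟩ := (Nat.dvd_prime_pow hp).mp (Dvd.intro_left _ h1 : A.index ∣ p ^ 2)
  interval_cases k
  · exact absurd (Subgroup.index_eq_one.mp (by simpa using hk2)) hA
  · simpa using hk2
  · exfalso
    rw [hk2] at h1
    have h3 : Z.relIndex A = 1 :=
      Nat.eq_of_mul_eq_mul_right (pow_pos hp.pos 2) (by simpa using h1)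
    exact hxZ (Subgroup.relIndex_eq_one.mp h3 hx)

def phi {P : Type*} [Group P]
    (hc : ∀ x y g : P, g * (x * y * x⁻¹ * y⁻¹) = (x * y * x⁻¹ * y⁻¹) * g) (u : P) : P →* P :=
  MonoidHom.mk' (fun g => g * u * g⁻¹ * u⁻¹) (by
    intro g h
    calc (g * h) * u * (g * h)⁻¹ * u⁻¹ = g * ((h * u * h⁻¹ * u⁻¹) * (u * g⁻¹ * u⁻¹)) := by group
      _ = g * ((u * g⁻¹ * u⁻¹) * (h * u * h⁻¹ * u⁻¹)) := by rw [hc h u (u * g⁻¹ * u⁻¹)]
      _ = g * u * g⁻¹ * u⁻¹ * (h * u * h⁻¹ * u⁻¹) := by group)

theorem phi_apply {P : Type*} [Group P]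
    (hc : ∀ x y g : P, g * (x * y * x⁻¹ * y⁻¹) = (x * y * x⁻¹ * y⁻¹) * g) (u g : P) :
    phi hc u g = g * u * g⁻¹ * u⁻¹ := rfl

theorem phi_ker {P : Type*} [Group P]
    (hc : ∀ x y g : P, g * (x * y * x⁻¹ * y⁻¹) = (x * y * x⁻¹ * y⁻¹) * g) (u : P) :
    (phi hc u).ker = Subgroup.centralizer {u} := by
  ext g
  rw [MonoidHom.mem_ker, phi_apply, Subgroup.mem_centralizer_singleton_iff]
  constructor
  · intro h
    calc g * u = (g * u * g⁻¹ * u⁻¹) * (u * g) := by group
      _ = u * g := by rw [h, one_mul]
  · intro h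
    rw [h]; group

theorem comm_le {P : Type*} [Group P] (N : Subgroup P)
    (h : ∀ x y : P, x * y * x⁻¹ * y⁻¹ ∈ N) : commutator P ≤ N := by
  rw [commutator_def, Subgroup.commutator_le]
  intro x _ y _
  rw [commutatorElement_def]
  exact h x y

theorem mem_comm {P : Type*} [Group P] (x y : P) : x * y * x⁻¹ * y⁻¹ ∈ commutator P := by
  rw [commutator_def, ← commutatorElement_def]
  exact Subgroup.commutator_mem_commutator (Subgroup.mem_top x) (Subgroup.mem_top y)


/-- Let p be a prime and P a group of order p^4. Then the derived subgroup P' has order p if and only if the centre Z(P) has index p^2 in P. -/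
theorem result {P : Type*} [Group P] [Finite P] (p : ℕ) [Fact p.Prime] (hP : Nat.card P = p ^ 4) :
    Nat.card (commutator P) = p ↔ (Subgroup.center P).index = p ^ 2 := by
  classical
  have hp : p.Prime := Fact.out
  have hcen : ∀ z : P, z ∈ Subgroup.center P ↔ ∀ g, g * z = z * g := fun z => Subgroup.mem_center_iff
  constructor
  · -- (⇒)
    intro hD
    haveI : Group.IsNilpotent P := (IsPGroup.of_card hP).isNilpotent
    have hDne : commutator P ≠ ⊥ := by
      intro h
      rw [h] at hD
      simp at hD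
      exact hp.one_lt.ne hD
    have h1 := Cfsg.Agent.H4.normal_inf_center_ne_bot (commutator P) hDne
    have hDZ : commutator P ≤ Subgroup.center P := by
      have h2 : Nat.card ↥(commutator P ⊓ Subgroup.center P) ∣ p := by
        rw [← hD]; exact Subgroup.card_dvd_of_le inf_le_left
      rcases (Nat.dvd_prime hp).mp h2 with h | h
      · exact absurd (Subgroup.card_eq_one.mp h) h1
      · have h3 : commutator P ⊓ Subgroup.center P = commutator P :=
          Subgroup.eq_of_le_of_card_ge inf_le_left (by rw [h, hD])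
        rw [← h3]; exact inf_le_right
    have hc : ∀ x y g : P, g * (x * y * x⁻¹ * y⁻¹) = (x * y * x⁻¹ * y⁻¹) * g :=
      fun x y => (hcen _).mp (hDZ (mem_comm x y))
    have hCi : ∀ u : P, (Subgroup.centralizer {u}).index ∣ p := by
      intro u
      rw [← phi_ker hc u, Subgroup.index_ker, ← hD]
      apply Subgroup.card_dvd_of_le
      rintro _ ⟨g, rfl⟩
      rw [phi_apply]; exact mem_comm g u
    obtain ⟨x, hx⟩ : ∃ x : P, x ∉ Subgroup.center P := by
      by_contra hall
      push_neg at hall
      apply hDne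
      rw [eq_bot_iff]
      apply comm_le
      intro a b
      rw [Subgroup.mem_bot]
      have := (hcen b).mp (hall b) a
      rw [this]; group
    set M := Subgroup.centralizer ({x} : Set P) with hM
    have hMtop : M ≠ ⊤ := by
      intro h
      apply hx
      rw [hcen]
      intro g
      have hg : g ∈ M := h ▸ Subgroup.mem_top g
      exact Subgroup.mem_centralizer_singleton_iff.mp hg
    have hMi : M.index = p := by
      rcases (Nat.dvd_prime hp).mp (hCi x) with h | h
      · exact absurd (Subgroup.index_eq_one.mp h) hMtop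
      · exact h
    set W := M ⊓ Subgroup.centralizer (M : Set P) with hW
    have hZW : Subgroup.center P ≤ W := by
      intro z hz
      have hz' := (hcen z).mp hz
      refine ⟨Subgroup.mem_centralizer_singleton_iff.mpr (hz' x).symm, ?_⟩
      refine Subgroup.mem_centralizer_iff.mpr ?_
      intro m _
      exact hz' m
    have hxW : x ∈ W := by
      refine ⟨Subgroup.mem_centralizer_singleton_iff.mpr rfl, ?_⟩
      refine Subgroup.mem_centralizer_iff.mpr ?_
      intro m hm
      exact Subgroup.mem_centralizer_singleton_iff.mp hm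
    have hWM : W ≤ M := inf_le_left
    obtain ⟨i, hi, hWi⟩ := (Nat.dvd_prime_pow hp).mp
      (hP ▸ Subgroup.card_subgroup_dvd_card W : Nat.card ↥W ∣ p ^ 4)
    have hi2 : 2 ≤ i := by
      by_contra hlt
      have hi1 : i ≤ 1 := by omega
      have h2 : Nat.card ↥W ≤ p := by
        rw [hWi]
        calc p ^ i ≤ p ^ 1 := Nat.pow_le_pow_right hp.pos hi1
          _ = p := pow_one p
      have h3 : p ≤ Nat.card ↥(Subgroup.center P) := by
        rw [← hD]
        exact Nat.le_of_dvd Nat.card_pos (Subgroup.card_dvd_of_le hDZ)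
      have h4 : Subgroup.center P = W := Subgroup.eq_of_le_of_card_ge hZW (h2.trans h3)
      exact hx (h4 ▸ hxW)
    have hrel : W.relIndex M ∣ p := by
      have e1 : W.relIndex M * M.index = W.index := Subgroup.relIndex_mul_index hWM
      have e2 : W.index * Nat.card ↥W = Nat.card P := Subgroup.index_mul_card W
      rw [← e1, hMi, hWi, hP, mul_assoc, ← pow_succ'] at e2
      obtain ⟨k, hk, hr⟩ := (Nat.dvd_prime_pow hp).mp (Dvd.intro _ e2 : W.relIndex M ∣ p ^ 4)
      rw [hr, ← pow_add] at e2
      have e3 := Nat.pow_right_injective hp.two_le e2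
      have hk1 : k ≤ 1 := by omega
      rw [hr]
      calc p ^ k ∣ p ^ 1 := pow_dvd_pow p hk1
        _ = p := pow_one p
    have hMab : ∀ a b : ↥M, a * b = b * a := by
      apply CZ hp (W.subgroupOf M) _ hrel
      intro w hw g
      have hw' : (w : P) ∈ W := Subgroup.mem_subgroupOf.mp hw
      have := (Subgroup.mem_centralizer_iff.mp hw'.2) g g.2
      exact Subtype.ext this
    obtain ⟨g, hg⟩ : ∃ g : P, g ∉ M := by
      by_contra hall
      push_neg at hall
      exact hMtop (Subgroup.eq_top_iff' M |>.mpr hall)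
    have hle : M ⊓ Subgroup.centralizer {g} ≤ Subgroup.center P := by
      intro y hy
      have h1 : Subgroup.centralizer {y} = ⊤ := by
        apply top_of_lt hp M _ hMi _ g _ hg
        · intro m hm
          rw [Subgroup.mem_centralizer_singleton_iff]
          exact congrArg Subtype.val (hMab ⟨m, hm⟩ ⟨y, hy.1⟩)
        · rw [Subgroup.mem_centralizer_singleton_iff]
          exact (Subgroup.mem_centralizer_singleton_iff.mp hy.2).symm
      rw [hcen]
      intro k
      have hk : k ∈ Subgroup.centralizer {y} := h1 ▸ Subgroup.mem_top k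
      exact Subgroup.mem_centralizer_singleton_iff.mp hk
    have hZle : (Subgroup.center P).index ≤ p ^ 2 := by
      have h1 : (Subgroup.center P).index ∣ (M ⊓ Subgroup.centralizer {g}).index :=
        Subgroup.index_dvd_of_le hle
      have h2 : (M ⊓ Subgroup.centralizer {g}).index ≤ M.index * (Subgroup.centralizer {g}).index :=
        Subgroup.index_inf_le
      have h3 : (Subgroup.centralizer {g}).index ≤ p := Nat.le_of_dvd hp.pos (hCi g)
      have h4 : (M ⊓ Subgroup.centralizer {g}).index ≠ 0 := Subgroup.index_ne_zero_of_finite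
      calc (Subgroup.center P).index ≤ (M ⊓ Subgroup.centralizer {g}).index :=
            Nat.le_of_dvd (Nat.pos_of_ne_zero h4) h1
        _ ≤ M.index * (Subgroup.centralizer {g}).index := h2
        _ ≤ p * p := by rw [hMi]; exact Nat.mul_le_mul_left p h3
        _ = p ^ 2 := (sq p).symm
    obtain ⟨k, hk, hZk⟩ := (Nat.dvd_prime_pow hp).mp
      (hP ▸ Subgroup.index_dvd_card (Subgroup.center P) : (Subgroup.center P).index ∣ p ^ 4)
    have hk2 : k ≤ 2 := by
      rw [hZk] at hZle
      exact (Nat.pow_le_pow_iff_right hp.one_lt).mp hZle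
    have hk1 : ¬ k ≤ 1 := by
      intro hk1
      have hd : (Subgroup.center P).index ∣ p := by
        rw [hZk]
        calc p ^ k ∣ p ^ 1 := pow_dvd_pow p hk1
          _ = p := pow_one p
      have hcomm := CZ hp (Subgroup.center P) (fun w hw => (hcen w).mp hw) hd
      exact hx ((hcen x).mpr (fun g => hcomm g x))
    have : k = 2 := by omega
    rw [hZk, this]
  · -- (⇐)
    intro hZ
    have hQ : Nat.card (P ⧸ Subgroup.center P) = p ^ 2 := by
      rw [← Subgroup.index_eq_card]; exact hZ
    have hQc := IsPGroup.isMulCommutative_of_card_eq_prime_sq hQ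
    have hcZ : ∀ x y : P, x * y * x⁻¹ * y⁻¹ ∈ Subgroup.center P := by
      intro x y
      rw [← QuotientGroup.eq_one_iff]
      have h1 : ((x : P ⧸ Subgroup.center P)) * (y : P ⧸ Subgroup.center P)
          = (y : P ⧸ Subgroup.center P) * (x : P ⧸ Subgroup.center P) := hQc.is_comm.comm _ _
      simp only [QuotientGroup.mk_mul, QuotientGroup.mk_inv]
      rw [h1]; group
    have hc : ∀ x y g : P, g * (x * y * x⁻¹ * y⁻¹) = (x * y * x⁻¹ * y⁻¹) * g :=
      fun x y => (hcen _).mp (hcZ x y)
    have hZtop : Subgroup.center P ≠ ⊤ := by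
      intro h
      rw [h, Subgroup.index_top] at hZ
      have := Nat.one_lt_pow (n := 2) (by norm_num) hp.one_lt
      omega
    obtain ⟨a, ha⟩ : ∃ a : P, a ∉ Subgroup.center P := by
      by_contra hall
      push_neg at hall
      exact hZtop (Subgroup.eq_top_iff' _ |>.mpr hall)
    obtain ⟨b, hb⟩ : ∃ b : P, b * a ≠ a * b := by
      by_contra hall
      push_neg at hall
      exact ha ((hcen a).mpr hall)
    have hbZ : b ∉ Subgroup.center P := fun h => hb ((hcen b).mp h a).symm
    have hZC : ∀ u : P, Subgroup.center P ≤ Subgroup.centralizer {u} := by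
      intro u z hz
      exact Subgroup.mem_centralizer_singleton_iff.mpr ((hcen z).mp hz u).symm
    have hbCa : b ∉ Subgroup.centralizer {a} := fun h => hb (Subgroup.mem_centralizer_singleton_iff.mp h)
    have haCb : a ∉ Subgroup.centralizer {b} := fun h => hb (Subgroup.mem_centralizer_singleton_iff.mp h).symm
    have hCa : (Subgroup.centralizer {a}).index = p :=
      idx hp _ _ hZ (hZC a) a (Subgroup.mem_centralizer_singleton_iff.mpr rfl) ha
        (fun h => hbCa (h ▸ Subgroup.mem_top b))
    have hCb : (Subgroup.centralizer {b}).index = p :=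
      idx hp _ _ hZ (hZC b) b (Subgroup.mem_centralizer_singleton_iff.mpr rfl) hbZ
        (fun h => haCb (h ▸ Subgroup.mem_top a))
    set N := (phi hc a).range with hN
    have hNcard : Nat.card ↥N = p := by
      rw [hN, ← Subgroup.index_ker, phi_ker, hCa]
    have hswap : ∀ u v : P, u * v * u⁻¹ * v⁻¹ ∈ N → v * u * v⁻¹ * u⁻¹ ∈ N := by
      intro u v h
      have : v * u * v⁻¹ * u⁻¹ = (u * v * u⁻¹ * v⁻¹)⁻¹ := by group
      rw [this]; exact N.inv_mem h
    have hNa : ∀ g : P, g * a * g⁻¹ * a⁻¹ ∈ N := fun g => ⟨g, rfl⟩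
    have hDb : N.comap (phi hc b) = ⊤ := by
      apply top_of_lt hp (Subgroup.centralizer {b}) _ hCb _ a _ haCb
      · rw [← phi_ker hc b]
        intro g hg
        rw [Subgroup.mem_comap, MonoidHom.mem_ker.mp hg]
        exact N.one_mem
      · rw [Subgroup.mem_comap, phi_apply]
        exact hswap _ _ (hNa b)
    have hNb : ∀ g : P, g * b * g⁻¹ * b⁻¹ ∈ N := by
      intro g
      have hg : g ∈ N.comap (phi hc b) := hDb ▸ Subgroup.mem_top g
      exact hg
    set E : Subgroup P := ⨅ g : P, N.comap (phi hc g) with hE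
    have hEmem : ∀ u : P, u ∈ E ↔ ∀ g : P, u * g * u⁻¹ * g⁻¹ ∈ N := by
      intro u
      rw [hE, Subgroup.mem_iInf]
      rfl
    have hZE : Subgroup.center P ≤ E := by
      intro z hz
      rw [hEmem]
      intro g
      have : z * g * z⁻¹ * g⁻¹ = 1 := by
        rw [← (hcen z).mp hz g]; group
      rw [this]; exact N.one_mem
    have haE : a ∈ E := (hEmem a).mpr (fun g => hswap _ _ (hNa g))
    have hbE : b ∈ E := (hEmem b).mpr (fun g => hswap _ _ (hNb g))
    have hAi : (E ⊓ Subgroup.centralizer {a}).index = p :=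
      idx hp _ _ hZ (le_inf hZE (hZC a)) a ⟨haE, Subgroup.mem_centralizer_singleton_iff.mpr rfl⟩ ha
        (fun h => hbCa ((h ▸ Subgroup.mem_top b : b ∈ E ⊓ Subgroup.centralizer {a}).2))
    have hEtop : E = ⊤ := top_of_lt hp _ E hAi inf_le_left b hbE (fun h => hbCa h.2)
    have hle : commutator P ≤ N := by
      apply comm_le
      intro x y
      have hx : x ∈ E := hEtop ▸ Subgroup.mem_top x
      exact (hEmem x).mp hx y
    have hd : Nat.card ↥(commutator P) ∣ p := hNcard ▸ Subgroup.card_dvd_of_le hle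
    rcases (Nat.dvd_prime hp).mp hd with h | h
    · exfalso
      have h1 : commutator P = ⊥ := Subgroup.card_eq_one.mp h
      have h2 : b * a * b⁻¹ * a⁻¹ ∈ commutator P := mem_comm b a
      rw [h1, Subgroup.mem_bot] at h2
      apply hb
      calc b * a = (b * a * b⁻¹ * a⁻¹) * (a * b) := by group
        _ = a * b := by rw [h2, one_mul]
    · exact h

end Cfsg.Agent.S4584
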