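import Cfsg.Statements.S4586
import Mathlib
-- import your own Cfsg.Agent.* helpers here
import Cfsg.Agent.S4584

set_option autoImplicit false
open Cfsg

namespace Cfsg.Agent.S4586

open scoped commutatorElement

theorem mem_norm_of_conj_le {G : Type*} [Group G] (H : Subgroup G) [Finite H] (g : G)
    (h : ∀ x ∈ H, g * x * g⁻¹ ∈ H) : g ∈ Subgroup.normalizer (H : Set G) := by
  have hle : H.map (MulAut.conj g).toMonoidHom ≤ H := by
    rintro _ ⟨x, hx, rfl⟩
    exact h x hx
  have hcard : Nat.card (H.map (MulAut.conj g).toMonoidHom) = Nat.card H :=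
    Subgroup.card_map_of_injective (MulAut.conj g).injective
  have heq : H.map (MulAut.conj g).toMonoidHom = H := Subgroup.eq_of_le_of_card_ge hle hcard.ge
  rw [Subgroup.mem_normalizer_iff]
  intro x
  refine ⟨h x, fun hx => ?_⟩
  rw [← heq] at hx
  obtain ⟨y, hy, hyx⟩ := hx
  have : y = x := (MulAut.conj g).injective hyx
  exact this ▸ hy

theorem key {P : Type*} [Group P] [Finite P] (p : ℕ) (hp : p.Prime) (N : Subgroup P) [hNn : N.Normal]
    (hN : N.index = p) (x : P) (hx : x ∉ N) :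
    (commutator P).index * Nat.card (commutator N) =
      p * Nat.card {n : N // x * n * x⁻¹ * (n : P)⁻¹ ∈ (commutator N).map N.subtype} := by
  classical
  set D : Subgroup P := (commutator N).map N.subtype with hD
  have hD2 : D = ⁅N, N⁆ := Subgroup.map_subtype_commutator N
  haveI hDn : D.Normal := by rw [hD2]; infer_instance
  have hDcard : Nat.card ↥D = Nat.card (commutator N) :=
    Subgroup.card_map_of_injective N.subtype_injective
  set π := QuotientGroup.mk' D with hπ
  have hπs : Function.Surjective π := QuotientGroup.mk'_surjective D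
  have hB : ∀ n ∈ N, ∀ m ∈ N, π n * π m = π m * π n := by
    intro n hn m hm
    rw [← map_mul, ← map_mul]
    refine QuotientGroup.eq.mpr ?_
    have h1 : ⁅m⁻¹, n⁻¹⁆ ∈ ⁅N, N⁆ :=
      Subgroup.commutator_mem_commutator (N.inv_mem hm) (N.inv_mem hn)
    rw [commutatorElement_def, ← hD2] at h1
    have h2 : (n * m)⁻¹ * (m * n) = m⁻¹ * n⁻¹ * m⁻¹⁻¹ * n⁻¹⁻¹ := by group
    rw [h2]; exact h1
  have hcN : ∀ n ∈ N, x * n * x⁻¹ ∈ N := fun n hn => hNn.conj_mem n hn x
  have hcN2 : ∀ n ∈ N, x * n * x⁻¹ * n⁻¹ ∈ N := fun n hn => N.mul_mem (hcN n hn) (N.inv_mem hn)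
  let ψ : N →* (P ⧸ D) := MonoidHom.mk' (fun n => π (x * n * x⁻¹ * (n : P)⁻¹)) (by
    intro n m
    calc π (x * ((n * m : N) : P) * x⁻¹ * ((n * m : N) : P)⁻¹)
        = π ((x * n * x⁻¹) * ((x * m * x⁻¹ * (m : P)⁻¹) * (n : P)⁻¹)) := by
          congr 1; rw [Subgroup.coe_mul]; group
      _ = π (x * n * x⁻¹) * (π (x * m * x⁻¹ * (m : P)⁻¹) * π (n : P)⁻¹) := by
          rw [map_mul π (x * n * x⁻¹) _, map_mul π (x * m * x⁻¹ * (m : P)⁻¹) _]
      _ = π (x * n * x⁻¹) * (π (n : P)⁻¹ * π (x * m * x⁻¹ * (m : P)⁻¹)) := by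
          rw [hB _ (hcN2 m m.2) _ (N.inv_mem n.2)]
      _ = π (x * n * x⁻¹ * (n : P)⁻¹) * π (x * m * x⁻¹ * (m : P)⁻¹) := by
          rw [← mul_assoc, ← map_mul])
  have hψ : ∀ n : N, ψ n = π (x * n * x⁻¹ * (n : P)⁻¹) := fun n => rfl
  have hker : Nat.card {n : N // x * n * x⁻¹ * (n : P)⁻¹ ∈ D} = Nat.card ↥ψ.ker := by
    apply Nat.card_congr
    apply Equiv.subtypeEquivRight
    intro n
    rw [MonoidHom.mem_ker, hψ]
    exact (QuotientGroup.eq_one_iff _).symm
  set R := ψ.range with hR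
  have hRN : ∀ r ∈ R, ∃ m ∈ N, r = π m := by
    rintro _ ⟨m, rfl⟩
    exact ⟨_, hcN2 m m.2, rfl⟩
  have hnorm : (Subgroup.normalizer (R : Set (P ⧸ D))).comap π = ⊤ := by
    apply Cfsg.Agent.S4584.top_of_lt hp N _ hN _ x _ hx
    · intro g hg
      rw [Subgroup.mem_comap]
      apply mem_norm_of_conj_le
      intro r hr
      obtain ⟨m, hm, rfl⟩ := hRN r hr
      rw [hB g hg m hm, mul_inv_cancel_right]
      exact hr
    · rw [Subgroup.mem_comap]
      apply mem_norm_of_conj_le
      rintro _ ⟨m, rfl⟩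
      refine ⟨⟨x * m * x⁻¹, hcN m m.2⟩, ?_⟩
      rw [hψ, hψ, ← map_inv, ← map_mul, ← map_mul]
      congr 1
      simp only []
      group
  haveI hRn : R.Normal := by
    rw [← Subgroup.normalizer_eq_top_iff, eq_top_iff]
    intro q _
    obtain ⟨g, rfl⟩ := hπs q
    have : g ∈ (Subgroup.normalizer (R : Set (P ⧸ D))).comap π := hnorm ▸ Subgroup.mem_top g
    exact this
  set ρ := QuotientGroup.mk' R with hρ
  have hρs : Function.Surjective ρ := QuotientGroup.mk'_surjective R
  have hcomm := Cfsg.Agent.S4584.CZ (X := (P ⧸ D) ⧸ R) hp ((N.map π).map ρ)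
    (by
      rintro _ ⟨_, ⟨n, hn, rfl⟩, rfl⟩ g
      obtain ⟨g, rfl⟩ := hρs g
      obtain ⟨g, rfl⟩ := hπs g
      have htop : (Subgroup.centralizer {ρ (π n)}).comap (ρ.comp π) = ⊤ := by
        apply Cfsg.Agent.S4584.top_of_lt hp N _ hN _ x _ hx
        · intro m hm
          rw [Subgroup.mem_comap, Subgroup.mem_centralizer_singleton_iff]
          show ρ (π m) * ρ (π n) = ρ (π n) * ρ (π m)
          rw [← map_mul ρ, ← map_mul ρ, hB m hm n hn]
        · rw [Subgroup.mem_comap, Subgroup.mem_centralizer_singleton_iff]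
          show ρ (π x) * ρ (π n) = ρ (π n) * ρ (π x)
          rw [← map_mul ρ, ← map_mul ρ]
          refine QuotientGroup.eq_iff_div_mem.mpr ?_
          refine ⟨⟨n, hn⟩, ?_⟩
          show π (x * n * x⁻¹ * n⁻¹) = π x * π n / (π n * π x)
          rw [map_mul, map_mul, map_mul, map_inv, map_inv, div_eq_mul_inv, mul_inv_rev]
          simp only [mul_assoc]
      have hg : g ∈ (Subgroup.centralizer {ρ (π n)}).comap (ρ.comp π) := htop ▸ Subgroup.mem_top g
      exact Subgroup.mem_centralizer_singleton_iff.mp hg)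
    (((Subgroup.index_map_dvd _ hρs).trans (Subgroup.index_map_dvd _ hπs)).trans (by rw [hN]))
  have hQR : commutator (P ⧸ D) = R := by
    apply le_antisymm
    · apply Cfsg.Agent.S4584.comm_le
      intro a b
      rw [← QuotientGroup.eq_one_iff]
      simp only [QuotientGroup.mk_mul, QuotientGroup.mk_inv]
      rw [hcomm (a : (P ⧸ D) ⧸ R) (b : (P ⧸ D) ⧸ R)]; group
    · rintro _ ⟨n, rfl⟩
      rw [hψ, map_mul, map_mul, map_mul, map_inv, map_inv]
      exact Cfsg.Agent.S4584.mem_comm _ _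
  have hidx : (commutator P).index = R.index := by
    rw [← hQR]
    have h1 : (commutator P).map π = commutator (P ⧸ D) := by
      rw [commutator_def, commutator_def, Subgroup.map_commutator, Subgroup.map_top_of_surjective π hπs]
    rw [← h1]
    symm
    apply Subgroup.index_map_eq _ hπs
    rw [hπ, QuotientGroup.ker_mk', hD2, commutator_def]
    exact Subgroup.commutator_mono le_top le_top
  have f1 : R.index * Nat.card ↥R = Nat.card (P ⧸ D) := Subgroup.index_mul_card R
  have f2 : Nat.card (P ⧸ D) * Nat.card ↥D = Nat.card P := by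
    rw [← Subgroup.index_eq_card]; exact Subgroup.index_mul_card D
  have f3 : p * Nat.card ↥N = Nat.card P := hN ▸ Subgroup.index_mul_card N
  have f4 : Nat.card ↥R * Nat.card ↥ψ.ker = Nat.card ↥N := by
    rw [hR, ← Subgroup.index_ker]; exact Subgroup.index_mul_card ψ.ker
  rw [hker, hidx, ← hDcard]
  apply Nat.eq_of_mul_eq_mul_left (Nat.card_pos : 0 < Nat.card ↥R)
  calc Nat.card ↥R * (R.index * Nat.card ↥D) = (R.index * Nat.card ↥R) * Nat.card ↥D := by ring
    _ = Nat.card P := by rw [f1, f2]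
    _ = p * (Nat.card ↥R * Nat.card ↥ψ.ker) := by rw [f4, f3]
    _ = Nat.card ↥R * (p * Nat.card ↥ψ.ker) := by ring


/-- Let p be a prime, P a finite p-group and N a normal subgroup of P of index p. For x ∈ P write c(x) for the number of elements n of N whose commutator x n x⁻¹ n⁻¹ lies in the derived subgroup N' (so c(x)/#N' is the order of the centralizer of x acting on N/N'). Then [P : P'] = p² if and only if c(x) = p·#N' for every x ∈ P outside N, and also if and only if c(x) = p·#N' for some x ∈ P outside N. -/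
theorem result {P : Type*} [Group P] [Finite P] (p : ℕ) [Fact p.Prime] (hP : IsPGroup p P) (N : Subgroup P) [N.Normal] (hN : N.index = p) :
    ((commutator P).index = p ^ 2 ↔ ∀ x : P, x ∉ N →
        Nat.card {n : N // x * n * x⁻¹ * (n : P)⁻¹ ∈ (commutator N).map N.subtype} = p * Nat.card (commutator N)) ∧
    ((commutator P).index = p ^ 2 ↔ ∃ x : P, x ∉ N ∧
        Nat.card {n : N // x * n * x⁻¹ * (n : P)⁻¹ ∈ (commutator N).map N.subtype} = p * Nat.card (commutator N)) := by
  classical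
  have hp : p.Prime := Fact.out
  have hd : 0 < Nat.card (commutator N) := Nat.card_pos
  have hiff : ∀ x : P, x ∉ N → ((commutator P).index = p ^ 2 ↔
      Nat.card {n : N // x * n * x⁻¹ * (n : P)⁻¹ ∈ (commutator N).map N.subtype} = p * Nat.card (commutator N)) := by
    intro x hx
    have hk := key p hp N hN x hx
    constructor
    · intro h
      rw [h] at hk
      apply Nat.eq_of_mul_eq_mul_left hp.pos
      rw [← hk]; ring
    · intro h
      rw [h] at hk
      apply Nat.eq_of_mul_eq_mul_right hd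
      rw [hk]; ring
  obtain ⟨x0, hx0⟩ : ∃ x : P, x ∉ N := by
    by_contra hall
    push_neg at hall
    have : N = ⊤ := (Subgroup.eq_top_iff' N).mpr hall
    rw [this, Subgroup.index_top] at hN
    exact hp.one_lt.ne hN
  refine ⟨⟨fun h x hx => (hiff x hx).mp h, fun h => (hiff x0 hx0).mpr (h x0 hx0)⟩,
    ⟨fun h => ⟨x0, hx0, (hiff x0 hx0).mp h⟩, fun ⟨x, hx, h⟩ => (hiff x hx).mpr h⟩⟩

end Cfsg.Agent.S4586
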