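import Cfsg.Statements.S3807
import Mathlib
-- import your own Cfsg.Agent.* helpers here
import Cfsg.Agent.S4584
import Cfsg.Agent.S4586
import Cfsg.Agent.S3910

set_option autoImplicit false
open Cfsg

namespace Cfsg.Agent.S3807


open Cfsg.Agent.S4584 in
theorem count {S : Type*} [Group S] [Finite S] (p : ℕ) (hp : p.Prime)
    (hZ2 : (Subgroup.center S).index = p ^ 2)
    (G1 : ∀ B : Subgroup S, IsMulCommutative ↥B → B.index = p → Subgroup.center S ≤ B) :
    Nat.card {B : Subgroup S // IsMulCommutative ↥B ∧ B.index = p} = p + 1 := by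
  classical
  set Z := Subgroup.center S with hZ
  have hcen : ∀ z : S, z ∈ Z ↔ ∀ g, g * z = z * g := fun z => Subgroup.mem_center_iff
  have hZC : ∀ u : S, Z ≤ Subgroup.centralizer {u} := by
    intro u z hz
    exact Subgroup.mem_centralizer_singleton_iff.mpr ((hcen z).mp hz u).symm
  have hCtop : ∀ x : S, x ∉ Z → Subgroup.centralizer {x} ≠ ⊤ := by
    intro x hx h
    apply hx
    rw [hcen]
    intro g
    have hg : g ∈ Subgroup.centralizer {x} := h ▸ Subgroup.mem_top g
    exact Subgroup.mem_centralizer_singleton_iff.mp hg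
  have hCi : ∀ x : S, x ∉ Z → (Subgroup.centralizer {x}).index = p := fun x hx =>
    idx hp Z _ hZ2 (hZC x) x (Subgroup.mem_centralizer_singleton_iff.mpr rfl) hx (hCtop x hx)
  have hCab : ∀ x : S, x ∉ Z → IsMulCommutative ↥(Subgroup.centralizer {x}) := by
    intro x hx
    set M := Subgroup.centralizer ({x} : Set S) with hM
    set W := M ⊓ Subgroup.centralizer (M : Set S) with hW
    have hZW : Z ≤ W := by
      intro z hz
      refine ⟨hZC x hz, ?_⟩
      refine Subgroup.mem_centralizer_iff.mpr ?_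
      intro m _
      exact (hcen z).mp hz m
    have hxW : x ∈ W := by
      refine ⟨Subgroup.mem_centralizer_singleton_iff.mpr rfl, ?_⟩
      refine Subgroup.mem_centralizer_iff.mpr ?_
      intro m hm
      exact Subgroup.mem_centralizer_singleton_iff.mp hm
    have hWtop : W ≠ ⊤ := by
      intro h
      apply hCtop x hx
      rw [eq_top_iff, ← h]
      exact inf_le_left
    have hWi : W.index = p := idx hp Z W hZ2 hZW x hxW hx hWtop
    have hMW : M ≤ W := by
      intro m hm
      by_contra hmW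
      exact hCtop x hx (top_of_lt hp W M hWi inf_le_left m hm hmW)
    refine ⟨⟨fun a b => ?_⟩⟩
    have ha : (a : S) ∈ W := hMW a.2
    exact Subtype.ext ((Subgroup.mem_centralizer_iff.mp ha.2) b b.2).symm
  let f : {x : S // x ∉ Z} → {B : Subgroup S // IsMulCommutative ↥B ∧ B.index = p} :=
    fun x => ⟨Subgroup.centralizer {x.1}, hCab x.1 x.2, hCi x.1 x.2⟩
  have hfib : ∀ B : {B : Subgroup S // IsMulCommutative ↥B ∧ B.index = p},
      Nat.card {x : {x : S // x ∉ Z} // f x = B} + Nat.card ↥Z = p * Nat.card ↥Z := by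
    intro B
    have hBZ : Z ≤ B.1 := G1 B.1 B.2.1 B.2.2
    have e1 : Nat.card {x : {x : S // x ∉ Z} // f x = B} = ((B.1 : Set S) \ (Z : Set S)).ncard := by
      rw [← Nat.card_coe_set_eq]
      apply Nat.card_congr
      exact
        { toFun := fun x => ⟨x.1.1, by
            have h1 : Subgroup.centralizer {x.1.1} = B.1 := congrArg Subtype.val x.2
            have h2 : x.1.1 ∈ Subgroup.centralizer {x.1.1} :=
              Subgroup.mem_centralizer_singleton_iff.mpr rfl
            rw [h1] at h2
            exact ⟨h2, x.1.2⟩⟩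
          invFun := fun y => ⟨⟨y.1, y.2.2⟩, by
            apply Subtype.ext
            show Subgroup.centralizer {y.1} = B.1
            have hle : B.1 ≤ Subgroup.centralizer {y.1} := by
              intro b hb
              rw [Subgroup.mem_centralizer_singleton_iff]
              exact congrArg Subtype.val (B.2.1.is_comm.comm ⟨b, hb⟩ ⟨y.1, y.2.1⟩)
            apply le_antisymm _ hle
            intro g hg
            by_contra hgB
            exact hCtop y.1 y.2.2 (top_of_lt hp B.1 _ B.2.2 hle g hg hgB)⟩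
          left_inv := fun x => rfl
          right_inv := fun y => rfl }
    have e2 : ((B.1 : Set S) \ (Z : Set S)).ncard + (Z : Set S).ncard = (B.1 : Set S).ncard :=
      Set.ncard_sdiff_add_ncard_of_subset hBZ
    have e3 : (Z : Set S).ncard = Nat.card ↥Z := (Nat.card_coe_set_eq _).symm
    have e4 : (B.1 : Set S).ncard = Nat.card ↥B.1 := (Nat.card_coe_set_eq _).symm
    have e5 : B.1.index * Nat.card ↥B.1 = Nat.card S := Subgroup.index_mul_card B.1
    have e6 : Z.index * Nat.card ↥Z = Nat.card S := Subgroup.index_mul_card Z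
    rw [B.2.2] at e5
    rw [hZ2] at e6
    have e7 : Nat.card ↥B.1 = p * Nat.card ↥Z := by
      apply Nat.eq_of_mul_eq_mul_left hp.pos
      rw [e5, ← e6]; ring
    rw [e1, ← e3, e2, e4, e7, e3]
  haveI := Fintype.ofFinite {B : Subgroup S // IsMulCommutative ↥B ∧ B.index = p}
  obtain ⟨c, hc⟩ : ∃ c, c + Nat.card ↥Z = p * Nat.card ↥Z :=
    ⟨p * Nat.card ↥Z - Nat.card ↥Z, Nat.sub_add_cancel (Nat.le_mul_of_pos_left _ hp.pos)⟩
  have hfib' : ∀ B : {B : Subgroup S // IsMulCommutative ↥B ∧ B.index = p},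
      Nat.card {x : {x : S // x ∉ Z} // f x = B} = c := by
    intro B
    have := hfib B
    omega
  have hsum : Nat.card {x : S // x ∉ Z}
      = Nat.card {B : Subgroup S // IsMulCommutative ↥B ∧ B.index = p} * c := by
    rw [← Nat.card_congr (Equiv.sigmaFiberEquiv f), Nat.card_sigma,
      Finset.sum_congr rfl (fun B _ => hfib' B), Finset.sum_const, Finset.card_univ, smul_eq_mul,
      Nat.card_eq_fintype_card]
  have htot : Nat.card {x : S // x ∉ Z} + Nat.card ↥Z = p ^ 2 * Nat.card ↥Z := by
    have e2 : ((Set.univ : Set S) \ (Z : Set S)).ncard + (Z : Set S).ncard = (Set.univ : Set S).ncard :=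
      Set.ncard_sdiff_add_ncard_of_subset (Set.subset_univ _)
    have e1 : Nat.card {x : S // x ∉ Z} = ((Set.univ : Set S) \ (Z : Set S)).ncard := by
      rw [← Nat.card_coe_set_eq]
      apply Nat.card_congr
      apply Equiv.subtypeEquivRight
      intro x
      simp
    have e3 : (Z : Set S).ncard = Nat.card ↥Z := (Nat.card_coe_set_eq _).symm
    have e6 : Z.index * Nat.card ↥Z = Nat.card S := Subgroup.index_mul_card Z
    rw [hZ2] at e6
    rw [e1, ← e3, e2, Set.ncard_univ, ← e6, e3]
  set n := Nat.card {B : Subgroup S // IsMulCommutative ↥B ∧ B.index = p} with hn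
  set z := Nat.card ↥Z with hz
  have hzpos : 0 < z := Nat.card_pos
  have hcpos : 0 < c := by
    have : 2 * z ≤ p * z := Nat.mul_le_mul_right z hp.two_le
    omega
  rw [hsum] at htot
  have E3 : n * c = (p + 1) * c := by
    have h1 : (p + 1) * (c + z) = (p + 1) * (p * z) := by rw [hc]
    nlinarith [h1, htot]
  exact Nat.eq_of_mul_eq_mul_right hcpos E3


/-- Let S be a non-abelian finite p-group with an abelian subgroup A of index p. Then [S : Z(S)] = p·#[S,S], and either [S,S] has order p, S/Z(S) is elementary abelian of order p², and S has exactly p + 1 abelian subgroups of index p; or [S,S] has order at least p² and A is the only abelian subgroup of index p in S. -/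
theorem result {S : Type*} [Group S] [Finite S] (p : ℕ) [Fact p.Prime] (hS : IsPGroup p S) (hna : ¬ IsMulCommutative S)
    (A : Subgroup S) (hA : IsMulCommutative ↥A) (hAi : A.index = p) :
    (Subgroup.center S).index = p * Nat.card (commutator S) ∧
      ((Nat.card (commutator S) = p ∧ Cfsg.IsElementaryAbelian p (⊤ : Subgroup (S ⧸ Subgroup.center S)) ∧
          Nat.card (S ⧸ Subgroup.center S) = p ^ 2 ∧
          Nat.card {B : Subgroup S // IsMulCommutative ↥B ∧ B.index = p} = p + 1) ∨
        (p ^ 2 ≤ Nat.card (commutator S) ∧ ∀ B : Subgroup S, IsMulCommutative ↥B → B.index = p → B = A)) := by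
  classical
  have hp : p.Prime := Fact.out
  set Z := Subgroup.center S with hZ
  have hcen : ∀ z : S, z ∈ Z ↔ ∀ g, g * z = z * g := fun z => Subgroup.mem_center_iff
  have G2 : ∀ B : Subgroup S, IsMulCommutative ↥B → B.index = p → ∀ y ∈ B, ∀ g, g ∉ B →
      g * y = y * g → y ∈ Z := by
    intro B hB hBi y hy g hg hgy
    have h1 : Subgroup.centralizer {y} = ⊤ := by
      apply Cfsg.Agent.S4584.top_of_lt hp B _ hBi _ g (Subgroup.mem_centralizer_singleton_iff.mpr hgy) hg
      intro b hb
      rw [Subgroup.mem_centralizer_singleton_iff]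
      exact congrArg Subtype.val (hB.is_comm.comm ⟨b, hb⟩ ⟨y, hy⟩)
    rw [hcen]
    intro k
    have hk : k ∈ Subgroup.centralizer {y} := h1 ▸ Subgroup.mem_top k
    exact Subgroup.mem_centralizer_singleton_iff.mp hk
  have G1 : ∀ B : Subgroup S, IsMulCommutative ↥B → B.index = p → Z ≤ B := by
    intro B hB hBi z hz
    by_contra hzB
    apply hna
    have hBZ : ∀ w ∈ B, ∀ g, g * w = w * g := fun w hw =>
      (hcen w).mp (G2 B hB hBi w hw z hzB ((hcen z).mp hz w).symm)
    have := Cfsg.Agent.S4584.CZ hp B hBZ (by rw [hBi])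
    exact ⟨⟨this⟩⟩
  obtain ⟨n, hn⟩ := hS.exists_card_eq
  have hn0 : n ≠ 0 := by
    rintro rfl
    have h1 : A.index ∣ Nat.card S := Subgroup.index_dvd_card A
    rw [hAi, hn, pow_zero] at h1
    exact hp.one_lt.ne' (Nat.dvd_one.mp h1)
  haveI hAn : A.Normal := by
    apply Subgroup.normal_of_index_eq_minFac_card
    rw [hAi, hn, hp.pow_minFac hn0]
  obtain ⟨x, hx⟩ : ∃ x : S, x ∉ A := by
    by_contra hall
    push_neg at hall
    have : A = ⊤ := (Subgroup.eq_top_iff' A).mpr hall
    rw [this, Subgroup.index_top] at hAi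
    exact hp.one_lt.ne hAi
  have hcA : commutator ↥A = ⊥ := by
    rw [eq_bot_iff]
    apply Cfsg.Agent.S4584.comm_le
    intro a b
    rw [Subgroup.mem_bot, hA.is_comm.comm a b]; group
  have hkey := Cfsg.Agent.S4586.key p hp A hAi x hx
  have hmap : (commutator ↥A).map A.subtype = ⊥ := by rw [hcA, Subgroup.map_bot]
  have hcardfix : Nat.card {n : A // x * n * x⁻¹ * (n : S)⁻¹ ∈ (commutator A).map A.subtype}
      = Nat.card ↥Z := by
    apply Nat.card_congr
    exact
      { toFun := fun a => ⟨a.1.1, by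
          have h1 : x * (a.1 : S) * x⁻¹ * (a.1 : S)⁻¹ = 1 := Subgroup.mem_bot.mp (hmap.le a.2)
          apply G2 A hA hAi a.1.1 a.1.2 x hx
          calc x * (a.1 : S) = (x * a.1 * x⁻¹ * (a.1 : S)⁻¹) * (a.1 * x) := by group
            _ = a.1 * x := by rw [h1, one_mul]⟩
        invFun := fun z => ⟨⟨z.1, G1 A hA hAi z.2⟩, by
          apply hmap.ge
          rw [Subgroup.mem_bot]
          show x * z.1 * x⁻¹ * z.1⁻¹ = 1
          rw [(hcen z.1).mp z.2 x]; group⟩
        left_inv := fun a => rfl
        right_inv := fun z => rfl }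
  rw [hcardfix, hcA, Subgroup.card_bot, mul_one] at hkey
  have hzpos : 0 < Nat.card ↥Z := Nat.card_pos
  have hmain : Z.index = p * Nat.card (commutator S) := by
    have e1 : Z.index * Nat.card ↥Z = Nat.card S := Subgroup.index_mul_card Z
    have e2 : (commutator S).index * Nat.card ↥(commutator S) = Nat.card S :=
      Subgroup.index_mul_card _
    rw [hkey] at e2
    apply Nat.eq_of_mul_eq_mul_right hzpos
    rw [e1, ← e2]; ring
  refine ⟨hmain, ?_⟩
  have hDne : commutator S ≠ ⊥ := by
    intro h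
    apply hna
    refine ⟨⟨fun a b => ?_⟩⟩
    have h2 : a * b * a⁻¹ * b⁻¹ ∈ commutator S := Cfsg.Agent.S4584.mem_comm a b
    rw [h, Subgroup.mem_bot] at h2
    calc a * b = (a * b * a⁻¹ * b⁻¹) * (b * a) := by group
      _ = b * a := by rw [h2, one_mul]
  obtain ⟨k, hk, hDk⟩ := (Nat.dvd_prime_pow hp).mp
    (hn ▸ Subgroup.card_subgroup_dvd_card (commutator S) : Nat.card ↥(commutator S) ∣ p ^ n)
  have hk0 : k ≠ 0 := by
    rintro rfl
    rw [pow_zero] at hDk
    exact hDne (Subgroup.card_eq_one.mp hDk)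
  by_cases hk1 : k = 1
  · left
    have hD : Nat.card ↥(commutator S) = p := by rw [hDk, hk1, pow_one]
    have hZ2 : Z.index = p ^ 2 := by rw [hmain, hD, sq]
    have hQ : Nat.card (S ⧸ Z) = p ^ 2 := by rw [← Subgroup.index_eq_card]; exact hZ2
    have hQc := IsPGroup.isMulCommutative_of_card_eq_prime_sq hQ
    have hDZ : commutator S ≤ Z := by
      apply Cfsg.Agent.S4584.comm_le
      intro a b
      rw [← QuotientGroup.eq_one_iff]
      have h1 : ((a : S ⧸ Z)) * (b : S ⧸ Z) = (b : S ⧸ Z) * (a : S ⧸ Z) := hQc.is_comm.comm _ _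
      simp only [QuotientGroup.mk_mul, QuotientGroup.mk_inv]
      rw [h1]; group
    refine ⟨hD, ⟨⟨⟨fun a b => Subtype.ext (hQc.is_comm.comm a.1 b.1)⟩⟩, ?_⟩, hQ, count p hp hZ2 G1⟩
    intro a _
    obtain ⟨g, rfl⟩ := QuotientGroup.mk_surjective a
    rw [← QuotientGroup.mk_pow, QuotientGroup.eq_one_iff, hcen]
    intro y
    set c := y⁻¹ * g⁻¹ * y⁻¹⁻¹ * g⁻¹⁻¹ with hc
    have hcD : c ∈ commutator S := Cfsg.Agent.S4584.mem_comm _ _
    have hcp : c ^ p = 1 := by
      have h1 : (⟨c, hcD⟩ : ↥(commutator S)) ^ Nat.card ↥(commutator S) = 1 := pow_card_eq_one'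
      rw [hD] at h1
      exact congrArg Subtype.val h1
    have h2 := Cfsg.Agent.S3910.L1 g y c ((hcen c).mp (hDZ hcD)) (by rw [hc]; group) p
    rw [h2, hcp, mul_one]
  · right
    have hk2 : 2 ≤ k := by omega
    have hD2 : p ^ 2 ≤ Nat.card ↥(commutator S) := by
      rw [hDk]; exact Nat.pow_le_pow_right hp.pos hk2
    refine ⟨hD2, ?_⟩
    intro B hB hBi
    by_contra hne
    obtain ⟨b, hbB, hbA⟩ : ∃ b ∈ B, b ∉ A := by
      by_contra hall
      push_neg at hall
      apply hne
      have hle : B ≤ A := hall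
      apply Subgroup.eq_of_le_of_card_ge hle
      have e1 := Subgroup.index_mul_card A
      have e2 := Subgroup.index_mul_card B
      rw [hAi] at e1
      rw [hBi, ← e1] at e2
      exact (Nat.eq_of_mul_eq_mul_left hp.pos e2).ge
    have hle : A ⊓ B ≤ Z := by
      intro y hy
      apply G2 A hA hAi y hy.1 b hbA
      exact congrArg Subtype.val (hB.is_comm.comm ⟨b, hbB⟩ ⟨y, hy.2⟩)
    have h1 : Z.index ∣ (A ⊓ B).index := Subgroup.index_dvd_of_le hle
    have h2 : (A ⊓ B).index ≤ A.index * B.index := Subgroup.index_inf_le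
    have h4 : (A ⊓ B).index ≠ 0 := Subgroup.index_ne_zero_of_finite
    have h5 : Z.index ≤ p * p := by
      calc Z.index ≤ (A ⊓ B).index := Nat.le_of_dvd (Nat.pos_of_ne_zero h4) h1
        _ ≤ A.index * B.index := h2
        _ = p * p := by rw [hAi, hBi]
    rw [hmain] at h5
    have h6 : Nat.card ↥(commutator S) ≤ p := Nat.le_of_mul_le_mul_left h5 hp.pos
    have h7 : p < p ^ 2 := by
      rw [sq]; exact lt_mul_of_one_lt_left hp.pos hp.one_lt
    omega

end Cfsg.Agent.S3807
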