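import Cfsg.Statements.S3808
import Cfsg.Agent.H20.Extra

set_option autoImplicit false
open Cfsg

namespace Cfsg.Agent.S3808

open Subgroup Cfsg.Agent.H20

/-- Let S be a finite p-group with an extraspecial subgroup Q of index p. Then either Z(S) = Z(Q), or S = Q·Z(S) and Z(S) has order p². -/
theorem result {S : Type*} [Group S] [Finite S] (p : ℕ) [Fact p.Prime] (hS : IsPGroup p S) (Q : Subgroup S) (hQ : Cfsg.IsExtraspecial p ↥Q) (hQi : Q.index = p) :
    Subgroup.center S = (Subgroup.center ↥Q).map Q.subtype ∨
      (Q ⊔ Subgroup.center S = ⊤ ∧ Nat.card (Subgroup.center S) = p ^ 2) := by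
  have hQn : Q.Normal := normal_of_index_eq_prime hS Q hQi
  have hZn : ((center Q).map Q.subtype).Normal := center_map_normal Q
  have hZc : Nat.card ((center Q).map Q.subtype) = p := by rw [card_center_map, hQ.2]
  have hZle : (center Q).map Q.subtype ≤ center S := le_center_of_normal_of_card_le hS _ hZc.le
  have hZQ : (center Q).map Q.subtype ≤ Q := by
    rintro _ ⟨z, _, rfl⟩; exact z.2
  have hinf : Q ⊓ center S = (center Q).map Q.subtype := by
    rw [inf_comm]
    exact le_antisymm (center_inf_le Q) (le_inf hZle hZQ)
  by_cases h : center S ≤ Q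
  · left
    rw [← hinf, inf_eq_right.2 h]
  · right
    have htop := sup_eq_top_of_index_prime Q (center S) hQi h
    refine ⟨htop, ?_⟩
    have h1 := relIndex_inf_normal Q (center S)
    rw [htop, relIndex_top_right, hQi] at h1
    have h2 := card_mul_relIndex (inf_le_right : Q ⊓ center S ≤ center S)
    rw [h1, hinf, hZc] at h2
    rw [← h2, sq]

end Cfsg.Agent.S3808
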