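import Cfsg.Statements.S3809
import Cfsg.Agent.S0095
import Cfsg.Agent.H20.Extra3

set_option autoImplicit false
open Cfsg

namespace Cfsg.Agent.S3809

open Subgroup Cfsg.Agent.H20

/-- Let S be a finite p-group with an extraspecial subgroup of index p. Then S has order p^(2+2n) for some n ≥ 1, derived length at most 3, and exponent dividing p³. -/
theorem result {S : Type*} [Group S] [Finite S] (p : ℕ) [Fact p.Prime] (hS : IsPGroup p S) (Q : Subgroup S) (hQ : Cfsg.IsExtraspecial p ↥Q) (hQi : Q.index = p) :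
    (∃ n : ℕ, 1 ≤ n ∧ Nat.card S = p ^ (2 + 2 * n)) ∧ derivedSeries S 3 = ⊥ ∧ ∀ x : S, x ^ (p ^ 3) = 1 := by
  have hQn : Q.Normal := normal_of_index_eq_prime hS Q hQi
  refine ⟨?_, ?_, ?_⟩
  · obtain ⟨n, hn, hc⟩ := Cfsg.Agent.S0095.result hQ
    refine ⟨n, hn, ?_⟩
    rw [← Q.card_mul_index, hc, hQi]
    ring
  · have h1 : derivedSeries S 1 ≤ Q := by
      rw [derivedSeries_one]
      exact commutator_le_of_index_prime Q hQi
    have h2 : derivedSeries S 2 ≤ (center Q).map Q.subtype := by
      rw [derivedSeries_succ, ← hQ.1.2.2, map_subtype_commutator]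
      exact commutator_mono h1 h1
    rw [derivedSeries_succ, eq_bot_iff]
    refine (commutator_mono h2 h2).trans ?_
    rw [le_bot_iff, commutator_eq_bot_iff_le_centralizer]
    rintro _ ⟨z, hz, rfl⟩
    rw [mem_centralizer_iff]
    rintro _ ⟨w, _, rfl⟩
    exact congrArg Subtype.val (mem_center_iff.1 hz w)
  · intro x
    have h1 : x ^ p ∈ Q := by
      have := Subgroup.pow_index_mem Q x
      rwa [hQi] at this
    have h2 := IsExtraspecial.pow_sq_eq_one hQ ⟨x ^ p, h1⟩
    have h3 : (x ^ p) ^ (p ^ 2) = 1 := congrArg Subtype.val h2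
    rw [← h3, ← pow_mul]
    congr 1
    ring

end Cfsg.Agent.S3809
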