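import Cfsg.Statements.S3824
import Cfsg.Agent.H20.PGroup
import Cfsg.Agent.S0143

set_option autoImplicit false
open Cfsg

namespace Cfsg.Agent.S3824

open Cfsg.Agent.H20

theorem aux : ∀ (n : ℕ) (G : Type*) [Group G] [Finite G], Nat.card G = n →
    ∀ (A : Subgroup G), IsMulCommutative A → (∃ k : ℕ, A.index = 2 ^ k) → Group.IsSolvable G := by
  intro n
  induction n using Nat.strong_induction_on with
  | _ n ih =>
  intro G _ _ hcard A hA ⟨k, hk⟩
  by_cases hsimple : IsSimpleGroup G
  · by_cases hA1 : A = ⊥
    · subst hA1
      rw [Subgroup.index_bot] at hk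
      have hp : IsPGroup 2 G := IsPGroup.of_card hk
      have : Group.IsNilpotent G := hp.isNilpotent
      infer_instance
    · obtain ⟨a, ha, ha1⟩ := A.bot_or_exists_ne_one.resolve_left hA1
      have hle : A ≤ Subgroup.centralizer ({a} : Set G) := by
        intro b hb
        rw [Subgroup.mem_centralizer_singleton_iff]
        exact comm_of_mem hA hb ha
      have hdvd : (Subgroup.centralizer ({a} : Set G)).index ∣ 2 ^ k := hk ▸ Subgroup.index_dvd_of_le hle
      obtain ⟨j, _, hj⟩ := (Nat.dvd_prime_pow Nat.prime_two).1 hdvd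
      have hprime := Cfsg.Agent.S0143.result 2 j Nat.prime_two a ha1 hj
      have : Fact (Nat.card G).Prime := ⟨hprime⟩
      have hcyc : IsCyclic G := isCyclic_of_prime_card rfl
      obtain ⟨g, hg⟩ := hcyc.exists_generator
      apply Group.isSolvable_of_comm
      intro a b
      obtain ⟨i, rfl⟩ := Subgroup.mem_zpowers_iff.1 (hg a)
      obtain ⟨j, rfl⟩ := Subgroup.mem_zpowers_iff.1 (hg b)
      rw [← zpow_add, ← zpow_add, add_comm]
  · by_cases hnt : Nontrivial G
    · have : ∃ N : Subgroup G, N.Normal ∧ N ≠ ⊥ ∧ N ≠ ⊤ := by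
        by_contra hcon
        push Not at hcon
        apply hsimple
        exact ⟨fun N hN => by
          by_cases h : N = ⊥
          · exact Or.inl h
          · exact Or.inr (hcon N hN h)⟩
      obtain ⟨N, hN, hNbot, hNtop⟩ := this
      have hcN : Nat.card N < n := by
        rw [← hcard]
        rcases (Subgroup.card_le_card_group N).lt_or_eq with h | h
        · exact h
        · exact absurd (Subgroup.eq_top_of_card_eq N h) hNtop
      have hcQ : Nat.card (G ⧸ N) < n := by
        rw [← hcard, ← Subgroup.card_mul_index N, ← Subgroup.index]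
        have h1 : 1 < Nat.card N := by
          rw [Subgroup.one_lt_card_iff_ne_bot]; exact hNbot
        have h2 : 0 < N.index := Nat.pos_of_ne_zero Subgroup.index_ne_zero_of_finite
        nlinarith
      have hsN : Group.IsSolvable N := by
        apply ih _ hcN N rfl (A.subgroupOf N)
        · exact isMulCommutative_of_comm (fun a ha b hb => Subtype.ext (comm_of_mem hA ha hb))
        · have h3 : (A.subgroupOf N).index ∣ 2 ^ k := by
            have : (A.subgroupOf N).index = A.relIndex (A ⊔ N) := by
              rw [← relIndex_inf_normal, Subgroup.inf_relIndex_right]; rfl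
            rw [this, ← hk]
            exact Subgroup.relIndex_dvd_index_of_le le_sup_left
          obtain ⟨j, _, hj⟩ := (Nat.dvd_prime_pow Nat.prime_two).1 h3
          exact ⟨j, hj⟩
      have hsQ : Group.IsSolvable (G ⧸ N) := by
        apply ih _ hcQ (G ⧸ N) rfl (A.map (QuotientGroup.mk' N))
        · apply isMulCommutative_of_comm
          rintro _ ⟨a, ha, rfl⟩ _ ⟨b, hb, rfl⟩
          rw [← map_mul, ← map_mul, comm_of_mem hA ha hb]
        · have h3 : (A.map (QuotientGroup.mk' N)).index ∣ 2 ^ k := by
            rw [← hk]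
            exact Subgroup.index_map_dvd A (QuotientGroup.mk'_surjective N)
          obtain ⟨j, _, hj⟩ := (Nat.dvd_prime_pow Nat.prime_two).1 h3
          exact ⟨j, hj⟩
      exact Group.isSolvable_of_ker_le_range N.subtype (QuotientGroup.mk' N) (by simp)
    · rw [not_nontrivial_iff_subsingleton] at hnt
      infer_instance

theorem result {G : Type*} [Group G] [Finite G]
    (A : Subgroup G) (hA : IsMulCommutative A) (hidx : ∃ k : ℕ, A.index = 2 ^ k) : Group.IsSolvable G :=
  aux _ G rfl A hA hidx

end Cfsg.Agent.S3824
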