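import Cfsg.Statements.S3868
import Cfsg.Agent.H20.MinNonPClosed
import Cfsg.Agent.H1.CoprimeSylow
import Cfsg.Agent.H1.Compl
-- import your own Cfsg.Agent.* helpers here

set_option autoImplicit false
open Cfsg

namespace Cfsg.Agent.S3868

open Cfsg.Agent.H20 Subgroup

/-- a normal Sylow subgroup of a normal subgroup is normal in the whole group -/
theorem normal_map_of_normal_sylow {G : Type*} [Group G] [Finite G] {p : ℕ} [Fact p.Prime]
    (M : Subgroup G) [M.Normal] (R : Sylow p M) (hR : (R : Subgroup M).Normal) :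
    ((R : Subgroup M).map M.subtype).Normal := by
  have : (R : Subgroup M).Characteristic := Sylow.characteristic_of_normal R hR
  exact ConjAct.normal_of_characteristic_of_normal

/-- Structure of the non-simple minimal non-p-closed groups. Call a finite group p-closed when its Sylow p-subgroups are normal, and minimal non-p-closed when it is not p-closed but every proper subgroup and every proper quotient is. If such a group G is not simple, then there is a prime q ≠ p such that G has order p · q^e, where e is the multiplicative order of q modulo p, and G has a normal subgroup A of order q^e that is elementary abelian and is a minimal normal subgroup of G (so G is the semidirect product of A by a group of order p acting irreducibly). -/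
theorem result {G : Type*} [Group G] [Finite G] {p : ℕ} [Fact p.Prime]
    (hnc : ¬ Cfsg.IsPClosed p G) (hsub : ∀ H : Subgroup G, H ≠ ⊤ → Cfsg.IsPClosed p ↥H)
    (hquo : ∀ (N : Subgroup G) [N.Normal], N ≠ ⊥ → Cfsg.IsPClosed p (G ⧸ N)) (hns : ¬ IsSimpleGroup G) :
    ∃ q : ℕ, q.Prime ∧ q ≠ p ∧ Nat.card G = p * q ^ orderOf (q : ZMod p) ∧
      ∃ A : Subgroup G, A.Normal ∧ Nat.card ↥A = q ^ orderOf (q : ZMod p) ∧ Cfsg.IsElementaryAbelian q A ∧
        ∀ B : Subgroup G, B.Normal → B ≤ A → B = ⊥ ∨ B = A := by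
  have hp : p.Prime := Fact.out
  obtain ⟨P, hPn⟩ : ∃ P : Sylow p G, ¬ (P : Subgroup G).Normal := by
    by_contra h
    push Not at h
    exact hnc h
  -- Step 1
  have step1 : ∀ N : Subgroup G, N.Normal → N ≠ ⊥ → (P : Subgroup G) ⊔ N = ⊤ := by
    intro N hN hN0
    by_contra hne
    have hq := hquo N hN0
    let P' : Sylow p (G ⧸ N) := P.mapSurjective (QuotientGroup.mk'_surjective N)
    have hP' : (P' : Subgroup (G ⧸ N)).Normal := hq P'
    have hPN : ((P : Subgroup G) ⊔ N).Normal := by
      have e : (P : Subgroup G) ⊔ N = (P' : Subgroup (G ⧸ N)).comap (QuotientGroup.mk' N) := by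
        rw [Sylow.coe_mapSurjective, comap_map_eq, QuotientGroup.ker_mk']
      rw [e]; infer_instance
    have hcl := hsub _ hne
    let P1 : Sylow p ↥((P : Subgroup G) ⊔ N) := P.subtype le_sup_left
    have h1 := normal_map_of_normal_sylow _ P1 (hcl P1)
    apply hPn
    have e : (P1 : Subgroup ↥((P : Subgroup G) ⊔ N)).map ((P : Subgroup G) ⊔ N).subtype = P := by
      rw [Sylow.coe_subtype, map_subgroupOf_eq_of_le le_sup_left]
    rwa [e] at h1
  have step1' : ∀ N : Subgroup G, N.Normal → N ≤ P → N = ⊥ := by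
    intro N hN hNP
    by_contra hN0
    have h1 := step1 N hN hN0
    rw [sup_eq_left.2 hNP] at h1
    apply hPn
    rw [h1]; infer_instance
  -- nontrivial proper normal subgroup
  have hnt : Nontrivial G := by
    by_contra h
    rw [not_nontrivial_iff_subsingleton] at h
    exact hPn ⟨fun n hn g => by rw [Subsingleton.elim (g * n * g⁻¹) n]; exact hn⟩
  obtain ⟨N₀, hN₀n, hN₀0, hN₀t⟩ : ∃ N₀ : Subgroup G, N₀.Normal ∧ N₀ ≠ ⊥ ∧ N₀ ≠ ⊤ := by
    by_contra h
    push Not at h
    apply hns
    refine ⟨fun H hH => ?_⟩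
    by_cases h0 : H = ⊥
    · exact Or.inl h0
    · exact Or.inr (h H hH h0)
  obtain ⟨N, ⟨hNn, hN0, hNle⟩, hNmin'⟩ :=
    (Set.toFinite {L : Subgroup G | L.Normal ∧ L ≠ ⊥ ∧ L ≤ N₀}).exists_minimal
      ⟨N₀, hN₀n, hN₀0, le_rfl⟩
  have hNmin : ∀ B : Subgroup G, B.Normal → B ≤ N → B = ⊥ ∨ B = N := by
    intro B hB hBN
    by_cases h0 : B = ⊥
    · exact Or.inl h0
    · exact Or.inr (le_antisymm hBN (hNmin' ⟨hB, h0, hBN.trans hNle⟩ hBN))
  have hNt : N ≠ ⊤ := fun h => hN₀t (top_le_iff.1 (h ▸ hNle))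
  -- N is a p'-group
  have hNcop : (Nat.card N).Coprime p := by
    obtain ⟨R⟩ : Nonempty (Sylow p N) := inferInstance
    have h1 := normal_map_of_normal_sylow N R (hsub N hNt R)
    have h2 : IsPGroup p ((R : Subgroup N).map N.subtype) := R.2.map _
    have h3 := step1' _ h1 (h2.le_sylow_of_normal P)
    have h4 : (R : Subgroup N) = ⊥ := by
      rwa [map_eq_bot_iff_of_injective _ N.subtype_injective] at h3
    rw [Nat.coprime_comm, Nat.Prime.coprime_iff_not_dvd hp]
    intro hdvd
    exact R.ne_bot_of_dvd_card hdvd h4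
  have hPNtop := step1 N hNn hN0
  -- N does not centralize P
  have hNC : ¬ N ≤ centralizer (P : Set G) := by
    intro h
    apply hPn
    rw [← normalizer_eq_top_iff, ← top_le_iff, ← hPNtop]
    exact sup_le le_normalizer (h.trans (centralizer_le_normalizer _))
  have hrel : (centralizer (P : Set G)).relIndex N ≠ 1 := fun h => hNC (relIndex_eq_one.1 h)
  obtain ⟨q, hq, hqd⟩ := Nat.exists_prime_and_dvd hrel
  have : Fact q.Prime := ⟨hq⟩
  have hPcop : (Nat.card (P : Subgroup G)).Coprime (Nat.card N) := by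
    obtain ⟨n, hn⟩ := IsPGroup.iff_card.1 P.2
    rw [hn]
    exact (Nat.Coprime.pow_right n hNcop).symm
  have hPsolv : Group.IsSolvable (P : Subgroup G) := by
    have := P.2.isNilpotent
    infer_instance
  obtain ⟨Q, hQ⟩ := (Cfsg.H1.coprime_sylow_aux (P : Subgroup G) N
    (by rw [normalizer_eq_top_iff.2 hNn]; exact le_top) hPcop (Or.inl hPsolv) q).1
  set Q' : Subgroup G := (Q : Subgroup N).map N.subtype with hQ'
  have hQ'N : Q' ≤ N := map_subtype_le _
  have hQ'C : ¬ Q' ≤ centralizer (P : Set G) := by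
    intro h
    have h1 : (Q : Subgroup N) ≤ (centralizer (P : Set G)).subgroupOf N := by
      intro y hy
      rw [mem_subgroupOf]
      exact h ⟨y, hy, rfl⟩
    have h2 := index_dvd_of_le h1
    exact Q.not_dvd_index (hqd.trans h2)
  have hQ'cop : (Nat.card Q').Coprime p :=
    Nat.Coprime.coprime_dvd_left (Subgroup.card_dvd_of_le hQ'N) hNcop
  have hPQ : (P : Subgroup G) ⊔ Q' = ⊤ := by
    by_contra hne
    apply hQ'C
    intro a ha
    rw [mem_centralizer_iff]
    intro x hx
    exact comm_of_isPClosed_subgroup (hsub _ hne) (le_sup_right : Q' ≤ (P : Subgroup G) ⊔ Q')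
      (sup_le hQ le_normalizer) hQ'cop le_sup_left P.2 hx ha
  have hQ'n : Q'.Normal := by
    rw [← normalizer_eq_top_iff, ← top_le_iff, ← hPQ]
    exact sup_le hQ le_normalizer
  have hQN : Q' = N := by
    rcases hNmin Q' hQ'n hQ'N with h | h
    · exact absurd (h ▸ bot_le) hQ'C
    · exact h
  have hNq : IsPGroup q N := hQN ▸ (Q.2.map N.subtype)
  have hqp : q ≠ p := by
    rintro rfl
    have := inf_eq_bot_of_isPGroup_of_coprime hNq hNcop
    rw [inf_idem] at this
    exact hN0 this
  -- elementary abelian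
  have hNsolv : Group.IsSolvable N := by
    have := hNq.isNilpotent
    infer_instance
  obtain ⟨r, A₀, hr, hA₀n, hA₀N, hA₀0, hA₀c, hA₀r⟩ := Cfsg.H1.exists_normal_elemAb_le N hNsolv hN0
  have hA₀ : A₀ = N := (hNmin A₀ hA₀n hA₀N).resolve_left hA₀0
  subst hA₀
  have hrq : r = q := by
    obtain ⟨⟨y, hy⟩, hy1⟩ := (A₀.ne_bot_iff_exists_ne_one).1 hN0
    have hy1' : y ≠ 1 := fun h => hy1 (Subtype.ext h)
    have : Fact r.Prime := ⟨hr⟩
    have h1 : orderOf y = r := orderOf_eq_prime (hA₀r y hy) hy1'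
    obtain ⟨k, hk⟩ := IsPGroup.iff_orderOf.1 hNq ⟨y, hy⟩
    rw [Subgroup.orderOf_mk, h1] at hk
    exact (Nat.prime_dvd_prime_iff_eq hr hq).1 (hr.dvd_of_dvd_pow (Dvd.intro 1 (by rw [mul_one]; exact hk) : r ∣ q ^ k))
  subst hrq
  have hNel : Cfsg.IsElementaryAbelian r A₀ := by
    refine ⟨isMulCommutative_of_comm (fun a ha b hb => ?_), hA₀r⟩
    exact (commutator_eq_bot_iff_le_centralizer.1 hA₀c hb a ha)
  have hP0 : (P : Subgroup G) ≠ ⊥ := fun h => hPn (h ▸ inferInstance)
  have hpP : p ∣ Nat.card (P : Subgroup G) := by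
    rcases P.2.card_eq_or_dvd with h | h
    · exact absurd ((P : Subgroup G).card_eq_one.1 h) hP0
    · exact h
  obtain ⟨⟨x, hxP⟩, hx⟩ := exists_prime_orderOf_dvd_card' p hpP
  have hx' : orderOf x = p := by rwa [Subgroup.orderOf_mk] at hx
  have hxp : x ^ p = 1 := hx' ▸ pow_orderOf_eq_one x
  have hCP : (P : Subgroup G) ⊓ centralizer (A₀ : Set G) = ⊥ := by
    apply step1' _ _ inf_le_left
    rw [← normalizer_eq_top_iff, ← top_le_iff, ← hPNtop]
    refine sup_le ?_ ?_
    · intro g hg
      apply mem_normalizer_of_conj_mem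
      intro b hb
      have hcn : (centralizer (A₀ : Set G)).Normal := inferInstance
      exact mem_inf.2 ⟨mul_mem (mul_mem hg (mem_inf.1 hb).1) (inv_mem hg),
        hcn.conj_mem b (mem_inf.1 hb).2 g⟩
    · intro g hg
      apply mem_normalizer_of_conj_mem
      intro b hb
      have h1 : g * b = b * g := (mem_centralizer_iff.1 (mem_inf.1 hb).2 g hg)
      rw [h1, mul_inv_cancel_right]; exact hb
  have hxnc : ∃ a ∈ A₀, x * a ≠ a * x := by
    by_contra hcon
    push Not at hcon
    have h1 : x ∈ (P : Subgroup G) ⊓ centralizer (A₀ : Set G) :=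
      mem_inf.2 ⟨hxP, mem_centralizer_iff.2 (fun a ha => (hcon a ha).symm)⟩
    rw [hCP, mem_bot] at h1
    rw [h1, orderOf_one] at hx'
    exact hp.one_lt.ne hx'
  have htop : A₀ ⊔ zpowers x = ⊤ := by
    by_contra hne
    obtain ⟨a, ha, hne'⟩ := hxnc
    exact hne' (comm_of_isPClosed_subgroup (hsub _ hne) (le_sup_left : A₀ ≤ A₀ ⊔ zpowers x)
      (by rw [normalizer_eq_top_iff.2 hNn]; exact le_top) hNcop le_sup_right
      (isPGroup_zpowers_of_pow_eq_one hxp) (mem_zpowers x) ha)
  have hcardA := card_of_minimal_normal hqp A₀ hNel hNmin x hxp htop hxnc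
  have hidx : A₀.index = p := by
    rw [← relIndex_top_right, ← htop, relIndex_sup_left, ← inf_relIndex_right, inf_comm,
      inf_eq_bot_of_isPGroup_of_coprime (isPGroup_zpowers_of_pow_eq_one hxp) hNcop,
      relIndex_bot_left, Nat.card_zpowers, hx']
  refine ⟨r, hr, hqp, ?_, A₀, hNn, hcardA, hNel, hNmin⟩
  rw [← A₀.card_mul_index, hidx, hcardA, mul_comm]

end Cfsg.Agent.S3868
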