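import Cfsg.Statements.S3869
import Cfsg.Agent.H20.MinNonPClosed
-- import your own Cfsg.Agent.* helpers here

set_option autoImplicit false
open Cfsg

namespace Cfsg.Agent.S3869

open Cfsg.Agent.H20 Subgroup

/-- Let p and q be distinct primes and G a finite non-abelian group with a normal elementary abelian q-subgroup A that is a minimal normal subgroup of G and has index p. Then A has order q^e with e the multiplicative order of q modulo p, and G is minimal non-p-closed: its Sylow p-subgroups are not normal, while in every proper subgroup and in every proper quotient of G the Sylow p-subgroups are normal. -/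
theorem result {G : Type*} [Group G] [Finite G] {p q : ℕ} [Fact p.Prime] (hq : q.Prime) (hpq : q ≠ p)
    (hna : ¬ IsMulCommutative G) (A : Subgroup G) [A.Normal] (hA : Cfsg.IsElementaryAbelian q A) (hidx : A.index = p)
    (hmin : ∀ B : Subgroup G, B.Normal → B ≤ A → B = ⊥ ∨ B = A) :
    Nat.card ↥A = q ^ orderOf (q : ZMod p) ∧ ¬ Cfsg.IsPClosed p G ∧ (∀ H : Subgroup G, H ≠ ⊤ → Cfsg.IsPClosed p ↥H) ∧
      ∀ (N : Subgroup G) [N.Normal], N ≠ ⊥ → Cfsg.IsPClosed p (G ⧸ N) := by
  have : Fact q.Prime := ⟨hq⟩
  have hAn : A.Normal := inferInstance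
  have hp : p.Prime := Fact.out
  have hAc : ∀ a ∈ A, ∀ b ∈ A, a * b = b * a := fun a ha b hb => comm_of_mem hA.1 ha hb
  have hAq : IsPGroup q A := by
    rintro ⟨a, ha⟩
    exact ⟨1, by ext; simpa using hA.2 a ha⟩
  have hAcop : (Nat.card A).Coprime p := by
    obtain ⟨n, hn⟩ := IsPGroup.iff_card.1 hAq
    rw [hn]; exact Nat.Coprime.pow_left n ((Nat.coprime_primes hq hp).2 hpq)
  have hna' : ¬ ∀ g h : G, g * h = h * g := fun h => hna ⟨⟨h⟩⟩
  have hkey : ∀ y : G, y ∉ A → ∃ a ∈ A, y * a ≠ a * y := by
    intro y hy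
    by_contra hcon
    push Not at hcon
    exact hna' (comm_of_sup_eq_top hAc hcon
      (sup_eq_top_of_index_prime hp hidx (fun h => hy (h (mem_zpowers y)))))
  have hcard : Nat.card G = Nat.card A * p := by rw [← hidx, A.card_mul_index]
  obtain ⟨x, hx⟩ := exists_prime_orderOf_dvd_card' p (by rw [hcard]; exact dvd_mul_left _ _)
  have hxp : x ^ p = 1 := hx ▸ pow_orderOf_eq_one x
  have hxA : x ∉ A := by
    intro h
    have h1 : p ∣ Nat.card A := hx ▸ (Subgroup.orderOf_dvd_natCard A h)
    exact hp.one_lt.ne' (Nat.Coprime.eq_one_of_dvd hAcop.symm h1)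
  have htop : A ⊔ zpowers x = ⊤ :=
    sup_eq_top_of_index_prime hp hidx (fun h => hxA (h (mem_zpowers x)))
  refine ⟨card_of_minimal_normal hpq A hA hmin x hxp htop (hkey x hxA), ?_, ?_, ?_⟩
  · intro hcl
    obtain ⟨a, ha, hne⟩ := hkey x hxA
    exact hne (comm_of_isPClosed hcl A hAcop (zpowers x) (isPGroup_zpowers_of_pow_eq_one hxp)
      (mem_zpowers x) ha)
  · intro H hH
    by_cases hHA : H ≤ A
    · apply isPClosed_of_coprime
      exact Nat.Coprime.coprime_dvd_left (Subgroup.card_dvd_of_le hHA) hAcop
    · have hsup := sup_eq_top_of_index_prime hp hidx hHA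
      have hn : (H ⊓ A).Normal := by
        rw [← normalizer_eq_top_iff, ← top_le_iff, ← hsup]
        refine sup_le ?_ ?_
        · intro a ha
          apply mem_normalizer_of_conj_mem
          intro b hb
          rw [hAc a ha b hb.2, mul_inv_cancel_right]; exact hb
        · intro h hh
          apply mem_normalizer_of_conj_mem
          intro b hb
          exact mem_inf.2 ⟨mul_mem (mul_mem hh (mem_inf.1 hb).1) (inv_mem hh),
            hAn.conj_mem b (mem_inf.1 hb).2 h⟩
      rcases hmin _ hn inf_le_right with h0 | h0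
      · apply isPClosed_of_isPGroup
        have h2 : Nat.card H = p := by
          have h1 : A.relIndex H = p := by
            rw [← relIndex_sup_left, hsup, relIndex_top_right, hidx]
          rw [← inf_relIndex_right, inf_comm, h0, relIndex_bot_left] at h1
          exact h1
        exact IsPGroup.of_card (n := 1) (by rw [h2, pow_one])
      · exact absurd (top_le_iff.1 (hsup ▸ sup_le (inf_eq_right.1 h0) le_rfl)) hH
  · intro N hNn hN
    have hn : (N ⊓ A).Normal := inferInstance
    rcases hmin _ hn inf_le_right with h0 | h0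
    · exfalso
      have h1 : ¬ N ≤ A := fun h => hN (by rw [← h0, inf_eq_left.2 h])
      obtain ⟨y, hyN, hyA⟩ := SetLike.not_le_iff_exists.1 h1
      obtain ⟨a, ha, hne⟩ := hkey y hyA
      apply hne
      have h2 : y * a * y⁻¹ * a⁻¹ ∈ N ⊓ A := by
        rw [mem_inf]
        refine ⟨?_, mul_mem (hAn.conj_mem a ha y) (inv_mem ha)⟩
        have e : y * a * y⁻¹ * a⁻¹ = y * (a * y⁻¹ * a⁻¹) := by group
        rw [e]
        exact mul_mem hyN (hNn.conj_mem _ (inv_mem hyN) a)
      rw [h0, mem_bot] at h2
      have h3 : y * a = (y * a * y⁻¹ * a⁻¹) * (a * y) := by group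
      rw [h3, h2, one_mul]
    · apply isPClosed_of_isPGroup
      have hAN : A ≤ N := inf_eq_right.1 h0
      have h1 : N.index ∣ p := hidx ▸ index_dvd_of_le hAN
      rcases (Nat.dvd_prime hp).1 h1 with h1 | h1
      · exact IsPGroup.of_card (n := 0) (by rw [pow_zero]; exact h1)
      · exact IsPGroup.of_card (n := 1) (by rw [pow_one]; exact h1)

end Cfsg.Agent.S3869
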