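import Cfsg.Statements.S3870
import Cfsg.Agent.H20.PGroup

set_option autoImplicit false
open Cfsg

namespace Cfsg.Agent.S3870

open Cfsg.Agent.H20

/-- In a p-closed proper subgroup `H`, all p-subgroups of `H` lie in a common Sylow subgroup of `G`. -/
theorem exists_sylow_of_closed {G : Type*} [Group G] [Finite G] {p : ℕ} [Fact p.Prime] (H : Subgroup G) (hH : Cfsg.IsPClosed p ↥H) :
    ∃ T : Sylow p G, ∀ K : Subgroup G, K ≤ H → IsPGroup p K → K ≤ T := by
  obtain ⟨S⟩ : Nonempty (Sylow p H) := inferInstance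
  have hSp : IsPGroup p ((S : Subgroup H).map H.subtype) := S.2.map _
  obtain ⟨T, hT⟩ := hSp.exists_le_sylow
  refine ⟨T, fun K hKH hK => ?_⟩
  have h1 : IsPGroup p (K.subgroupOf H) := hK.comap_of_injective _ H.subtype_injective
  have h2 := le_normal_sylow S (hH S) h1
  intro x hx
  exact hT ⟨⟨x, hKH hx⟩, h2 (by simpa [Subgroup.mem_subgroupOf] using hx), rfl⟩

theorem result {G : Type*} [Group G] [Finite G] [IsSimpleGroup G] {p : ℕ} [Fact p.Prime]
    (hnc : ¬ Cfsg.IsPClosed p G) (hsub : ∀ H : Subgroup G, H ≠ ⊤ → Cfsg.IsPClosed p ↥H) :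
    (∀ P Q : Sylow p G, P ≠ Q → (P : Subgroup G) ⊓ (Q : Subgroup G) = ⊥) ∧
      ∀ (P : Sylow p G) (R : Subgroup G), R ≤ P → R ≠ ⊥ →
        Subgroup.normalizer (R : Set G) ≤ Subgroup.normalizer ((P : Subgroup G) : Set G) := by
  -- normalizers of nontrivial p-subgroups are proper
  have hprop : ∀ R : Subgroup G, IsPGroup p R → R ≠ ⊥ → Subgroup.normalizer (R : Set G) ≠ ⊤ := by
    intro R hR hR1 hN
    have hRn : R.Normal := Subgroup.normalizer_eq_top_iff.1 hN
    rcases hRn.eq_bot_or_eq_top with h | h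
    · exact hR1 h
    · apply hnc
      intro P
      obtain ⟨Q, hQ⟩ := hR.exists_le_sylow
      have hQtop : (Q : Subgroup G) = ⊤ := top_le_iff.1 (h ▸ hQ)
      have hPQ : (P : Subgroup G) = ⊤ := by
        obtain ⟨g, rfl⟩ := MulAction.exists_smul_eq G Q P
        rw [Sylow.coe_subgroup_smul, hQtop]
        simp
      rw [hPQ]; infer_instance
  have hTI : ∀ P Q : Sylow p G, P ≠ Q → (P : Subgroup G) ⊓ (Q : Subgroup G) = ⊥ := by
    by_contra hcon
    push Not at hcon
    obtain ⟨P0, Q0, hPQ0, hD0⟩ := hcon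
    let α := {PQ : Sylow p G × Sylow p G // PQ.1 ≠ PQ.2 ∧ (PQ.1 : Subgroup G) ⊓ (PQ.2 : Subgroup G) ≠ ⊥}
    haveI : Nonempty α := ⟨⟨(P0, Q0), hPQ0, hD0⟩⟩
    obtain ⟨⟨⟨P, Q⟩, hPQ, hD⟩, hmax⟩ := Finite.exists_max (fun x : α => Nat.card ((x.1.1 : Subgroup G) ⊓ (x.1.2 : Subgroup G) : Subgroup G))
    simp only at hPQ hD hmax
    set D := (P : Subgroup G) ⊓ (Q : Subgroup G) with hDdef
    have hDp : IsPGroup p D := P.2.to_le inf_le_left
    obtain ⟨T, hT⟩ := exists_sylow_of_closed _ (hsub _ (hprop D hDp hD))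
    -- general step
    have step : ∀ P' : Sylow p G, D ≤ P' → D ≠ P' → P' = T := by
      intro P' hle hne
      obtain ⟨x, hxP, hxN, hxD⟩ := exists_mem_normalizer_not_mem P'.2 (lt_of_le_of_ne hle hne)
      by_contra hPT
      have hDT : D ≤ T := hT D Subgroup.le_normalizer hDp
      have hxT : x ∈ (T : Subgroup G) := by
        have h1 : Subgroup.zpowers x ≤ Subgroup.normalizer (D : Set G) := by
          rwa [Subgroup.zpowers_le]
        have h2 : IsPGroup p (Subgroup.zpowers x) := P'.2.to_le (by rwa [Subgroup.zpowers_le])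
        exact hT _ h1 h2 (Subgroup.mem_zpowers x)
      have hlt : D < (P' : Subgroup G) ⊓ (T : Subgroup G) := by
        refine lt_of_le_of_ne (le_inf hle hDT) ?_
        intro h
        apply hxD
        rw [h]
        exact ⟨hxP, hxT⟩
      have hne' : (P' : Subgroup G) ⊓ (T : Subgroup G) ≠ ⊥ := by
        intro h
        rw [h] at hlt
        exact not_lt_bot hlt
      have := hmax ⟨(P', T), hPT, hne'⟩
      simp only at this
      exact hlt.ne (Subgroup.eq_of_le_of_card_ge hlt.le this)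
    have hDP : D ≠ P := by
      intro h
      apply hPQ
      have h1 : (P : Subgroup G) ≤ Q := by rw [← h]; exact inf_le_right
      exact Sylow.ext (P.3 Q.2 h1).symm ▸ rfl
    have hDQ : D ≠ Q := by
      intro h
      apply hPQ
      have h1 : (Q : Subgroup G) ≤ P := by rw [← h]; exact inf_le_left
      exact (Sylow.ext (Q.3 P.2 h1))
    exact hPQ ((step P inf_le_left hDP).trans (step Q inf_le_right hDQ).symm)
  refine ⟨hTI, ?_⟩
  intro P R hRP hR1 h hh
  have hRp : IsPGroup p R := P.2.to_le hRP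
  obtain ⟨T, hT⟩ := exists_sylow_of_closed _ (hsub _ (hprop R hRp hR1))
  have hRT : R ≤ T := hT R Subgroup.le_normalizer hRp
  have hne : ∀ P' : Sylow p G, R ≤ P' → P' = P := by
    intro P' hRP'
    by_contra hne
    have := hTI P' P hne
    apply hR1
    rw [eq_bot_iff, ← this]
    exact le_inf hRP' hRP
  -- h • P contains R
  have h1 : R ≤ ((h • P : Sylow p G) : Subgroup G) := by
    intro r hr
    rw [Sylow.coe_subgroup_smul, conj_smul_eq, mem_conj_iff]
    apply hRP
    have := (Subgroup.mem_normalizer_iff.1 (inv_mem hh) r).1 hr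
    simpa using this
  have h2 := hne _ h1
  exact Sylow.smul_eq_iff_mem_normalizer.1 h2

end Cfsg.Agent.S3870
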