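import Cfsg.Statements.S3873
import Cfsg.Agent.H20.MinNonPClosed
import Cfsg.Agent.S3868
-- import your own Cfsg.Agent.* helpers here

set_option autoImplicit false
open Cfsg

namespace Cfsg.Agent.S3873

open Cfsg.Agent.H20 Subgroup

/-- Say that a finite group is p-exponent closed when its elements of order dividing p form a subgroup. Let G be a finite group that is not p-exponent closed, but all of whose proper subgroups and proper quotients are, and suppose G is neither simple nor a p-group. Then there is a prime q ≠ p such that G has order p · q^e, where e is the multiplicative order of q modulo p, and G has a normal elementary abelian subgroup of order q^e that is a minimal normal subgroup of G. -/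
theorem result {G : Type*} [Group G] [Finite G] {p : ℕ} [Fact p.Prime]
    (hnc : ¬ (∃ H : Subgroup G, (H : Set G) = {g : G | g ^ p = 1})) (hsub : ∀ K : Subgroup G, K ≠ ⊤ → (∃ H : Subgroup ↥K, (H : Set ↥K) = {g : ↥K | g ^ p = 1}))
    (hquo : ∀ (N : Subgroup G) [N.Normal], N ≠ ⊥ → (∃ H : Subgroup (G ⧸ N), (H : Set (G ⧸ N)) = {g : (G ⧸ N) | g ^ p = 1}))
    (hns : ¬ IsSimpleGroup G) (hnp : ¬ IsPGroup p G) :
    ∃ q : ℕ, q.Prime ∧ q ≠ p ∧ Nat.card G = p * q ^ orderOf (q : ZMod p) ∧
      ∃ A : Subgroup G, A.Normal ∧ Nat.card ↥A = q ^ orderOf (q : ZMod p) ∧ Cfsg.IsElementaryAbelian q A ∧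
        ∀ B : Subgroup G, B.Normal → B ≤ A → B = ⊥ ∨ B = A := by
  have hp : p.Prime := Fact.out
  have hE : closure {g : G | g ^ p = 1} = ⊤ := by
    obtain ⟨E, hEdef⟩ : ∃ E : Subgroup G, E = closure {g : G | g ^ p = 1} := ⟨_, rfl⟩
    rw [← hEdef]
    by_contra hne
    obtain ⟨H, hH⟩ := hsub _ hne
    have hgen : ∀ g : G, g ^ p = 1 → g ∈ E := fun g hg => hEdef ▸ subset_closure hg
    have hEle : ∀ K : Subgroup G, (∀ g : G, g ^ p = 1 → g ∈ K) → E ≤ K := fun K hK => by
      rw [hEdef, closure_le]; exact hK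
    apply hnc
    have hHtop : H = ⊤ := by
      have h1 : E ≤ H.map E.subtype := by
        apply hEle
        intro g hg
        have hgE : g ∈ E := hgen g hg
        refine ⟨⟨g, hgE⟩, ?_, rfl⟩
        have h2 : (⟨g, hgE⟩ : E) ∈ (H : Set E) := by
          rw [hH]
          exact Subtype.ext (by simpa using hg)
        exact h2
      rw [eq_top_iff]
      intro y _
      obtain ⟨z, hz, hzy⟩ := h1 y.2
      have h3 : z = y := Subtype.ext hzy
      exact h3 ▸ hz
    refine ⟨E, ?_⟩
    ext g
    constructor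
    · intro hg
      have h2 : (⟨g, hg⟩ : E) ∈ (H : Set E) := by rw [hHtop]; trivial
      rw [hH] at h2
      exact congrArg Subtype.val h2
    · intro hg
      exact hgen g hg
  have hexp : ∀ (N : Subgroup G) [N.Normal], N ≠ ⊥ → ∀ g : G, g ^ p ∈ N := by
    intro N _ hN g
    obtain ⟨H, hH⟩ := hquo N hN
    have h1 : (⊤ : Subgroup G) ≤ H.comap (QuotientGroup.mk' N) := by
      rw [← hE, closure_le]
      intro y hy
      change (QuotientGroup.mk' N y) ∈ (H : Set _)
      rw [hH]
      change (QuotientGroup.mk' N y) ^ p = 1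
      have hy' : y ^ p = 1 := hy
      rw [← map_pow, hy', map_one]
    have h2 : QuotientGroup.mk' N g ∈ (H : Set _) := h1 (mem_top g)
    rw [hH] at h2
    have h3 : (QuotientGroup.mk' N g) ^ p = 1 := h2
    rw [← map_pow] at h3
    exact (QuotientGroup.eq_one_iff _).1 h3
  have hnt : Nontrivial G := by
    by_contra h
    rw [not_nontrivial_iff_subsingleton] at h
    exact hnp (fun g => ⟨0, Subsingleton.elim _ _⟩)
  obtain ⟨N, hNn, hN0, hNt⟩ : ∃ N₀ : Subgroup G, N₀.Normal ∧ N₀ ≠ ⊥ ∧ N₀ ≠ ⊤ := by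
    by_contra h
    push Not at h
    apply hns
    refine ⟨fun H hH => ?_⟩
    by_cases h0 : H = ⊥
    · exact Or.inl h0
    · exact Or.inr (h H hH h0)
  have hNfree : ∀ g ∈ N, g ^ p = 1 → g = 1 := by
    obtain ⟨H, hH⟩ := hsub N hNt
    set R := H.map N.subtype with hR
    have hRmem : ∀ g, g ∈ R ↔ g ∈ N ∧ g ^ p = 1 := by
      intro g
      constructor
      · rintro ⟨y, hy, rfl⟩
        have hy' : y ∈ (H : Set N) := hy
        rw [hH] at hy'
        exact ⟨y.2, congrArg Subtype.val hy'⟩
      · rintro ⟨hgN, hgp⟩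
        refine ⟨⟨g, hgN⟩, ?_, rfl⟩
        have h2 : (⟨g, hgN⟩ : N) ∈ (H : Set N) := by
          rw [hH]
          exact Subtype.ext (by simpa using hgp)
        exact h2
    have hRn : R.Normal := ⟨fun n hn g => (hRmem _).2 ⟨hNn.conj_mem _ ((hRmem n).1 hn).1 g, by
      rw [conj_pow, ((hRmem n).1 hn).2]; simp⟩⟩
    by_contra hcon
    push Not at hcon
    obtain ⟨g, hgN, hgp, hg1⟩ := hcon
    have hR0 : R ≠ ⊥ := fun h => hg1 (by
      have h2 : g ∈ R := (hRmem g).2 ⟨hgN, hgp⟩
      rwa [h, mem_bot] at h2)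
    apply hnp
    intro y
    refine ⟨2, ?_⟩
    have h1 := hexp R hR0 y
    rw [pow_two, pow_mul]
    exact ((hRmem _).1 h1).2
  have hpel : ∀ g : G, ∀ k, g ^ (p ^ k) = 1 → g ^ p = 1 := by
    intro g k hk
    have hN1 : ∀ k, ∀ y ∈ N, y ^ (p ^ k) = 1 → y = 1 := by
      intro k
      induction k with
      | zero => intro y _ h; simpa using h
      | succ k ih =>
        intro y hy h
        have h2 : (y ^ (p ^ k)) ^ p = 1 := by rw [← pow_mul, ← pow_succ]; exact h
        exact ih y hy (hNfree _ (pow_mem hy _) h2)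
    apply hN1 k _ (hexp N hN0 g)
    rw [← pow_mul, mul_comm, pow_mul, hk, one_pow]
  have hcrit : ∀ K : Subgroup G, (∃ H : Subgroup K, (H : Set K) = {g : K | g ^ p = 1}) →
      Cfsg.IsPClosed p K := by
    rintro K ⟨H, hH⟩ S
    have hHp : IsPGroup p H := by
      rintro ⟨y, hy⟩
      refine ⟨1, ?_⟩
      have hy' : y ∈ (H : Set K) := hy
      rw [hH] at hy'
      have hy'' : y ^ p = 1 := hy'
      exact Subtype.ext (by simpa using hy'')
    have hSH : (S : Subgroup K) ≤ H := by
      intro y hy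
      obtain ⟨k, hk⟩ := S.2 ⟨y, hy⟩
      have hk' : (y : G) ^ (p ^ k) = 1 := by
        simpa using congrArg (fun z : (S : Subgroup K) => ((z : K) : G)) hk
      have h2 : y ∈ (H : Set K) := by
        rw [hH]
        exact Subtype.ext (by simpa using hpel y k hk')
      exact h2
    have h3 : H = S := S.is_maximal' hHp hSH
    rw [← h3]
    refine ⟨fun n hn g => ?_⟩
    have hn' : n ∈ (H : Set K) := hn
    rw [hH] at hn'
    have hn'' : n ^ p = 1 := hn'
    have h4 : g * n * g⁻¹ ∈ (H : Set K) := by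
      rw [hH]
      change (g * n * g⁻¹) ^ p = 1
      rw [conj_pow, hn'']; simp
    exact h4
  apply Cfsg.Agent.S3868.result (p := p) ?_ (fun H hH => hcrit H (hsub H hH)) ?_ hns
  · intro hcl
    apply hnc
    obtain ⟨S⟩ : Nonempty (Sylow p G) := inferInstance
    refine ⟨S, ?_⟩
    ext g
    constructor
    · intro hg
      obtain ⟨k, hk⟩ := S.2 ⟨g, hg⟩
      exact hpel g k (by simpa using congrArg Subtype.val hk)
    · intro hg
      exact le_normal_sylow S (hcl S) (isPGroup_zpowers_of_pow_eq_one hg) (mem_zpowers g)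
  · intro M _ hM
    apply isPClosed_of_isPGroup
    intro y
    obtain ⟨g, rfl⟩ := QuotientGroup.mk'_surjective M y
    refine ⟨1, ?_⟩
    rw [pow_one, ← map_pow]
    exact (QuotientGroup.eq_one_iff _).2 (hexp M hM g)

end Cfsg.Agent.S3873
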