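import Cfsg.Statements.S3889
import Mathlib

set_option autoImplicit false
open Cfsg

namespace Cfsg.Agent.S3889

theorem result {G : Type*} [CommGroup G] [Finite G] (𝓑 : Set (Subgroup G)) (hprop : ∀ B ∈ 𝓑, B ≠ ⊤)
    (hcov : ∀ g : G, ∃ B ∈ 𝓑, g ∈ B) (hdisj : ∀ B ∈ 𝓑, ∀ C ∈ 𝓑, B ≠ C → B ⊓ C = ⊥) :
    (Monoid.exponent G).Prime := by
  -- key divisibility
  have key : ∀ B ∈ 𝓑, ∀ a ∈ B, ∀ b : G, b ∉ B → orderOf a ∣ orderOf b := by
    intro B hB a ha b hb
    rw [orderOf_dvd_iff_pow_eq_one]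
    by_contra hne
    obtain ⟨C, hC, habC⟩ := hcov (a * b)
    have h1 : (a * b) ^ orderOf b = a ^ orderOf b := by
      rw [mul_pow, pow_orderOf_eq_one, mul_one]
    have h2 : a ^ orderOf b ∈ C := h1 ▸ pow_mem habC _
    have h3 : a ^ orderOf b ∈ B := pow_mem ha _
    have hBC : B = C := by
      by_contra hBC
      have := hdisj B hB C hC hBC
      have h4 : a ^ orderOf b ∈ B ⊓ C := ⟨h3, h2⟩
      rw [this, Subgroup.mem_bot] at h4
      exact hne h4
    subst hBC
    apply hb
    have : b = a⁻¹ * (a * b) := by group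
    rw [this]
    exact mul_mem (inv_mem ha) habC
  have key2 : ∀ B ∈ 𝓑, ∀ a ∈ B, a ≠ 1 → ∀ b : G, b ∉ B → orderOf a = orderOf b := by
    intro B hB a ha ha1 b hb
    apply Nat.dvd_antisymm (key B hB a ha b hb)
    obtain ⟨C, hC, hbC⟩ := hcov b
    apply key C hC b hbC a
    intro haC
    have hBC : B ≠ C := by
      rintro rfl
      exact hb hbC
    have := hdisj B hB C hC hBC
    have h4 : a ∈ B ⊓ C := ⟨ha, haC⟩
    rw [this, Subgroup.mem_bot] at h4
    exact ha1 h4
  -- all nonidentity elements have the same order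
  have hsame : ∀ a b : G, a ≠ 1 → b ≠ 1 → orderOf a = orderOf b := by
    intro a b ha hb
    obtain ⟨B, hB, haB⟩ := hcov a
    by_cases hbB : b ∈ B
    · obtain ⟨c, hc⟩ : ∃ c, c ∉ B := by
        by_contra h
        push Not at h
        exact hprop B hB (eq_top_iff.2 fun x _ => h x)
      rw [key2 B hB a haB ha c hc, key2 B hB b hbB hb c hc]
    · exact key2 B hB a haB ha b hbB
  have hnt : Nontrivial G := by
    by_contra h
    rw [not_nontrivial_iff_subsingleton] at h
    obtain ⟨B, hB, _⟩ := hcov 1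
    exact hprop B hB (Subsingleton.elim _ _)
  obtain ⟨a, ha⟩ := exists_ne (1 : G)
  have hoa : orderOf a ≠ 1 := by rwa [Ne, orderOf_eq_one_iff]
  obtain ⟨p, hp, hpa⟩ := Nat.exists_prime_and_dvd hoa
  have hc : orderOf (a ^ (orderOf a / p)) = p := by
    have := orderOf_pow_orderOf_div (orderOf_pos a).ne' hpa
    exact this
  have hc1 : a ^ (orderOf a / p) ≠ 1 := by
    intro h
    rw [h, orderOf_one] at hc
    exact hp.one_lt.ne hc
  have : Monoid.exponent G = p := by
    rw [Monoid.exponent_eq_prime_iff hp]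
    intro g hg
    rw [hsame g _ hg hc1, hc]
  rw [this]; exact hp

end Cfsg.Agent.S3889
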