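import Cfsg.Statements.S3890
import Cfsg.Agent.H20.NilCover
-- import your own Cfsg.Agent.* helpers here

set_option autoImplicit false
open Cfsg

namespace Cfsg.Agent.S3890

/-- A cover of a group is a finite set of proper subgroups whose union is the whole group; it is minimal when no cover has fewer members, and nilpotent when all its members are nilpotent. Let G be a finite group with trivial center admitting a nilpotent minimal cover 𝓐, and let P be an abelian Sylow p-subgroup of G that is not normal. Then either P is elementary abelian of order greater than p, or P is a Sylow p-subgroup of some member A of 𝓐, the normalizer N of P is a maximal subgroup of G, N meets each of its conjugates by elements outside N in a subgroup of order prime to p, and the centralizer of P equals A. -/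
theorem result {G : Type*} [Group G] [Finite G] (hZ : Subgroup.center G = ⊥) (𝓐 : Finset (Subgroup G))
    (h𝓐 : ((∀ A ∈ 𝓐, A ≠ ⊤) ∧ (∀ g : G, ∃ A ∈ 𝓐, g ∈ A)) ∧ (∀ 𝓑 : Finset (Subgroup G), (∀ A ∈ 𝓑, A ≠ ⊤) ∧ (∀ g : G, ∃ A ∈ 𝓑, g ∈ A) → 𝓐.card ≤ 𝓑.card) ∧ (∀ A ∈ 𝓐, Group.IsNilpotent ↥A)) {p : ℕ} [Fact p.Prime] (P : Sylow p G) (hab : IsMulCommutative ↥(P : Subgroup G))
    (hnn : ¬ (P : Subgroup G).Normal) :
    (Cfsg.IsElementaryAbelian p (P : Subgroup G) ∧ p < Nat.card ↥(P : Subgroup G)) ∨
    (∃ A ∈ 𝓐, (P : Subgroup G) ≤ A ∧ ¬ p ∣ ((P : Subgroup G).subgroupOf A).index ∧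
      IsCoatom (Subgroup.normalizer ((P : Subgroup G) : Set G)) ∧
      (∀ g : G, g ∉ Subgroup.normalizer ((P : Subgroup G) : Set G) →
        ¬ p ∣ Nat.card ↥(Subgroup.normalizer ((P : Subgroup G) : Set G) ⊓
          (Subgroup.normalizer ((P : Subgroup G) : Set G)).map (MulAut.conj g).toMonoidHom)) ∧
      Subgroup.centralizer ((P : Subgroup G) : Set G) = A) := by
  have hNC : Cfsg.Agent.H20.NilCover.NC 𝓐 := ⟨hZ, h𝓐.1.1, h𝓐.1.2, h𝓐.2.1, h𝓐.2.2⟩
  have habel : ∀ a ∈ P, ∀ b ∈ P, a * b = b * a := by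
    intro a ha b hb
    have := hab.is_comm.comm (⟨a, ha⟩ : (P : Subgroup G)) ⟨b, hb⟩
    exact congrArg Subtype.val this
  by_cases hE : Cfsg.IsElementaryAbelian p (P : Subgroup G) ∧ p < Nat.card ↥(P : Subgroup G)
  · exact Or.inl hE
  · right
    have hgood : Cfsg.Agent.H20.NilCover.Good P := by
      refine ⟨habel, ?_⟩
      by_cases hx : ∃ x ∈ P, x ^ p ≠ 1
      · exact Or.inl hx
      · right
        push Not at hx
        have hel : Cfsg.IsElementaryAbelian p (P : Subgroup G) := ⟨hab, hx⟩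
        have hle : Nat.card ↥(P : Subgroup G) ≤ p := not_lt.1 (fun h => hE ⟨hel, h⟩)
        obtain ⟨k, hk⟩ := IsPGroup.iff_card.1 P.2
        have hk0 : k ≠ 0 := by
          rintro rfl
          rw [pow_zero, Subgroup.card_eq_one] at hk
          apply hnn
          rw [hk]
          infer_instance
        exact le_antisymm hle (hk ▸ Nat.le_self_pow hk0 p)
    obtain ⟨A, hA, h1, h2, h3, h4, h5, -⟩ := hNC.main hgood hnn
    exact ⟨A, hA, h1, h2, h3, h4, h5⟩

end Cfsg.Agent.S3890
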