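import Cfsg.Statements.S3891
import Cfsg.Agent.H20.NilCover
-- import your own Cfsg.Agent.* helpers here

set_option autoImplicit false
open Cfsg

namespace Cfsg.Agent.S3891

/-- A cover of a group is a finite set of proper subgroups whose union is the whole group; it is minimal when no cover has fewer members, and nilpotent when all its members are nilpotent. Let G be a finite group with trivial center admitting a nilpotent minimal cover, and let P be a non-normal Sylow p-subgroup of G that is cyclic, or abelian but not elementary abelian. Then the centralizer of P is nilpotent and the normalizer of P is the unique maximal subgroup of G containing the centralizer of P. -/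
theorem result {G : Type*} [Group G] [Finite G] (hZ : Subgroup.center G = ⊥) (𝓐 : Finset (Subgroup G))
    (h𝓐 : ((∀ A ∈ 𝓐, A ≠ ⊤) ∧ (∀ g : G, ∃ A ∈ 𝓐, g ∈ A)) ∧ (∀ 𝓑 : Finset (Subgroup G), (∀ A ∈ 𝓑, A ≠ ⊤) ∧ (∀ g : G, ∃ A ∈ 𝓑, g ∈ A) → 𝓐.card ≤ 𝓑.card) ∧ (∀ A ∈ 𝓐, Group.IsNilpotent ↥A)) {p : ℕ} [Fact p.Prime] (P : Sylow p G)
    (hP : IsCyclic ↥(P : Subgroup G) ∨ (IsMulCommutative ↥(P : Subgroup G) ∧ ¬ Cfsg.IsElementaryAbelian p (P : Subgroup G)))
    (hnn : ¬ (P : Subgroup G).Normal) :
    Group.IsNilpotent ↥(Subgroup.centralizer ((P : Subgroup G) : Set G)) ∧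
      IsCoatom (Subgroup.normalizer ((P : Subgroup G) : Set G)) ∧
      ∀ M : Subgroup G, IsCoatom M → Subgroup.centralizer ((P : Subgroup G) : Set G) ≤ M →
        M = Subgroup.normalizer ((P : Subgroup G) : Set G) := by
  have hNC : Cfsg.Agent.H20.NilCover.NC 𝓐 := ⟨hZ, h𝓐.1.1, h𝓐.1.2, h𝓐.2.1, h𝓐.2.2⟩
  have hgood : Cfsg.Agent.H20.NilCover.Good P := by
    rcases hP with hcyc | ⟨hab, hne⟩
    · refine ⟨?_, ?_⟩
      · intro a ha b hb
        have := (IsCyclic.isMulCommutative (α := ↥(P : Subgroup G))).is_comm.comm ⟨a, ha⟩ ⟨b, hb⟩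
        exact congrArg Subtype.val this
      · by_cases hx : ∃ x ∈ P, x ^ p ≠ 1
        · exact Or.inl hx
        · right
          push Not at hx
          obtain ⟨g, hg⟩ := IsCyclic.exists_generator (α := ↥(P : Subgroup G))
          have ho : orderOf g = Nat.card ↥(P : Subgroup G) := orderOf_eq_card_of_forall_mem_zpowers hg
          have hgp : g ^ p = 1 := by
            apply Subtype.ext
            simpa using hx g g.2
          have hdvd : Nat.card ↥(P : Subgroup G) ∣ p := ho ▸ orderOf_dvd_of_pow_eq_one hgp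
          rcases (Nat.dvd_prime (Fact.out : p.Prime)).1 hdvd with h1 | h1
          · exfalso
            rw [Subgroup.card_eq_one] at h1
            apply hnn
            rw [h1]
            infer_instance
          · exact h1
    · refine ⟨?_, Or.inl ?_⟩
      · intro a ha b hb
        have := hab.is_comm.comm (⟨a, ha⟩ : (P : Subgroup G)) ⟨b, hb⟩
        exact congrArg Subtype.val this
      · by_contra hx
        push Not at hx
        exact hne ⟨hab, hx⟩
  obtain ⟨A, hA, h1, h2, h3, h4, h5, h6⟩ := hNC.main hgood hnn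
  refine ⟨?_, h3, h6⟩
  rw [h5]
  exact h𝓐.2.2 A hA

end Cfsg.Agent.S3891
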