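import Cfsg.Statements.S4400
import Mathlib
import Cfsg.Agent.S0012

set_option autoImplicit false
open Cfsg

namespace Cfsg.Agent.S4400

open scoped commutatorElement

theorem exists_center_of_normal {X : Type*} [Group X] [Finite X] {p : ℕ} [Fact p.Prime]
    (hX : IsPGroup p X) (N : Subgroup X) [N.Normal] (hN : N ≠ ⊥) :
    ∃ z ∈ N, z ≠ 1 ∧ z ∈ Subgroup.center X := by
  letI : MulAction X N := MulAction.compHom N (MulAut.conjNormal (H := N))
  have hsm : ∀ (g : X) (n : N), ((g • n : N) : X) = g * n * g⁻¹ := fun g n => rfl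
  have hdvd : p ∣ Nat.card N := by
    obtain ⟨k, hk⟩ := (hX.to_subgroup N).exists_card_eq
    rcases Nat.eq_zero_or_pos k with rfl | hk0
    · rw [pow_zero] at hk
      exact absurd (Subgroup.card_eq_one.mp hk) hN
    · rw [hk]; exact dvd_pow_self p hk0.ne'
  have h1 : (1 : N) ∈ MulAction.fixedPoints X N := fun g => Subtype.ext (by rw [hsm]; simp)
  obtain ⟨b, hb, hne⟩ := hX.exists_fixed_point_of_prime_dvd_card_of_fixed_point N hdvd h1
  refine ⟨b, b.2, fun h => hne (Subtype.ext h.symm), ?_⟩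
  rw [Subgroup.mem_center_iff]
  intro g
  have h2 := congrArg Subtype.val (hb g)
  rw [hsm] at h2
  calc g * (b : X) = (g * b * g⁻¹) * g := by group
    _ = b * g := by rw [h2]

theorem center_map_eq {S : Type*} [Group S] [Finite S] (P : Subgroup S)
    (hZP : Nat.card ↥(Subgroup.center ↥P) = 2) (z : S) (hzP : z ∈ P) (hz1 : z ≠ 1)
    (hzc : ∀ x ∈ P, x * z = z * x) :
    (Subgroup.center ↥P).map P.subtype = Subgroup.zpowers z := by
  symm
  apply Subgroup.eq_of_le_of_card_ge
  · rw [Subgroup.zpowers_le]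
    refine ⟨⟨z, hzP⟩, ?_, rfl⟩
    rw [SetLike.mem_coe, Subgroup.mem_center_iff]
    intro g
    exact Subtype.ext (hzc g g.2)
  · rw [Subgroup.card_map_of_injective P.subtype_injective, hZP, Nat.card_zpowers]
    have h0 := orderOf_pos z
    have h1 : orderOf z ≠ 1 := fun h => hz1 (orderOf_eq_one_iff.mp h)
    omega

theorem card_sup_of_disjoint {S : Type*} [Group S] [Finite S] (A B : Subgroup S) [B.Normal]
    (h : A ⊓ B = ⊥) : Nat.card ↥(A ⊔ B) = Nat.card A * Nat.card B := by
  have h1 : B.relIndex (A ⊔ B) = Nat.card A := by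
    rw [Subgroup.relIndex_sup_right, ← Subgroup.inf_relIndex_right, inf_comm, h,
      Subgroup.relIndex_bot_left]
  have h2 := Subgroup.relIndex_mul_relIndex (⊥ : Subgroup S) B (A ⊔ B) bot_le le_sup_right
  rw [Subgroup.relIndex_bot_left, Subgroup.relIndex_bot_left, h1] at h2
  rw [← h2, mul_comm]

theorem center_le_frattini {P : Type*} [Group P] [Finite P] (hP2 : IsPGroup 2 P)
    (hP : ¬ IsMulCommutative P) (hZP : Nat.card ↥(Subgroup.center P) = 2) :
    Subgroup.center P ≤ frattini P := by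
  haveI : Fact (Nat.Prime 2) := ⟨Nat.prime_two⟩
  have hc : commutator P ≠ ⊥ := by
    intro h
    apply hP
    refine ⟨⟨fun a b => ?_⟩⟩
    have h1 : ⁅a, b⁆ ∈ commutator P := by
      rw [commutator_def]
      exact Subgroup.commutator_mem_commutator (Subgroup.mem_top _) (Subgroup.mem_top _)
    rw [h, Subgroup.mem_bot] at h1
    exact commutatorElement_eq_one_iff_mul_comm.mp h1
  obtain ⟨z, hz, hz1, hzc⟩ := exists_center_of_normal hP2 (commutator P) hc
  have h1 : Subgroup.zpowers z = Subgroup.center P := by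
    apply Subgroup.eq_of_le_of_card_ge (Subgroup.zpowers_le.mpr hzc)
    rw [hZP, Nat.card_zpowers]
    have h0 := orderOf_pos z
    have h1 : orderOf z ≠ 1 := fun h => hz1 (orderOf_eq_one_iff.mp h)
    omega
  rw [← h1, Subgroup.zpowers_le]
  exact (Cfsg.Agent.S0012.result 2 hP2).1 hz

theorem four_le_index_frattini {P : Type*} [Group P] [Finite P]
    (hP : ¬ IsMulCommutative P) : 4 ≤ (frattini P).index := by
  by_contra hlt
  push Not at hlt
  have hcyc : IsCyclic (P ⧸ frattini P) := by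
    have hpos : 0 < Nat.card (P ⧸ frattini P) := Nat.card_pos
    have hc : Nat.card (P ⧸ frattini P) < 4 := hlt
    have h3 : Nat.card (P ⧸ frattini P) = 1 ∨ Nat.card (P ⧸ frattini P) = 2 ∨
        Nat.card (P ⧸ frattini P) = 3 := by omega
    rcases h3 with h | h | h
    · haveI : Subsingleton (P ⧸ frattini P) := (Nat.card_eq_one_iff_unique.mp h).1
      infer_instance
    · haveI : Fact (Nat.Prime 2) := ⟨Nat.prime_two⟩
      exact isCyclic_of_prime_card h
    · haveI : Fact (Nat.Prime 3) := ⟨Nat.prime_three⟩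
      exact isCyclic_of_prime_card h
  obtain ⟨g, hg⟩ := hcyc.exists_generator
  obtain ⟨x, rfl⟩ := QuotientGroup.mk_surjective g
  have htop : Subgroup.zpowers x ⊔ frattini P = ⊤ := by
    rw [eq_top_iff]
    intro y _
    obtain ⟨k, hk⟩ := Subgroup.mem_zpowers_iff.mp (hg (y : P ⧸ frattini P))
    have h1 : (x ^ k)⁻¹ * y ∈ frattini P := by
      rw [← QuotientGroup.eq]
      rw [QuotientGroup.mk_zpow]
      exact hk
    have h2 : y = x ^ k * ((x ^ k)⁻¹ * y) := by group
    rw [h2]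
    exact Subgroup.mul_mem_sup (Subgroup.zpow_mem_zpowers x k) h1
  have h2 := frattini_nongenerating htop
  apply hP
  refine ⟨⟨fun a b => ?_⟩⟩
  have ha : a ∈ Subgroup.zpowers x := by rw [h2]; trivial
  have hb : b ∈ Subgroup.zpowers x := by rw [h2]; trivial
  obtain ⟨i, rfl⟩ := Subgroup.mem_zpowers_iff.mp ha
  obtain ⟨j, rfl⟩ := Subgroup.mem_zpowers_iff.mp hb
  rw [← zpow_add, ← zpow_add, add_comm]


/-- Let S be a finite 2-group of sectional 2-rank at most 4, and let P and Q be normal non-abelian subgroups of S whose centres have order 2 and are different. Then P and Q commute elementwise and intersect trivially, and PQ contains its own centralizer in S. -/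
theorem result {S : Type*} [Group S] [Finite S] (h2 : IsPGroup 2 S) (hr : Cfsg.SectionalPRankLE 2 4 S)
    (P Q : Subgroup S) [P.Normal] [Q.Normal] (hP : ¬ IsMulCommutative ↥P) (hQ : ¬ IsMulCommutative ↥Q)
    (hZP : Nat.card ↥(Subgroup.center ↥P) = 2) (hZQ : Nat.card ↥(Subgroup.center ↥Q) = 2)
    (hne : (Subgroup.center ↥P).map P.subtype ≠ (Subgroup.center ↥Q).map Q.subtype) :
    ⁅P, Q⁆ = ⊥ ∧ P ⊓ Q = ⊥ ∧ Subgroup.centralizer ((P ⊔ Q : Subgroup S) : Set S) ≤ P ⊔ Q := by
  classical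
  haveI : Fact (Nat.Prime 2) := ⟨Nat.prime_two⟩
  have hPQ : P ⊓ Q = ⊥ := by
    by_contra h
    obtain ⟨z, hz, hz1, hzc⟩ := exists_center_of_normal h2 (P ⊓ Q) h
    have hc : ∀ x : S, x * z = z * x := fun x => (Subgroup.mem_center_iff.mp hzc x)
    apply hne
    rw [center_map_eq P hZP z hz.1 hz1 (fun x _ => hc x),
      center_map_eq Q hZQ z hz.2 hz1 (fun x _ => hc x)]
  have hcomm0 : ⁅P, Q⁆ = ⊥ := by
    rw [eq_bot_iff, ← hPQ]; exact Subgroup.commutator_le_inf P Q
  refine ⟨hcomm0, hPQ, ?_⟩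
  have hcomm : ∀ x ∈ P, ∀ y ∈ Q, x * y = y * x := by
    intro x hx y hy
    have := Subgroup.commutator_eq_bot_iff_le_centralizer.mp hcomm0 hx
    exact (Subgroup.mem_centralizer_iff.mp this y hy).symm
  by_contra hcon
  obtain ⟨c0, hc0C, hc0D⟩ := SetLike.not_le_iff_exists.mp hcon
  set D : Subgroup S := P ⊔ Q with hD
  haveI hDn : D.Normal := Subgroup.sup_normal P Q
  obtain ⟨c, hcC, hcD, hc2⟩ : ∃ c ∈ Subgroup.centralizer (D : Set S), c ∉ D ∧ c ^ 2 ∈ D := by
    obtain ⟨k, hk⟩ := h2 c0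
    have hex : ∃ j, c0 ^ 2 ^ j ∈ D := ⟨k, by rw [hk]; exact D.one_mem⟩
    have hj0 : Nat.find hex ≠ 0 := by
      intro h
      have := Nat.find_spec hex
      rw [h] at this
      simp at this
      exact hc0D this
    obtain ⟨j, hj⟩ := Nat.exists_eq_succ_of_ne_zero hj0
    refine ⟨c0 ^ 2 ^ j, Subgroup.pow_mem _ hc0C _, Nat.find_min hex (by omega), ?_⟩
    have := Nat.find_spec hex
    rw [hj, Nat.succ_eq_add_one, pow_succ, pow_mul] at this
    exact this
  have hP2 : IsPGroup 2 P := h2.to_subgroup P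
  have hQ2 : IsPGroup 2 Q := h2.to_subgroup Q
  set ΦP : Subgroup S := (frattini P).map P.subtype with hΦP
  set ΦQ : Subgroup S := (frattini Q).map Q.subtype with hΦQ
  haveI hΦPn : ΦP.Normal := ConjAct.normal_of_characteristic_of_normal
  haveI hΦQn : ΦQ.Normal := ConjAct.normal_of_characteristic_of_normal
  set K : Subgroup S := ΦP ⊔ ΦQ with hK
  haveI hKn : K.Normal := Subgroup.sup_normal ΦP ΦQ
  set H : Subgroup S := D ⊔ Subgroup.zpowers c with hH
  have sqP : ∀ x ∈ P, x ^ 2 ∈ ΦP := fun x hx =>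
    ⟨⟨x, hx⟩ ^ 2, (Cfsg.Agent.S0012.result 2 hP2).2 ⟨x, hx⟩, rfl⟩
  have sqQ : ∀ x ∈ Q, x ^ 2 ∈ ΦQ := fun x hx =>
    ⟨⟨x, hx⟩ ^ 2, (Cfsg.Agent.S0012.result 2 hQ2).2 ⟨x, hx⟩, rfl⟩
  have cenP : ∀ x ∈ P, (∀ u ∈ P, u * x = x * u) → x ∈ ΦP := fun x hx h =>
    ⟨⟨x, hx⟩, center_le_frattini hP2 hP hZP
      (Subgroup.mem_center_iff.mpr fun g => Subtype.ext (h g g.2)), rfl⟩
  have cenQ : ∀ x ∈ Q, (∀ u ∈ Q, u * x = x * u) → x ∈ ΦQ := fun x hx h =>
    ⟨⟨x, hx⟩, center_le_frattini hQ2 hQ hZQ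
      (Subgroup.mem_center_iff.mpr fun g => Subtype.ext (h g g.2)), rfl⟩
  have hcD' : ∀ d ∈ D, Commute d c := fun d hd => Subgroup.mem_centralizer_iff.mp hcC d hd
  have hc2K : c ^ 2 ∈ K := by
    obtain ⟨x, hx, y, hy, hxy⟩ := Subgroup.mem_sup_of_normal_right.mp hc2
    rw [← hxy]
    refine Subgroup.mul_mem_sup (cenP x hx ?_) (cenQ y hy ?_)
    · intro u hu
      have h1 : Commute u (c ^ 2) := (hcD' u ((le_sup_left : P ≤ D) hu)).pow_right 2
      have h3 : Commute u y := hcomm u hu y hy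
      have hx' : x = c ^ 2 * y⁻¹ := by rw [← hxy]; group
      rw [hx']
      exact h1.mul_right h3.inv_right
    · intro v hv
      have h1 : Commute v (c ^ 2) := (hcD' v ((le_sup_right : Q ≤ D) hv)).pow_right 2
      have h3 : Commute v x := (hcomm x hx v hv).symm
      have hy' : y = x⁻¹ * c ^ 2 := by rw [← hxy]; group
      rw [hy']
      exact h3.inv_right.mul_right h1
  have hsq : ∀ h ∈ H, h ^ 2 ∈ K := by
    intro h hh
    obtain ⟨d, hd, w, hw, rfl⟩ := Subgroup.mem_sup_of_normal_left.mp hh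
    obtain ⟨x, hx, y, hy, rfl⟩ := Subgroup.mem_sup_of_normal_right.mp hd
    obtain ⟨k, rfl⟩ := Subgroup.mem_zpowers_iff.mp hw
    have e1 : Commute (x * y) (c ^ k) := (hcD' _ hd).zpow_right k
    have e2 : Commute x y := hcomm x hx y hy
    have e3 : (c ^ k) ^ 2 = (c ^ 2) ^ k := by
      rw [← zpow_natCast, ← zpow_natCast, ← zpow_mul, ← zpow_mul, mul_comm]
    rw [e1.mul_pow, e2.mul_pow, e3]
    exact K.mul_mem (Subgroup.mul_mem_sup (sqP x hx) (sqQ y hy)) (K.zpow_mem hc2K k)
  have hexp : ∀ a : H ⧸ K.subgroupOf H, a ^ 2 = 1 := by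
    intro a
    obtain ⟨h, rfl⟩ := QuotientGroup.mk_surjective a
    rw [← QuotientGroup.mk_pow, QuotientGroup.eq_one_iff, Subgroup.mem_subgroupOf]
    exact hsq h h.2
  have hab : ∀ a b : H ⧸ K.subgroupOf H, a * b = b * a := by
    intro a b
    have hba := hexp (b * a)
    have ha := hexp a
    have hb := hexp b
    rw [sq] at hba ha hb
    calc a * b = (b * b) * (a * b) * (a * a) := by rw [ha, hb]; simp
      _ = b * ((b * a) * (b * a)) * a := by group
      _ = b * a := by rw [hba]; simp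
  have hle := hr H (K.subgroupOf H) ⊤ ⟨⟨fun a b => Subtype.ext (hab a b)⟩⟩ (fun a _ => hexp a)
  rw [Subgroup.card_top] at hle
  have hle' : K.relIndex H ≤ 2 ^ 4 := hle
  have hKD : K ≤ D := sup_le ((Subgroup.map_subtype_le _).trans le_sup_left)
    ((Subgroup.map_subtype_le _).trans le_sup_right)
  have hDH : D ≤ H := le_sup_left
  have c1 := Subgroup.relIndex_mul_relIndex (⊥ : Subgroup S) K H bot_le (hKD.trans hDH)
  have c2 := Subgroup.relIndex_mul_relIndex (⊥ : Subgroup S) D H bot_le hDH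
  rw [Subgroup.relIndex_bot_left, Subgroup.relIndex_bot_left] at c1 c2
  have c3 : Nat.card D = Nat.card P * Nat.card Q := card_sup_of_disjoint P Q hPQ
  have c4 : Nat.card K = Nat.card ΦP * Nat.card ΦQ := by
    apply card_sup_of_disjoint
    rw [eq_bot_iff, ← hPQ]
    exact inf_le_inf (Subgroup.map_subtype_le _) (Subgroup.map_subtype_le _)
  have c5 : Nat.card ΦP = Nat.card (frattini P) :=
    Subgroup.card_map_of_injective P.subtype_injective
  have c6 : Nat.card ΦQ = Nat.card (frattini Q) :=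
    Subgroup.card_map_of_injective Q.subtype_injective
  have c7 := (frattini P).card_mul_index
  have c8 := (frattini Q).card_mul_index
  have c9 := four_le_index_frattini hP
  have c10 := four_le_index_frattini hQ
  have c11 : 2 ≤ D.relIndex H := by
    have h0 : D.relIndex H ≠ 0 := by
      intro h
      rw [h, mul_zero] at c2
      exact Nat.card_pos.ne c2
    have h1 : D.relIndex H ≠ 1 := by
      intro h
      rw [Subgroup.relIndex_eq_one] at h
      exact hcD (h ((le_sup_right : Subgroup.zpowers c ≤ H) (Subgroup.mem_zpowers c)))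
    omega
  have a0 : 0 < Nat.card (frattini P) := Nat.card_pos
  have b0 : 0 < Nat.card (frattini Q) := Nat.card_pos
  rw [c4, c5, c6] at c1
  rw [c3, ← c7, ← c8] at c2
  generalize Nat.card (frattini P) = a at *
  generalize Nat.card (frattini Q) = b at *
  generalize (frattini P).index = i at *
  generalize (frattini Q).index = j at *
  generalize D.relIndex H = t at *
  generalize K.relIndex H = n at *
  generalize Nat.card H = h at *
  have e : (a * b) * n = (a * b) * (i * j * t) := by rw [c1, ← c2]; ring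
  have e' := Nat.eq_of_mul_eq_mul_left (Nat.mul_pos a0 b0) e
  have : 4 * 4 * 2 ≤ i * j * t := Nat.mul_le_mul (Nat.mul_le_mul c9 c10) c11
  omega

end Cfsg.Agent.S4400
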