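import Cfsg.Statements.S3918
import Mathlib
import Cfsg.Agent.S4400
import Cfsg.Agent.S0126

set_option autoImplicit false
open Cfsg

namespace Cfsg.Agent.S3918

theorem card_le_cube' {V : Type*} [Group V] [Finite V] {p : ℕ} [Fact p.Prime]
    (hV : IsPGroup p V) (A : Subgroup V) [A.Normal] (hAe : ∀ a ∈ A, a ^ p = 1)
    (hAcard : Nat.card A = p ^ 2) (hCA : Subgroup.centralizer (A : Set V) ≤ A) :
    Nat.card V ≤ p ^ 3 := by
  classical
  have hpp : p.Prime := Fact.out
  have hAbot : A ≠ ⊥ := by
    rintro rfl
    rw [Subgroup.card_bot] at hAcard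
    have := hpp.two_le
    nlinarith
  obtain ⟨z, hzA, hz1, hzc⟩ := Cfsg.Agent.S4400.exists_center_of_normal hV A hAbot
  have hordz : orderOf z ≤ p := Nat.le_of_dvd hpp.pos (orderOf_dvd_of_pow_eq_one (hAe z hzA))
  obtain ⟨e, heA, hez⟩ : ∃ e ∈ A, e ∉ Subgroup.zpowers z := by
    apply SetLike.not_le_iff_exists.mp
    intro hle
    have h1 := Subgroup.card_le_of_le hle
    rw [hAcard, Nat.card_zpowers] at h1
    have := hpp.two_le
    nlinarith
  have hB : Subgroup.zpowers z ⊔ Subgroup.zpowers e = A := by
    have hle : Subgroup.zpowers z ⊔ Subgroup.zpowers e ≤ A :=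
      sup_le (Subgroup.zpowers_le.mpr hzA) (Subgroup.zpowers_le.mpr heA)
    apply Subgroup.eq_of_le_of_card_ge hle
    have hd : Nat.card ↥(Subgroup.zpowers z ⊔ Subgroup.zpowers e) ∣ p ^ 2 :=
      hAcard ▸ Subgroup.card_dvd_of_le hle
    obtain ⟨i, hi, hi'⟩ := (Nat.dvd_prime_pow hpp).mp hd
    rw [hAcard, hi']
    apply Nat.pow_le_pow_right hpp.pos
    by_contra hlt
    have hi1 : i ≤ 1 := by omega
    have h2 : Nat.card ↥(Subgroup.zpowers z ⊔ Subgroup.zpowers e) ≤ p := by
      rw [hi']
      calc p ^ i ≤ p ^ 1 := Nat.pow_le_pow_right hpp.pos hi1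
        _ = p := pow_one p
    have hordz' : orderOf z = p := by
      rcases (Nat.dvd_prime hpp).mp (orderOf_dvd_of_pow_eq_one (hAe z hzA)) with h | h
      · exact absurd (orderOf_eq_one_iff.mp h) hz1
      · exact h
    have h3 : Subgroup.zpowers z = Subgroup.zpowers z ⊔ Subgroup.zpowers e :=
      Subgroup.eq_of_le_of_card_ge le_sup_left (by rw [Nat.card_zpowers, hordz']; exact h2)
    apply hez
    rw [h3]
    exact (le_sup_right : Subgroup.zpowers e ≤ _) (Subgroup.mem_zpowers e)
  have hSt : ∀ c : V, c * e = e * c → c ∈ A := by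
    intro c hce
    apply hCA
    rw [Subgroup.mem_centralizer_iff]
    intro a ha
    have h1 : A ≤ Subgroup.centralizer {c} := by
      rw [← hB]
      refine sup_le (Subgroup.zpowers_le.mpr ?_) (Subgroup.zpowers_le.mpr ?_)
      · rw [Subgroup.mem_centralizer_singleton_iff]
        exact (Subgroup.mem_center_iff.mp hzc c).symm
      · rw [Subgroup.mem_centralizer_singleton_iff]
        exact hce.symm
    exact (Subgroup.mem_centralizer_singleton_iff.mp (h1 ha))
  letI : MulAction V A := MulAction.compHom A (MulAut.conjNormal (H := A))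
  have hsm : ∀ (g : V) (n : A), ((g • n : A) : V) = g * n * g⁻¹ := fun g n => rfl
  set ea : A := ⟨e, heA⟩ with hea
  have he1 : e ≠ 1 := fun h => hez (h ▸ Subgroup.one_mem _)
  have i1 := MulAction.index_stabilizer V ea
  have i2 : (MulAction.orbit V ea).ncard < p ^ 2 := by
    have h1 : MulAction.orbit V ea ⊆ ({1}ᶜ : Set A) := by
      rintro _ ⟨g, rfl⟩ h
      have h2 : ((g • ea : A) : V) = 1 := congrArg Subtype.val h
      rw [hsm] at h2
      apply he1
      have h3 : e = g⁻¹ * (g * e * g⁻¹) * g := by group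
      rw [h3]
      rw [show ((ea : A) : V) = e from rfl] at h2
      rw [h2]; group
    have h2 := Set.ncard_le_ncard h1 (Set.toFinite _)
    have h3 : ({1}ᶜ : Set A).ncard = Nat.card A - 1 := by
      rw [Set.ncard_compl, Set.ncard_singleton]
    rw [h3, hAcard] at h2
    have : 0 < p ^ 2 := pow_pos hpp.pos 2
    omega
  obtain ⟨n, hn⟩ := hV.index (MulAction.stabilizer V ea)
  have i3 : (MulAction.stabilizer V ea).index ≤ p := by
    rw [← i1, hn] at i2
    rw [hn]
    have hn2 : n < 2 := (Nat.pow_lt_pow_iff_right hpp.one_lt).mp i2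
    calc p ^ n ≤ p ^ 1 := Nat.pow_le_pow_right hpp.pos (by omega)
      _ = p := pow_one p
  have i4 : MulAction.stabilizer V ea ≤ A := by
    intro c hc
    apply hSt
    have h2 : ((c • ea : A) : V) = e := congrArg Subtype.val hc
    rw [hsm] at h2
    calc c * e = (c * e * c⁻¹) * c := by group
      _ = e * c := by rw [show ((ea : A) : V) = e from rfl] at h2; rw [h2]
  have i5 := Subgroup.card_le_of_le i4
  rw [hAcard] at i5
  rw [← (MulAction.stabilizer V ea).card_mul_index]
  calc _ ≤ p ^ 2 * p := Nat.mul_le_mul i5 i3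
    _ = p ^ 3 := by ring


/-- Say that a group has self-centralizing non-cyclic subgroups when every non-cyclic subgroup H satisfies C_G(H) ≤ H. For an odd prime p, a finite non-abelian p-group has self-centralizing non-cyclic subgroups if and only if it has order p³. -/
theorem result {G : Type*} [Group G] [Finite G] {p : ℕ} [Fact p.Prime] (hp : p ≠ 2) (hG : IsPGroup p G) (hna : ¬ IsMulCommutative G) :
    (∀ H : Subgroup G, ¬ IsCyclic ↥H → Subgroup.centralizer (H : Set G) ≤ H) ↔ Nat.card G = p ^ 3 := by
  classical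
  have hpp : p.Prime := Fact.out
  have hnc : ¬ IsCyclic G := fun h => hna (IsCyclic.isMulCommutative (α := G))
  obtain ⟨n, hn⟩ := hG.exists_card_eq
  have hn3 : 3 ≤ n := by
    by_contra hlt
    apply hna
    have h3 : n = 0 ∨ n = 1 ∨ n = 2 := by omega
    rcases h3 with rfl | rfl | rfl
    · rw [pow_zero] at hn
      haveI : Subsingleton G := (Nat.card_eq_one_iff_unique.mp hn).1
      exact ⟨⟨fun a b => Subsingleton.elim _ _⟩⟩
    · rw [pow_one] at hn
      haveI := isCyclic_of_prime_card hn
      exact IsCyclic.isMulCommutative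
    · exact IsPGroup.isMulCommutative_of_card_eq_prime_sq hn
  constructor
  · intro h
    obtain ⟨A, hAn, ⟨hAc, hAe⟩, hAcard⟩ := Cfsg.Agent.S0126.result hp hG hnc
    haveI := hAn
    have hAnc : ¬ IsCyclic A := by
      intro hc
      obtain ⟨g, hg⟩ := hc.exists_generator
      have h1 : orderOf g = Nat.card A := orderOf_eq_card_of_forall_mem_zpowers hg
      have h2 : orderOf g ∣ p := orderOf_dvd_of_pow_eq_one (Subtype.ext (hAe g g.2))
      rw [h1, hAcard] at h2
      have := Nat.le_of_dvd hpp.pos h2
      have := hpp.two_le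
      nlinarith
    have h1 := card_le_cube' hG A hAe hAcard (h A hAnc)
    rw [hn] at h1 ⊢
    have h2 : n ≤ 3 := (Nat.pow_le_pow_iff_right hpp.one_lt).mp h1
    have h3 : n = 3 := by omega
    rw [h3]
  · intro hcard H hH
    obtain ⟨i, hi, hi'⟩ := (Nat.dvd_prime_pow hpp).mp (hcard ▸ Subgroup.card_subgroup_dvd_card H)
    have hi2 : 2 ≤ i := by
      by_contra hlt
      apply hH
      have h3 : i = 0 ∨ i = 1 := by omega
      rcases h3 with rfl | rfl
      · rw [pow_zero] at hi'
        haveI : Subsingleton H := (Nat.card_eq_one_iff_unique.mp hi').1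
        infer_instance
      · rw [pow_one] at hi'
        exact isCyclic_of_prime_card hi'
    have h3 : i = 2 ∨ i = 3 := by omega
    rcases h3 with rfl | rfl
    · -- H abelian of index p
      have hHc : IsMulCommutative H := IsPGroup.isMulCommutative_of_card_eq_prime_sq hi'
      have hHle : H ≤ Subgroup.centralizer (H : Set G) := by
        intro x hx
        rw [Subgroup.mem_centralizer_iff]
        intro y hy
        exact congrArg Subtype.val (hHc.is_comm.comm ⟨y, hy⟩ ⟨x, hx⟩)
      obtain ⟨j, hj, hj'⟩ := (Nat.dvd_prime_pow hpp).mp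
        (hcard ▸ Subgroup.card_subgroup_dvd_card (Subgroup.centralizer (H : Set G)))
      have hj2 : 2 ≤ j := (Nat.pow_le_pow_iff_right hpp.one_lt).mp (by
        rw [← hi', ← hj']; exact Subgroup.card_le_of_le hHle)
      have h4 : j = 2 ∨ j = 3 := by omega
      rcases h4 with rfl | rfl
      · exact (Subgroup.eq_of_le_of_card_ge hHle (by rw [hi', hj'])).ge
      · exfalso
        have htop : Subgroup.centralizer (H : Set G) = ⊤ :=
          Subgroup.eq_top_of_card_eq _ (by rw [hj', hcard])
        have hHZ : H ≤ Subgroup.center G := by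
          intro x hx
          rw [Subgroup.mem_center_iff]
          intro g
          have hg : g ∈ Subgroup.centralizer (H : Set G) := by rw [htop]; trivial
          exact (Subgroup.mem_centralizer_iff.mp hg x hx).symm
        haveI hHn : H.Normal := ⟨fun x hx g => by
          have h5 := Subgroup.mem_center_iff.mp (hHZ hx) g
          have h6 : g * x * g⁻¹ = x := by rw [h5]; group
          rw [h6]; exact hx⟩
        have hidx : Nat.card (G ⧸ H) = p := by
          have h5 := H.card_mul_index
          rw [hi', hcard] at h5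
          have h6 : p ^ 2 * H.index = p ^ 2 * p := by rw [h5]; ring
          exact Nat.eq_of_mul_eq_mul_left (pow_pos hpp.pos 2) h6
        haveI := isCyclic_of_prime_card hidx
        exact hna ((QuotientGroup.mk' H).isMulCommutative_of_isCyclic_of_ker_le_center
          (by rw [QuotientGroup.ker_mk']; exact hHZ))
    · have : H = ⊤ := Subgroup.eq_top_of_card_eq _ (by rw [hi', hcard])
      rw [this]; exact le_top

end Cfsg.Agent.S3918
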