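import Cfsg.Statements.S4263
import Cfsg.Agent.Lib.Helper22.Subnormal
import Cfsg.Agent.Lib.Helper22.FittingSub

set_option autoImplicit false
open Cfsg Cfsg.Agent.Lib.Helper22

namespace Cfsg.Agent.S4263

/-- Let G be a finite group. An element x lies in the Fitting subgroup F(G) if and only if, for every subgroup H of G, the power x^[G : H] lies in H. -/
theorem result {G : Type*} [Group G] [Finite G] (x : G) :
    x ∈ Cfsg.fittingSubgroup G ↔ ∀ H : Subgroup G, x ^ H.index ∈ H := by
  have hFn : (Cfsg.fittingSubgroup G).Normal := fittingSubgroup_normal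
  have hFnil : Group.IsNilpotent (Cfsg.fittingSubgroup G) := fittingSubgroup_isNilpotent
  constructor
  · intro hx H
    have h1 : (H.subgroupOf (Cfsg.fittingSubgroup G)).IsSubnormal := isSubnormal_of_isNilpotent _
    have h2 := pow_index_mem_of_isSubnormal _ h1 (⟨x, hx⟩ : Cfsg.fittingSubgroup G)
    rw [Subgroup.mem_subgroupOf] at h2
    obtain ⟨k, hk⟩ : H.relIndex (Cfsg.fittingSubgroup G) ∣ H.index := relIndex_normal_dvd_index _ _
    rw [hk, pow_mul]
    exact H.pow_mem h2 k
  · intro h
    by_contra hx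
    have hne : (QuotientGroup.mk x : G ⧸ Cfsg.fittingSubgroup G) ≠ 1 := by
      rwa [Ne, QuotientGroup.eq_one_iff]
    have hord : orderOf (QuotientGroup.mk x : G ⧸ Cfsg.fittingSubgroup G) ≠ 1 := by
      rwa [Ne, orderOf_eq_one_iff]
    obtain ⟨q, hq, hqd⟩ := Nat.exists_prime_and_dvd hord
    haveI : Fact q.Prime := ⟨hq⟩
    obtain ⟨P⟩ : Nonempty (Sylow q G) := inferInstance
    have hcore : x ^ (P : Subgroup G).index ∈ (P : Subgroup G).normalCore := by
      rw [Subgroup.normalCore, Subgroup.mem_mk]
      intro b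
      have h3 := h ((P : Subgroup G).map (MulAut.conj b⁻¹).toMonoidHom)
      have h4 : ((P : Subgroup G).map (MulAut.conj b⁻¹).toMonoidHom).index = (P : Subgroup G).index :=
        Subgroup.index_map_equiv _ (MulAut.conj b⁻¹)
      rw [h4] at h3
      obtain ⟨y, hy, hyx⟩ := h3
      have : b * x ^ (P : Subgroup G).index * b⁻¹ = y := by
        rw [← hyx]; simp [mul_assoc]
      rw [this]; exact hy
    have hcoreF : (P : Subgroup G).normalCore ≤ Cfsg.fittingSubgroup G := by
      apply le_fittingSubgroup _ inferInstance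
      exact (P.isPGroup'.to_le (Subgroup.normalCore_le _)).isNilpotent
    have h5 : (QuotientGroup.mk x : G ⧸ Cfsg.fittingSubgroup G) ^ (P : Subgroup G).index = 1 := by
      rw [← QuotientGroup.mk_pow, QuotientGroup.eq_one_iff]
      exact hcoreF hcore
    exact P.not_dvd_index (hqd.trans (orderOf_dvd_of_pow_eq_one h5))

end Cfsg.Agent.S4263
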