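import Cfsg.Statements.S4107
import Cfsg.Agent.S4263
import Cfsg.Agent.Lib.Helper22.FittingSub

set_option autoImplicit false
open Cfsg

namespace Cfsg.Agent.S4107

open Subgroup Cfsg.Agent.Lib.Helper22

/-- A `p`-element of the Fitting subgroup lies in every Sylow `p`-subgroup. -/
theorem mem_sylow_of_mem_fitting {G : Type*} [Group G] [Finite G] {p : ℕ} [Fact p.Prime]
    (P : Sylow p G) {x : G} (hx : x ∈ Cfsg.fittingSubgroup G) {k : ℕ} (hk : orderOf x = p ^ k) :
    x ∈ (P : Subgroup G) := by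
  have hp : p.Prime := Fact.out
  have h1 := (Cfsg.Agent.S4263.result x).mp hx (P : Subgroup G)
  have hcop : ((P : Subgroup G).index).Coprime (orderOf x) := by
    rw [hk]
    exact Nat.Coprime.pow_right _ ((Nat.Prime.coprime_iff_not_dvd hp).mpr P.not_dvd_index).symm
  obtain ⟨m, hm⟩ := exists_pow_eq_self_of_coprime hcop
  rw [← hm]; exact pow_mem h1 m

theorem isPGroup_of {G : Type*} [Group G] [Finite G] (N : Subgroup G) [N.Normal]
    (heq : ∀ x : G, x ∉ N → ∀ n ∈ N, orderOf (x * n) = orderOf x)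
    {p : ℕ} [Fact p.Prime] {x : G} (hx : x ∈ Cfsg.fittingSubgroup G) (hxN : x ∉ N) {k : ℕ}
    (hk : orderOf x = p ^ k) : IsPGroup p N := by
  obtain ⟨P⟩ : Nonempty (Sylow p G) := inferInstance
  set P0 := (P : Subgroup G).normalCore with hP0
  have hP0p : IsPGroup p P0 := P.isPGroup'.to_le (normalCore_le _)
  have hxP0 : x ∈ P0 := by
    show ∀ b : G, b * x * b⁻¹ ∈ (P : Subgroup G)
    intro b
    apply mem_sylow_of_mem_fitting P (k := k)
    · exact fittingSubgroup_normal.conj_mem x hx b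
    · rw [← hk]; exact (MulAut.conj b).orderOf_eq x
  rintro ⟨n, hn⟩
  have h1 : (x * n) ^ (p ^ k) = 1 := by
    rw [← hk, ← heq x hxN n hn]; exact pow_orderOf_eq_one _
  have h2 : n ^ (p ^ k) ∈ P0 := by
    rw [← QuotientGroup.eq_one_iff, QuotientGroup.mk_pow]
    have h3 : (QuotientGroup.mk (x * n) : G ⧸ P0) = QuotientGroup.mk n := by
      rw [QuotientGroup.mk_mul, (QuotientGroup.eq_one_iff x).mpr hxP0, one_mul]
    rw [← h3, ← QuotientGroup.mk_pow, h1]; rfl
  obtain ⟨j, hj⟩ := hP0p ⟨_, h2⟩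
  refine ⟨k + j, ?_⟩
  apply Subtype.ext
  have hj' : (n ^ (p ^ k)) ^ (p ^ j) = 1 := congrArg Subtype.val hj
  show n ^ (p ^ (k + j)) = 1
  rw [pow_add, pow_mul]; exact hj'

theorem exists_p_element {G : Type*} [Group G] [Finite G] (N : Subgroup G) [N.Normal]
    {x : G} (hx : x ∈ Cfsg.fittingSubgroup G) (hxN : x ∉ N) :
    ∃ (p : ℕ) (_ : Fact p.Prime) (y : G) (k : ℕ), y ∈ Cfsg.fittingSubgroup G ∧ y ∉ N ∧
      orderOf y = p ^ k := by
  have h1 : orderOf (QuotientGroup.mk x : G ⧸ N) ≠ 1 := by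
    rw [Ne, orderOf_eq_one_iff, QuotientGroup.eq_one_iff]; exact hxN
  set p := (orderOf (QuotientGroup.mk x : G ⧸ N)).minFac with hp
  have hpp : p.Prime := Nat.minFac_prime h1
  have hpd : p ∣ orderOf (QuotientGroup.mk x : G ⧸ N) := Nat.minFac_dvd _
  set o := orderOf x with ho
  have ho0 : o ≠ 0 := (orderOf_pos x).ne'
  set m := o / p ^ o.factorization p with hm
  have hmd : m ∣ o := Nat.ordCompl_dvd o p
  refine ⟨p, ⟨hpp⟩, x ^ m, o.factorization p, pow_mem hx m, ?_, ?_⟩
  · intro hmem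
    rw [← QuotientGroup.eq_one_iff, QuotientGroup.mk_pow] at hmem
    have h2 := orderOf_dvd_of_pow_eq_one hmem
    exact Nat.not_dvd_ordCompl hpp ho0 (hpd.trans h2)
  · rw [orderOf_pow_of_dvd (by
      intro h0; rw [h0] at hmd; exact ho0 (Nat.eq_zero_of_zero_dvd hmd)) hmd]
    have h3 : p ^ o.factorization p * m = o := Nat.ordProj_mul_ordCompl_eq_self o p
    have hm0 : 0 < m := Nat.pos_of_ne_zero (by
      intro h0; rw [h0] at hmd; exact ho0 (Nat.eq_zero_of_zero_dvd hmd))
    exact Nat.div_eq_of_eq_mul_left hm0 h3.symm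

/-- Let G be a finite group and N a proper non-trivial normal subgroup such that for every x outside N all elements of the coset xN have the same order as x. Then N ≤ F(G) or F(G) ≤ N, where F(G) is the Fitting subgroup; and if N is properly contained in F(G) then F(G) has prime-power order. -/
theorem result {G : Type*} [Group G] [Finite G] (N : Subgroup G) [N.Normal] (hN1 : N ≠ ⊥) (hN2 : N ≠ ⊤)
    (heq : ∀ x : G, x ∉ N → ∀ n ∈ N, orderOf (x * n) = orderOf x) :
    (N ≤ Cfsg.fittingSubgroup G ∨ Cfsg.fittingSubgroup G ≤ N) ∧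
    (N < Cfsg.fittingSubgroup G → IsPrimePow (Nat.card (Cfsg.fittingSubgroup G))) := by
  have key : ¬ Cfsg.fittingSubgroup G ≤ N → ∃ (p : ℕ) (_ : Fact p.Prime), IsPGroup p N := by
    intro h
    obtain ⟨x, hx, hxN⟩ := SetLike.not_le_iff_exists.mp h
    obtain ⟨p, hp, y, k, hy, hyN, hk⟩ := exists_p_element N hx hxN
    exact ⟨p, hp, isPGroup_of N heq hy hyN hk⟩
  constructor
  · by_cases h : Cfsg.fittingSubgroup G ≤ N
    · exact Or.inr h
    · left
      obtain ⟨p, hp, hpN⟩ := key h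
      exact le_fittingSubgroup N inferInstance hpN.isNilpotent
  · intro hlt
    obtain ⟨p, hp, hpN⟩ := key (not_le_of_gt hlt)
    have hpp : p.Prime := hp.out
    set F := Cfsg.fittingSubgroup G with hF
    have huniq : ∀ {q : ℕ}, q.Prime → q ∣ Nat.card F → q = p := by
      intro q hq hqd
      by_contra hne
      haveI : Fact q.Prime := ⟨hq⟩
      obtain ⟨y, hy⟩ := exists_prime_orderOf_dvd_card' q hqd
      have hy' : orderOf (y : G) = q ^ 1 := by rw [Subgroup.orderOf_coe, hy, pow_one]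
      have hyN : (y : G) ∉ N := by
        intro hmem
        obtain ⟨j, hj⟩ := (IsPGroup.iff_orderOf.mp hpN) ⟨y, hmem⟩
        rw [← Subgroup.orderOf_coe] at hj
        simp only at hj
        rw [hy', pow_one] at hj
        have : p ∣ q := by
          rcases j with _ | j
          · simp at hj; exact absurd hj hq.one_lt.ne'
          · rw [hj]; exact dvd_pow_self p (Nat.succ_ne_zero j)
        exact hne ((Nat.prime_dvd_prime_iff_eq hpp hq).mp this).symm
      have hqN := isPGroup_of N heq y.2 hyN hy'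
      -- N is both a p-group and a q-group
      apply hN1
      rw [eq_bot_iff]
      intro n hn
      obtain ⟨a, ha⟩ := (IsPGroup.iff_orderOf.mp hpN) ⟨n, hn⟩
      obtain ⟨b, hb⟩ := (IsPGroup.iff_orderOf.mp hqN) ⟨n, hn⟩
      have hcop : Nat.Coprime (p ^ a) (q ^ b) :=
        Nat.Coprime.pow _ _ ((Nat.coprime_primes hpp hq).mpr (Ne.symm hne))
      rw [← ha, ← hb, Nat.coprime_self, orderOf_eq_one_iff] at hcop
      rw [mem_bot]
      exact congrArg Subtype.val hcop
    have h1 := Nat.eq_prime_pow_of_unique_prime_dvd (Nat.card_pos (α := F)).ne' huniq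
    rw [h1]
    refine ⟨p, _, Nat.prime_iff.mp hpp, ?_, rfl⟩
    by_contra h0
    have h2 : (Nat.card F).primeFactorsList.length = 0 := by omega
    rw [h2, pow_zero, card_eq_one] at h1
    rw [h1] at hlt
    exact not_lt_bot hlt

end Cfsg.Agent.S4107
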