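import Cfsg.Statements.S4113
-- import your own Cfsg.Agent.* helpers here

set_option autoImplicit false
open Cfsg

namespace Cfsg.Agent.S4113

/-- Let G be a finite group, M ≤ N non-trivial proper normal subgroups, and H a subgroup with HM = G and H ∩ M = 1. Then every element of G outside N acts fixed-point-freely on M (C_G(x) ≤ N for every x ∈ M, x ≠ 1) if and only if H ∩ gHg⁻¹ ≤ H ∩ N for every g outside H, with H proper and non-trivial and H ∩ N proper in H. -/
theorem result {G : Type*} [Group G] [Finite G] (N M : Subgroup G) [N.Normal] [M.Normal] (hMN : M ≤ N) (hM1 : M ≠ ⊥) (hN2 : N ≠ ⊤)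
    (H : Subgroup G) (hHM : H ⊔ M = ⊤) (hHM' : H ⊓ M = ⊥) :
    (∀ x ∈ M, x ≠ 1 → Subgroup.centralizer ({x} : Set G) ≤ N) ↔
      (H ≠ ⊥ ∧ H ≠ ⊤ ∧ H ⊓ N < H ∧ ∀ g : G, g ∉ H → H ⊓ H.map (MulAut.conj g).toMonoidHom ≤ N) := by
  have hdec : ∀ g : G, ∃ m ∈ M, ∃ h ∈ H, g = m * h := by
    intro g
    have hg : g ∈ ((M ⊔ H : Subgroup G) : Set G) := by rw [sup_comm, hHM]; trivial
    rw [Subgroup.normal_mul] at hg
    obtain ⟨m, hm, h, hh, rfl⟩ := Set.mem_mul.mp hg
    exact ⟨m, hm, h, hh, rfl⟩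
  have hdisj : ∀ x, x ∈ H → x ∈ M → x = 1 := by
    intro x h1 h2
    have : x ∈ H ⊓ M := ⟨h1, h2⟩
    rwa [hHM', Subgroup.mem_bot] at this
  constructor
  · intro hC
    refine ⟨?_, ?_, ?_, ?_⟩
    · rintro rfl
      rw [bot_sup_eq] at hHM
      exact hN2 (top_le_iff.mp (hHM ▸ hMN))
    · rintro rfl
      rw [top_inf_eq] at hHM'
      exact hM1 hHM'
    · refine lt_of_le_of_ne inf_le_left fun h => hN2 ?_
      have h1 : H ≤ N := inf_eq_left.mp h
      exact top_le_iff.mp (hHM ▸ sup_le h1 hMN)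
    · rintro g hg y ⟨hy1, hy2⟩
      obtain ⟨h', hh', rfl⟩ := Subgroup.mem_map.mp hy2
      obtain ⟨m, hm, h0, hh0, rfl⟩ := hdec g
      have hm1 : m ≠ 1 := by
        rintro rfl
        exact hg (by simpa using hh0)
      simp only [MulEquiv.coe_toMonoidHom, MulAut.conj_apply] at hy1 ⊢
      set h2 := h0 * h' * h0⁻¹ with hh2
      have hh2m : h2 ∈ H := H.mul_mem (H.mul_mem hh0 hh') (H.inv_mem hh0)
      have e1 : m * h0 * h' * (m * h0)⁻¹ = m * h2 * m⁻¹ := by rw [hh2]; group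
      rw [e1] at hy1 ⊢
      have e2 : m * h2 * m⁻¹ * h2⁻¹ = 1 := by
        apply hdisj
        · exact H.mul_mem hy1 (H.inv_mem hh2m)
        · have : m * h2 * m⁻¹ * h2⁻¹ = m * (h2 * m⁻¹ * h2⁻¹) := by group
          rw [this]
          exact M.mul_mem hm (‹M.Normal›.conj_mem _ (M.inv_mem hm) _)
      have e3 : m * h2 * m⁻¹ = h2 := by rwa [mul_inv_eq_one] at e2
      rw [e3]
      apply hC m hm hm1
      rw [Subgroup.mem_centralizer_singleton_iff]
      rw [mul_inv_eq_iff_eq_mul] at e3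
      exact e3.symm
  · rintro ⟨-, -, -, hTI⟩ x hx hx1 c hc
    by_contra hcN
    obtain ⟨m0, hm0, y, hy, rfl⟩ := hdec c
    have hyN : y ∉ N := by
      intro hyN
      exact hcN (N.mul_mem (hMN hm0) hyN)
    -- commuting with a nontrivial element of M is impossible for y
    have hkey : ∀ m ∈ M, m * y * m⁻¹ = y → m = 1 := by
      intro m hm hmy
      by_contra hm1
      have hmH : m ∉ H := fun h => hm1 (hdisj m h hm)
      apply hyN
      apply hTI m hmH
      refine ⟨hy, Subgroup.mem_map.mpr ⟨y, hy, ?_⟩⟩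
      simpa using hmy
    let ψ : M → M := fun m => ⟨(m : G) * y * (m : G)⁻¹ * y⁻¹, by
      have : (m : G) * y * (m : G)⁻¹ * y⁻¹ = (m : G) * (y * (m : G)⁻¹ * y⁻¹) := by group
      rw [this]
      exact M.mul_mem m.2 (‹M.Normal›.conj_mem _ (M.inv_mem m.2) _)⟩
    have hinj : Function.Injective ψ := by
      intro a b hab
      have h1 : (a : G) * y * (a : G)⁻¹ * y⁻¹ = (b : G) * y * (b : G)⁻¹ * y⁻¹ := congrArg Subtype.val hab
      have h2 : (a : G) * y * (a : G)⁻¹ = (b : G) * y * (b : G)⁻¹ := mul_right_cancel h1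
      have h3 : ((b : G)⁻¹ * a) * y * ((b : G)⁻¹ * a)⁻¹ = y := by
        have : ((b : G)⁻¹ * a) * y * ((b : G)⁻¹ * a)⁻¹ = (b : G)⁻¹ * ((a : G) * y * (a : G)⁻¹) * b := by group
        rw [this, h2]; group
      have h4 := hkey _ (M.mul_mem (M.inv_mem b.2) a.2) h3
      apply Subtype.ext
      rw [inv_mul_eq_one] at h4
      exact h4.symm
    have hsurj : Function.Surjective ψ := Finite.surjective_of_injective hinj
    obtain ⟨m, hm⟩ := hsurj ⟨m0, hm0⟩
    have hm' : (m : G) * y * (m : G)⁻¹ * y⁻¹ = m0 := congrArg Subtype.val hm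
    have hc' : m0 * y = (m : G) * y * (m : G)⁻¹ := by rw [← hm']; group
    rw [hc', Subgroup.mem_centralizer_singleton_iff] at hc
    -- y commutes with m⁻¹ x m
    have h5 : ((m : G)⁻¹ * x * m) * y * ((m : G)⁻¹ * x * m)⁻¹ = y := by
      have : ((m : G)⁻¹ * x * m) * y * ((m : G)⁻¹ * x * m)⁻¹ = (m : G)⁻¹ * (x * ((m : G) * y * (m : G)⁻¹)) * x⁻¹ * m := by group
      rw [this, ← hc]; group
    have h6 := hkey _ (by
      have := ‹M.Normal›.conj_mem x hx (m : G)⁻¹
      simpa using this) h5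
    apply hx1
    have : x = (m : G) * ((m : G)⁻¹ * x * m) * (m : G)⁻¹ := by group
    rw [this, h6]; group

end Cfsg.Agent.S4113
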