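import Cfsg.Statements.S4126
import Cfsg.Agent.S1946
import Cfsg.Agent.H1.Basic

set_option autoImplicit false
open Cfsg

namespace Cfsg.Agent.S4126

/-- Let G be a finite group and p a prime. Suppose every element of order p, and when p = 2 also every element of order 4, has a conjugacy class of p-power size. Then G has a normal p-complement. -/
theorem result {G : Type*} [Group G] [Finite G] (p : ℕ) [Fact p.Prime]
    (h : ∀ x : G, (orderOf x = p ∨ (p = 2 ∧ orderOf x = 4)) → ∃ a : ℕ, (Subgroup.centralizer ({x} : Set G)).index = p ^ a) :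
    Cfsg.HasNormalPComplement p G := by
  have hp : p.Prime := Fact.out
  obtain ⟨P⟩ : Nonempty (Sylow p G) := inferInstance
  rw [Cfsg.Agent.S1946.result P]
  intro a haP ha g _
  by_cases ha1 : a = 1
  · exact ⟨1, one_mem _, by simp [ha1]⟩
  have hord : orderOf a = p ∨ (p = 2 ∧ orderOf a = 4) := by
    rcases ha with ha | ⟨h2, ha⟩
    · left
      exact orderOf_eq_prime ha ha1
    · have hd : orderOf a ∣ 2 ^ 2 := by
        have := orderOf_dvd_of_pow_eq_one ha
        simpa using this
      obtain ⟨k, hk, hk'⟩ := (Nat.dvd_prime_pow Nat.prime_two).mp hd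
      have hk0 : k ≠ 0 := by
        rintro rfl
        rw [pow_zero, orderOf_eq_one_iff] at hk'
        exact ha1 hk'
      have : k = 1 ∨ k = 2 := by omega
      rcases this with rfl | rfl
      · left; rw [hk', h2]; norm_num
      · right; exact ⟨h2, by rw [hk']; norm_num⟩
  obtain ⟨k, hk⟩ := h a hord
  have hcop : (P : Subgroup G).index.Coprime (Subgroup.centralizer ({a} : Set G)).index := by
    rw [hk]
    apply Nat.Coprime.pow_right
    exact (Nat.Coprime.symm ((Nat.Prime.coprime_iff_not_dvd hp).mpr P.not_dvd_index))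
  obtain ⟨x, hx, c, hc, rfl⟩ := Cfsg.H1.exists_mul_of_coprime_index _ _ hcop g
  refine ⟨x, hx, ?_⟩
  rw [Subgroup.mem_centralizer_singleton_iff] at hc
  calc x * c * a * (x * c)⁻¹ = x * (c * a) * c⁻¹ * x⁻¹ := by group
    _ = x * (a * c) * c⁻¹ * x⁻¹ := by rw [hc]
    _ = x * a * x⁻¹ := by group

end Cfsg.Agent.S4126
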