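import Cfsg.Statements.S4145
import Cfsg.Agent.Lib.Helper22.PSolvChain
import Cfsg.Agent.Lib.Helper23.PSolv
import Cfsg.Agent.Lib.Helper22.PiClasses
import Cfsg.Agent.Tr.Basic
import Cfsg.Agent.S0082
import Cfsg.Agent.S0088
import Cfsg.Agent.S0075

set_option autoImplicit false
open Cfsg Cfsg.Agent.Lib.Helper22 Cfsg.Agent.H12 Subgroup

namespace Cfsg.Agent.S4145

/-- Let G be a finite group with a cyclic Sylow p-subgroup and H a normal subgroup such that p divides both the order of H and the index of H. Then H has a normal p-complement and G is p-solvable. -/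
theorem result {G : Type*} [Group G] [Finite G] (p : ℕ) [Fact p.Prime]
    (P : Sylow p G) (hP : IsCyclic (P : Subgroup G)) (H : Subgroup G) [H.Normal] (h1 : p ∣ Nat.card H) (h2 : p ∣ H.index) :
    Cfsg.HasNormalPComplement p H ∧ Cfsg.IsPSolvable p G := by
  have hp : p.Prime := Fact.out
  set L : Subgroup G := H ⊔ (P : Subgroup G) with hL
  have hPL : (P : Subgroup G) ≤ L := le_sup_right
  have hHL : H ≤ L := le_sup_left
  let PL : Sylow p L := P.subtype hPL
  have hcycL : IsCyclic PL := by
    haveI := hP
    show IsCyclic ((P : Subgroup G).subgroupOf L)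
    exact isCyclic_of_surjective (subgroupOfEquivOfLe hPL).symm.toMonoidHom
      (subgroupOfEquivOfLe hPL).symm.surjective
  obtain ⟨b, hb⟩ := IsPGroup.iff_card.mp P.2
  have hq : IsPGroup p (L ⧸ H.subgroupOf L) := by
    have h3 : H.relIndex L ∣ p ^ b := by
      rw [hL, relIndex_sup_left, ← hb]
      exact relIndex_dvd_card H (P : Subgroup G)
    obtain ⟨c, -, hc⟩ := (Nat.dvd_prime_pow hp).mp h3
    exact IsPGroup.of_card (n := c) hc
  have hres_le : pResidual p L ≤ H.subgroupOf L := pResidual_le hq
  have hnil : HasNormalPComplement p L := by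
    rcases Cfsg.Agent.S0082.result PL hcycL with h | h
    · exact h
    · exfalso
      rw [h, top_le_iff, subgroupOf_eq_top] at hres_le
      exact P.not_dvd_index (h2.trans (index_dvd_of_le (hPL.trans hres_le)))
  have hcoL : (Nat.card (pResidual p L)).Coprime p := hasNormalPComplement_iff.mp hnil
  set K : Subgroup G := (pResidual p L).map L.subtype with hK
  have hKcard : Nat.card K = Nat.card (pResidual p L) :=
    card_map_of_injective L.subtype_injective
  have hKco : (Nat.card K).Coprime p := by rw [hKcard]; exact hcoL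
  have hKmem : ∀ x : G, x ∈ K ↔ x ∈ H ∧ (orderOf x).Coprime p := by
    intro x
    constructor
    · intro hx
      refine ⟨?_, ?_⟩
      · obtain ⟨y, hy, rfl⟩ := hx
        exact hres_le hy
      · have h3 : orderOf x ∣ Nat.card K := by
          have := orderOf_dvd_natCard (⟨x, hx⟩ : K)
          rwa [Subgroup.orderOf_mk] at this
        exact Nat.Coprime.coprime_dvd_left h3 hKco
    · rintro ⟨hx1, hx2⟩
      refine ⟨⟨x, hHL hx1⟩, mem_pResidual ?_, rfl⟩
      rwa [Subgroup.orderOf_mk]
  have hKH : K ≤ H := fun x hx => ((hKmem x).mp hx).1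
  have hKn : K.Normal := by
    constructor
    intro x hx g
    obtain ⟨h3, h4⟩ := (hKmem x).mp hx
    refine (hKmem _).mpr ⟨‹H.Normal›.conj_mem x h3 g, ?_⟩
    rw [← orderOf_eq_of_isConj (isConj_iff.mpr ⟨g, rfl⟩ : IsConj x (g * x * g⁻¹))]
    exact h4
  have hKrel : ∃ j : ℕ, K.relIndex H = p ^ j := by
    have h3 : K.relIndex H ∣ K.relIndex L :=
      Cfsg.Agent.Lib.Helper23.relIndex_dvd_relIndex_of_normal K hHL
    have h4 : K.relIndex L = (pResidual p L).index := by
      rw [relIndex, hK, subgroupOf, comap_map_eq_self_of_injective L.subtype_injective]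
    obtain ⟨c, hc⟩ := IsPGroup.iff_card.mp (isPGroup_quotient_pResidual (G := L) p)
    have h5 : (pResidual p L).index = p ^ c := hc
    rw [h4, h5] at h3
    obtain ⟨j, -, hj⟩ := (Nat.dvd_prime_pow hp).mp h3
    exact ⟨j, hj⟩
  obtain ⟨j, hj⟩ := hKrel
  constructor
  · refine hasNormalPComplement_of (K := K.subgroupOf H) inferInstance ?_ ?_
    · rw [Nat.card_congr (subgroupOfEquivOfLe hKH).toEquiv]; exact hKco
    · exact IsPGroup.of_card (n := j) hj
  · -- pass to the quotient by `K`
    apply isPSolvable_of_quotient K hKco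
    set π := QuotientGroup.mk' K with hπ
    have hsurj : Function.Surjective π := QuotientGroup.mk'_surjective K
    set Qb : Subgroup (G ⧸ K) := H.map π with hQb
    have hQbn : Qb.Normal := Subgroup.Normal.map inferInstance π hsurj
    have hQbcard : Nat.card Qb = p ^ j := by
      rw [← hj, hQb, ← relIndex_ker, QuotientGroup.ker_mk']
    have hQbp : IsPGroup p Qb := IsPGroup.of_card hQbcard
    have hQbne : Qb ≠ ⊥ := by
      intro h
      rw [h, card_bot] at hQbcard
      have h3 : K.relIndex H = 1 := by rw [hj, ← hQbcard]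
      rw [relIndex_eq_one] at h3
      have h4 := Nat.Coprime.coprime_dvd_left (h1.trans (card_dvd_of_le h3)) hKco
      rw [Nat.coprime_self] at h4
      exact hp.one_lt.ne' h4
    let Pb : Sylow p (G ⧸ K) := P.mapSurjective hsurj
    have hPbcomm : ∀ x ∈ (Pb : Subgroup (G ⧸ K)), ∀ y ∈ (Pb : Subgroup (G ⧸ K)), x * y = y * x := by
      rintro _ ⟨x, hx, rfl⟩ _ ⟨y, hy, rfl⟩
      haveI := hP
      have h3 : (⟨x, hx⟩ : (P : Subgroup G)) * ⟨y, hy⟩ = ⟨y, hy⟩ * ⟨x, hx⟩ :=
        IsCyclic.commGroup.mul_comm _ _
      have h4 : x * y = y * x := congrArg Subtype.val h3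
      rw [← map_mul, ← map_mul, h4]
    have hQP : Qb ≤ (Pb : Subgroup (G ⧸ K)) := (le_pCore hQbn hQbp).trans (pCore_le_sylow Pb)
    set Cb : Subgroup (G ⧸ K) := centralizer (Qb : Set (G ⧸ K)) with hCb
    have hCbn : Cb.Normal := inferInstance
    have hPC : (Pb : Subgroup (G ⧸ K)) ≤ Cb := by
      intro x hx
      rw [hCb, mem_centralizer_iff]
      intro y hy
      exact hPbcomm y (hQP hy) x hx
    let PC : Sylow p Cb := Pb.subtype hPC
    have hcycb : IsCyclic (Pb : Subgroup (G ⧸ K)) := by
      haveI := hP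
      show IsCyclic ((P : Subgroup G).map π)
      exact isCyclic_of_surjective (π.subgroupMap (P : Subgroup G))
        (π.subgroupMap_surjective (P : Subgroup G))
    have hcycC : IsCyclic PC := by
      haveI := hcycb
      show IsCyclic ((Pb : Subgroup (G ⧸ K)).subgroupOf Cb)
      exact isCyclic_of_surjective (subgroupOfEquivOfLe hPC).symm.toMonoidHom
        (subgroupOfEquivOfLe hPC).symm.surjective
    have hnilC : HasNormalPComplement p Cb := by
      rcases Cfsg.Agent.S0082.result PC hcycC with h | h
      · exact h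
      · exfalso
        haveI := hcycC
        have hPCcomm : IsMulCommutative PC := ⟨⟨IsCyclic.commGroup.mul_comm⟩⟩
        have h3 := Cfsg.Agent.S0075.result PC hPCcomm
        rw [h, inf_top_eq] at h3
        have h4 : (PC : Subgroup Cb) ≤ commutator Cb := by
          rw [h3, _root_.commutator_def]
          exact commutator_mono le_top le_top
        have h5 := Cfsg.Agent.S0088.result (PC : Subgroup Cb) hPCcomm (by
          obtain ⟨c, hc⟩ := IsPGroup.iff_card.mp PC.2
          rw [hc]
          exact Nat.Coprime.pow_left c ((Nat.Prime.coprime_iff_not_dvd hp).mpr PC.not_dvd_index))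
        apply hQbne
        rw [eq_bot_iff]
        intro x hx
        have hxC : x ∈ Cb := hPC (hQP hx)
        have h6 : (⟨x, hxC⟩ : Cb) ∈ (PC : Subgroup Cb) ⊓ commutator Cb ⊓ center Cb := by
          have h7 : (⟨x, hxC⟩ : Cb) ∈ (PC : Subgroup Cb) := by
            show (⟨x, hxC⟩ : Cb) ∈ (Pb : Subgroup (G ⧸ K)).subgroupOf Cb
            exact hQP hx
          refine ⟨⟨h7, h4 h7⟩, mem_center_iff.mpr ?_⟩
          intro y
          apply Subtype.ext
          exact ((mem_centralizer_iff.mp y.2) x hx).symm
        rw [h5, mem_bot] at h6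
        rw [mem_bot]
        exact congrArg Subtype.val h6
    have hcoC : (Nat.card (pResidual p Cb)).Coprime p := hasNormalPComplement_iff.mp hnilC
    haveI := pResidual_characteristic p Cb
    refine isPSolvable_of_chain3 ((pResidual p Cb).map Cb.subtype) Cb inferInstance hCbn
      (map_subtype_le _) ?_ ?_ ?_
    · rw [card_map_of_injective Cb.subtype_injective]; exact hcoC
    · obtain ⟨c, hc⟩ := IsPGroup.iff_card.mp (isPGroup_quotient_pResidual (G := Cb) p)
      refine ⟨c, ?_⟩
      rw [relIndex, subgroupOf, comap_map_eq_self_of_injective Cb.subtype_injective, ← hc]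
      rfl
    · exact (Nat.Coprime.coprime_dvd_left (index_dvd_of_le hPC)
        ((Nat.Prime.coprime_iff_not_dvd hp).mpr Pb.not_dvd_index).symm)

end Cfsg.Agent.S4145
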