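import Cfsg.Statements.S4155
import Cfsg.Agent.Lib.Helper22.SemiFrob
import Cfsg.Agent.Lib.Helper22.Basic
import Cfsg.Agent.Lib.Helper22.FittingSub
import Cfsg.Agent.H12.Cores
import Cfsg.Agent.S4107
import Cfsg.Agent.S0065

set_option autoImplicit false
open Cfsg Cfsg.Agent.H12 Cfsg.Agent.Lib.Helper22

namespace Cfsg.Agent.S4155

/-- Let G be a finite group and N a proper non-trivial normal nilpotent subgroup whose order is not a prime power, such that for every x outside N all elements of the coset xN have the same order as x. Then N is the Fitting subgroup of G, and for every prime q every Sylow q-subgroup of G/N is cyclic or generalized quaternion. -/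
theorem result {G : Type*} [Group G] [Finite G] (N : Subgroup G) [N.Normal] (hN1 : N ≠ ⊥) (hN2 : N ≠ ⊤)
    (heq : ∀ x : G, x ∉ N → ∀ n ∈ N, orderOf (x * n) = orderOf x)
    (hnil : Group.IsNilpotent N) (hnpp : ¬ IsPrimePow (Nat.card N)) :
    N = Cfsg.fittingSubgroup G ∧
    ∀ (q : ℕ) [Fact q.Prime] (Q : Sylow q (G ⧸ N)), IsCyclic (Q : Subgroup (G ⧸ N)) ∨ ∃ n : ℕ, Nonempty ((Q : Subgroup (G ⧸ N)) ≃* QuaternionGroup (2 ^ n)) := by
  constructor
  · have h1 : N ≤ Cfsg.fittingSubgroup G := le_fittingSubgroup N inferInstance hnil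
    by_contra hne
    have h2 : N < Cfsg.fittingSubgroup G := lt_of_le_of_ne h1 hne
    obtain ⟨p, k, hp, hk, hpk⟩ := (Cfsg.Agent.S4107.result N hN1 hN2 heq).2 h2
    apply hnpp
    have h3 : Nat.card N ∣ p ^ k := hpk ▸ Subgroup.card_dvd_of_le h1
    obtain ⟨j, -, hj⟩ := (Nat.dvd_prime_pow hp.nat_prime).mp h3
    refine ⟨p, j, hp, ?_, hj.symm⟩
    rcases Nat.eq_zero_or_pos j with rfl | h
    · rw [pow_zero] at hj
      exact absurd (Subgroup.card_eq_one.mp hj) hN1
    · exact h
  · intro q _ Q
    have hq : q.Prime := Fact.out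
    -- a prime r ≠ q dividing |N|
    obtain ⟨r, hr, hrN, hrq⟩ : ∃ r : ℕ, r.Prime ∧ r ∣ Nat.card N ∧ r ≠ q := by
      by_contra hcon
      push Not at hcon
      apply hnpp
      have h1 : Nat.card N = q ^ (Nat.card N).primeFactorsList.length :=
        Nat.eq_prime_pow_of_unique_prime_dvd Nat.card_pos.ne' (fun {d} hd hdN => hcon d hd hdN)
      refine ⟨q, (Nat.card N).primeFactorsList.length, hq.prime, ?_, h1.symm⟩
      rcases Nat.eq_zero_or_pos ((Nat.card N).primeFactorsList.length) with h | h
      · rw [h, pow_zero] at h1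
        exact absurd (Subgroup.card_eq_one.mp h1) hN1
      · exact h
    haveI : Fact r.Prime := ⟨hr⟩
    haveI : Group.IsNilpotent N := hnil
    -- a central r-element of N
    obtain ⟨R⟩ : Nonempty (Sylow r N) := inferInstance
    have hR1 : (R : Subgroup N) ≠ ⊥ := by
      intro h
      have h1 := R.card_eq_multiplicity
      rw [h, Subgroup.card_bot] at h1
      have h2 : (Nat.card N).factorization r ≠ 0 :=
        (hr.factorization_pos_of_dvd Nat.card_pos.ne' hrN).ne'
      exact (Nat.one_lt_pow h2 hr.one_lt).ne h1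
    have hRn : (R : Subgroup N).Normal := inferInstance
    obtain ⟨z, hz1⟩ := (Subgroup.ne_bot_iff_exists_ne_one).mp
      (Cfsg.Agent.S0065.result (R : Subgroup N) hR1)
    have hzR : (z : N) ∈ (R : Subgroup N) := z.2.1
    have hzZ : (z : N) ∈ Subgroup.center N := z.2.2
    let V : Subgroup G := Cfsg.pCore r G ⊓ (N ⊓ Subgroup.centralizer (N : Set G))
    haveI hpc : (Cfsg.pCore r G).Characteristic := pCore_characteristic r G
    haveI hVn : V.Normal := inferInstance
    have hVr : IsPGroup r V := (pCore_isPGroup r G).to_le inf_le_left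
    have hzV : ((z : N) : G) ∈ V := by
      refine ⟨?_, (z : N).2, ?_⟩
      · apply pCore_map_le r N
        exact ⟨(z : N), le_pCore hRn R.isPGroup' hzR, rfl⟩
      · show ((z : N) : G) ∈ Subgroup.centralizer (N : Set G)
        rw [Subgroup.mem_centralizer_iff]
        intro n hn
        exact congrArg Subtype.val (Subgroup.mem_center_iff.mp hzZ ⟨n, hn⟩)
    haveI : Nontrivial V := by
      refine ⟨⟨⟨((z : N) : G), hzV⟩, 1, ?_⟩⟩
      intro h
      apply hz1
      apply Subtype.ext
      apply Subtype.ext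
      exact congrArg (fun w : V => (w : G)) h
    let φ0 : G →* MulAut V := MulAut.conjNormal
    have hker : ∀ n ∈ N, φ0 n = 1 := by
      intro n hn
      ext v
      show (n * (v : G) * n⁻¹ : G) = v
      have h1 : (v : G) ∈ Subgroup.centralizer (N : Set G) := v.2.2.2
      rw [Subgroup.mem_centralizer_iff.mp h1 n hn, mul_inv_cancel_right]
    let φ1 : G ⧸ N →* MulAut V := QuotientGroup.lift N φ0 hker
    let φ : (Q : Subgroup (G ⧸ N)) →* MulAut V := φ1.comp (Q : Subgroup (G ⧸ N)).subtype
    apply isCyclic_or_quaternion_of_fpf φ q Q.isPGroup'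
    intro h hh v hv
    obtain ⟨x, hx⟩ := QuotientGroup.mk'_surjective N (h : G ⧸ N)
    obtain ⟨a, b, hab, ⟨k, hk⟩, hb⟩ := exists_pow_decomp q hq x (orderOf_pos x)
    have hxb : x ^ b ∈ N := by
      rw [← QuotientGroup.eq_one_iff, ← orderOf_eq_one_iff]
      obtain ⟨j, hj⟩ := Q.isPGroup' (h ^ b)
      have h1 : orderOf ((x ^ b : G) : G ⧸ N) ∣ q ^ j := by
        apply orderOf_dvd_of_pow_eq_one
        have h2 := congrArg Subtype.val hj
        simp only [Subgroup.coe_pow, Subgroup.coe_one] at h2
        rw [← hx] at h2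
        exact h2
      have h3 : orderOf ((x ^ b : G) : G ⧸ N) ∣ orderOf (x ^ b) :=
        orderOf_map_dvd (QuotientGroup.mk' N) (x ^ b)
      exact Nat.eq_one_of_dvd_coprimes (Nat.Coprime.pow_right j hb) h3 h1
    set y := x ^ a with hy
    have hhy : (h : G ⧸ N) = QuotientGroup.mk' N y := by
      have h1 : QuotientGroup.mk' N (x ^ b) = 1 := (QuotientGroup.eq_one_iff (x ^ b)).mpr hxb
      rw [← hx, ← hab, map_mul, h1, mul_one]
    have hyN : y ∉ N := by
      intro h1
      apply hh
      apply Subtype.ext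
      rw [hhy]
      exact (QuotientGroup.eq_one_iff y).mpr h1
    have hcomm : y * (v : G) * y⁻¹ = v := by
      have h1 : φ h v = φ0 y v := by
        show φ1 (h : G ⧸ N) v = φ0 y v
        rw [hhy]
        rfl
      rw [h1] at hv
      exact congrArg (fun w : V => (w : G)) hv
    have hcomm' : Commute y (v : G) := by
      show y * (v : G) = v * y
      calc y * (v : G) = y * (v : G) * y⁻¹ * y := by group
        _ = v * y := by rw [hcomm]
    have hvN : (v : G) ∈ N := v.2.2.1
    obtain ⟨j, hj⟩ := hVr v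
    have hj' : orderOf (v : G) ∣ r ^ j := by
      apply orderOf_dvd_of_pow_eq_one
      exact congrArg (fun w : V => (w : G)) hj
    have hcop : (orderOf y).Coprime (orderOf (v : G)) := by
      rw [hk]
      apply Nat.Coprime.coprime_dvd_right hj'
      exact Nat.Coprime.pow k j ((Nat.coprime_primes hq hr).mpr hrq.symm)
    have h5 := hcomm'.orderOf_mul_eq_mul_orderOf_of_coprime hcop
    rw [heq y hyN v hvN] at h5
    have h6 : orderOf (v : G) = 1 := by
      have h7 : 0 < orderOf y := orderOf_pos y
      nlinarith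
    apply Subtype.ext
    exact orderOf_eq_one_iff.mp h6

end Cfsg.Agent.S4155
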