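import Cfsg.Statements.S4347

set_option autoImplicit false
open Cfsg

namespace Cfsg.Agent.S4347

theorem exists_sylow_of_pow {G : Type*} [Group G] [Finite G] (p : ℕ) [Fact p.Prime] (x : G)
    (hx : ∃ k : ℕ, orderOf x = p ^ k) : ∃ P : Sylow p G, x ∈ P := by
  obtain ⟨k, hk⟩ := hx
  have h : IsPGroup p (Subgroup.zpowers x) := IsPGroup.of_card (n := k) (by rw [Nat.card_zpowers, hk])
  obtain ⟨P, hP⟩ := h.exists_le_sylow
  exact ⟨P, hP (Subgroup.mem_zpowers x)⟩

theorem mem_smul_sylow {G : Type*} [Group G] (p : ℕ) (g x : G) (P : Sylow p G) :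
    g * x * g⁻¹ ∈ g • P ↔ x ∈ P := by
  have h : g * x * g⁻¹ ∈ g • P ↔ g * x * g⁻¹ ∈ ((g • P : Sylow p G) : Subgroup G) := Iff.rfl
  rw [h, Sylow.coe_subgroup_smul, Subgroup.mem_pointwise_smul_iff_inv_smul_mem]
  simp [MulAut.smul_def, mul_assoc]
  exact Iff.rfl

/-- Let G be a finite group and p a prime. Say a Sylow p-subgroup Q is redundant when every element of p-power order lies in some Sylow p-subgroup other than Q. Then G has no redundant Sylow p-subgroup if and only if some element of p-power order lies in exactly one Sylow p-subgroup. -/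
theorem result {G : Type*} [Group G] [Finite G]
    (p : ℕ) [Fact p.Prime] :
    (¬ ∃ Q : Sylow p G, ∀ x : G, (∃ k : ℕ, orderOf x = p ^ k) → ∃ P : Sylow p G, P ≠ Q ∧ x ∈ P) ↔
      ∃ x : G, (∃ k : ℕ, orderOf x = p ^ k) ∧ ∃! P : Sylow p G, x ∈ P := by
  constructor
  · intro h
    push Not at h
    obtain ⟨Q⟩ : Nonempty (Sylow p G) := inferInstance
    obtain ⟨x, hx, hxQ⟩ := h Q
    refine ⟨x, hx, ?_⟩
    obtain ⟨P, hP⟩ := exists_sylow_of_pow p x hx
    have hPQ : P = Q := by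
      by_contra hne
      exact hxQ P hne hP
    subst hPQ
    refine ⟨P, hP, ?_⟩
    intro P' hP'
    by_contra hne
    exact hxQ P' hne hP'
  · rintro ⟨x, hx, P0, hxP0, huniq⟩ ⟨Q, hQ⟩
    obtain ⟨g, rfl⟩ := MulAction.exists_smul_eq G P0 Q
    have hy : ∃ k : ℕ, orderOf (g * x * g⁻¹) = p ^ k := by
      obtain ⟨k, hk⟩ := hx
      have : SemiconjBy g x (g * x * g⁻¹) := by simp [SemiconjBy]
      exact ⟨k, by rw [← this.orderOf_eq, hk]⟩
    obtain ⟨P, hPne, hP⟩ := hQ _ hy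
    apply hPne
    have h1 : x ∈ g⁻¹ • P := by
      have := (mem_smul_sylow p g⁻¹ (g * x * g⁻¹) P).2 hP
      simpa [mul_assoc] using this
    have h2 := huniq _ h1
    rw [← h2, smul_inv_smul]

end Cfsg.Agent.S4347
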