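import Mathlib
import Cfsg.Statements.S4357
import Cfsg.Agent.H14.SL2Redundant

set_option autoImplicit false

namespace Cfsg.Agent.S4357

open Cfsg.Agent.H14 in
theorem result {F : Type*} [Field F] [Fintype F] (p : ℕ) [Fact p.Prime] :
    (∃ Q : Sylow p (Matrix.SpecialLinearGroup (Fin 2) F), ∀ x : Matrix.SpecialLinearGroup (Fin 2) F,
        (∃ k : ℕ, orderOf x = p ^ k) → ∃ P : Sylow p (Matrix.SpecialLinearGroup (Fin 2) F), P ≠ Q ∧ x ∈ P) ↔
      (p = 2 ∧ (¬ ∃ k : ℕ, Fintype.card F + 1 = 2 ^ k) ∧ (¬ ∃ k : ℕ, Fintype.card F = 2 ^ k) ∧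
        ¬ ∃ k : ℕ, Fintype.card F = 2 ^ k + 1) := by
  have hev : (¬ ∃ k : ℕ, Fintype.card F = 2 ^ k) ↔ Odd (Fintype.card F) := by
    constructor
    · intro h
      by_contra hodd
      rw [Nat.not_odd_iff_even] at hodd
      have hch := FiniteField.even_card_iff_char_two.mpr (Nat.even_iff.mp hodd)
      obtain ⟨n, hp, hn⟩ := FiniteField.card F (ringChar F)
      rw [hch] at hn
      exact h ⟨n, hn⟩
    · rintro hodd ⟨k, hk⟩
      have hq : 1 < Fintype.card F := Fintype.one_lt_card
      rcases k with _ | k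
      · simp at hk; omega
      · rw [hk, pow_succ] at hodd
        exact (Nat.not_odd_iff_even.mpr ⟨2 ^ k, by ring⟩) hodd
  constructor
  · rintro ⟨Q, hQ⟩
    by_cases hc : p = 2 ∧ Odd (Fintype.card F)
    · obtain ⟨rfl, hodd⟩ := hc
      refine ⟨rfl, ?_, hev.mpr hodd, ?_⟩
      · intro h
        exact not_redundant_two hodd (Or.inl h) Q hQ
      · intro h
        exact not_redundant_two hodd (Or.inr h) Q hQ
    · exfalso
      refine not_redundant_of_abelian ?_ Q hQ
      rintro g hg1 ⟨k, hk⟩ hs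
      have hg := ((isScal_iff_eq g).mp hs).resolve_left hg1
      have hgg : g ^ 2 = 1 := by rw [hg, sq, dg_neg_one_mul_self]
      have h2 : orderOf g = 2 := orderOf_eq_prime hgg hg1
      rw [h2] at hk
      have hp2 : p = 2 := by
        have hp : p.Prime := Fact.out
        have : p ∣ 2 := by
          rcases k with _ | k
          · simp at hk
          · rw [hk, pow_succ]; exact dvd_mul_left _ _
        exact (Nat.prime_dvd_prime_iff_eq hp Nat.prime_two).mp this
      apply hc
      refine ⟨hp2, ?_⟩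
      by_contra hodd
      rw [Nat.not_odd_iff_even] at hodd
      have hch := FiniteField.even_card_iff_char_two.mpr (Nat.even_iff.mp hodd)
      have h20 : (2 : F) = 0 := by
        have := (ringChar.spec F 2).mpr (by rw [hch])
        exact_mod_cast this
      apply hg1
      rw [hg, neg_one_units_eq_one h20, dg_one]
  · rintro ⟨rfl, h1, h2, h3⟩
    obtain ⟨Q⟩ : Nonempty (Sylow 2 (Matrix.SpecialLinearGroup (Fin 2) F)) := inferInstance
    exact ⟨Q, fun x hx => redundant_two (hev.mp h2) h1 h3 Q x hx⟩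

end Cfsg.Agent.S4357
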