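import Cfsg.Statements.S4403
import Cfsg.Agent.S2970
import Cfsg.Agent.S4145
import Cfsg.Agent.H9.FStar2
import Cfsg.Agent.H9.Cores
import Cfsg.Agent.Lib.Helper21.UniqueSub

set_option autoImplicit false
set_option linter.style.haveILetI false
open Cfsg

namespace Cfsg.Agent.S4403

open Subgroup
open scoped Pointwise

section aux

universe u
variable {K : Type u} [Group K] [Finite K]

theorem sylow_cyclic_all (p : ℕ) [Fact p.Prime] (P : Sylow p K) (hP : IsCyclic ↥(P : Subgroup K))
    (Q : Sylow p K) : IsCyclic ↥(Q : Subgroup K) := by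
  obtain ⟨g, rfl⟩ := MulAction.exists_smul_eq K P Q
  exact (Sylow.equivSMul P g).isCyclic.mp hP

theorem cyclic_of_pGroup (p : ℕ) [Fact p.Prime] (P : Sylow p K) (hP : IsCyclic ↥(P : Subgroup K))
    (H : Subgroup K) (hH : IsPGroup p H) : IsCyclic H := by
  obtain ⟨Q, hQ⟩ := hH.exists_le_sylow
  haveI := sylow_cyclic_all p P hP Q
  exact isCyclic_of_injective (Subgroup.inclusion hQ) (Subgroup.inclusion_injective hQ)

/-- two commuting subgroups with trivial intersection cannot both have order divisible by `p`. -/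
theorem no_two (p : ℕ) [Fact p.Prime] (P : Sylow p K) (hP : IsCyclic ↥(P : Subgroup K))
    (A B : Subgroup K) (hcomm : ∀ a ∈ A, ∀ b ∈ B, a * b = b * a) (hAB : A ⊓ B = ⊥)
    (hA : p ∣ Nat.card A) (hB : p ∣ Nat.card B) : False := by
  obtain ⟨a, ha⟩ := exists_prime_orderOf_dvd_card' p hA
  obtain ⟨b, hb⟩ := exists_prime_orderOf_dvd_card' p hB
  have ha' : orderOf (a : K) = p := by rw [Subgroup.orderOf_coe]; exact ha
  have hb' : orderOf (b : K) = p := by rw [Subgroup.orderOf_coe]; exact hb
  have hpa : IsPGroup p (zpowers (a : K)) := IsPGroup.of_card (n := 1) (by rw [Nat.card_zpowers, ha', pow_one])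
  have hpb : IsPGroup p (zpowers (b : K)) := IsPGroup.of_card (n := 1) (by rw [Nat.card_zpowers, hb', pow_one])
  have hn : zpowers (a : K) ≤ normalizer ((zpowers (b : K) : Subgroup K) : Set K) := by
    rw [zpowers_le]
    have : (a : K) ∈ centralizer ((zpowers (b : K) : Subgroup K) : Set K) := by
      rw [mem_centralizer_iff]
      intro x hx
      have hxB : x ∈ B := (zpowers_le.mpr b.2) hx
      exact (hcomm a a.2 x hxB).symm
    exact centralizer_le_normalizer _ this
  have hH := hpa.to_sup_of_normal_right' hpb hn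
  haveI := cyclic_of_pGroup p P hP _ hH
  have heq := Cfsg.Agent.Lib.Helper21.eq_of_card_eq_of_le_isCyclic
    (zpowers (a : K) ⊔ zpowers (b : K)) (zpowers (a : K)) (zpowers (b : K)) le_sup_left le_sup_right
    (by rw [Nat.card_zpowers, Nat.card_zpowers, ha', hb'])
  have h1 : (a : K) ∈ A ⊓ B := by
    refine ⟨a.2, ?_⟩
    have : (a : K) ∈ zpowers (b : K) := heq ▸ mem_zpowers (a : K)
    exact (zpowers_le.mpr b.2) this
  rw [hAB, mem_bot] at h1
  rw [h1, orderOf_one] at ha'
  exact (Fact.out : p.Prime).one_lt.ne ha'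

/-- a normal subgroup with a central element of order `p` is a `p`-group -/
theorem pGroup_of_central (p : ℕ) [Fact p.Prime] (hO : Cfsg.pPrimeCore p K = ⊥)
    (P : Sylow p K) (hP : IsCyclic ↥(P : Subgroup K)) (D : Subgroup K) [hD : D.Normal]
    (x : K) (hxD : x ∈ D) (hx : orderOf x = p) (hc : ∀ d ∈ D, d * x = x * d) : IsPGroup p D := by
  have hiso : Cfsg.IsIsolated (⟨x, hxD⟩ : D) := by
    intro g _
    apply Subtype.ext
    have := hc g g.2
    simp only [Subgroup.coe_mul, Subgroup.coe_inv]
    rw [this, mul_inv_cancel_right]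
  have hcyc : ∀ Q : Sylow p D, IsCyclic ↥(Q : Subgroup D) := by
    intro Q
    have h1 : IsPGroup p ((Q : Subgroup D).map D.subtype) := Q.2.map _
    haveI := cyclic_of_pGroup p P hP _ h1
    exact ((Q : Subgroup D).equivMapOfInjective D.subtype D.subtype_injective).isCyclic.mpr this
  have hne : (⟨x, hxD⟩ : D) ≠ 1 := by
    intro h
    have : x = 1 := congrArg Subtype.val h
    rw [this, orderOf_one] at hx
    exact (Fact.out : p.Prime).one_lt.ne hx
  obtain ⟨Q, N, hN, hcompl⟩ := (Cfsg.Agent.S2970.result (p := p) (⟨x, hxD⟩ : D)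
    ⟨1, by rw [pow_one, ← hx]; exact Subgroup.orderOf_mk x hxD⟩ hiso).2 hne hcyc
  have hcop : (Nat.card N).Coprime p := by
    have h1 : Nat.card N * Nat.card (Q : Subgroup D) = Nat.card D := hcompl.card_mul_card
    have h2 : Nat.card N = (Q : Subgroup D).index := by
      have h3 := (Q : Subgroup D).card_mul_index
      have hpos : 0 < Nat.card (Q : Subgroup D) := Nat.card_pos
      nlinarith
    rw [h2]
    exact (Nat.Coprime.symm ((Nat.Prime.coprime_iff_not_dvd Fact.out).mpr Q.not_dvd_index))
  have hNbot : N = ⊥ := by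
    have h1 : N ≤ pPrimeCore p D := Cfsg.H9.le_pPrimeCore p hN hcop
    have h2 := Cfsg.H9.map_pPrimeCore_subnormal p (K := D) hD.isSubnormal
    rw [hO, bot_inf_eq] at h2
    have h3 : pPrimeCore p D = ⊥ := by
      rw [← Subgroup.map_eq_bot_iff_of_injective _ D.subtype_injective]
      exact h2
    rw [h3] at h1
    exact le_bot_iff.mp h1
  have hQtop : (Q : Subgroup D) = ⊤ := by
    have := hcompl.sup_eq_top
    rwa [hNbot, bot_sup_eq] at this
  have := Q.2
  rw [hQtop] at this
  exact this.of_equiv Subgroup.topEquiv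

theorem exists_min (Y X : Subgroup K) (hX : X ≠ ⊥) (hXY : Y ≤ normalizer (X : Set K)) :
    ∃ M : Subgroup K, M ≤ X ∧ M ≠ ⊥ ∧ Y ≤ normalizer (M : Set K) ∧
      ∀ T : Subgroup K, T ≤ M → T ≠ ⊥ → Y ≤ normalizer (T : Set K) → T = M := by
  obtain ⟨M, hM⟩ := exists_minimal_of_wellFoundedLT
    (fun T : Subgroup K => T ≤ X ∧ T ≠ ⊥ ∧ Y ≤ normalizer (T : Set K)) ⟨X, le_rfl, hX, hXY⟩
  refine ⟨M, hM.prop.1, hM.prop.2.1, hM.prop.2.2, ?_⟩
  intro T hT h0 hn
  exact hM.eq_of_le ⟨hT.trans hM.prop.1, h0, hn⟩ hT |>.symm.symm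

theorem case1 (p : ℕ) [Fact p.Prime] (hO : Cfsg.pPrimeCore p K = ⊥)
    (P : Sylow p K) (hP : IsCyclic ↥(P : Subgroup K)) (hQ : pCore p K ≠ ⊥) :
    (P : Subgroup K).Normal ∧ Subgroup.centralizer ((P : Subgroup K) : Set K) = (P : Subgroup K) ∧
      (∀ (_ : (P : Subgroup K).Normal), IsCyclic (K ⧸ (P : Subgroup K))) ∧
      (P : Subgroup K).index ∣ p - 1 := by
  have hpp : p.Prime := Fact.out
  set Q := pCore p K with hQdef
  have hQp : IsPGroup p Q := Cfsg.H9.pCore_isPGroup p
  have hQn : Q.Normal := inferInstance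
  have hQP : Q ≤ P := by
    obtain ⟨R, hR⟩ := hQp.exists_le_sylow
    obtain ⟨g, rfl⟩ := MulAction.exists_smul_eq K R P
    intro y hy
    rw [Sylow.coe_subgroup_smul, Subgroup.mem_pointwise_smul_iff_inv_smul_mem]
    apply hR
    have := hQn.conj_mem y hy g⁻¹
    simpa using this
  haveI hQc : IsCyclic Q := cyclic_of_pGroup p P hP Q hQp
  have hdvd : p ∣ Nat.card Q := by
    obtain ⟨n, hn⟩ := IsPGroup.iff_card.mp hQp
    rcases Nat.eq_zero_or_pos n with h0 | h0
    · exfalso
      rw [h0, pow_zero] at hn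
      exact hQ (Subgroup.card_eq_one.mp hn)
    · rw [hn]
      exact dvd_pow_self p h0.ne'
  obtain ⟨x0, hx0⟩ := exists_prime_orderOf_dvd_card' p hdvd
  set x : K := (x0 : K) with hxdef
  have hx : orderOf x = p := by rw [hxdef, Subgroup.orderOf_coe]; exact hx0
  have hxQ : x ∈ Q := x0.2
  have hconj : ∀ g : K, g * x * g⁻¹ ∈ zpowers x := by
    intro g
    have h1 : g * x * g⁻¹ ∈ Q := hQn.conj_mem x hxQ g
    have h2 : orderOf (g * x * g⁻¹) = p := by
      rw [← hx]
      exact (MulAut.conj g).orderOf_eq x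
    have heq := Cfsg.Agent.Lib.Helper21.eq_of_card_eq_of_le_isCyclic Q
      (zpowers (g * x * g⁻¹)) (zpowers x) (zpowers_le.mpr h1) (zpowers_le.mpr hxQ)
      (by rw [Nat.card_zpowers, Nat.card_zpowers, h2, hx])
    exact heq ▸ mem_zpowers _
  haveI hΩn : (zpowers x).Normal := by
    refine ⟨fun n hn g => ?_⟩
    obtain ⟨k, rfl⟩ := mem_zpowers_iff.mp hn
    rw [← conj_zpow]
    exact (zpowers x).zpow_mem (hconj g) k
  set D := centralizer ((zpowers x : Subgroup K) : Set K) with hD
  haveI hDn : D.Normal := inferInstance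
  have hDc : ∀ d ∈ D, d * x = x * d := by
    intro d hd
    exact ((mem_centralizer_iff.mp hd) x (mem_zpowers x)).symm
  have hPcomm : ∀ a ∈ (P : Subgroup K), ∀ b ∈ (P : Subgroup K), a * b = b * a := by
    intro a ha b hb
    obtain ⟨g, hg⟩ := hP
    obtain ⟨i, hi⟩ := mem_zpowers_iff.mp (hg ⟨a, ha⟩)
    obtain ⟨j, hj⟩ := mem_zpowers_iff.mp (hg ⟨b, hb⟩)
    have h1 : (⟨a, ha⟩ : (P : Subgroup K)) * ⟨b, hb⟩ = ⟨b, hb⟩ * ⟨a, ha⟩ := by
      rw [← hi, ← hj, ← zpow_add, ← zpow_add, add_comm]
    exact congrArg Subtype.val h1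
  have hPD : (P : Subgroup K) ≤ D := by
    intro y hy
    rw [hD, mem_centralizer_iff]
    intro z hz
    exact hPcomm z (hQP ((zpowers_le.mpr hxQ) hz)) y hy
  have hxD : x ∈ D := hPD (hQP hxQ)
  have hDp : IsPGroup p D := pGroup_of_central p hO P hP D x hxD hx hDc
  have hDQ : D ≤ Q := Cfsg.H9.le_pCore p hDn hDp
  have hPeq : (P : Subgroup K) = D := le_antisymm hPD (hDQ.trans hQP)
  have hcent : Subgroup.centralizer ((P : Subgroup K) : Set K) = (P : Subgroup K) := by
    apply le_antisymm
    · rw [hPeq]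
      conv_rhs => rw [hD]
      apply Subgroup.centralizer_le
      intro z hz
      exact hPeq ▸ (hQP ((zpowers_le.mpr hxQ) hz))
    · intro y hy
      rw [mem_centralizer_iff]
      intro z hz
      exact hPcomm z hz y hy
  let φ : K →* MulAut (zpowers x) := MulAut.conjNormal
  have hker : (P : Subgroup K) = φ.ker := by
    rw [hPeq]
    ext g
    rw [MonoidHom.mem_ker, hD, mem_centralizer_iff]
    constructor
    · intro h
      ext z
      rw [MulAut.conjNormal_apply, MulAut.one_apply, ← h z z.2, mul_inv_cancel_right]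
    · intro h z hz
      have := congrArg (fun f : MulAut (zpowers x) => ((f ⟨z, hz⟩ : zpowers x) : K)) h
      simp only [φ, MulAut.conjNormal_apply, MulAut.one_apply] at this
      calc z * g = g * z * g⁻¹ * g := by rw [this]
        _ = g * z := by group
  have hcardΩ : Nat.card (zpowers x) = p := by rw [Nat.card_zpowers, hx]
  haveI : Fact (Nat.card (zpowers x)).Prime := ⟨by rw [hcardΩ]; exact hpp⟩
  haveI hcycA : IsCyclic (MulAut (zpowers x)) :=
    (IsCyclic.mulAutMulEquiv (zpowers x)).isCyclic.mpr inferInstance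
  refine ⟨hPeq ▸ hDn, hcent, ?_, ?_⟩
  · intro hn
    have e1 : K ⧸ (P : Subgroup K) ≃* K ⧸ φ.ker := QuotientGroup.quotientMulEquivOfEq hker
    have e2 : K ⧸ φ.ker ≃* φ.range := QuotientGroup.quotientKerEquivRange φ
    exact (e1.trans e2).isCyclic.mpr inferInstance
  · rw [hker, Subgroup.index_ker]
    have h1 : Nat.card φ.range ∣ Nat.card (MulAut (zpowers x)) := Subgroup.card_subgroup_dvd_card _
    rw [IsCyclic.card_mulAut, hcardΩ, Nat.totient_prime hpp] at h1
    exact h1

omit [Finite K] in
theorem isSimple_of_internal {M : Subgroup K} (h0 : M ≠ ⊥)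
    (h : ∀ T : Subgroup K, T ≤ M → T ≠ ⊥ → M ≤ normalizer (T : Set K) → T = M) :
    IsSimpleGroup ↥M := by
  haveI : Nontrivial M := (Subgroup.nontrivial_iff_ne_bot M).mpr h0
  refine ⟨fun N hN => ?_⟩
  by_cases hb : N = ⊥
  · exact Or.inl hb
  · right
    have h1 : N.map M.subtype ≤ M := Subgroup.map_subtype_le N
    have h2 : N.map M.subtype ≠ ⊥ := by
      rw [Ne, Subgroup.map_eq_bot_iff_of_injective _ M.subtype_injective]
      exact hb
    have h3 : M ≤ normalizer ((N.map M.subtype : Subgroup K) : Set K) := by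
      rw [← Subgroup.normal_subgroupOf_iff_le_normalizer h1]
      have e : (N.map M.subtype).subgroupOf M = N :=
        Subgroup.comap_map_eq_self_of_injective M.subtype_injective N
      rw [e]
      exact hN
    have h4 := h _ h1 h2 h3
    rw [eq_top_iff]
    intro y _
    have : (y : K) ∈ N.map M.subtype := by rw [h4]; exact y.2
    obtain ⟨z, hz, hzy⟩ := Subgroup.mem_map.mp this
    have : z = y := Subtype.ext hzy
    exact this ▸ hz

theorem case2 (p : ℕ) [Fact p.Prime] (hp : p ∣ Nat.card K) (hO : Cfsg.pPrimeCore p K = ⊥)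
    (P : Sylow p K) (hP : IsCyclic ↥(P : Subgroup K)) (hQ : pCore p K = ⊥) :
    IsSimpleGroup ↥(Cfsg.generalizedFittingSubgroup K) ∧
      ¬ IsMulCommutative ↥(Cfsg.generalizedFittingSubgroup K) ∧
      ¬ p ∣ (Cfsg.generalizedFittingSubgroup K).index := by
  have hpp : p.Prime := Fact.out
  have hnt : (⊤ : Subgroup K) ≠ ⊥ := by
    intro h
    have h1 : Nat.card K = 1 := by
      rw [← Subgroup.card_top (G := K), h, Subgroup.card_bot]
    rw [h1] at hp
    exact hpp.one_lt.ne' (Nat.dvd_one.mp hp)
  -- subnormal nontrivial subgroups have order divisible by p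
  have hdiv : ∀ S : Subgroup K, S.IsSubnormal → S ≠ ⊥ → p ∣ Nat.card S := by
    intro S hS h0
    by_contra hnd
    have h1 := Cfsg.H9.subnormal_le_pPrimeCore p hS
      (Nat.Coprime.symm ((Nat.Prime.coprime_iff_not_dvd hpp).mpr hnd))
    rw [hO] at h1
    exact h0 (le_bot_iff.mp h1)
  have hnp : ∀ S : Subgroup K, S.IsSubnormal → S ≠ ⊥ → ¬ IsPGroup p S := by
    intro S hS h0 hpg
    have h1 := Cfsg.H9.subnormal_le_pCore p hS hpg
    rw [hQ] at h1
    exact h0 (le_bot_iff.mp h1)
  obtain ⟨M, -, hM0, hMn, hMmin⟩ := exists_min (⊤ : Subgroup K) ⊤ hnt le_normalizer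
  haveI hMN : M.Normal := normalizer_eq_top_iff.mp (top_le_iff.mp hMn)
  have hMsub : M.IsSubnormal := hMN.isSubnormal
  obtain ⟨S, hSM, hS0, hSn, hSmin⟩ := exists_min M M hM0 le_normalizer
  have hSsub : S.IsSubnormal := Cfsg.H9.subnormal_step hSM hSn hMsub
  have hSeq : S = M := by
    by_contra hne
    have hex : ∃ k : K, MulAut.conj k • S ≠ S := by
      by_contra hall
      push Not at hall
      apply hne
      apply hMmin S hSM hS0
      intro k _
      rw [Subgroup.mem_normalizer_iff]
      intro y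
      have h1 := hall k
      constructor
      · intro hy
        rw [← h1]
        exact Subgroup.smul_mem_pointwise_smul y (MulAut.conj k) S hy
      · intro hy
        rw [← h1, Subgroup.mem_pointwise_smul_iff_inv_smul_mem] at hy
        simpa [MulAut.smul_def, mul_assoc] using hy
    obtain ⟨k, hk⟩ := hex
    set S1 := MulAut.conj k • S with hS1
    have hS1M : S1 ≤ M := by
      have h1 : MulAut.conj k • S ≤ MulAut.conj k • M :=
        Subgroup.pointwise_smul_le_pointwise_smul_iff.mpr hSM
      rwa [Subgroup.Normal.conj_smul_eq_self k M] at h1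
    have hcard : Nat.card S1 = Nat.card S :=
      (Nat.card_congr (Subgroup.equivSMul (MulAut.conj k) S).toEquiv).symm
    have hS1n : M ≤ normalizer (S1 : Set K) := by
      intro m hm
      rw [Subgroup.mem_normalizer_iff]
      have hm' : k⁻¹ * m * k ∈ normalizer (S : Set K) := by
        apply hSn
        have := hMN.conj_mem m hm k⁻¹
        simpa using this
      rw [Subgroup.mem_normalizer_iff] at hm'
      intro y
      rw [hS1, Subgroup.mem_pointwise_smul_iff_inv_smul_mem,
        Subgroup.mem_pointwise_smul_iff_inv_smul_mem]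
      have := hm' (k⁻¹ * y * k)
      simp only [MulAut.smul_def, MulAut.conj_inv_apply]
      rw [this]
      have e : k⁻¹ * m * k * (k⁻¹ * y * k) * (k⁻¹ * m * k)⁻¹ = k⁻¹ * (m * y * m⁻¹) * k := by group
      rw [e]
    have hT : S ⊓ S1 = ⊥ := by
      by_contra hT0
      have h1 : M ≤ normalizer ((S ⊓ S1 : Subgroup K) : Set K) := by
        intro m hm
        have a1 := Subgroup.mem_normalizer_iff.mp (hSn hm)
        have a2 := Subgroup.mem_normalizer_iff.mp (hS1n hm)
        rw [Subgroup.mem_normalizer_iff]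
        intro y
        rw [Subgroup.mem_inf, Subgroup.mem_inf, a1 y, a2 y]
      have h2 := hSmin _ inf_le_left hT0 h1
      have h3 : S ≤ S1 := inf_eq_left.mp h2
      exact hk (Subgroup.eq_of_le_of_card_ge h3 hcard.le).symm
    have hcomm : ∀ a ∈ S, ∀ b ∈ S1, a * b = b * a := by
      intro a ha b hb
      have h1 : a * b * a⁻¹ * b⁻¹ ∈ S ⊓ S1 := by
        constructor
        · have := (Subgroup.mem_normalizer_iff.mp (hSn (hS1M hb)) a⁻¹).mp (S.inv_mem ha)
          have h2 := S.mul_mem ha this
          simpa [mul_assoc] using h2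
        · have := (Subgroup.mem_normalizer_iff.mp (hS1n (hSM ha)) b).mp hb
          exact S1.mul_mem this (S1.inv_mem hb)
      rw [hT, mem_bot] at h1
      calc a * b = a * b * a⁻¹ * b⁻¹ * (b * a) := by group
        _ = b * a := by rw [h1, one_mul]
    exact no_two p P hP S S1 hcomm hT (hdiv S hSsub hS0) (hcard ▸ hdiv S hSsub hS0)
  rw [hSeq] at hSmin
  -- M is not abelian
  have hMna : ¬ (∀ a ∈ M, ∀ b ∈ M, a * b = b * a) := by
    intro hab
    obtain ⟨a, ha⟩ := exists_prime_orderOf_dvd_card' p (hdiv M hMsub hM0)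
    have ha' : orderOf (a : K) = p := by rw [Subgroup.orderOf_coe]; exact ha
    have h1 : zpowers (a : K) ≤ M := zpowers_le.mpr a.2
    have h2 : zpowers (a : K) ≠ ⊥ := by
      intro h
      rw [zpowers_eq_bot] at h
      rw [h, orderOf_one] at ha'
      exact hpp.one_lt.ne ha'
    have h3 : M ≤ normalizer ((zpowers (a : K) : Subgroup K) : Set K) := by
      refine le_trans ?_ (centralizer_le_normalizer _)
      intro m hm
      rw [mem_centralizer_iff]
      intro z hz
      exact hab z (h1 hz) m hm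
    have h4 := hSmin _ h1 h2 h3
    apply hnp M hMsub hM0
    rw [← h4]
    exact IsPGroup.of_card (n := 1) (by rw [Nat.card_zpowers, ha', pow_one])
  have hZ : M ⊓ centralizer (M : Set K) = ⊥ := by
    by_contra h0
    have h1 : M ≤ normalizer ((M ⊓ centralizer (M : Set K) : Subgroup K) : Set K) := by
      haveI : (M ⊓ centralizer (M : Set K)).Normal := inferInstance
      rw [normalizer_eq_top_iff.mpr this]
      exact le_top
    have h2 := hSmin _ inf_le_left h0 h1
    apply hMna
    intro a ha b hb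
    have : b ∈ centralizer (M : Set K) := (inf_eq_left.mp h2) hb
    exact (mem_centralizer_iff.mp this) a ha
  have hC : centralizer (M : Set K) = ⊥ := by
    by_contra h0
    have hCn : (centralizer (M : Set K)).Normal := inferInstance
    refine no_two p P hP M (centralizer (M : Set K)) ?_ hZ (hdiv M hMsub hM0)
      (hdiv _ hCn.isSubnormal h0)
    intro a ha b hb
    exact (mem_centralizer_iff.mp hb) a ha
  have hF : fittingSubgroup K ≤ M := by
    have h1 : fittingSubgroup K = ⊥ := by
      by_contra h0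
      haveI : Group.IsNilpotent (fittingSubgroup K) := Cfsg.H9.fitting_isNilpotent
      have h2 := Cfsg.H9.relIndex_pCore_of_nilpotent p (fittingSubgroup K)
      rw [hQ, Subgroup.relIndex_bot_left] at h2
      exact h2 (hdiv _ (Cfsg.H9.fitting_normal).isSubnormal h0)
    rw [h1]
    exact bot_le
  have hle : generalizedFittingSubgroup K ≤ M :=
    Cfsg.H9.genFitting_le_of_selfcentralizing M hF (by rw [hC]; exact bot_le)
  have hFs0 : generalizedFittingSubgroup K ≠ ⊥ := by
    intro h
    have h1 := Cfsg.H9.centralizer_genFitting_le (G := K)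
    rw [h] at h1
    apply hnt
    rw [eq_bot_iff]
    refine le_trans ?_ h1
    intro y _
    rw [mem_centralizer_iff]
    intro z hz
    have : z = 1 := by simpa using hz
    rw [this, one_mul, mul_one]
  have hFsn : (generalizedFittingSubgroup K).Normal := Cfsg.H9.genFitting_normal
  have hFeq : generalizedFittingSubgroup K = M := by
    apply hSmin _ hle hFs0
    rw [normalizer_eq_top_iff.mpr hFsn]
    exact le_top
  rw [hFeq]
  have hsimple : IsSimpleGroup ↥M := isSimple_of_internal hM0 hSmin
  refine ⟨hsimple, ?_, ?_⟩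
  · intro hc
    apply hMna
    intro a ha b hb
    have := hc.is_comm.comm (⟨a, ha⟩ : M) ⟨b, hb⟩
    exact congrArg Subtype.val this
  · intro hidx
    obtain ⟨R, N, hN, hcompl⟩ := (Cfsg.Agent.S4145.result p P hP M (hdiv M hMsub hM0) hidx).1
    rcases hsimple.eq_bot_or_eq_top_of_normal N hN with h | h
    · rw [h, isComplement'_bot_left] at hcompl
      apply hnp M hMsub hM0
      have := R.2
      rw [hcompl] at this
      exact this.of_equiv Subgroup.topEquiv
    · rw [h, isComplement'_top_left] at hcompl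
      exact R.ne_bot_of_dvd_card (hdiv M hMsub hM0) hcompl

end aux

/-- Let K be a finite group, p a prime dividing its order with O_{p'}(K) = 1 (no nontrivial normal subgroup of order prime to p), and P a cyclic Sylow p-subgroup of K. Then either P is normal and self-centralizing in K with K/P cyclic of order dividing p − 1 (so K is the semidirect product of P by a group of automorphisms of P of order dividing p − 1), or the generalized Fitting subgroup F*(K) is a non-abelian simple group and p does not divide the index of F*(K) in K. -/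
theorem result {K : Type*} [Group K] [Finite K] (p : ℕ) [Fact p.Prime] (hp : p ∣ Nat.card K) (hO : Cfsg.pPrimeCore p K = ⊥)
    (P : Sylow p K) (hP : IsCyclic ↥(P : Subgroup K)) :
    ((P : Subgroup K).Normal ∧ Subgroup.centralizer ((P : Subgroup K) : Set K) = (P : Subgroup K) ∧
      (∀ (_ : (P : Subgroup K).Normal), IsCyclic (K ⧸ (P : Subgroup K))) ∧ (P : Subgroup K).index ∣ p - 1) ∨
    (IsSimpleGroup ↥(Cfsg.generalizedFittingSubgroup K) ∧ ¬ IsMulCommutative ↥(Cfsg.generalizedFittingSubgroup K) ∧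
      ¬ p ∣ (Cfsg.generalizedFittingSubgroup K).index) := by
  by_cases hQ : pCore p K = ⊥
  · exact Or.inr (case2 p hp hO P hP hQ)
  · exact Or.inl (case1 p hO P hP hQ)

end Cfsg.Agent.S4403
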