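import Cfsg.Statements.S4419
import Mathlib
import Cfsg.Agent.Lib.Helper21.MetaNPC
import Cfsg.Agent.S0071

set_option autoImplicit false
open Cfsg

namespace Cfsg.Agent.S4419

/-- Let p be a prime and G a finite group whose Sylow p-subgroups are metacyclic (a cyclic normal subgroup with cyclic quotient). Then G has a normal p-complement if and only if the order of G/O_{p′,p}(G) is coprime to p² − 1. -/
theorem result {G : Type*} [Group G] [Finite G] (p : ℕ) [Fact p.Prime] (S : Sylow p G) (hS : Cfsg.IsMetacyclic ↥(S : Subgroup G)) : Cfsg.HasNormalPComplement p G ↔ Nat.Coprime (Nat.card (G ⧸ Cfsg.pPrimePCore p G)) (p ^ 2 - 1) := by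
  have hp : p.Prime := Fact.out
  haveI hOn : (Cfsg.pPrimeCore p G).Normal := by
    haveI := Cfsg.Agent.H12.pPrimeCore_characteristic p G
    exact Subgroup.normal_of_characteristic _
  haveI hCn : (Cfsg.pCore p (G ⧸ Cfsg.pPrimeCore p G)).Normal := by
    haveI := Cfsg.Agent.H12.pCore_characteristic p (G ⧸ Cfsg.pPrimeCore p G)
    exact Subgroup.normal_of_characteristic _
  haveI hLn : (Cfsg.pPrimePCore p G).Normal := by
    unfold Cfsg.pPrimePCore
    infer_instance
  constructor
  · intro h
    have h1 := Cfsg.Agent.H12.hasNormalPComplement_iff.1 h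
    have h2 : Cfsg.pResidual p G ≤ Cfsg.pPrimeCore p G :=
      Cfsg.Agent.H12.le_pPrimeCore inferInstance h1
    have h3 : IsPGroup p (G ⧸ Cfsg.pPrimeCore p G) := by
      obtain ⟨a, ha⟩ := IsPGroup.iff_card.mp (Cfsg.Agent.H12.isPGroup_quotient_pResidual (G := G) p)
      have h4 : (Cfsg.pPrimeCore p G).index ∣ p ^ a := by
        rw [← ha]; exact Subgroup.index_dvd_of_le h2
      obtain ⟨i, -, hi⟩ := (Nat.dvd_prime_pow hp).1 h4
      exact IsPGroup.of_card (n := i) hi
    have h5 : Cfsg.pCore p (G ⧸ Cfsg.pPrimeCore p G) = ⊤ := by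
      rw [eq_top_iff]
      exact Cfsg.Agent.H12.le_pCore inferInstance (h3.to_subgroup ⊤)
    have h6 : Cfsg.pPrimePCore p G = ⊤ := by
      unfold Cfsg.pPrimePCore
      rw [h5, Subgroup.comap_top]
    have h7 : Nat.card (G ⧸ Cfsg.pPrimePCore p G) = 1 := by
      rw [h6]; exact Subgroup.index_top
    rw [h7]
    exact Nat.coprime_one_left _
  · intro hcop
    obtain ⟨N, hN, hc⟩ := (Cfsg.Agent.S0071.result S).2 (by
      intro Q hQS
      have hQ : IsPGroup p Q := S.2.to_le hQS
      have hmQ : Cfsg.IsMetacyclic Q := by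
        have h1 := Cfsg.H1.isMetacyclic_subgroup hS (Q.subgroupOf (S : Subgroup G))
        obtain ⟨N, hN, hc, hq⟩ := h1
        let e : (Q.subgroupOf (S : Subgroup G)) ≃* Q := Subgroup.subgroupOfEquivOfLe hQS
        haveI : (N.map e.toMonoidHom).Normal :=
          hN.map e.toMonoidHom e.surjective
        refine ⟨N.map e.toMonoidHom, inferInstance, ?_, ?_⟩
        · exact isCyclic_of_surjective (e.subgroupMap N) (e.subgroupMap N).surjective
        · let f : (Q.subgroupOf (S : Subgroup G)) ⧸ N ≃* Q ⧸ (N.map e.toMonoidHom) :=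
            QuotientGroup.congr N (N.map e.toMonoidHom) e rfl
          exact isCyclic_of_surjective f f.surjective
      obtain ⟨a, b, hab⟩ := Cfsg.H1.exists_mcGen hmQ
      have hidx := Cfsg.Agent.Lib.Helper21.frattini_index_le_of_two_gen p hQ a b hab.gen
      apply Cfsg.Agent.Lib.Helper21.mem_of_prime_power_parts
      intro k hkQ s a hsP hsp hks
      haveI : Fact s.Prime := ⟨hsP⟩
      have hkT : IsPGroup s (Subgroup.zpowers k) :=
        IsPGroup.of_card (n := a) (by rw [Nat.card_zpowers, hks])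
      by_cases hs : s ∣ p ^ 2 - 1
      · -- `k` lies in `O_{p'}(G)`
        have hc1 : (Nat.card (G ⧸ Cfsg.pPrimePCore p G)).Coprime (s ^ a) :=
          Nat.Coprime.pow_right a (Nat.Coprime.coprime_dvd_right hs hcop)
        have hkL : k ∈ Cfsg.pPrimePCore p G := by
          rw [← QuotientGroup.eq_one_iff, ← orderOf_eq_one_iff]
          have h1 : orderOf ((k : G ⧸ Cfsg.pPrimePCore p G)) ∣ s ^ a := by
            rw [← hks]; exact orderOf_map_dvd (QuotientGroup.mk' (Cfsg.pPrimePCore p G)) k
          exact Nat.eq_one_of_dvd_coprimes hc1 (orderOf_dvd_natCard _) h1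
        have hkO : k ∈ Cfsg.pPrimeCore p G := by
          have h1 : QuotientGroup.mk' (Cfsg.pPrimeCore p G) k ∈
              Cfsg.pCore p (G ⧸ Cfsg.pPrimeCore p G) := hkL
          obtain ⟨i, hi⟩ := (Cfsg.Agent.H12.pCore_isPGroup p (G ⧸ Cfsg.pPrimeCore p G)) ⟨_, h1⟩
          have hi' : (QuotientGroup.mk' (Cfsg.pPrimeCore p G) k) ^ p ^ i = 1 :=
            congrArg Subtype.val hi
          have h2 : orderOf (QuotientGroup.mk' (Cfsg.pPrimeCore p G) k) ∣ p ^ i :=
            orderOf_dvd_of_pow_eq_one hi'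
          have h3 : orderOf (QuotientGroup.mk' (Cfsg.pPrimeCore p G) k) ∣ s ^ a := by
            rw [← hks]; exact orderOf_map_dvd _ k
          have h4 : (p ^ i).Coprime (s ^ a) :=
            Nat.Coprime.pow _ _ ((Nat.coprime_primes hp hsP).2 (Ne.symm hsp))
          have h5 := Nat.eq_one_of_dvd_coprimes h4 h2 h3
          rw [orderOf_eq_one_iff] at h5
          exact (QuotientGroup.eq_one_iff k).1 h5
        have hbot : Q ⊓ Cfsg.pPrimeCore p G = ⊥ :=
          Cfsg.Agent.H12.inf_eq_bot_of_pGroup_of_coprime hQ (Cfsg.Agent.H12.pPrimeCore_coprime p)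
        rw [Subgroup.mem_centralizer_iff]
        intro x hx
        have h1 : k * x * k⁻¹ * x⁻¹ ∈ Q ⊓ Cfsg.pPrimeCore p G := by
          refine Subgroup.mem_inf.mpr ⟨?_, ?_⟩
          · exact Q.mul_mem ((Subgroup.mem_normalizer_iff.1 hkQ x).1 hx) (Q.inv_mem hx)
          · have h2 : k * x * k⁻¹ * x⁻¹ = k * (x * k⁻¹ * x⁻¹) := by group
            rw [h2]
            exact Subgroup.mul_mem _ hkO (hOn.conj_mem _ (Subgroup.inv_mem _ hkO) x)
        rw [hbot, Subgroup.mem_bot] at h1
        have h2 : k * x = x * k := by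
          have := congrArg (fun z => z * x * k) h1
          simpa [mul_assoc] using this
        exact h2.symm
      · exact Cfsg.Agent.Lib.Helper21.mem_centralizer_of_frattini_index_le p s hsp hs Q hQ hidx k
          hkQ hkT)
    exact ⟨S, N, hN, hc⟩

end Cfsg.Agent.S4419
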