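import Cfsg.Statements.S4490
import Cfsg.Agent.Lib.Helper23.MinMax2

set_option autoImplicit false
open Cfsg

namespace Cfsg.Agent.S4490

open Cfsg Cfsg.Agent.CharLib Cfsg.Agent.BlockLib Cfsg.Agent.Lib.Helper23 Cfsg.Agent.Lib.Helper23.MinMax
open scoped ComplexConjugate

/-- pairing lemma modulo 2 -/
theorem h23_memLocalIdeal_sum_of_involution {ι : Type*} {M : Ideal AlgInt} (hM : IsPModular 2 M)
    (s : Finset ι) (f : ι → ℂ) (hf : ∀ g ∈ s, MemLocalRing M (f g)) (σ : ι → ι)
    (hσs : ∀ g ∈ s, σ g ∈ s) (hσ2 : ∀ g ∈ s, σ (σ g) = g) (hσne : ∀ g ∈ s, σ g ≠ g)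
    (hfσ : ∀ g ∈ s, MemLocalIdeal M (f (σ g) - f g)) : MemLocalIdeal M (∑ g ∈ s, f g) := by
  classical
  have hMp := isPrime_of_isPModular hM
  have htop := ne_top_of_isPModular hM
  let F : ι → localSubring M := fun g => if h : g ∈ s then ⟨f g, hf g h⟩ else 0
  have hF : ∀ g ∈ s, ((F g : localSubring M) : ℂ) = f g := by
    intro g hg
    simp only [F, dif_pos hg]
  have h0 : ∑ g ∈ s, Ideal.Quotient.mk (localIdeal M) (F g) = 0 := by
    apply Finset.sum_involution (fun g _ => σ g)
    · intro g hg
      rw [← map_add, Ideal.Quotient.eq_zero_iff_mem, mem_localIdeal]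
      push_cast
      rw [hF g hg, hF _ (hσs g hg)]
      have h1 : f g + f (σ g) = (2 : ℕ) * f g + (f (σ g) - f g) := by push_cast; ring
      rw [h1]
      exact memLocalIdeal_add (memLocalIdeal_mul_right (memLocalIdeal_p hM) (hf g hg)) (hfσ g hg)
    · intro g hg _
      exact hσne g hg
    · intro g hg
      exact hσs g hg
    · intro g hg
      exact hσ2 g hg
  rw [← map_sum, Ideal.Quotient.eq_zero_iff_mem, mem_localIdeal] at h0
  push_cast at h0
  rwa [Finset.sum_congr rfl hF] at h0

theorem h23_real_block_aux {G : Type*} [Group G] [Fintype G] {M : Ideal AlgInt} (hM : IsPModular 2 M)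
    {B : Set (IrrCharacter G)} [DecidablePred (· ∈ B)] (hB : IsPBlock M B)
    (hreal : ∀ g : G, blockCoeff B g⁻¹ = blockCoeff B g)
    (ψ : IrrCharacter G) (hodd : ¬ 2 ∣ charDegree (ψ : G → ℂ))
    (hψ : SameBlock M (ψ : G → ℂ) (fun g => conj ((ψ : G → ℂ) g))) :
    MemLocalIdeal M ((if ψ ∈ B then (1 : ℂ) else 0) - blockCoeff B 1) := by
  classical
  have hMp := isPrime_of_isPModular hM
  have htop := ne_top_of_isPModular hM
  have : Fintype (ConjClasses G) := Fintype.ofFinite _
  have hdeg : (ψ : G → ℂ) 1 = (charDegree (ψ : G → ℂ) : ℂ) := (charDegree_cast_irr ψ).symm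
  have hdinv : MemLocalRing M ((ψ : G → ℂ) 1)⁻¹ := by
    rw [hdeg]; exact memLocalRing_natCast_inv hM hodd
  have hd0 : (ψ : G → ℂ) 1 ≠ 0 := irr_apply_one_ne_zero ψ
  let w : G → ℂ := fun g => blockCoeff B g * (ψ : G → ℂ) g * ((ψ : G → ℂ) 1)⁻¹
  have hwR : ∀ g, MemLocalRing M (w g) := fun g =>
    memLocalRing_mul (memLocalRing_mul (memLocalRing_blockCoeff hB g)
      (memLocalRing_of_isIntegral htop (isCharacter_isIntegral (isCharacter_of_irr ψ.2) g))) hdinv
  have hwcl : ∀ g h : G, w (h * g * h⁻¹) = w g := by
    intro g h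
    simp only [w]
    rw [isClassFunction_of_irr ψ.2, blockCoeff_eq_idemSet, blockCoeff_eq_idemSet,
      isClassFunction_idemSet B]
  have hsum : (if ψ ∈ B then (1 : ℂ) else 0) = ∑ g : G, w g := by
    rw [← omega_idemSet B ψ, omega, Finset.sum_div]
    apply Finset.sum_congr rfl
    intro g _
    simp only [w]
    rw [blockCoeff_eq_idemSet, div_eq_mul_inv]
  let good : G → Prop := fun g => ¬ 2 ∣ orderOf g ∧ ¬ 2 ∣ (Subgroup.centralizer ({g} : Set G)).index
  have hgoodcl : ∀ g h : G, good (h * g * h⁻¹) ↔ good g := by
    intro g h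
    have h1 : orderOf (h * g * h⁻¹) = orderOf g := by
      have := (MulAut.conj h).toMonoidHom
      exact orderOf_injective (MulAut.conj h).toMonoidHom (MulAut.conj h).injective g
    have h2 : (Subgroup.centralizer ({h * g * h⁻¹} : Set G)).index =
        (Subgroup.centralizer ({g} : Set G)).index := by
      rw [← card_isConj_eq_index, ← card_isConj_eq_index]
      apply Nat.card_congr
      apply Equiv.subtypeEquivRight
      intro x
      have hc : IsConj g (h * g * h⁻¹) := isConj_iff.2 ⟨h, rfl⟩
      exact ⟨fun hx => hc.trans hx, fun hx => hc.symm.trans hx⟩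
    simp only [good, h1, h2]
  -- bad part
  have hbad : MemLocalIdeal M (∑ g : G, if good g then 0 else w g) := by
    rw [sum_eq_sum_conjClasses (fun g => if good g then 0 else w g)
      (by intro g h; simp only [hgoodcl, hwcl])]
    apply memLocalIdeal_sum
    intro C _
    split_ifs with hg
    · rw [mul_zero]; exact memLocalIdeal_zero htop
    · simp only [good, not_and_or, not_not] at hg
      rcases hg with hg | hg
      · simp only [w]
        rw [blockCoeff_eq_zero_of_singular hM hB hg]
        simp only [zero_mul, mul_zero]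
        exact memLocalIdeal_zero htop
      · exact memLocalIdeal_mul_right ((memLocalIdeal_natCast_iff hM _).2 hg) (hwR _)
  -- good part without identity
  have hgood : MemLocalIdeal M (∑ g ∈ Finset.univ.filter (fun g : G => good g ∧ g ≠ 1), w g) := by
    have hinvgood : ∀ g : G, good g → good g⁻¹ := by
      intro g hg
      refine ⟨by rw [orderOf_inv]; exact hg.1, ?_⟩
      have : Subgroup.centralizer ({g⁻¹} : Set G) = Subgroup.centralizer ({g} : Set G) := by
        ext y
        simp only [Subgroup.mem_centralizer_singleton_iff]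
        constructor
        · intro h
          have := congrArg (fun t => g * t * g) h
          simp only [mul_assoc, inv_mul_cancel, mul_one] at this
          simp only [← mul_assoc, mul_inv_cancel, one_mul] at this
          exact this.symm
        · intro h
          have := congrArg (fun t => g⁻¹ * t * g⁻¹) h
          simp only [mul_assoc, mul_inv_cancel, mul_one] at this
          simp only [← mul_assoc, inv_mul_cancel, one_mul] at this
          exact this.symm
      rw [this]; exact hg.2
    apply h23_memLocalIdeal_sum_of_involution hM _ w (fun g _ => hwR g) (fun g => g⁻¹)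
    · intro g hg
      simp only [Finset.mem_filter, Finset.mem_univ, true_and] at hg ⊢
      exact ⟨hinvgood g hg.1, by simpa using hg.2⟩
    · intro g _
      exact inv_inv g
    · intro g hg hgg
      simp only [Finset.mem_filter, Finset.mem_univ, true_and] at hg
      have h2 : g ^ 2 = 1 := by
        rw [pow_two]
        nth_rewrite 1 [← hgg]
        exact inv_mul_cancel g
      have h3 : orderOf g ∣ 2 := orderOf_dvd_of_pow_eq_one h2
      rcases (Nat.dvd_prime Nat.prime_two).1 h3 with h | h
      · exact hg.2 (orderOf_eq_one_iff.1 h)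
      · exact hg.1.1 (by rw [h])
    · intro g hg
      simp only [Finset.mem_filter, Finset.mem_univ, true_and] at hg
      simp only [w]
      rw [hreal, isCharacter_inv (isCharacter_of_irr ψ.2)]
      have h1 := memLocalIdeal_neg (hψ g)
      have hidx : MemLocalRing M (((Subgroup.centralizer ({g} : Set G)).index : ℂ))⁻¹ :=
        memLocalRing_natCast_inv hM hg.1.2
      have hidx0 : ((Subgroup.centralizer ({g} : Set G)).index : ℂ) ≠ 0 := index_centralizer_ne_zero g
      have h2 : blockCoeff B g * conj ((ψ : G → ℂ) g) * ((ψ : G → ℂ) 1)⁻¹ -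
          blockCoeff B g * (ψ : G → ℂ) g * ((ψ : G → ℂ) 1)⁻¹ =
          (blockCoeff B g * (((Subgroup.centralizer ({g} : Set G)).index : ℂ))⁻¹) *
          (-(centralChar (ψ : G → ℂ) g - centralChar (fun g => conj ((ψ : G → ℂ) g)) g)) := by
        simp only [centralChar]
        rw [conj_irr_apply_one]
        field_simp
        ring
      rw [h2]
      exact memLocalIdeal_mul_left (memLocalRing_mul (memLocalRing_blockCoeff hB g) hidx) h1
  have hsplit : ∑ g : G, w g = blockCoeff B 1 +
      ∑ g ∈ Finset.univ.filter (fun g : G => good g ∧ g ≠ 1), w g +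
      ∑ g : G, (if good g then 0 else w g) := by
    have hg1 : good 1 := by
      refine ⟨by simp, ?_⟩
      have : Subgroup.centralizer ({1} : Set G) = ⊤ := by
        rw [Subgroup.centralizer_eq_top_iff_subset]; simp
      rw [this, Subgroup.index_top]; norm_num
    have hw1 : w 1 = blockCoeff B 1 := by
      simp only [w]
      rw [mul_assoc, mul_inv_cancel₀ hd0, mul_one]
    have e1 : ∑ g : G, w g = ∑ g : G, (if good g then w g else 0) + ∑ g : G, (if good g then 0 else w g) := by
      rw [← Finset.sum_add_distrib]
      apply Finset.sum_congr rfl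
      intro g _
      split_ifs <;> simp
    have e2 : ∑ g : G, (if good g then w g else 0) = blockCoeff B 1 +
        ∑ g ∈ Finset.univ.filter (fun g : G => good g ∧ g ≠ 1), w g := by
      rw [← Finset.sum_filter, ← hw1]
      have : Finset.univ.filter (fun g : G => good g) =
          insert 1 (Finset.univ.filter (fun g : G => good g ∧ g ≠ 1)) := by
        ext g
        simp only [Finset.mem_filter, Finset.mem_univ, true_and, Finset.mem_insert]
        constructor
        · intro h
          by_cases h1 : g = 1
          · exact Or.inl h1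
          · exact Or.inr ⟨h, h1⟩
        · rintro (rfl | h)
          · exact hg1
          · exact h.1
      rw [this, Finset.sum_insert (by simp)]
    rw [e1, e2]
  rw [hsum, hsplit]
  have : blockCoeff B 1 + ∑ g ∈ Finset.univ.filter (fun g : G => good g ∧ g ≠ 1), w g +
      ∑ g : G, (if good g then 0 else w g) - blockCoeff B 1 =
      ∑ g ∈ Finset.univ.filter (fun g : G => good g ∧ g ≠ 1), w g +
      ∑ g : G, (if good g then 0 else w g) := by ring
  rw [this]
  exact memLocalIdeal_add hgood hbad

/-- Let G be a finite group and M a maximal ideal of the algebraic integers containing 2. Every 2-block B of G whose defect groups are the Sylow 2-subgroups of G (a block of full defect) and which is not the principal block is different from its complex-conjugate block, the block formed by the complex conjugates of the members of B. -/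
theorem result {G : Type*} [Group G] [Finite G] (M : Ideal Cfsg.AlgInt) (hM : Cfsg.IsPModular 2 M) (B : Set (Cfsg.IrrCharacter G)) (hB : Cfsg.IsPBlock M B) (P : Sylow 2 G) (hfull : Cfsg.IsDefectGroup 2 M B (P : Subgroup G)) (hnp : B ≠ Cfsg.principalBlock M G) : {ψ : Cfsg.IrrCharacter G | ∃ χ ∈ B, (ψ : G → ℂ) = fun g => (starRingEnd ℂ) ((χ : G → ℂ) g)} ≠ B := by
  classical
  intro hreal
  cases nonempty_fintype G
  have : Fact (Nat.Prime 2) := ⟨Nat.prime_two⟩
  have hMp := isPrime_of_isPModular hM
  have htop := ne_top_of_isPModular hM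
  have hne := nonempty_of_isPBlock htop hB
  let c : IrrCharacter G → IrrCharacter G := fun χ =>
    ⟨fun g => conj ((χ : G → ℂ) g), isIrrCharacter_conj χ.2⟩
  have hcc : ∀ χ, c (c χ) = χ := by
    intro χ
    apply Subtype.ext
    funext g
    simp [c]
  have hcB : ∀ χ, χ ∈ B → c χ ∈ B := by
    intro χ hχ
    rw [← hreal]
    exact ⟨χ, hχ, rfl⟩
  have hcB' : ∀ χ, χ ∈ B ↔ c χ ∈ B := fun χ => ⟨hcB χ, fun h => by
    have := hcB _ h
    rwa [hcc] at this⟩
  have hinv : ∀ g : G, blockCoeff B g⁻¹ = blockCoeff B g := by
    intro g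
    rw [blockCoeff, blockCoeff, finsum_mem_eq_sum_filter', finsum_mem_eq_sum_filter']
    congr 1
    let e : IrrCharacter G ≃ IrrCharacter G := ⟨c, c, hcc, hcc⟩
    apply Finset.sum_equiv e
    · intro χ
      simp only [Finset.mem_filter, Finset.mem_univ, true_and]
      exact hcB' χ
    · intro χ _
      simp only [e, c, Equiv.coe_fn_mk]
      rw [isCharacter_inv (isCharacter_of_irr χ.2), conj_irr_apply_one]
  -- odd degree character
  have hd : blockDefect 2 B = (Nat.card G).factorization 2 := by
    have h1 := card_of_isDefectGroup hM hB hfull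
    rw [P.card_eq_multiplicity] at h1
    exact (Nat.pow_right_injective (le_refl 2) h1).symm
  have he : minExp 2 B = 0 := by
    have h1 := minExp_le_card (p := 2) hne
    rw [blockDefect_eq] at hd
    omega
  obtain ⟨χ₀, hχ₀, h0⟩ := exists_minExp (p := 2) hne
  rw [he] at h0
  have hodd : ¬ 2 ∣ charDegree (χ₀ : G → ℂ) := by
    rcases (Nat.factorization_eq_zero_iff _ _).1 h0 with h | h | h
    · exact absurd Nat.prime_two h
    · exact h
    · exact absurd h (charDegree_pos_irr χ₀).ne'
  have h1 := h23_real_block_aux hM hB hinv χ₀ hodd (sameBlock_of_mem hB hχ₀ (hcB χ₀ hχ₀))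
  rw [if_pos hχ₀] at h1
  have h2 := h23_real_block_aux hM hB hinv (trivIrr G) (by rw [charDegree_trivIrr]; norm_num)
    (by
      have : (fun g => conj ((trivIrr G : G → ℂ) g)) = (trivIrr G : G → ℂ) := by
        funext g; simp [trivIrr]
      rw [this]
      exact SameBlock.refl' htop _)
  have h3 : trivIrr G ∈ B := by
    by_contra h
    rw [if_neg h] at h2
    apply not_memLocalIdeal_one (M := M)
    have := memLocalIdeal_sub h1 h2
    simpa using this
  apply hnp
  have hpb : IsPBlock M (principalBlock M G) := ⟨trivIrr G, rfl⟩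
  exact block_eq_of_mem hB hpb h3 (SameBlock.refl' htop _)

end Cfsg.Agent.S4490
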