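import Cfsg.Statements.S4517
import Cfsg.Agent.S4490

set_option autoImplicit false
open Cfsg

namespace Cfsg.Agent.S4517

open Cfsg

open Cfsg Cfsg.Agent.CharLib Cfsg.Agent.BlockLib Cfsg.Agent.Lib.Helper23 Cfsg.Agent.Lib.Helper23.MinMax
open scoped ComplexConjugate

theorem h23_real_block_aux2 {G : Type*} [Group G] [Fintype G] {M : Ideal AlgInt} (hM : IsPModular 2 M)
    {B : Set (IrrCharacter G)} [DecidablePred (· ∈ B)] (hB : IsPBlock M B)
    (hreal : ∀ g : G, ¬ 2 ∣ orderOf g → blockCoeff B g⁻¹ = blockCoeff B g)
    (ψ : IrrCharacter G) (hodd : ¬ 2 ∣ charDegree (ψ : G → ℂ))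
    (hψ : ∀ g : G, ¬ 2 ∣ orderOf g → MemLocalIdeal M (centralChar (ψ : G → ℂ) g -
      centralChar (fun g => conj ((ψ : G → ℂ) g)) g)) :
    MemLocalIdeal M ((if ψ ∈ B then (1 : ℂ) else 0) - blockCoeff B 1) := by
  classical
  have hMp := isPrime_of_isPModular hM
  have htop := ne_top_of_isPModular hM
  have : Fintype (ConjClasses G) := Fintype.ofFinite _
  have hdeg : (ψ : G → ℂ) 1 = (charDegree (ψ : G → ℂ) : ℂ) := (charDegree_cast_irr ψ).symm
  have hdinv : MemLocalRing M ((ψ : G → ℂ) 1)⁻¹ := by
    rw [hdeg]; exact memLocalRing_natCast_inv hM hodd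
  have hd0 : (ψ : G → ℂ) 1 ≠ 0 := irr_apply_one_ne_zero ψ
  let w : G → ℂ := fun g => blockCoeff B g * (ψ : G → ℂ) g * ((ψ : G → ℂ) 1)⁻¹
  have hwR : ∀ g, MemLocalRing M (w g) := fun g =>
    memLocalRing_mul (memLocalRing_mul (memLocalRing_blockCoeff hB g)
      (memLocalRing_of_isIntegral htop (isCharacter_isIntegral (isCharacter_of_irr ψ.2) g))) hdinv
  have hwcl : ∀ g h : G, w (h * g * h⁻¹) = w g := by
    intro g h
    simp only [w]
    rw [isClassFunction_of_irr ψ.2, blockCoeff_eq_idemSet, blockCoeff_eq_idemSet,
      isClassFunction_idemSet B]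
  have hsum : (if ψ ∈ B then (1 : ℂ) else 0) = ∑ g : G, w g := by
    rw [← omega_idemSet B ψ, omega, Finset.sum_div]
    apply Finset.sum_congr rfl
    intro g _
    simp only [w]
    rw [blockCoeff_eq_idemSet, div_eq_mul_inv]
  let good : G → Prop := fun g => ¬ 2 ∣ orderOf g ∧ ¬ 2 ∣ (Subgroup.centralizer ({g} : Set G)).index
  have hgoodcl : ∀ g h : G, good (h * g * h⁻¹) ↔ good g := by
    intro g h
    have h1 : orderOf (h * g * h⁻¹) = orderOf g := by
      have := (MulAut.conj h).toMonoidHom
      exact orderOf_injective (MulAut.conj h).toMonoidHom (MulAut.conj h).injective g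
    have h2 : (Subgroup.centralizer ({h * g * h⁻¹} : Set G)).index =
        (Subgroup.centralizer ({g} : Set G)).index := by
      rw [← card_isConj_eq_index, ← card_isConj_eq_index]
      apply Nat.card_congr
      apply Equiv.subtypeEquivRight
      intro x
      have hc : IsConj g (h * g * h⁻¹) := isConj_iff.2 ⟨h, rfl⟩
      exact ⟨fun hx => hc.trans hx, fun hx => hc.symm.trans hx⟩
    simp only [good, h1, h2]
  -- bad part
  have hbad : MemLocalIdeal M (∑ g : G, if good g then 0 else w g) := by
    rw [sum_eq_sum_conjClasses (fun g => if good g then 0 else w g)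
      (by intro g h; simp only [hgoodcl, hwcl])]
    apply memLocalIdeal_sum
    intro C _
    split_ifs with hg
    · rw [mul_zero]; exact memLocalIdeal_zero htop
    · simp only [good, not_and_or, not_not] at hg
      rcases hg with hg | hg
      · simp only [w]
        rw [blockCoeff_eq_zero_of_singular hM hB hg]
        simp only [zero_mul, mul_zero]
        exact memLocalIdeal_zero htop
      · exact memLocalIdeal_mul_right ((memLocalIdeal_natCast_iff hM _).2 hg) (hwR _)
  -- good part without identity
  have hgood : MemLocalIdeal M (∑ g ∈ Finset.univ.filter (fun g : G => good g ∧ g ≠ 1), w g) := by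
    have hinvgood : ∀ g : G, good g → good g⁻¹ := by
      intro g hg
      refine ⟨by rw [orderOf_inv]; exact hg.1, ?_⟩
      have : Subgroup.centralizer ({g⁻¹} : Set G) = Subgroup.centralizer ({g} : Set G) := by
        ext y
        simp only [Subgroup.mem_centralizer_singleton_iff]
        constructor
        · intro h
          have := congrArg (fun t => g * t * g) h
          simp only [mul_assoc, inv_mul_cancel, mul_one] at this
          simp only [← mul_assoc, mul_inv_cancel, one_mul] at this
          exact this.symm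
        · intro h
          have := congrArg (fun t => g⁻¹ * t * g⁻¹) h
          simp only [mul_assoc, mul_inv_cancel, mul_one] at this
          simp only [← mul_assoc, inv_mul_cancel, one_mul] at this
          exact this.symm
      rw [this]; exact hg.2
    apply Cfsg.Agent.S4490.h23_memLocalIdeal_sum_of_involution hM _ w (fun g _ => hwR g) (fun g => g⁻¹)
    · intro g hg
      simp only [Finset.mem_filter, Finset.mem_univ, true_and] at hg ⊢
      exact ⟨hinvgood g hg.1, by simpa using hg.2⟩
    · intro g _
      exact inv_inv g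
    · intro g hg hgg
      simp only [Finset.mem_filter, Finset.mem_univ, true_and] at hg
      have h2 : g ^ 2 = 1 := by
        rw [pow_two]
        nth_rewrite 1 [← hgg]
        exact inv_mul_cancel g
      have h3 : orderOf g ∣ 2 := orderOf_dvd_of_pow_eq_one h2
      rcases (Nat.dvd_prime Nat.prime_two).1 h3 with h | h
      · exact hg.2 (orderOf_eq_one_iff.1 h)
      · exact hg.1.1 (by rw [h])
    · intro g hg
      simp only [Finset.mem_filter, Finset.mem_univ, true_and] at hg
      simp only [w]
      rw [hreal g hg.1.1, isCharacter_inv (isCharacter_of_irr ψ.2)]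
      have h1 := memLocalIdeal_neg (hψ g hg.1.1)
      have hidx : MemLocalRing M (((Subgroup.centralizer ({g} : Set G)).index : ℂ))⁻¹ :=
        memLocalRing_natCast_inv hM hg.1.2
      have hidx0 : ((Subgroup.centralizer ({g} : Set G)).index : ℂ) ≠ 0 := index_centralizer_ne_zero g
      have h2 : blockCoeff B g * conj ((ψ : G → ℂ) g) * ((ψ : G → ℂ) 1)⁻¹ -
          blockCoeff B g * (ψ : G → ℂ) g * ((ψ : G → ℂ) 1)⁻¹ =
          (blockCoeff B g * (((Subgroup.centralizer ({g} : Set G)).index : ℂ))⁻¹) *
          (-(centralChar (ψ : G → ℂ) g - centralChar (fun g => conj ((ψ : G → ℂ) g)) g)) := by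
        simp only [centralChar]
        rw [conj_irr_apply_one]
        field_simp
        ring
      rw [h2]
      exact memLocalIdeal_mul_left (memLocalRing_mul (memLocalRing_blockCoeff hB g) hidx) h1
  have hsplit : ∑ g : G, w g = blockCoeff B 1 +
      ∑ g ∈ Finset.univ.filter (fun g : G => good g ∧ g ≠ 1), w g +
      ∑ g : G, (if good g then 0 else w g) := by
    have hg1 : good 1 := by
      refine ⟨by simp, ?_⟩
      have : Subgroup.centralizer ({1} : Set G) = ⊤ := by
        rw [Subgroup.centralizer_eq_top_iff_subset]; simp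
      rw [this, Subgroup.index_top]; norm_num
    have hw1 : w 1 = blockCoeff B 1 := by
      simp only [w]
      rw [mul_assoc, mul_inv_cancel₀ hd0, mul_one]
    have e1 : ∑ g : G, w g = ∑ g : G, (if good g then w g else 0) + ∑ g : G, (if good g then 0 else w g) := by
      rw [← Finset.sum_add_distrib]
      apply Finset.sum_congr rfl
      intro g _
      split_ifs <;> simp
    have e2 : ∑ g : G, (if good g then w g else 0) = blockCoeff B 1 +
        ∑ g ∈ Finset.univ.filter (fun g : G => good g ∧ g ≠ 1), w g := by
      rw [← Finset.sum_filter, ← hw1]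
      have : Finset.univ.filter (fun g : G => good g) =
          insert 1 (Finset.univ.filter (fun g : G => good g ∧ g ≠ 1)) := by
        ext g
        simp only [Finset.mem_filter, Finset.mem_univ, true_and, Finset.mem_insert]
        constructor
        · intro h
          by_cases h1 : g = 1
          · exact Or.inl h1
          · exact Or.inr ⟨h, h1⟩
        · rintro (rfl | h)
          · exact hg1
          · exact h.1
      rw [this, Finset.sum_insert (by simp)]
    rw [e1, e2]
  rw [hsum, hsplit]
  have : blockCoeff B 1 + ∑ g ∈ Finset.univ.filter (fun g : G => good g ∧ g ≠ 1), w g +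
      ∑ g : G, (if good g then 0 else w g) - blockCoeff B 1 =
      ∑ g ∈ Finset.univ.filter (fun g : G => good g ∧ g ≠ 1), w g +
      ∑ g : G, (if good g then 0 else w g) := by ring
  rw [this]
  exact memLocalIdeal_add hgood hbad

/-- Let G be a finite group, M a maximal ideal of the algebraic integers containing 2, and k a natural number coprime to the order of G with g ^ k = g⁻¹ for every element g of odd order (so that g ↦ g ^ k induces a field automorphism of the character values inverting the roots of unity of odd order). If B is a 2-block of full defect (its defect equals the exponent of 2 in the order of G) that is stable under χ ↦ χ ∘ (· ^ k), then B is the principal 2-block. -/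
theorem result {G : Type*} [Group G] [Finite G] (M : Ideal Cfsg.AlgInt) (hM : Cfsg.IsPModular 2 M) (k : ℕ) (hk : Nat.Coprime k (Nat.card G)) (hk₂ : ∀ g : G, Odd (orderOf g) → g ^ k = g⁻¹) (B : Set (Cfsg.IrrCharacter G)) (hB : Cfsg.IsPBlock M B) (hdef : Cfsg.blockDefect 2 B = (Nat.card G).factorization 2) (hstab : ∀ χ ∈ B, ∃ ψ ∈ B, ∀ g : G, (ψ : G → ℂ) g = (χ : G → ℂ) (g ^ k)) : B = Cfsg.principalBlock M G := by
  classical
  cases nonempty_fintype G
  have : Fact (Nat.Prime 2) := ⟨Nat.prime_two⟩
  have hMp := isPrime_of_isPModular hM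
  have htop := ne_top_of_isPModular hM
  have hne := nonempty_of_isPBlock htop hB
  have hodd' : ∀ g : G, ¬ 2 ∣ orderOf g → g ^ k = g⁻¹ := by
    intro g hg
    apply hk₂
    rw [← Nat.not_even_iff_odd, even_iff_two_dvd]
    exact hg
  choose f hfB hf using hstab
  let F : B → B := fun χ => ⟨f χ.1 χ.2, hfB χ.1 χ.2⟩
  have hFinj : Function.Injective F := by
    intro χ χ' h
    apply Subtype.ext
    apply Subtype.ext
    funext g
    obtain ⟨y, rfl⟩ := (powCoprime hk.symm).surjective g
    have h1 := hf χ.1 χ.2 y
    have h2 := hf χ'.1 χ'.2 y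
    have h3 : f χ.1 χ.2 = f χ'.1 χ'.2 := congrArg Subtype.val h
    simp only [powCoprime_apply]
    rw [← h1, ← h2, h3]
  have hFbij : Function.Bijective F := Finite.injective_iff_bijective.1 hFinj
  have hinv : ∀ g : G, ¬ 2 ∣ orderOf g → blockCoeff B g⁻¹ = blockCoeff B g := by
    intro g hg
    rw [blockCoeff, blockCoeff, finsum_mem_eq_sum_filter', finsum_mem_eq_sum_filter']
    congr 1
    rw [Finset.sum_subtype (p := (· ∈ B)) _ (by simp), Finset.sum_subtype (p := (· ∈ B)) _ (by simp)]
    rw [← Equiv.sum_comp (Equiv.ofBijective F hFbij)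
      (fun χ : B => ((χ : IrrCharacter G) : G → ℂ) 1 * conj (((χ : IrrCharacter G) : G → ℂ) g))]
    apply Finset.sum_congr rfl
    intro χ _
    simp only [Equiv.ofBijective_apply, F]
    rw [hf χ.1 χ.2 g, hf χ.1 χ.2 1, hodd' g hg, one_pow]
  have he : minExp 2 B = 0 := by
    have h1 := minExp_le_card (p := 2) hne
    rw [blockDefect_eq] at hdef
    omega
  obtain ⟨χ₀, hχ₀, h0⟩ := exists_minExp (p := 2) hne
  rw [he] at h0
  have hodd : ¬ 2 ∣ charDegree (χ₀ : G → ℂ) := by
    rcases (Nat.factorization_eq_zero_iff _ _).1 h0 with h | h | h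
    · exact absurd Nat.prime_two h
    · exact h
    · exact absurd h (charDegree_pos_irr χ₀).ne'
  have h1 := h23_real_block_aux2 hM hB hinv χ₀ hodd (by
    intro g hg
    have h5 := sameBlock_of_mem hB hχ₀ (hfB χ₀ hχ₀) g
    have h6 : centralChar (f χ₀ hχ₀ : G → ℂ) g = centralChar (fun g => conj ((χ₀ : G → ℂ) g)) g := by
      simp only [centralChar]
      rw [hf χ₀ hχ₀ g, hf χ₀ hχ₀ 1, hodd' g hg, one_pow, isCharacter_inv (isCharacter_of_irr χ₀.2),
        conj_irr_apply_one]
    rwa [h6] at h5)
  rw [if_pos hχ₀] at h1
  have h2 := h23_real_block_aux2 hM hB hinv (trivIrr G) (by rw [charDegree_trivIrr]; norm_num)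
    (by
      intro g _
      have : (fun g => conj ((trivIrr G : G → ℂ) g)) = (trivIrr G : G → ℂ) := by
        funext g; simp [trivIrr]
      rw [this, sub_self]
      exact memLocalIdeal_zero htop)
  have h3 : trivIrr G ∈ B := by
    by_contra h
    rw [if_neg h] at h2
    apply not_memLocalIdeal_one (M := M)
    have := memLocalIdeal_sub h1 h2
    simpa using this
  have hpb : IsPBlock M (principalBlock M G) := ⟨trivIrr G, rfl⟩
  exact block_eq_of_mem hB hpb h3 (SameBlock.refl' htop _)

end Cfsg.Agent.S4517
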