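import Cfsg.Statements.S4580
import Cfsg.Agent.H25.RealExt
import Cfsg.Agent.S4517

set_option autoImplicit false
open Cfsg

namespace Cfsg.Agent.S4580

/-- Let N be a normal subgroup of the finite group G, M a maximal ideal of the algebraic integers containing 2, and θ a real-valued irreducible character of N of odd degree that extends to G (some irreducible character of G restricts to θ). Then θ has an extension to G lying in the principal 2-block of G. -/
theorem result {G : Type*} [Group G] [Finite G] (N : Subgroup G) [N.Normal] (M : Ideal Cfsg.AlgInt) (hM : Cfsg.IsPModular 2 M) (θ : Cfsg.IrrCharacter N) (hreal : ∀ n : N, ((θ : N → ℂ) n).im = 0) (hodd : Odd (Cfsg.charDegree (θ : N → ℂ))) (hext : ∃ η : Cfsg.IrrCharacter G, ∀ n : N, (η : G → ℂ) n = (θ : N → ℂ) n) :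
    ∃ η : Cfsg.IrrCharacter G, (∀ n : N, (η : G → ℂ) n = (θ : N → ℂ) n) ∧ η ∈ Cfsg.principalBlock M G := by
  classical
  have : Fintype G := Fintype.ofFinite _
  have : Fintype N := Fintype.ofFinite _
  have hPr := BlockLib.isPrime_of_isPModular hM
  have : Fact (Nat.Prime 2) := ⟨Nat.prime_two⟩
  obtain ⟨η, hη⟩ := hext
  have hηθ : (fun n : N => (η : G → ℂ) n) = θ := funext hη
  have hηN : Cfsg.IsIrrCharacter N (fun n : N => (η : G → ℂ) n) := by rw [hηθ]; exact θ.2
  have hθreal : ∀ n, (starRingEnd ℂ) ((θ : N → ℂ) n) = (θ : N → ℂ) n :=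
    fun n => Complex.conj_eq_iff_im.2 (hreal n)
  have hG := H6.gallagher N η.2 hηN
  have hbar : Cfsg.IsIrrCharacter G (fun g => (starRingEnd ℂ) ((η : G → ℂ) g)) :=
    CharLib.isIrrCharacter_conj η.2
  have hmem : (fun g => (starRingEnd ℂ) ((η : G → ℂ) g)) ∈ {ψ : G → ℂ | Cfsg.IsIrrCharacter G ψ ∧
      Cfsg.classInner (Cfsg.indFun N (fun n : N => (η : G → ℂ) n)) ψ ≠ 0} := by
    refine ⟨hbar, ?_⟩
    rw [CharLib.H2.frobenius_reciprocity N _ (CharLib.isClassFunction_of_irr hbar), hηθ]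
    have : (fun h : N => (starRingEnd ℂ) ((η : G → ℂ) h)) = θ := by
      funext n; rw [hη, hθreal]
    rw [this, CharLib.classInner_irr_self θ.2]
    exact one_ne_zero
  obtain ⟨β, ⟨hβ, hβN⟩, hβη⟩ := hG.surjOn hmem
  have hη1 := CharLib.irr_apply_one_ne_zero η
  have hβ1 : β 1 = 1 := by
    have h1 := congrFun hβη 1
    simp only [Pi.mul_apply] at h1
    have h2 : (starRingEnd ℂ) ((η : G → ℂ) 1) = (η : G → ℂ) 1 := by
      rw [← CharLib.isCharacter_inv (CharLib.isCharacter_of_irr η.2), inv_one]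
    rw [h2] at h1
    exact mul_right_cancel₀ hη1 (h1.trans (one_mul _).symm)
  have hβmul := CharLib.L.irr_mul_of_apply_one_eq_one ⟨β, hβ⟩ hβ1
  let f : G →* ℂ := { toFun := β, map_one' := hβ1, map_mul' := hβmul }
  set ω : G →* ℂˣ := f.toHomUnits with hω
  have hωβ : ∀ g, (ω g : ℂ) = β g := fun g => rfl
  -- `ω` is trivial on `N`
  have hωN : ∀ n : N, ω n = 1 := by
    rw [CharLib.H2.frobenius_reciprocity N _ (CharLib.isClassFunction_of_irr hβ)] at hβN
    have h1 : Cfsg.IsIrrCharacter N (fun n : N => β n) :=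
      CharLib.isIrrCharacter_of_hom (ω.comp N.subtype)
    have h2 : (fun _ : N => (1 : ℂ)) = fun n : N => β n := by
      by_contra hne
      exact hβN (CharLib.classInner_irr_ne CharLib.isIrrCharacter_one h1 hne)
    intro n
    apply Units.ext
    rw [hωβ, Units.val_one]
    exact (congrFun h2 n).symm
  -- the order of `G`
  obtain ⟨a, m, hm, hcard⟩ := Nat.exists_eq_two_pow_mul_odd (n := Nat.card G) Nat.card_pos.ne'
  obtain ⟨j, hj⟩ := hm
  -- `m = 2 j + 1`
  set μ : G →* ℂˣ := ω ^ (j + 1) with hμ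
  have hirr : Cfsg.IsIrrCharacter G (fun g => (μ g : ℂ) * (η : G → ℂ) g) :=
    H25.isIrrCharacter_hom_mul μ η.2
  set χ' : Cfsg.IrrCharacter G := ⟨_, hirr⟩ with hχ'
  have hχ'N : ∀ n : N, (χ' : G → ℂ) n = (θ : N → ℂ) n := by
    intro n
    change (μ n : ℂ) * (η : G → ℂ) n = _
    rw [hμ, MonoidHom.pow_apply, hωN, one_pow, Units.val_one, one_mul, hη]
  refine ⟨χ', hχ'N, ?_⟩
  -- the conjugate of `χ'`
  set lam : G →* ℂˣ := (ω ^ m)⁻¹ with hlam
  have hconj : (fun g => (starRingEnd ℂ) ((χ' : G → ℂ) g)) =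
      fun g => (lam g : ℂ) * (χ' : G → ℂ) g := by
    funext g
    change (starRingEnd ℂ) ((μ g : ℂ) * (η : G → ℂ) g) = (lam g : ℂ) * ((μ g : ℂ) * (η : G → ℂ) g)
    have h1 : (starRingEnd ℂ) ((η : G → ℂ) g) = (ω g : ℂ) * (η : G → ℂ) g :=
      (congrFun hβη g).symm
    rw [map_mul, h1, H25.conj_hom, ← mul_assoc, ← mul_assoc, ← Units.val_mul, ← Units.val_mul]
    congr 2
    rw [hlam, hμ, hj]
    simp only [MonoidHom.pow_apply, MonoidHom.inv_apply]
    generalize ω g = x
    calc (x ^ (j + 1))⁻¹ * x = (x ^ j)⁻¹ := by rw [pow_succ, mul_inv, inv_mul_cancel_right]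
      _ = (x ^ (2 * j + 1))⁻¹ * x ^ (j + 1) := by
          rw [show 2 * j + 1 = j + (j + 1) by omega, pow_add, mul_inv, inv_mul_cancel_right]
  have hlam2 : ∀ g, (lam g) ^ (2 ^ a) = 1 := by
    intro g
    rw [hlam]
    simp only [MonoidHom.pow_apply, MonoidHom.inv_apply]
    rw [inv_pow, ← pow_mul, mul_comm, ← hcard, ← map_pow, pow_card_eq_one', map_one, inv_one]
  have hB : Cfsg.IsPBlock M (Cfsg.blockOf M (χ' : G → ℂ)) := ⟨χ', rfl⟩
  have key := Cfsg.Agent.S4517.result M hM (2 * Nat.card G - 1) ?_ ?_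
    (Cfsg.blockOf M (χ' : G → ℂ)) hB ?_ ?_
  · rw [← key]; exact BlockLib.mem_blockOf_self χ'
  · have hpos : 0 < Nat.card G := Nat.card_pos
    have h1 : 2 * Nat.card G - 1 = (Nat.card G - 1) + Nat.card G := by omega
    rw [h1, Nat.coprime_add_self_left]
    have h2 : Nat.Coprime (Nat.card G - 1) (Nat.card G - 1 + 1) := by simp
    rwa [Nat.sub_add_cancel hpos] at h2
  · intro g _
    have hpos : 0 < Nat.card G := Nat.card_pos
    rw [eq_inv_iff_mul_eq_one, ← pow_succ, show 2 * Nat.card G - 1 + 1 = Nat.card G * 2 by omega,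
      pow_mul, pow_card_eq_one', one_pow]
  · rw [Lib.Helper23.MinMax.blockDefect_eq]
    have h1 := Lib.Helper23.MinMax.minExp_le (p := 2) (BlockLib.mem_blockOf_self (M := M) χ')
    have h2 : Cfsg.charDegree (χ' : G → ℂ) = Cfsg.charDegree (θ : N → ℂ) := by
      have h3 := hχ'N 1
      unfold Cfsg.charDegree
      rw [← h3]; rfl
    rw [h2, Nat.factorization_eq_zero_of_not_dvd (by
      exact hodd.not_two_dvd_nat)] at h1
    omega
  · intro χ hχ
    refine ⟨⟨_, CharLib.isIrrCharacter_conj χ.2⟩, ?_, fun g => ?_⟩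
    · have h1 : Cfsg.SameBlock M (χ' : G → ℂ) (χ : G → ℂ) := hχ
      have h2 := H25.sameBlock_conj (CharLib.isCharacter_of_irr χ'.2)
        (CharLib.isCharacter_of_irr χ.2) h1
      rw [hconj] at h2
      have h3 := H25.sameBlock_hom_mul hM lam hlam2 χ'
      exact BlockLib.SameBlock.trans' (BlockLib.SameBlock.symm' h3) h2
    · have hpos : 0 < Nat.card G := Nat.card_pos
      have h4 : g ^ (2 * Nat.card G - 1) = g⁻¹ := by
        rw [eq_inv_iff_mul_eq_one, ← pow_succ,
          show 2 * Nat.card G - 1 + 1 = Nat.card G * 2 by omega, pow_mul, pow_card_eq_one', one_pow]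
      rw [h4, CharLib.isCharacter_inv (CharLib.isCharacter_of_irr χ.2)]

end Cfsg.Agent.S4580
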