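import Cfsg.Statements.S4892
import Mathlib
import Cfsg.Agent.Lib.Helper2.PRat7
import Cfsg.Agent.Lib.Helper23.CharDeg

set_option autoImplicit false
open Cfsg

namespace Cfsg.Agent.S4892

/-- Let p be an odd prime, M a maximal ideal of the algebraic integers containing p, N a normal subgroup of the finite group G, and θ an irreducible character of N that is G-invariant, of degree prime to p, p-rational (values in the field generated over ℚ by a root of unity of order prime to p) and lies in the principal p-block of N. Let Q be a Sylow p-subgroup of N and suppose the index of N·C_G(Q) in G is a power of p. Then θ extends to a p-rational irreducible character of G lying in the principal p-block of G. -/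
theorem result {G : Type*} [Group G] [Finite G] (p : ℕ) [Fact p.Prime] (hp : p ≠ 2) (M : Ideal Cfsg.AlgInt) (hM : Cfsg.IsPModular p M) (N : Subgroup G) [N.Normal] (θ : Cfsg.IrrCharacter ↥N) (hinv : ∀ g : G, ∀ n n' : ↥N, (n' : G) = g * (n : G) * g⁻¹ → (θ : ↥N → ℂ) n' = (θ : ↥N → ℂ) n) (hdeg : ¬ p ∣ Cfsg.charDegree (θ : ↥N → ℂ)) (hrat : ∃ m : ℕ, ¬ p ∣ m ∧ ∀ n : ↥N, (θ : ↥N → ℂ) n ∈ IntermediateField.adjoin ℚ ({Complex.exp (2 * Real.pi * Complex.I / m)} : Set ℂ)) (hB : θ ∈ Cfsg.principalBlock M ↥N) (Q : Sylow p ↥N) (hidx : ∃ a : ℕ, (N ⊔ Subgroup.centralizer (((Q : Subgroup ↥N).map N.subtype : Subgroup G) : Set G)).index = p ^ a) : ∃ χ : Cfsg.IrrCharacter G, χ ∈ (Cfsg.principalBlock M G) ∧ (∃ n : ℕ, ¬ p ∣ n ∧ ∀ g : G, (χ : G → ℂ) g ∈ IntermediateField.adjoin ℚ ({Complex.exp (2 * Real.pi * Complex.I / n)} : Set ℂ)) ∧ ∀ n : ↥N, (χ : G → ℂ) n = (θ : ↥N → ℂ) n := by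
  classical
  have hp' : p.Prime := Fact.out
  obtain ⟨a, ha⟩ := hidx
  obtain ⟨m, hm, hrat⟩ := hrat
  haveI hHn := Cfsg.Agent.Lib.Helper2.PRat.sup_centralizer_normal N Q
  have hNH : N ≤ N ⊔ Subgroup.centralizer
      (((Q : Subgroup ↥N).map N.subtype : Subgroup G) : Set G) := le_sup_left
  have hN : N.Normal := inferInstance
  have hinv' : ∀ (g : G) (n : N), (θ : ↥N → ℂ) ⟨g * n * g⁻¹, hN.conj_mem (n : G) n.2 g⟩ =
      (θ : ↥N → ℂ) n := fun g n => hinv g n _ rfl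
  have hd : (θ : ↥N → ℂ) 1 = (Cfsg.charDegree (θ : ↥N → ℂ) : ℕ) :=
    (Cfsg.Agent.Lib.Helper23.charDegree_cast_irr θ).symm
  have hθc := Cfsg.Agent.CharLib.isCharacter_of_irr θ.2
  have hpowN := Cfsg.Agent.Lib.Helper2.PRat.pow_fixed_of_mem_adjoin p hθc m hm hrat
  have hdet := Cfsg.Agent.Lib.Helper2.PRat.not_dvd_detOrder_of_pow_fixed hp hθc hpowN
  obtain ⟨ψ, hψ, hψe⟩ := Cfsg.Agent.Lib.Helper2.PRat.exists_ext hM N Q ha θ hB hinv' hd hdeg hdet
  let K : Set ℕ := {k | k.Coprime (Nat.card G) ∧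
    k ≡ 1 [MOD Nat.card G / p ^ (Nat.card G).factorization p]}
  obtain ⟨η, hηpb, hηe, hηd, hηinv, hηpow⟩ := Cfsg.Agent.Lib.Helper2.PRat.stage1 hM N Q _ rfl hNH θ hB
    ψ hψ hψe hd hdeg hdet K (fun k hk => hk) (fun k hk x => hpowN k
      (Nat.Coprime.coprime_dvd_right (Subgroup.card_subgroup_dvd_card N) hk.1)
      (hk.2.of_dvd (Nat.ordCompl_dvd_ordCompl_of_dvd (Subgroup.card_subgroup_dvd_card N) p)) x)
  have hη1 : η.1 1 = (Cfsg.charDegree (θ : ↥N → ℂ) : ℕ) := by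
    rw [← hd]; exact hηe 1
  obtain ⟨χ, hχpb, hχe, hχpow⟩ := Cfsg.Agent.Lib.Helper2.PRat.stage2 hM _ ha η hηpb hηinv hη1 hdeg hηd K
    (fun k hk => hk.1) hηpow
  refine ⟨χ, hχpb, ⟨Nat.card G / p ^ (Nat.card G).factorization p,
    Nat.not_dvd_ordCompl hp' Nat.card_pos.ne', fun g =>
      Cfsg.Agent.Lib.Helper2.PRat.mem_adjoin_of_pow_fixed p (Cfsg.Agent.CharLib.isCharacter_of_irr χ.2)
        (fun k h1 h2 g => hχpow k ⟨h1, h2⟩ g) g⟩, fun n => ?_⟩
  rw [← hηe n, ← hχe]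

end Cfsg.Agent.S4892
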