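import Cfsg.Statements.S5185
import Cfsg.Agent.Fus.EssSmall

set_option autoImplicit false
universe u
open Cfsg

namespace Cfsg.Agent.S5185

/-- Let F be a saturated fusion system over a finite p-group S and H an essential subgroup of order p². Then H is elementary abelian (isomorphic to C_p × C_p) and its F-automorphism group contains a subgroup isomorphic to SL(2,p). -/
theorem result {Ω : Type u} [Group Ω] {S : Subgroup Ω} [Finite S] (p : ℕ) [Fact p.Prime] (hS : IsPGroup p S)
    (F : Cfsg.FusionSystem S) (hF : F.IsSaturated p) (H : Subgroup Ω) (hH : F.IsEssential p H) (hcard : Nat.card H = p ^ 2) :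
    Cfsg.IsElementaryAbelian p H ∧
      ∃ K : Subgroup ↥(F.autGroup H), Nonempty (↥K ≃* Matrix.SpecialLinearGroup (Fin 2) (ZMod p)) := by
  have hp : p.Prime := Fact.out
  have hfH : Finite H := Cfsg.FusionSystem.finite_of_le hH.1.1
  have hab : ∀ x y : H, x * y = y * x := IsPGroup.commutative_of_card_eq_prime_sq hcard
  have hncyc : ¬ IsCyclic H := by
    intro hcyc
    obtain ⟨u, huA, hu, k, hk⟩ := hH.exists_pElement hS hF
    apply hu
    refine hH.le_inn hS (B := Subgroup.zpowers u) (Subgroup.zpowers_le.2 huA) ?_ ?_ (Subgroup.mem_zpowers u)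
    · intro β hβ γ _
      have hcomm : γ * β = β * γ := by
        apply (IsCyclic.mulAutMulEquiv H).injective
        rw [map_mul, map_mul, mul_comm]
      rw [hcomm, mul_inv_cancel_right]
      exact hβ
    · obtain ⟨j, -, hj⟩ := (Nat.dvd_prime_pow hp).1 (orderOf_dvd_of_pow_eq_one hk)
      exact IsPGroup.of_card (n := j) (by rw [Nat.card_zpowers, hj])
  have hexp : ∀ x : H, x ^ p = 1 := by
    intro x
    have h1 : orderOf x ∣ p ^ 2 := hcard ▸ orderOf_dvd_natCard x
    obtain ⟨j, hj2, hj⟩ := (Nat.dvd_prime_pow hp).1 h1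
    have hj' : j ≠ 2 := by
      rintro rfl
      exact hncyc (isCyclic_of_orderOf_eq_card x (by rw [hj, hcard]))
    have hj1 : j ≤ 1 := by omega
    have h2 : orderOf x ∣ p := by
      rw [hj]
      calc p ^ j ∣ p ^ 1 := pow_dvd_pow p hj1
        _ = p := pow_one p
    exact orderOf_dvd_iff_pow_eq_one.1 h2
  refine ⟨⟨⟨⟨hab⟩⟩, fun a ha => congrArg Subtype.val (hexp ⟨a, ha⟩)⟩, ?_⟩
  obtain ⟨u₁, hu₁, u₂, hu₂, k, h1, h2, hne, hnot⟩ := hH.exists_two_pElements hS hF hab
  let _ : CommGroup H := { (inferInstance : Group H) with mul_comm := hab }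
  obtain ⟨e⟩ := Cfsg.Agent.Fus.nonempty_mulEquiv_SL2_of_aut (W := H) hexp hcard u₁ u₂ h1 h2 hne hnot
  have hle : Subgroup.zpowers u₁ ⊔ Subgroup.zpowers u₂ ≤ F.autGroup H :=
    sup_le (Subgroup.zpowers_le.2 hu₁) (Subgroup.zpowers_le.2 hu₂)
  exact ⟨(Subgroup.zpowers u₁ ⊔ Subgroup.zpowers u₂).subgroupOf (F.autGroup H),
    ⟨(Subgroup.subgroupOfEquivOfLe hle).trans e⟩⟩

end Cfsg.Agent.S5185
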