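import Cfsg.Statements.S5186
import Cfsg.Agent.Fus.EssCube

set_option autoImplicit false
universe u
open Cfsg

namespace Cfsg.Agent.S5186

/-- Let F be a saturated fusion system over a finite p-group S and H an essential subgroup of order p³. Then H is elementary abelian, or p is odd and H is extraspecial of exponent p, or p = 2 and H is the quaternion group of order 8. -/
theorem result {Ω : Type u} [Group Ω] {S : Subgroup Ω} [Finite S] (p : ℕ) [Fact p.Prime] (hS : IsPGroup p S)
    (F : Cfsg.FusionSystem S) (hF : F.IsSaturated p) (H : Subgroup Ω) (hH : F.IsEssential p H) (hcard : Nat.card H = p ^ 3) :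
    Cfsg.IsElementaryAbelian p H ∨ (Odd p ∧ Cfsg.IsExtraspecial p ↥H ∧ ∀ x ∈ H, x ^ p = 1) ∨
      (p = 2 ∧ Nonempty (↥H ≃* QuaternionGroup 2)) := by
  have hp : p.Prime := Fact.out
  have hfH : Finite H := Cfsg.FusionSystem.finite_of_le hH.1.1
  have hHp : IsPGroup p H := Cfsg.FusionSystem.isPGroup_of_le hS hH.1.1
  by_cases hrk : (frattini H).index ≤ p ^ 2
  · have hidx := hH.frattini_index_eq hS hF hrk
    have hirr : ∀ M : Subgroup H, (∀ α : MulAut H, ∀ x ∈ M, α x ∈ M) → M ≤ frattini H ∨ M = ⊤ :=
      fun M hM => hH.le_frattini_or_eq_top hS hF hrk M (fun α _ => hM α)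
    by_cases hab' : ∀ x y : H, x * y = y * x
    · exfalso
      let _ : CommGroup H := { (inferInstance : Group H) with mul_comm := hab' }
      have hL : ∀ j : ℕ, (∀ x : H, x ^ p ^ j = 1 → x ∈ frattini H) ∨ ∀ x : H, x ^ p ^ j = 1 := by
        intro j
        let M : Subgroup H := (powMonoidHom (p ^ j) : H →* H).ker
        rcases hirr M (fun α x hx => by
            show (α x) ^ p ^ j = 1
            have hx' : x ^ p ^ j = 1 := hx
            rw [← map_pow, hx', map_one]) with h | h
        · left
          intro x hx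
          exact h hx
        · right
          intro x
          have : x ∈ M := h ▸ Subgroup.mem_top x
          exact this
      obtain ⟨k, -, -, ⟨e⟩⟩ := Cfsg.Agent.Fus.homocyclic_of_irred hHp hidx hL
      have h1 : Nat.card H = p ^ (k + 1) * p ^ (k + 1) := by
        rw [Nat.card_congr e.toEquiv, Nat.card_congr Multiplicative.toAdd, Nat.card_prod, Nat.card_zmod]
      rw [hcard, ← pow_add] at h1
      have h2 := Nat.pow_right_injective hp.two_le h1
      omega
    · right
      obtain ⟨hΦ, hZ, hC⟩ := Cfsg.Agent.Fus.extraspecial_of_irred hHp hcard hidx hirr hab'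
      rcases hp.eq_two_or_odd' with h2 | hodd
      · right
        subst h2
        exact ⟨rfl, Cfsg.Agent.Fus.quaternion_of_irred_two hHp hcard hirr hΦ hZ hab'⟩
      · left
        refine ⟨hodd, ⟨⟨hHp, hZ, hC⟩, hZ ▸ hΦ⟩, fun x hx => ?_⟩
        have hne : p ≠ 2 := by
          rintro rfl
          exact absurd hodd (by decide)
        exact congrArg Subtype.val
          (Cfsg.Agent.Fus.exponent_of_irred_odd hHp hcard hirr hΦ hZ hC hne ⟨x, hx⟩)
  · left
    have hd : (frattini H).index ∣ p ^ 3 := hcard ▸ Subgroup.index_dvd_card _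
    obtain ⟨a, ha3, ha⟩ := (Nat.dvd_prime_pow hp).1 hd
    have ha' : a = 3 := by
      by_contra hne
      apply hrk
      rw [ha]
      exact Nat.pow_le_pow_right hp.pos (by omega)
    have h1 := Subgroup.card_mul_index (frattini H)
    rw [ha, ha', hcard] at h1
    have h2 : Nat.card (frattini H) * p ^ 3 = 1 * p ^ 3 := by rw [h1, one_mul]
    have h3 : frattini H = ⊥ :=
      Subgroup.eq_bot_of_card_eq _ (Nat.eq_of_mul_eq_mul_right (pow_pos hp.pos 3) h2)
    obtain ⟨hc, hpw⟩ := Cfsg.H1.frattini_pgroup_ge p hHp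
    rw [h3] at hc
    refine ⟨⟨⟨fun x y => ?_⟩⟩, fun x hx => ?_⟩
    · have h4 : x * y * x⁻¹ * y⁻¹ ∈ commutator H := by
        rw [commutator_def, ← commutatorElement_def]
        exact Subgroup.commutator_mem_commutator (Subgroup.mem_top _) (Subgroup.mem_top _)
      have h5 := Subgroup.mem_bot.1 (hc h4)
      rw [← commutatorElement_def] at h5
      exact commutatorElement_eq_one_iff_mul_comm.1 h5
    · have h4 := hpw ⟨x, hx⟩
      rw [h3, Subgroup.mem_bot] at h4
      exact congrArg Subtype.val h4

end Cfsg.Agent.S5186
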