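import Cfsg.Statements.S5187
import Cfsg.Agent.Fus.EssRank2

set_option autoImplicit false
universe u
open Cfsg

namespace Cfsg.Agent.S5187

/-- Let F be a saturated fusion system over a finite p-group S and H an abelian essential subgroup that can be generated by two elements (its Frattini quotient has order at most p²). Then H is elementary abelian of order p², or p ≤ 3 and H is homocyclic of rank two, that is isomorphic to C_{pᵏ} × C_{pᵏ} for some k. -/
theorem result {Ω : Type u} [Group Ω] {S : Subgroup Ω} [Finite S] (p : ℕ) [Fact p.Prime] (hS : IsPGroup p S)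
    (F : Cfsg.FusionSystem S) (hF : F.IsSaturated p) (H : Subgroup Ω) (hH : F.IsEssential p H) (hab : IsMulCommutative ↥H) (hrk : (frattini ↥H).index ≤ p ^ 2) :
    (Cfsg.IsElementaryAbelian p H ∧ Nat.card H = p ^ 2) ∨
      (p ≤ 3 ∧ ∃ k : ℕ, Nonempty (↥H ≃* Multiplicative (ZMod (p ^ k) × ZMod (p ^ k)))) := by
  have hp : p.Prime := Fact.out
  have hfH : Finite H := Cfsg.FusionSystem.finite_of_le hH.1.1
  have hHp : IsPGroup p H := Cfsg.FusionSystem.isPGroup_of_le hS hH.1.1
  have hab' : ∀ x y : H, x * y = y * x := fun x y => hab.is_comm.comm x y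
  let _ : CommGroup H := { (inferInstance : Group H) with mul_comm := hab' }
  have hidx := hH.frattini_index_eq hS hF hrk
  have hL : ∀ j : ℕ, (∀ x : H, x ^ p ^ j = 1 → x ∈ frattini H) ∨ ∀ x : H, x ^ p ^ j = 1 := by
    intro j
    let M : Subgroup H := (powMonoidHom (p ^ j) : H →* H).ker
    rcases hH.le_frattini_or_eq_top hS hF hrk M (fun α _ x hx => by
        show (α x) ^ p ^ j = 1
        have hx' : x ^ p ^ j = 1 := hx
        rw [← map_pow, hx', map_one]) with h | h
    · left
      intro x hx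
      exact h hx
    · right
      intro x
      have : x ∈ M := h ▸ Subgroup.mem_top x
      exact this
  obtain ⟨k, hexp, hstar, ⟨e⟩⟩ := Cfsg.Agent.Fus.homocyclic_of_irred hHp hidx hL
  rcases Nat.eq_zero_or_pos k with rfl | hk
  · left
    refine ⟨⟨hab, fun a ha => ?_⟩, ?_⟩
    · have := hexp ⟨a, ha⟩
      rw [zero_add, pow_one] at this
      exact congrArg Subtype.val this
    · rw [Nat.card_congr e.toEquiv, Nat.card_congr Multiplicative.toAdd, Nat.card_prod, Nat.card_zmod,
        zero_add, pow_one, sq]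
  · right
    refine ⟨?_, k + 1, ⟨e⟩⟩
    by_contra hp3
    have hp4 : 4 ≤ p := by omega
    obtain ⟨u, huA, hu, j, hj⟩ := hH.exists_pElement hS hF
    rw [Cfsg.FusionSystem.inn_eq_bot_of_comm hab', Subgroup.mem_bot] at hu
    classical
    have hex : ∃ j, u ^ p ^ j = 1 := ⟨j, hj⟩
    have hj0 : Nat.find hex ≠ 0 := by
      intro h0
      have := Nat.find_spec hex
      rw [h0, pow_zero, pow_one] at this
      exact hu this
    obtain ⟨i, hi⟩ := Nat.exists_eq_succ_of_ne_zero hj0
    have hw1 : u ^ p ^ i ≠ 1 := Nat.find_min hex (by rw [hi]; exact Nat.lt_succ_self i)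
    have hwp : (u ^ p ^ i) ^ p = 1 := by
      have := Nat.find_spec hex
      rw [hi, pow_succ, pow_mul] at this
      exact this
    have hwA : u ^ p ^ i ∈ F.autGroup H := Subgroup.pow_mem _ huA _
    have hstar' : ∀ x : H, x ^ p = 1 → x ∈ frattini H := by
      intro x hx
      apply hstar
      obtain ⟨k', rfl⟩ : ∃ k', k = k' + 1 := ⟨k - 1, by omega⟩
      rw [pow_succ', pow_mul, hx, one_pow]
    have hall := Cfsg.Agent.Fus.inv_mul_apply_mem_frattini_of_sq hHp hp4 (u ^ p ^ i) hwp
      (Cfsg.Agent.Fus.quadratic_on_frattini_quotient hHp hidx (u ^ p ^ i) hwp) hstar'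
    have hker : Cfsg.Agent.Fus.quotAut (frattini H) (u ^ p ^ i) = 1 :=
      (Cfsg.Agent.Fus.mem_ker_quotAut _ _).2 hall
    have hinn := hH.mem_inn_of_quotAut hS hwA (by rw [hker]; exact Subgroup.one_mem _)
    rw [Cfsg.FusionSystem.inn_eq_bot_of_comm hab', Subgroup.mem_bot] at hinn
    exact hw1 hinn

end Cfsg.Agent.S5187
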