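import Cfsg.Statements.S5270
import Cfsg.Agent.Fus.MaxClassEss

set_option autoImplicit false
open Cfsg

namespace Cfsg.Agent.S5270

/-- Let p ≥ 5 be a prime, S a finite p-group of maximal class of order p^n with n ≥ 4, and F a saturated fusion system over S. If some map of F defined on the second centre Z₂(S) with image Z₂(S) does not carry Z(S) into itself, then the centralizer C_S(Z₂(S)) is an F-essential subgroup. -/
theorem result {Ω : Type*} [Group Ω] {S : Subgroup Ω} [Finite S] (p : ℕ) [Fact p.Prime] (hS : IsPGroup p ↥S) (n : ℕ) (hn : Nat.card S = p ^ n) (h4 : 4 ≤ n) (hmax : Subgroup.lowerCentralSeries S (n - 2) ≠ ⊥) (F : Cfsg.FusionSystem S) (hF : F.IsSaturated p) (hp : 5 ≤ p) (φ : ↥((Subgroup.upperCentralSeries ↥S 2).map S.subtype) →* Ω) (hφ : φ ∈ F.Hom ((Subgroup.upperCentralSeries ↥S 2).map S.subtype)) (hφZ : φ.range = ((Subgroup.upperCentralSeries ↥S 2).map S.subtype)) (hmove : ∃ (z : Ω) (hz : z ∈ ((Subgroup.upperCentralSeries ↥S 2).map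 S.subtype)), z ∈ ((Subgroup.center ↥S).map S.subtype) ∧ φ ⟨z, hz⟩ ∉ ((Subgroup.center ↥S).map S.subtype)) : F.IsEssential p (S ⊓ Subgroup.centralizer (((Subgroup.upperCentralSeries ↥S 2).map S.subtype) : Set Ω)) := by
  have hG : Subgroup.upperCentralSeries ↥S (n - 2) ≠ ⊤ := by
    intro h
    apply hmax
    rw [← Subgroup.top_subtype_lowerCentralSeries,
      (Subgroup.lowerCentralSeries_eq_bot_iff_upperCentralSeries_eq_top).2 h, Subgroup.map_bot]
  obtain ⟨h1, h2⟩ := Cfsg.Agent.Fus.mc_cards hS hn h4 hG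
  obtain ⟨hC1, hC2⟩ := Cfsg.Agent.Fus.mc_centralizer h1 h2
  have hTS : (Subgroup.upperCentralSeries ↥S 2).map S.subtype ≤ S := Subgroup.map_subtype_le _
  have hmemC : ∀ x : S, x ∈ Subgroup.centralizer (Subgroup.upperCentralSeries ↥S 2 : Set S) ↔
      (x : Ω) ∈ Cfsg.FusionSystem.centralizerIn S ((Subgroup.upperCentralSeries ↥S 2).map S.subtype) := by
    intro x
    rw [Subgroup.mem_centralizer_iff, Cfsg.FusionSystem.mem_centralizerIn]
    constructor
    · intro h
      refine ⟨x.2, ?_⟩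
      rintro _ ⟨y, hy, rfl⟩
      exact congrArg Subtype.val (h y hy)
    · rintro ⟨-, h⟩ y hy
      exact Subtype.ext (h y ⟨y, hy, rfl⟩)
  show F.IsEssential p (Cfsg.FusionSystem.centralizerIn S ((Subgroup.upperCentralSeries ↥S 2).map S.subtype))
  apply F.essential_centralizer_of_move hS hF hTS ?_ ?_ ?_ φ hφ hφZ ?_
  · rintro g hg _ ⟨y, hy, rfl⟩
    have hN : (Subgroup.upperCentralSeries ↥S 2).Normal := inferInstance
    have hy' : (⟨g, hg⟩ : S) * y * (⟨g, hg⟩ : S)⁻¹ ∈ Subgroup.upperCentralSeries ↥S 2 := hN.conj_mem y hy _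
    exact Subgroup.mem_map.2 ⟨_, hy', by simp⟩
  · refine lt_of_le_of_ne Cfsg.FusionSystem.centralizerIn_le (fun h => hC1 ?_)
    rw [eq_top_iff]
    intro x _
    rw [hmemC, h]
    exact x.2
  · intro Q hQ hQS
    have hlt : Subgroup.centralizer (Subgroup.upperCentralSeries ↥S 2 : Set S) < Q.subgroupOf S := by
      obtain ⟨q, hqQ, hqC⟩ := SetLike.exists_of_lt hQ
      refine lt_of_le_of_ne (fun x hx => hQ.le ((hmemC x).1 hx)) (fun h => hqC ?_)
      have h3 : (⟨q, hQS hqQ⟩ : S) ∈ Q.subgroupOf S := hqQ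
      rw [← h, hmemC] at h3
      exact h3
    have h4 := hC2 _ hlt
    refine le_antisymm hQS (fun x hx => ?_)
    have h5 : (⟨x, hx⟩ : S) ∈ Q.subgroupOf S := h4 ▸ Subgroup.mem_top _
    exact h5
  · rw [Cfsg.FusionSystem.centralizerIn_self_eq_map]
    exact hmove

end Cfsg.Agent.S5270
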