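import Cfsg.Statements.S5355
import Cfsg.Agent.Lib.Helper27.ThreeString

set_option autoImplicit false
open Cfsg

namespace Cfsg.Agent.S5355

open Cfsg.Agent.Lib.Helper27 Cfsg.Agent.Lib.Helper27.TT

variable {G : Type*} [Group G] {D : Set G}

/-- `x'` is the unique member of `D` other than `x` commuting with `x`, and it commutes with the same members. -/
def IsPartner (D : Set G) (x x' : G) : Prop :=
  x ∈ D ∧ x' ∈ D ∧ x' ≠ x ∧ Vrel D x x' ∧ ∀ y ∈ D, Commute x y → y = x ∨ y = x'

theorem IsPartner.conj (hconj : ∀ g : G, ∀ d ∈ D, g * d * g⁻¹ ∈ D) {x x' : G} (h : IsPartner D x x') (g : G) :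
    IsPartner D (g * x * g⁻¹) (g * x' * g⁻¹) := by
  obtain ⟨h1, h2, h3, h4, h5⟩ := h
  refine ⟨hconj g x h1, hconj g x' h2, ?_, h4.conj hconj g, ?_⟩
  · intro h
    apply h3
    simpa using h
  · intro y hy hc
    have hy' : y = g * (g⁻¹ * y * g) * g⁻¹ := by group
    have hm : g⁻¹ * y * g ∈ D := by simpa using hconj g⁻¹ y hy
    rw [hy', Commute.conj_iff] at hc
    rcases h5 _ hm hc with h | h
    · left; rw [hy', h]
    · right; rw [hy', h]

theorem move (hT : IsThreeTranspositionSet D) (hconj : ∀ g : G, ∀ d ∈ D, g * d * g⁻¹ ∈ D) {x x' b b' : G}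
    (hx : IsPartner D x x') (hb : IsPartner D b b') (hc : ¬ Commute x b) :
    x * (x' * b * x') * x = b' := by
  obtain ⟨x1, x2, x3, x4, x5⟩ := hx
  obtain ⟨b1, b2, b3, b4, b5⟩ := hb
  have h1 := Vrel_conj_mul hT hconj x1 x2 b1 x4 hc
  have hm : x * (x' * b * x') * x ∈ D := conj_mem' hT hconj x1 (conj_mem' hT hconj x2 b1)
  rcases b5 _ hm (h1.commute b1) with h | h
  · exfalso
    have hc' : ¬ Commute x' b := fun h => hc ((x4 b b1).1 h)
    have e1 : x' * b * x' = x * b * x := by
      calc x' * b * x' = (x * x) * (x' * b * x') * (x * x) := by rw [sq hT x1]; group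
        _ = x * (x * (x' * b * x') * x) * x := by group
        _ = x * b * x := by rw [h]
    rw [braid hT x2 b1 hc', braid hT x1 b1 hc] at e1
    apply x3
    have e2 := mul_right_cancel e1
    exact mul_left_cancel e2
  · exact h

theorem star (hT : IsThreeTranspositionSet D) (hconj : ∀ g : G, ∀ d ∈ D, g * d * g⁻¹ ∈ D) {x x' b b' : G}
    (hx : IsPartner D x x') (hb : IsPartner D b b') (hc : ¬ Commute x b) :
    b * (x * x') * b = x * x' * (b * b') := by
  have h := move hT hconj hx hb hc
  obtain ⟨x1, x2, x3, x4, x5⟩ := hx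
  obtain ⟨b1, b2, b3, b4, b5⟩ := hb
  have cx : x * x' = x' * x := (x4.commute x1).eq
  have cb : b * b' = b' * b := (b4.commute b1).eq
  rw [cb, ← h]
  calc b * (x * x') * b = (x * x) * ((x' * x') * b) * (x * x') * b := by rw [sq hT x1, sq hT x2]; group
    _ = x * (x * x') * x' * b * (x * x') * b := by group
    _ = x * (x' * x) * x' * b * (x' * x) * b := by rw [cx]
    _ = x * x' * (x * (x' * b * x') * x * b) := by group

/-- Let D be a conjugacy class of 3-transpositions generating the finite group G, with at least two members, and d a member of D. Suppose that every member of D commuting with d commutes with exactly the same members of D as d does, and that exactly one member of D other than d commutes with d. Then G is isomorphic to the symmetric group of degree 4. -/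
theorem result {G : Type*} [Group G] [Finite G] {D : Set G} (hD : Cfsg.IsThreeTranspositionClass D) (hD2 : ∃ a ∈ D, ∃ b ∈ D, a ≠ b) {d : G} (hd : d ∈ D) (hV : {y : G | y ∈ D ∧ Commute d y} = {v : G | v ∈ D ∧ ∀ e ∈ D, Commute v e ↔ Commute d e}) (hm : {y : G | y ∈ D ∧ Commute d y}.ncard = 2) : Nonempty (G ≃* Equiv.Perm (Fin 4)) := by
  have hT := hD.1
  have hconj := conj_mem_of_class hD
  -- the partner of `d`
  obtain ⟨v, hdv⟩ : ∃ v, IsPartner D d v := by
    obtain ⟨p, q, hpq, hS⟩ := Set.ncard_eq_two.1 hm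
    have hdS : d ∈ ({p, q} : Set G) := hS ▸ (⟨hd, Commute.refl d⟩ : d ∈ {y : G | y ∈ D ∧ Commute d y})
    have aux : ∀ v : G, v ≠ d → {y : G | y ∈ D ∧ Commute d y} = {d, v} → IsPartner D d v := by
      intro v hvd hS'
      have hvS : v ∈ {y : G | y ∈ D ∧ Commute d y} := by rw [hS']; simp
      have hvV := hvS
      rw [hV] at hvV
      refine ⟨hd, hvS.1, hvd, hvV.2, fun y hy hc => ?_⟩
      have : y ∈ ({d, v} : Set G) := hS' ▸ (⟨hy, hc⟩ : y ∈ {y : G | y ∈ D ∧ Commute d y})
      simpa using this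
    rcases hdS with rfl | hdq
    · exact ⟨q, aux q hpq.symm hS⟩
    · rw [Set.mem_singleton_iff] at hdq
      subst hdq
      exact ⟨p, aux p hpq (by rw [hS, Set.pair_comm])⟩
  have hpart : ∀ x ∈ D, ∃ x', IsPartner D x x' := by
    intro x hx
    obtain ⟨g, rfl⟩ := exists_conj_of_class hD hd hx
    exact ⟨_, hdv.conj hconj g⟩
  obtain ⟨a, ha, hda⟩ := exists_not_commute hD hD2 hd
  obtain ⟨a', haa'⟩ := hpart a ha
  have hv : v ∈ D := hdv.2.1
  have hva : ¬ Commute v a := fun h => hda ((hdv.2.2.2.1 a ha).1 h)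
  obtain ⟨φ, hinj, h1, h2, h3⟩ := three_string hT hd ha hv hdv.2.2.1.symm (hdv.2.2.2.1.commute hd) hda
    (fun h => hva h.symm)
  have hff' : IsPartner D (a * d * a) (a * v * a) := by
    have := hdv.conj hconj a
    rwa [inv_eq hT ha] at this
  have hf : a * d * a ∈ D := hff'.1
  have e1 := star hT hconj hdv haa' hda
  have e1' : a * d * a * (a * v * a) = d * v * (a * a') := by
    rw [← e1]
    calc a * d * a * (a * v * a) = a * d * (a * a) * v * a := by group
      _ = a * (d * v) * a := by rw [sq hT ha]; group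
  have hDsub : D ⊆ (φ.range : Set G) := by
    intro b hb
    have rd : d ∈ φ.range := ⟨_, h1⟩
    have ra : a ∈ φ.range := ⟨_, h2⟩
    have rv : v ∈ φ.range := ⟨_, h3⟩
    by_cases c1 : Commute d b
    · rcases hdv.2.2.2.2 b hb c1 with rfl | rfl
      · exact rd
      · exact rv
    by_cases c2 : Commute a b
    · rcases haa'.2.2.2.2 b hb c2 with rfl | rfl
      · exact ra
      · rw [← move hT hconj hdv haa' hda]
        exact φ.range.mul_mem (φ.range.mul_mem rd (φ.range.mul_mem (φ.range.mul_mem rv ra) rv)) rd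
    by_cases c3 : Commute (a * d * a) b
    · rcases hff'.2.2.2.2 b hb c3 with rfl | rfl
      · exact φ.range.mul_mem (φ.range.mul_mem ra rd) ra
      · exact φ.range.mul_mem (φ.range.mul_mem ra rv) ra
    exfalso
    obtain ⟨b', hbb'⟩ := hpart b hb
    have s1 := star hT hconj hdv hbb' c1
    have s2 := star hT hconj haa' hbb' c2
    have s3 := star hT hconj hff' hbb' c3
    rw [e1'] at s3
    obtain ⟨td, htd⟩ : ∃ t, t = d * v := ⟨_, rfl⟩
    obtain ⟨ta, hta⟩ : ∃ t, t = a * a' := ⟨_, rfl⟩
    obtain ⟨tb, htb⟩ : ∃ t, t = b * b' := ⟨_, rfl⟩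
    rw [← htd, ← htb] at s1
    rw [← hta, ← htb] at s2
    rw [← htd, ← hta, ← htb] at s3
    have s4 : b * (td * ta) * b = td * tb * (ta * tb) := by
      rw [← s1, ← s2]
      calc b * (td * ta) * b = b * td * 1 * ta * b := by group
        _ = b * td * (b * b) * ta * b := by rw [sq hT hb]
        _ = b * td * b * (b * ta * b) := by group
    rw [s3] at s4
    have s5 : tb = 1 := by
      have : td * ta * tb = td * (tb * ta) * tb := by rw [s4]; group
      have h6 := mul_left_cancel (mul_right_cancel this)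
      have h7 : 1 * ta = tb * ta := by rw [one_mul]; exact h6
      exact (mul_right_cancel h7).symm
    apply hbb'.2.2.1
    rw [htb] at s5
    rw [← inv_eq hT hb]
    exact (eq_inv_of_mul_eq_one_right s5)
  have hsurj : Function.Surjective φ := by
    rw [← MonoidHom.range_eq_top, eq_top_iff, ← hD.2.2, Subgroup.closure_le]
    exact hDsub
  exact ⟨(MulEquiv.ofBijective φ ⟨hinj, hsurj⟩).symm⟩

end Cfsg.Agent.S5355
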