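import Cfsg.Statements.S5365
import Cfsg.Agent.Lib.Helper27.ThreeTrW
import Cfsg.Agent.Lib.Helper27.FiveString

set_option autoImplicit false
open Cfsg Cfsg.Agent.Lib.Helper27 Cfsg.Agent.Lib.Helper27.TT Cfsg.Agent.Lib.Helper27.W1

namespace Cfsg.Agent.S5365

variable {G : Type*} [Group G] {D : Set G}

theorem perm3_aux : ∀ u v : Equiv.Perm (Fin 3), u * u = 1 → u ≠ 1 → v * v = 1 → v ≠ 1 → u ≠ v →
    u * v ≠ v * u ∧ ∀ w : Equiv.Perm (Fin 3), w * w = 1 → w ≠ 1 → w = u ∨ w = v ∨ w = u * v * u := by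
  decide

theorem line (hT : IsThreeTranspositionSet D) {d : G}
    (φ : ↥(Subgroup.closure (Dd D d)) ≃* Equiv.Perm (Fin 3)) {a b : G} (ha : a ∈ Dd D d)
    (hb : b ∈ Dd D d) (hab : a ≠ b) :
    ¬ Commute a b ∧ ∀ y ∈ Dd D d, y = a ∨ y = b ∨ y = a * b * a := by
  have key : ∀ y (hy : y ∈ Dd D d), φ ⟨y, Subgroup.subset_closure hy⟩ * φ ⟨y, Subgroup.subset_closure hy⟩ = 1 ∧
      φ ⟨y, Subgroup.subset_closure hy⟩ ≠ 1 := by
    intro y hy
    constructor
    · rw [← map_mul]
      have : (⟨y, Subgroup.subset_closure hy⟩ : ↥(Subgroup.closure (Dd D d))) * ⟨y, Subgroup.subset_closure hy⟩ = 1 :=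
        Subtype.ext (sq hT hy.1)
      rw [this, map_one]
    · intro h
      have h1 := φ.injective (h.trans (map_one φ).symm)
      exact ne_one hT hy.1 (congrArg Subtype.val h1)
  have hne : φ ⟨a, Subgroup.subset_closure ha⟩ ≠ φ ⟨b, Subgroup.subset_closure hb⟩ := by
    intro h
    exact hab (congrArg Subtype.val (φ.injective h))
  obtain ⟨h1, h2⟩ := perm3_aux _ _ (key a ha).1 (key a ha).2 (key b hb).1 (key b hb).2 hne
  constructor
  · intro hc
    apply h1
    rw [← map_mul, ← map_mul]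
    congr 1
    exact Subtype.ext hc.eq
  · intro y hy
    rcases h2 _ (key y hy).1 (key y hy).2 with h | h | h
    · left; exact congrArg Subtype.val (φ.injective h)
    · right; left; exact congrArg Subtype.val (φ.injective h)
    · right; right
      rw [← map_mul, ← map_mul] at h
      exact congrArg Subtype.val (φ.injective h)

theorem exists_two {d : G} (φ : ↥(Subgroup.closure (Dd D d)) ≃* Equiv.Perm (Fin 3)) :
    ∃ a ∈ Dd D d, ∃ b ∈ Dd D d, a ≠ b := by
  by_contra hcon
  push Not at hcon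
  have hcomm : ∀ x ∈ Dd D d, ∀ y ∈ Dd D d, x * y = y * x := by
    intro x hx y hy
    rw [hcon x hx y hy]
  have h1 := Subgroup.isMulCommutative_closure hcomm
  have h2 : (φ.symm (Equiv.swap 0 1)) * (φ.symm (Equiv.swap 1 2))
      = (φ.symm (Equiv.swap 1 2)) * (φ.symm (Equiv.swap 0 1)) := h1.is_comm.comm _ _
  rw [← map_mul, ← map_mul] at h2
  have h3 := φ.symm.injective h2
  revert h3
  decide

/-- `e ρ e` is the inverse of a conjugate of `ρ = y y'` under `y e`. -/
theorem conj_rho (hT : IsThreeTranspositionSet D) {y y' e : G} (hy : y ∈ D) (hy' : y' ∈ D) (he : e ∈ D) :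
    e * (y * y') * e = (y * e)⁻¹ * (y * y')⁻¹ * (y * e) := by
  rw [mul_inv_rev, mul_inv_rev, inv_eq hT hy, inv_eq hT hy', inv_eq hT he]
  calc e * (y * y') * e = e * y * y' * 1 * e := by group
    _ = e * y * y' * (y * y) * e := by rw [sq hT hy]
    _ = e * y * (y' * y) * (y * e) := by group

theorem commute_of_commute_rho (hT : IsThreeTranspositionSet D) {y y' u : G} (hy : y ∈ D) (hy' : y' ∈ D)
    (hu : u ∈ D) (hyy : ¬ Commute y y') (hc : Commute u (y * y')) : Commute u y ∧ Commute u y' := by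
  have h3 := cube_of_not_commute hT hy hy' hyy
  have hcy : Commute u y := by
    by_contra hn
    have hm : (y * u) ^ 3 = 1 := cube_of_not_commute hT hy hu (fun h => hn h.symm)
    have h1 : u * (y * y') * u = y * y' := by
      rw [hc.eq, mul_assoc, sq hT hu, mul_one]
    have h2 := conj_rho hT hy hy' hu
    rw [h1] at h2
    -- ρ = μ⁻¹ ρ⁻¹ μ
    obtain ⟨μ, hμ⟩ : ∃ μ, μ = y * u := ⟨_, rfl⟩
    obtain ⟨ρ, hρ⟩ : ∃ ρ, ρ = y * y' := ⟨_, rfl⟩
    rw [← hμ, ← hρ] at h2
    rw [← hμ] at hm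
    rw [← hρ] at h3
    have h4 : ρ⁻¹ = μ⁻¹ * ρ * μ := by
      calc ρ⁻¹ = (μ⁻¹ * ρ⁻¹ * μ)⁻¹ := by rw [← h2]
        _ = μ⁻¹ * ρ * μ := by group
    have h5 : ρ = ρ⁻¹ := by
      have hm' : μ * μ * μ = 1 := by
        rw [← hm]; simp only [pow_succ, pow_zero, one_mul]
      calc ρ = (μ * μ * μ)⁻¹ * ρ * (μ * μ * μ) := by rw [hm']; group
        _ = μ⁻¹ * (μ⁻¹ * (μ⁻¹ * ρ * μ) * μ) * μ := by group
        _ = μ⁻¹ * (μ⁻¹ * ρ⁻¹ * μ) * μ := by rw [← h4]
        _ = μ⁻¹ * ρ * μ := by rw [← h2]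
        _ = ρ⁻¹ := h4.symm
    have h6 : ρ = 1 := by
      have h7 : ρ * ρ = 1 := by nth_rewrite 1 [h5]; group
      have h8 : ρ * ρ * ρ = 1 := by
        rw [← h3]; simp only [pow_succ, pow_zero, one_mul]
      rw [h7, one_mul] at h8
      exact h8
    apply hyy
    have : y = y' := by
      rw [← inv_eq hT hy']
      exact eq_inv_of_mul_eq_one_left (hρ ▸ h6)
    rw [this]
  refine ⟨hcy, ?_⟩
  have h1 : u * (y * y') = y * y' * u := hc.eq
  have h2 : y * (u * y') = y * (y' * u) := by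
    calc y * (u * y') = (y * u) * y' := by group
      _ = (u * y) * y' := by rw [hcy.eq]
      _ = u * (y * y') := by group
      _ = y * y' * u := h1
      _ = y * (y' * u) := by group
  exact mul_left_cancel h2

theorem commute_rho_conj (hT : IsThreeTranspositionSet D) (hconj : ∀ g : G, ∀ d ∈ D, g * d * g⁻¹ ∈ D)
    {y y' e : G} (hy : y ∈ D) (hy' : y' ∈ D) (he : e ∈ D)
    (h1 : ¬ Commute e y) (h2 : ¬ Commute e y') (h3 : ¬ Commute e (y * y' * y)) :
    Commute (y * y') (e * (y * y') * e) := by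
  have hm : (y * e) ^ 3 = 1 := cube_of_not_commute hT hy he (fun h => h1 h.symm)
  have hyey : y * e * y ∈ D := conj_mem' hT hconj hy he
  have hn : ¬ Commute (y * e * y) y' := by
    intro h
    apply h3
    have h4 := (Commute.conj_iff y).2 h
    rw [inv_eq hT hy] at h4
    have e1 : y * (y * e * y) * y = e := by
      calc y * (y * e * y) * y = (y * y) * e * (y * y) := by group
        _ = e := by rw [sq hT hy]; group
    rwa [e1] at h4
  have ha : (y * e * (y * y')) ^ 3 = 1 := by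
    have := cube_of_not_commute hT hyey hy' hn
    have e1 : y * e * (y * y') = y * e * y * y' := by group
    rw [e1]; exact this
  have hb : (y * e * (y * y')⁻¹) ^ 3 = 1 := by
    have := cube_of_not_commute hT he hy' h2
    have e1 : y * e * (y * y')⁻¹ = y * (e * y') * y⁻¹ := by
      rw [mul_inv_rev, inv_eq hT hy, inv_eq hT hy']; group
    rw [e1, conj_pow, this]; group
  have hc := commute_conj_of_rel hm ha hb
  rw [conj_rho hT hy hy' he]
  have e2 : (y * e)⁻¹ * (y * y')⁻¹ * (y * e) = ((y * e)⁻¹ * (y * y') * (y * e))⁻¹ := by group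
  rw [e2]
  exact hc.inv_right

theorem caseB (hT : IsThreeTranspositionSet D) (hconj : ∀ g : G, ∀ d ∈ D, g * d * g⁻¹ ∈ D)
    (hloc : ∀ d ∈ D, Nonempty (↥(Subgroup.closure (Dd D d)) ≃* Equiv.Perm (Fin 3)))
    {d a d' b : G} (hd : d ∈ D) (ha : a ∈ Dd D d) (hd' : d' ∈ Dd D a) (hdd : d' ≠ d) (hb : b ∈ Dd D d)
    (hba : b ≠ a) (hn : ¬ Commute d' b) : Nonempty (↥(Subgroup.closure D) ≃* Equiv.Perm (Fin 5)) := by
  obtain ⟨φd⟩ := hloc d hd
  obtain ⟨φa⟩ := hloc a ha.1
  have hda : d ∈ Dd D a := ⟨hd, ha.2.1.symm, ha.2.2.symm⟩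
  obtain ⟨hab, hlined⟩ := line hT φd ha hb hba.symm
  obtain ⟨hdd', hlinea⟩ := line hT φa hda hd' hdd.symm
  have sd := sq hT hd
  have sa := sq hT ha.1
  have sb := sq hT hb.1
  have hC : ∀ u ∈ D, Commute u (a * b) → u = d := by
    intro u hu hc
    obtain ⟨h1, h2⟩ := commute_of_commute_rho hT ha.1 hb.1 hu hab hc
    have hua : u ≠ a := by rintro rfl; exact hab h2
    rcases hlinea u ⟨hu, hua, h1.symm⟩ with h | h | h
    · exact h
    · exact absurd (h ▸ h2) hn
    · exfalso; apply hn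
      rw [h] at h2
      have h4 := (Commute.conj_iff d).2 h2
      rw [inv_eq hT hd] at h4
      have e1 : d * (d * d' * d) * d = d' := by
        calc d * (d * d' * d) * d = (d * d) * d' * (d * d) := by group
          _ = d' := by rw [sd]; group
      have e2 : d * b * d = b := by rw [hb.2.2.eq, mul_assoc, sd, mul_one]
      rwa [e1, e2] at h4
  have hdρ : Commute d (a * b) := ha.2.2.mul_right hb.2.2
  have hE : ∀ e ∈ D, Commute e a ∨ Commute e b ∨ Commute e (a * b * a) := by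
    intro e he
    by_contra hcon
    push Not at hcon
    obtain ⟨h1, h2, h3⟩ := hcon
    have hc := commute_rho_conj hT hconj ha.1 hb.1 he h1 h2 h3
    obtain ⟨g, hg⟩ : ∃ g, g = e * (a * b) * e := ⟨_, rfl⟩
    rw [← hg] at hc
    have hgd : g * d * g⁻¹ = d := by
      apply hC _ (hconj g d hd)
      have h4 := (Commute.conj_iff g).2 hdρ
      have e1 : g * (a * b) * g⁻¹ = a * b := by rw [← hc.eq]; group
      rwa [e1] at h4
    have hgd' : Commute g d := by
      show g * d = d * g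
      calc g * d = g * d * g⁻¹ * g := by group
        _ = d * g := by rw [hgd]
    have h5 : Commute (a * b) (e * d * e) := by
      have h6 := (Commute.conj_iff e).2 hgd'
      rw [inv_eq hT he] at h6
      have e1 : e * g * e = a * b := by
        rw [hg]
        calc e * (e * (a * b) * e) * e = (e * e) * (a * b) * (e * e) := by group
          _ = a * b := by rw [sq hT he]; group
      rwa [e1] at h6
    have h7 := hC _ (conj_mem' hT hconj he hd) h5.symm
    have h8 : Commute e d := by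
      show e * d = d * e
      calc e * d = e * d * (e * e) := by rw [sq hT he, mul_one]
        _ = e * d * e * e := by group
        _ = d * e := by rw [h7]
    by_cases hed : e = d
    · exact h1 (hed ▸ ha.2.2)
    · rcases hlined e ⟨he, hed, h8.symm⟩ with h | h | h
      · exact h1 (h ▸ Commute.refl a)
      · exact h2 (h ▸ Commute.refl b)
      · exact h3 (h ▸ Commute.refl _)
  obtain ⟨φ, hinj, f1, f2, f3, f4⟩ := four_string hT hd hd'.1 hb.1 ha.1 hb.2.2 ha.2.2 hd'.2.2.symm hdd' hn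
    (fun h => hab h.symm)
  have hrd : d ∈ φ.range := ⟨_, f1⟩
  have hrd' : d' ∈ φ.range := ⟨_, f2⟩
  have hrb : b ∈ φ.range := ⟨_, f3⟩
  have hra : a ∈ φ.range := ⟨_, f4⟩
  have hA : ∀ e ∈ D, Commute e a → e ∈ φ.range := by
    intro e he hc
    by_cases hea : e = a
    · rw [hea]; exact hra
    · rcases hlinea e ⟨he, hea, hc.symm⟩ with h | h | h
      · rw [h]; exact hrd
      · rw [h]; exact hrd'
      · rw [h]; exact mul_mem (mul_mem hrd hrd') hrd
  have hbr : a * b * a = b * a * b := braid hT ha.1 hb.1 hab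
  have hDle : ∀ e ∈ D, e ∈ φ.range := by
    intro e he
    rcases hE e he with h | h | h
    · exact hA e he h
    · -- conjugate by c = a b a
      obtain ⟨c, hc⟩ : ∃ c, c = a * b * a := ⟨_, rfl⟩
      have hcD : c ∈ D := hc ▸ conj_mem' hT hconj ha.1 hb.1
      have hcr : c ∈ φ.range := hc ▸ mul_mem (mul_mem hra hrb) hra
      have h1 := (Commute.conj_iff c).2 h
      rw [inv_eq hT hcD] at h1
      have e1 : c * b * c = a := by
        rw [hc]
        calc a * b * a * b * (a * b * a) = a * (b * a * b) * (a * b * a) := by group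
          _ = a * (a * b * a) * (a * b * a) := by rw [hbr]
          _ = (a * a) * b * (a * a) * b * a := by group
          _ = a := by rw [sa, one_mul, mul_one, sb, one_mul]
      rw [e1] at h1
      have h2 := hA _ (conj_mem' hT hconj hcD he) h1
      have e2 : e = c * (c * e * c) * c := by
        calc e = (c * c) * e * (c * c) := by rw [sq hT hcD]; group
          _ = _ := by group
      rw [e2]
      exact mul_mem (mul_mem hcr h2) hcr
    · have h1 := (Commute.conj_iff b).2 h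
      rw [inv_eq hT hb.1] at h1
      have e1 : b * (a * b * a) * b = a := by
        rw [hbr]
        calc b * (b * a * b) * b = (b * b) * a * (b * b) := by group
          _ = a := by rw [sb]; group
      rw [e1] at h1
      have h2 := hA _ (conj_mem' hT hconj hb.1 he) h1
      have e2 : e = b * (b * e * b) * b := by
        calc e = (b * b) * e * (b * b) := by rw [sb]; group
          _ = _ := by group
      rw [e2]
      exact mul_mem (mul_mem hrb h2) hrb
  have hrange : ∀ σ, φ σ ∈ Subgroup.closure D := by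
    intro σ
    have hσ : σ ∈ Submonoid.closure (Set.range fun i : Fin 4 ↦ Equiv.swap i.castSucc i.succ) := by
      rw [Equiv.Perm.mclosure_swap_castSucc_succ]; trivial
    induction hσ using Submonoid.closure_induction with
    | mem x hx =>
      obtain ⟨i, rfl⟩ := hx
      fin_cases i
      · exact Subgroup.subset_closure (by show φ (Equiv.swap 0 1) ∈ D; rw [f1]; exact hd)
      · exact Subgroup.subset_closure (by show φ (Equiv.swap 1 2) ∈ D; rw [f2]; exact hd'.1)
      · exact Subgroup.subset_closure (by show φ (Equiv.swap 2 3) ∈ D; rw [f3]; exact hb.1)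
      · exact Subgroup.subset_closure (by show φ (Equiv.swap 3 4) ∈ D; rw [f4]; exact ha.1)
    | one => rw [map_one]; exact one_mem _
    | mul x y _ _ hx hy => rw [map_mul]; exact mul_mem hx hy
  have hle : Subgroup.closure D ≤ φ.range := (Subgroup.closure_le _).2 hDle
  refine ⟨(MulEquiv.ofBijective (φ.codRestrict _ hrange) ⟨?_, ?_⟩).symm⟩
  · intro x y hxy
    exact hinj (congrArg Subtype.val hxy)
  · rintro ⟨g, hg⟩
    obtain ⟨σ, hσ⟩ := hle hg
    exact ⟨σ, Subtype.ext hσ⟩

theorem perm3_center : ∀ z : Equiv.Perm (Fin 3), (∀ w, z * w = w * z) → z = 1 := by decide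

theorem caseA [Finite G] (hT : IsThreeTranspositionSet D) (hconj : ∀ g : G, ∀ d ∈ D, g * d * g⁻¹ ∈ D)
    (hloc : ∀ d ∈ D, Nonempty (↥(Subgroup.closure (Dd D d)) ≃* Equiv.Perm (Fin 3)))
    (hO : ∀ d ∈ D, Nat.card (Cfsg.pCore 3 ↥(Subgroup.centralizer ({d} : Set G))) = 3)
    (hA : ∀ d ∈ D, ∀ a ∈ Dd D d, ∀ d' ∈ Dd D a, ∀ b ∈ Dd D d, Commute d' b)
    {d : G} (hd : d ∈ D) :
    Nonempty (↥(Subgroup.closure D) ≃* Equiv.Perm (Fin 3) × Equiv.Perm (Fin 3)) := by
  have : Fact (Nat.Prime 3) := ⟨Nat.prime_three⟩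
  obtain ⟨φd⟩ := hloc d hd
  obtain ⟨a, ha, b, hb, hab0⟩ := exists_two φd
  obtain ⟨φa⟩ := hloc a ha.1
  have hda : d ∈ Dd D a := ⟨hd, ha.2.1.symm, ha.2.2.symm⟩
  obtain ⟨d', hd', hdd⟩ : ∃ d' ∈ Dd D a, d' ≠ d := by
    obtain ⟨u, hu, v, hv, huv⟩ := exists_two φa
    by_cases h : u = d
    · exact ⟨v, hv, fun h' => huv (h.trans h'.symm)⟩
    · exact ⟨u, hu, h⟩
  obtain ⟨hab, hlined⟩ := line hT φd ha hb hab0
  obtain ⟨hdd', hlinea⟩ := line hT φa hda hd' hdd.symm
  have sd := sq hT hd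
  have sa := sq hT ha.1
  have sb := sq hT hb.1
  have sd' := sq hT hd'.1
  have hP : (pCore 3 G).Normal := pCore_normal 3 G
  -- general: the relation `Dd D x = Dd D x'`
  have hDeq : ∀ x ∈ D, ∀ y ∈ Dd D x, ∀ x' ∈ Dd D y, Dd D x = Dd D x' := by
    intro x hx y hy x' hx'
    by_cases hxx : x' = x
    · rw [hxx]
    obtain ⟨φy⟩ := hloc y hy.1
    have hxy : x ∈ Dd D y := ⟨hx, hy.2.1.symm, hy.2.2.symm⟩
    have hnc := (line hT φy hxy hx' (fun h => hxx h.symm)).1
    ext w
    constructor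
    · intro hw
      refine ⟨hw.1, ?_, hA x hx y hy x' hx' w hw⟩
      rintro rfl
      exact hnc hw.2.2
    · intro hw
      have hy' : y ∈ Dd D x' := ⟨hy.1, hx'.2.1.symm, hx'.2.2.symm⟩
      refine ⟨hw.1, ?_, hA x' hx'.1 y hy' x hxy w hw⟩
      rintro rfl
      exact hnc hw.2.2.symm
  have hs : d * d' ∈ pCore 3 G := mul_mem_pCore_three_of_Dd_eq hT hconj hd hd'.1 (hDeq d hd a ha d' hd')
  have ht : a * b ∈ pCore 3 G := mul_mem_pCore_three_of_Dd_eq hT hconj ha.1 hb.1 (hDeq a ha.1 d hda b hb)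
  have hCP : ∀ x ∈ pCore 3 G, Commute x d → x ∈ Subgroup.zpowers (a * b) := by
    intro x hx hxd
    have hN : ((pCore 3 G).subgroupOf (Subgroup.centralizer ({d} : Set G)))
        ≤ pCore 3 ↥(Subgroup.centralizer ({d} : Set G)) := by
      apply le_pCore
      · exact Subgroup.Normal.subgroupOf hP _
      · exact (isPGroup_pCore 3 G).comap_subtype
    have htC : a * b ∈ Subgroup.centralizer ({d} : Set G) :=
      Subgroup.mem_centralizer_singleton_iff.2 (ha.2.2.mul_right hb.2.2).symm.eq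
    have hxC : x ∈ Subgroup.centralizer ({d} : Set G) :=
      Subgroup.mem_centralizer_singleton_iff.2 hxd.eq
    have h1 : (⟨a * b, htC⟩ : ↥(Subgroup.centralizer ({d} : Set G))) ∈
        pCore 3 ↥(Subgroup.centralizer ({d} : Set G)) := hN (Subgroup.mem_subgroupOf.2 ht)
    have h2 : (⟨x, hxC⟩ : ↥(Subgroup.centralizer ({d} : Set G))) ∈
        pCore 3 ↥(Subgroup.centralizer ({d} : Set G)) := hN (Subgroup.mem_subgroupOf.2 hx)
    have h3 : Subgroup.zpowers (⟨a * b, htC⟩ : ↥(Subgroup.centralizer ({d} : Set G)))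
        = pCore 3 ↥(Subgroup.centralizer ({d} : Set G)) := by
      apply Subgroup.eq_of_le_of_card_ge (Subgroup.zpowers_le.2 h1)
      rw [hO d hd, Nat.card_zpowers]
      have h4 : orderOf (⟨a * b, htC⟩ : ↥(Subgroup.centralizer ({d} : Set G))) = 3 := by
        apply orderOf_eq_prime
        · exact Subtype.ext (by simpa using cube_of_not_commute hT ha.1 hb.1 hab)
        · intro h
          have h5 : a * b = 1 := congrArg Subtype.val h
          apply hab0
          rw [← inv_eq hT hb.1]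
          exact eq_inv_of_mul_eq_one_left h5
      rw [h4]
    rw [← h3] at h2
    obtain ⟨k, hk⟩ := Subgroup.mem_zpowers_iff.1 h2
    exact Subgroup.mem_zpowers_iff.2 ⟨k, by simpa using congrArg Subtype.val hk⟩
  have c1 : Commute d a := ha.2.2
  have c2 : Commute d b := hb.2.2
  have c3 : Commute d' a := hd'.2.2.symm
  have c4 : Commute d' b := hA d hd a ha d' hd' b hb
  have hst : Commute (d * d') (a * b) := (c1.mul_right c2).mul_left (c3.mul_right c4)
  obtain ⟨j, hj⟩ : ∃ j, j = d * a := ⟨_, rfl⟩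
  have hjinv : j⁻¹ = a * d := by rw [hj, mul_inv_rev, inv_eq hT hd, inv_eq hT ha.1]
  have hj_s : j * (d * d') * j⁻¹ = (d * d')⁻¹ := by
    rw [hjinv, hj, mul_inv_rev, inv_eq hT hd, inv_eq hT hd'.1]
    calc d * a * (d * d') * (a * d) = d * (a * d) * (d' * a) * d := by group
      _ = d * (d * a) * (a * d') * d := by rw [c1.eq, c3.eq]
      _ = (d * d) * (a * a) * d' * d := by group
      _ = d' * d := by rw [sd, sa]; group
  have hj_t : j * (a * b) * j⁻¹ = (a * b)⁻¹ := by
    rw [hjinv, hj, mul_inv_rev, inv_eq hT ha.1, inv_eq hT hb.1]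
    calc d * a * (a * b) * (a * d) = d * (a * a) * b * a * d := by group
      _ = (d * b) * a * d := by rw [sa]; group
      _ = b * (d * a) * d := by rw [c2.eq]; group
      _ = b * a * (d * d) := by rw [c1.eq]; group
      _ = b * a := by rw [sd, mul_one]
  have hj_tk : ∀ y ∈ Subgroup.zpowers (a * b), j * y * j⁻¹ = y⁻¹ := by
    intro y hy
    obtain ⟨k, rfl⟩ := Subgroup.mem_zpowers_iff.1 hy
    rw [← conj_zpow, hj_t, inv_zpow]
  have hbr : d * d' * d = d' * d * d' := braid hT hd hd'.1 hdd'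
  have hinv : ∀ x ∈ pCore 3 G, j * x * j⁻¹ = x⁻¹ := by
    intro x hx
    have hy : x * d * x⁻¹ ∈ D := hconj x d hd
    have hm : d * (x * d * x⁻¹) ∈ pCore 3 G := by
      have h1 : d * x * d⁻¹ ∈ pCore 3 G := hP.conj_mem x hx d
      have h2 : d * (x * d * x⁻¹) = (d * x * d⁻¹) * x⁻¹ := by rw [inv_eq hT hd]; group
      rw [h2]; exact mul_mem h1 (inv_mem hx)
    have hDD := (Dd_eq_iff_mul_mem hT hconj hd hy).2 hm
    have ha' : a ∈ Dd D (x * d * x⁻¹) := hDD ▸ ha
    have hya : x * d * x⁻¹ ∈ Dd D a := ⟨hy, ha'.2.1.symm, ha'.2.2.symm⟩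
    have fin : ∀ u ∈ pCore 3 G, j * u * j⁻¹ = u⁻¹ → Commute u (a * b) → u * d * u⁻¹ = x * d * x⁻¹ →
        j * x * j⁻¹ = x⁻¹ := by
      intro u hu hju hut hud
      have hc : Commute (u⁻¹ * x) d := by
        show u⁻¹ * x * d = d * (u⁻¹ * x)
        calc u⁻¹ * x * d = u⁻¹ * (x * d * x⁻¹) * x := by group
          _ = u⁻¹ * (u * d * u⁻¹) * x := by rw [hud]
          _ = d * (u⁻¹ * x) := by group
      have hz := hCP _ (mul_mem (inv_mem hu) hx) hc
      have h1 := hj_tk _ hz
      have hcomm : Commute u (u⁻¹ * x) := by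
        obtain ⟨k, hk⟩ := Subgroup.mem_zpowers_iff.1 hz
        rw [← hk]; exact hut.zpow_right k
      calc j * x * j⁻¹ = (j * u * j⁻¹) * (j * (u⁻¹ * x) * j⁻¹) := by group
        _ = u⁻¹ * (u⁻¹ * x)⁻¹ := by rw [hju, h1]
        _ = ((u⁻¹ * x) * u)⁻¹ := by group
        _ = (u * (u⁻¹ * x))⁻¹ := by rw [hcomm.eq]
        _ = x⁻¹ := by group
    rcases hlinea _ hya with h | h | h
    · exact fin 1 (one_mem _) (by group) (Commute.one_left _) (by rw [h]; group)
    · refine fin (d * d') hs hj_s hst ?_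
      rw [h, mul_inv_rev, inv_eq hT hd, inv_eq hT hd'.1]
      calc d * d' * d * (d' * d) = d * (d' * d * d') * d := by group
        _ = d * (d * d' * d) * d := by rw [hbr]
        _ = (d * d) * d' * (d * d) := by group
        _ = d' := by rw [sd]; group
    · refine fin (d * d')⁻¹ (inv_mem hs) ?_ hst.inv_left ?_
      · calc j * (d * d')⁻¹ * j⁻¹ = (j * (d * d') * j⁻¹)⁻¹ := by group
          _ = ((d * d')⁻¹)⁻¹ := by rw [hj_s]
      · rw [h, inv_inv, mul_inv_rev, inv_eq hT hd, inv_eq hT hd'.1]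
        calc d' * d * d * (d * d') = d' * (d * d) * d * d' := by group
          _ = d' * d * d' := by rw [sd, mul_one]
          _ = d * d' * d := hbr.symm
  have hDsub : ∀ e ∈ D, e ∈ Dd D a ∨ e ∈ Dd D d := by
    intro e he
    by_cases h1 : Commute e d
    · by_cases h2 : e = d
      · left; rw [h2]; exact hda
      · right; exact ⟨he, h2, h1.symm⟩
    by_cases h3 : Commute e a
    · by_cases h4 : e = a
      · right; rw [h4]; exact ha
      · left; exact ⟨he, h4, h3.symm⟩
    exfalso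
    have hσ : (d * e) ^ 3 = 1 := cube_of_not_commute hT hd he (fun h => h1 h.symm)
    have hτ : (a * e) ^ 3 = 1 := cube_of_not_commute hT ha.1 he (fun h => h3 h.symm)
    obtain ⟨σ, hσd⟩ : ∃ σ, σ = d * e := ⟨_, rfl⟩
    obtain ⟨τ, hτd⟩ : ∃ τ, τ = a * e := ⟨_, rfl⟩
    rw [← hσd] at hσ
    rw [← hτd] at hτ
    have hτσ : τ = j⁻¹ * σ := by
      rw [hjinv, hσd, hτd]
      calc a * e = a * (d * d) * e := by rw [sd, mul_one]
        _ = _ := by group
    have hinv' : ∀ x ∈ pCore 3 G, j⁻¹ * x * j = x⁻¹ := by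
      intro x hx
      have h5 := hinv x⁻¹ (inv_mem hx)
      rw [inv_inv] at h5
      calc j⁻¹ * x * j = j⁻¹ * (j * x⁻¹ * j⁻¹) * j := by rw [h5]
        _ = x⁻¹ := by group
    have hf : ∀ x ∈ pCore 3 G, τ * x * τ⁻¹ = (σ * x * σ⁻¹)⁻¹ := by
      intro x hx
      rw [hτσ]
      calc j⁻¹ * σ * x * (j⁻¹ * σ)⁻¹ = j⁻¹ * (σ * x * σ⁻¹) * j := by group
        _ = _ := hinv' _ (hP.conj_mem x hx σ)
    obtain ⟨s, hsd⟩ : ∃ s, s = d * d' := ⟨_, rfl⟩
    rw [← hsd] at hs
    have e1 : τ * s * τ⁻¹ = (σ * s * σ⁻¹)⁻¹ := hf s hs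
    have e2 : τ * (τ * s * τ⁻¹) * τ⁻¹ = σ * (σ * s * σ⁻¹) * σ⁻¹ := by
      rw [e1, hf _ (inv_mem (hP.conj_mem s hs σ))]
      simp only [mul_inv_rev, inv_inv, mul_assoc]
    have e3 : τ * (τ * (τ * s * τ⁻¹) * τ⁻¹) * τ⁻¹ = (σ * (σ * (σ * s * σ⁻¹) * σ⁻¹) * σ⁻¹)⁻¹ := by
      rw [e2]; exact hf _ (hP.conj_mem _ (hP.conj_mem s hs σ) σ)
    have t3 : τ * τ * τ = 1 := by rw [← hτ]; simp only [pow_succ, pow_zero, one_mul]
    have s3 : σ * σ * σ = 1 := by rw [← hσ]; simp only [pow_succ, pow_zero, one_mul]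
    have e4 : τ * (τ * (τ * s * τ⁻¹) * τ⁻¹) * τ⁻¹ = s := by
      calc τ * (τ * (τ * s * τ⁻¹) * τ⁻¹) * τ⁻¹ = (τ * τ * τ) * s * (τ * τ * τ)⁻¹ := by group
        _ = s := by rw [t3]; group
    have e5 : σ * (σ * (σ * s * σ⁻¹) * σ⁻¹) * σ⁻¹ = s := by
      calc σ * (σ * (σ * s * σ⁻¹) * σ⁻¹) * σ⁻¹ = (σ * σ * σ) * s * (σ * σ * σ)⁻¹ := by group
        _ = s := by rw [s3]; group
    rw [e4, e5] at e3
    have h6 : s ^ 2 = 1 := by
      rw [pow_two]; nth_rewrite 1 [e3]; group
    have h7 := eq_one_of_sq_of_mem_pCore_three hs h6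
    apply hdd
    rw [hsd] at h7
    rw [← inv_eq hT hd]
    exact (inv_eq_of_mul_eq_one_right h7).symm
  -- the direct product
  have hcomm : ∀ (x : ↥(Subgroup.closure (Dd D a))) (y : ↥(Subgroup.closure (Dd D d))),
      Commute (x : G) (y : G) := by
    have h1 : Subgroup.closure (Dd D a) ≤ Subgroup.centralizer (Subgroup.closure (Dd D d) : Set G) := by
      rw [Subgroup.closure_le]
      intro u hu
      have h2 : Subgroup.closure (Dd D d) ≤ Subgroup.centralizer ({u} : Set G) := by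
        rw [Subgroup.closure_le]
        intro v hv
        exact Subgroup.mem_centralizer_singleton_iff.2 (hA d hd a ha u hu v hv).symm.eq
      intro v hv
      exact (Subgroup.mem_centralizer_singleton_iff.1 (h2 hv))
    intro x y
    exact ((Subgroup.mem_centralizer_iff.1 (h1 x.2)) y y.2).symm
  have hdisj : ∀ g : G, g ∈ Subgroup.closure (Dd D a) → g ∈ Subgroup.closure (Dd D d) → g = 1 := by
    intro g h1 h2
    have h3 : φd ⟨g, h2⟩ = 1 := by
      apply perm3_center
      intro w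
      obtain ⟨y, rfl⟩ := φd.surjective w
      rw [← map_mul, ← map_mul]
      congr 1
      exact Subtype.ext (hcomm ⟨g, h1⟩ y).eq
    have h4 := φd.injective (h3.trans (map_one φd).symm)
    exact congrArg Subtype.val h4
  let ψ : ↥(Subgroup.closure (Dd D a)) × ↥(Subgroup.closure (Dd D d)) →* G :=
    MonoidHom.noncommCoprod (Subgroup.closure (Dd D a)).subtype (Subgroup.closure (Dd D d)).subtype hcomm
  have hψ : ∀ p, ψ p = (p.1 : G) * (p.2 : G) := fun p => rfl
  have hl1 : Subgroup.closure (Dd D a) ≤ Subgroup.closure D := Subgroup.closure_mono (fun y hy => hy.1)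
  have hl2 : Subgroup.closure (Dd D d) ≤ Subgroup.closure D := Subgroup.closure_mono (fun y hy => hy.1)
  have hrange : ∀ p, ψ p ∈ Subgroup.closure D := by
    intro p
    rw [hψ]
    exact mul_mem (hl1 p.1.2) (hl2 p.2.2)
  have hle : Subgroup.closure D ≤ ψ.range := by
    rw [Subgroup.closure_le]
    intro e he
    rcases hDsub e he with h | h
    · exact ⟨(⟨e, Subgroup.subset_closure h⟩, 1), by rw [hψ]; simp⟩
    · exact ⟨(1, ⟨e, Subgroup.subset_closure h⟩), by rw [hψ]; simp⟩
  have hinj : Function.Injective ψ := by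
    rw [injective_iff_map_eq_one]
    intro p hp
    rw [hψ] at hp
    have h1 : (p.1 : G) = (p.2 : G)⁻¹ := eq_inv_of_mul_eq_one_left hp
    have h2 : (p.1 : G) = 1 := hdisj _ p.1.2 (h1 ▸ inv_mem p.2.2)
    have h3 : (p.2 : G) = 1 := by rw [h2, one_mul] at hp; exact hp
    exact Prod.ext (Subtype.ext h2) (Subtype.ext h3)
  refine ⟨((MulEquiv.ofBijective (ψ.codRestrict _ hrange) ⟨?_, ?_⟩).symm).trans (MulEquiv.prodCongr φa φd)⟩
  · intro x y hxy
    exact hinj (congrArg Subtype.val hxy)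
  · rintro ⟨g, hg⟩
    obtain ⟨σ, hσ⟩ := hle hg
    exact ⟨σ, Subtype.ext hσ⟩

/-- Let D be a non-empty conjugation-invariant set of involutions of a finite group G satisfying the 3-transposition order conditions, and suppose that for every d in D the members of D other than d commuting with d generate a subgroup isomorphic to the symmetric group of degree 3, and the largest normal 3-subgroup of the centralizer of d has order 3. Then the subgroup generated by D is isomorphic to the symmetric group of degree 5 or to the direct product of two symmetric groups of degree 3. -/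
theorem result {G : Type*} [Group G] [Finite G] {D : Set G} (hD : Cfsg.IsThreeTranspositionSet D) (hconj : ∀ g : G, ∀ d ∈ D, g * d * g⁻¹ ∈ D) (hne : D.Nonempty) (hloc : ∀ d ∈ D, Nonempty (↥(Subgroup.closure {y : G | y ∈ D ∧ y ≠ d ∧ Commute d y}) ≃* Equiv.Perm (Fin 3)) ∧ Nat.card (Cfsg.pCore 3 ↥(Subgroup.centralizer ({d} : Set G))) = 3) : Nonempty (↥(Subgroup.closure D) ≃* Equiv.Perm (Fin 5)) ∨ Nonempty (↥(Subgroup.closure D) ≃* Equiv.Perm (Fin 3) × Equiv.Perm (Fin 3)) := by
  have hloc1 : ∀ d ∈ D, Nonempty (↥(Subgroup.closure (Dd D d)) ≃* Equiv.Perm (Fin 3)) :=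
    fun d hd => (hloc d hd).1
  by_cases hB : ∃ d ∈ D, ∃ a ∈ Dd D d, ∃ d' ∈ Dd D a, ∃ b ∈ Dd D d, ¬ Commute d' b
  · obtain ⟨d, hd, a, ha, d', hd', b, hb, hn⟩ := hB
    left
    refine caseB hD hconj hloc1 hd ha hd' ?_ hb ?_ hn
    · rintro rfl
      exact hn hb.2.2
    · rintro rfl
      exact hn hd'.2.2.symm
  · push Not at hB
    obtain ⟨d, hd⟩ := hne
    right
    exact caseA hD hconj hloc1 (fun d hd => (hloc d hd).2) hB hd

end Cfsg.Agent.S5365
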