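import Cfsg.Statements.S5522
import Cfsg.Agent.Lib.Helper28.M24Cls2

set_option autoImplicit false
open Cfsg

namespace Cfsg.Agent.S5522

/-- The Mathieu group M₁₁, realised as the stabiliser of one point of the dodecad of squares inside the stabiliser M₁₂ of that dodecad in M₂₄, acts on the twelve coordinate positions outside the dodecad of squares (its 3-transitive action of degree 12); in this action every element of prime order fixes a point, i.e. the action is elusive. -/
theorem result (g : Equiv.Perm Cfsg.GolayPt) (hg : g ∈ Cfsg.Spor.M11) (hord : (orderOf g).Prime) :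
    ∃ x : Cfsg.GolayPt, x ∉ Cfsg.Spor.squareDodecad ∧ g x = x := by
  open Cfsg.Agent.Lib.Helper28 Cfsg.Agent.Lib.Helper3.M24T Cfsg.Agent.Lib.Helper3.M24Gen in
  open scoped Pointwise in
  have hgM : g ∈ M24 := hg.1.1
  have hgD : g • Spor.squareDodecad = Spor.squareDodecad := hg.1.2
  have hg0 : g (some 0) = some 0 := hg.2
  have hD : Spor.squareDodecad = un 340831 := by
    unfold Spor.squareDodecad
    rw [support₂_qrWord]; rfl
  have hDc : isCode 340831 = true := by decide +kernel
  have hnonempty : fixSet g ≠ ∅ := by
    intro h
    have : (some 0 : GolayPt) ∈ fixSet g := mem_fixSet.2 hg0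
    rw [h] at this
    simp at this
  by_contra hcon
  push Not at hcon
  have hsub : fixSet g ⊆ un 340831 := by
    intro x hx
    by_contra hxD
    exact hcon x (by rw [hD]; exact hxD) (mem_fixSet.1 hx)
  by_cases h2 : orderOf g = 2
  · rcases invol_cases hgM h2 with ⟨_, _, _, h⟩ | ⟨_, _, _, h⟩
    · rw [mem_octads_iff] at h
      have h1 : fixSet g ∩ un 340831 = fixSet g := Finset.inter_eq_left.2 hsub
      have h3 := congrArg mk h1
      rw [mk_inter, mk_un (by norm_num)] at h3
      have h4 := popc_xor_add (mk (fixSet g)) 340831
      rw [h3, h.2] at h4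
      have h5 : popc 340831 = 12 := by decide +kernel
      have h6 := eq_zero_of_popc_lt (isCode_xor h.1 hDc) (by omega)
      rw [h6] at h4
      have h7 : popc 0 = 0 := by decide
      omega
    · exact hnonempty h
  by_cases h3 : orderOf g = 3
  · rcases order3_cases hgM h3 with ⟨k, hk, e, hc⟩ | ⟨_, _, _, h⟩
    · have h1 := fixSet_of_conj e
      rw [fixSet_r3A] at h1
      have hchk : ∀ m, isCode m = true → popc m = 12 → img r3A m = m → popc (5521504 &&& m) < 6 := by
        apply forall_isCode
        intro a ha
        have := forall_lt_of_allRange 12 (fun a => decide (popc (enc B12 a) = 12 →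
          img r3A (enc B12 a) = enc B12 a → popc (5521504 &&& enc B12 a) < 6)) (by decide +kernel) a ha
        exact of_decide_eq_true this
      have hdod : k • un 340831 ∈ dodecads := smul_mem_dodecads hk (by
        rw [mem_dodecads_iff, mk_un (by norm_num)]
        exact ⟨hDc, by decide +kernel⟩)
      rw [mem_dodecads_iff] at hdod
      have hinv : permOf r3A • (k • un 340831) = k • un 340831 := by
        rw [← e, ← hD, smul_smul]
        have : k * g * k⁻¹ * k = k * g := by group
        rw [this, mul_smul, hgD]
      have h4 := congrArg mk hinv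
      rw [mk_smul, tblOf_permOf (isTbl_of_inM24 inM24_r3A)] at h4
      have h5 := hchk _ hdod.1 hdod.2 h4
      have h6 : un 5521504 ∩ (k • un 340831) = un 5521504 := by
        rw [Finset.inter_eq_left, ← h1]
        intro y hy
        have e1 : y = k (k⁻¹ y) := by simp
        rw [e1] at hy ⊢
        rw [mem_smul_finset_iff] at hy ⊢
        exact hsub hy
      have h7 := congrArg mk h6
      rw [mk_inter, mk_un (by norm_num)] at h7
      rw [h7] at h5
      revert h5
      decide +kernel
    · exact hnonempty h
  · have : Fact (orderOf g).Prime := ⟨hord⟩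
    have hP : ∀ x, (g x ∉ Spor.squareDodecad) ↔ (x ∉ Spor.squareDodecad) := by
      intro x
      rw [not_iff_not]
      conv_lhs => rw [← hgD]
      exact mem_smul_finset_iff g _ x
    have hcard : Fintype.card {x : GolayPt // x ∉ Spor.squareDodecad} = 12 := by
      rw [Fintype.card_subtype_compl, Fintype.card_coe, hD]
      decide +kernel
    have hnd : ¬ orderOf g ∣ Fintype.card {x : GolayPt // x ∉ Spor.squareDodecad} := by
      rw [hcard]
      intro hdvd
      have h12 : (12 : ℕ) = 2 ^ 2 * 3 := by norm_num
      rw [h12] at hdvd
      rcases (Nat.Prime.dvd_mul hord).1 hdvd with h | h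
      · exact h2 ((Nat.prime_dvd_prime_iff_eq hord Nat.prime_two).1 (hord.dvd_of_dvd_pow h))
      · exact h3 ((Nat.prime_dvd_prime_iff_eq hord Nat.prime_three).1 h)
    obtain ⟨a, ha⟩ := Equiv.Perm.exists_fixed_point_of_prime (n := 1) hnd
      (σ := g.subtypePerm hP) (by
        rw [pow_one, Equiv.Perm.subtypePerm_pow]
        ext x
        simp [pow_orderOf_eq_one])
    exact hcon a.1 a.2 (congrArg Subtype.val ha)

end Cfsg.Agent.S5522
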