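import Cfsg.Statements.S5727
import Cfsg.Agent.S5726

set_option autoImplicit false
open Cfsg

namespace Cfsg.Agent.S5727

open MulAction

/-- If a finite group acts faithfully and transitively on a set with m·p elements, where p is a prime and 1 ≤ m ≤ p, then some element of order p fixes no point. -/
theorem result {G Ω : Type*} [Group G] [Finite G] [MulAction G Ω] [FaithfulSMul G Ω] [Fintype Ω] (htr : MulAction.IsPretransitive G Ω)
    (p m : ℕ) (hp : p.Prime) (hm : 1 ≤ m) (hmp : m ≤ p) (hΩ : Fintype.card Ω = m * p) :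
    ∃ g : G, orderOf g = p ∧ ∀ ω : Ω, g • ω ≠ ω := by
  classical
  have : Fact p.Prime := ⟨hp⟩
  rcases Nat.lt_or_ge m p with hlt | hge
  swap
  · have hm' : m = p := le_antisymm hmp hge
    exact Cfsg.Agent.S5726.result htr p 2 hp (by norm_num) (by rw [hΩ, hm', sq])
  obtain ⟨P⟩ : Nonempty (Sylow p G) := inferInstance
  have : Fintype (P : Subgroup G) := Fintype.ofFinite _
  have hΩne : Nonempty Ω := Fintype.card_pos_iff.mp (by rw [hΩ]; exact Nat.mul_pos (by omega) hp.pos)
  -- every orbit has length p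
  have hidx : ∀ ω : Ω, (stabilizer (P : Subgroup G) ω).index = p := by
    intro ω
    have h1 := Cfsg.Agent.S5726.pow_dvd_ncard_orbit htr p 1 (by rw [hΩ, pow_one]; exact Dvd.intro_left m rfl) P ω
    rw [← index_stabilizer, pow_one] at h1
    obtain ⟨j, hj⟩ := P.2.index (stabilizer (P : Subgroup G) ω)
    have h2 : (stabilizer (P : Subgroup G) ω).index ≤ m * p := by
      rw [index_stabilizer, ← hΩ, ← Nat.card_eq_fintype_card, ← Set.ncard_univ]
      exact Set.ncard_le_ncard (Set.subset_univ _)
    have h3 : p ^ j < p ^ 2 := by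
      rw [← hj, sq]
      exact lt_of_le_of_lt h2 (Nat.mul_lt_mul_of_pos_right hlt hp.pos)
    have h4 : j < 2 := (Nat.pow_lt_pow_iff_right hp.one_lt).mp h3
    have h5 : j ≠ 0 := by
      rintro rfl
      rw [hj, pow_zero] at h1
      exact hp.one_lt.ne' (Nat.dvd_one.mp h1)
    have h6 : j = 1 := by omega
    rw [hj, h6, pow_one]
  have hnormal : ∀ ω : Ω, (stabilizer (P : Subgroup G) ω).Normal := by
    intro ω
    apply Subgroup.normal_of_index_eq_minFac_card
    obtain ⟨a, ha⟩ := IsPGroup.iff_card.mp P.2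
    have ha0 : a ≠ 0 := by
      rintro rfl
      have := (stabilizer (P : Subgroup G) ω).index_dvd_card
      rw [hidx, ha, pow_zero] at this
      exact hp.one_lt.ne' (Nat.dvd_one.mp this)
    rw [hidx, ha, hp.pow_minFac ha0]
  have hpow : ∀ x : (P : Subgroup G), x ^ p = 1 := by
    intro x
    apply Subtype.ext
    apply FaithfulSMul.eq_of_smul_eq_smul (α := Ω)
    intro ω
    have := hnormal ω
    have h1 := (stabilizer (P : Subgroup G) ω).pow_index_mem x
    rw [hidx] at h1
    have h2 : (x ^ p) • ω = ω := h1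
    rw [Subgroup.coe_one, one_smul]
    exact h2
  set fx : ↥(P : Subgroup G) → ℕ := fun x => (Finset.univ.filter (fun ω : Ω => x • ω = ω)).card with hfx
  have hfixp : ∀ x : (P : Subgroup G), (∃ ω : Ω, x • ω = ω) → p ≤ fx x := by
    rintro x ⟨ω, hω⟩
    have hsub : orbit (P : Subgroup G) ω ⊆ {ω' : Ω | x • ω' = ω'} := by
      rintro _ ⟨y, rfl⟩
      have h1 : y⁻¹ * x * y⁻¹⁻¹ ∈ stabilizer (P : Subgroup G) ω := (hnormal ω).conj_mem x hω y⁻¹
      rw [inv_inv] at h1
      have h2 : (y⁻¹ * x * y) • ω = ω := h1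
      change x • (y • ω) = y • ω
      calc x • (y • ω) = y • ((y⁻¹ * x * y) • ω) := by
            simp only [← mul_smul]; congr 1; group
        _ = y • ω := by rw [h2]
    have h3 := Set.ncard_le_ncard hsub (Set.toFinite _)
    rw [← index_stabilizer, hidx] at h3
    rw [hfx]
    have h4 : ({ω' : Ω | x • ω' = ω'} : Set Ω).ncard =
        (Finset.univ.filter (fun ω : Ω => x • ω = ω)).card := by
      rw [Set.ncard_eq_toFinset_card']
      congr 1
      ext ω'; simp
    rw [h4] at h3
    exact h3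
  have hcount : p * ∑ x : (P : Subgroup G), fx x = m * p * Nat.card (P : Subgroup G) := by
    have h1 : ∑ x : (P : Subgroup G), fx x =
        ∑ ω : Ω, (Finset.univ.filter (fun x : (P : Subgroup G) => x • ω = ω)).card := by
      simp only [hfx, Finset.card_filter]
      exact Finset.sum_comm
    have h2 : ∀ ω : Ω, p * (Finset.univ.filter (fun x : (P : Subgroup G) => x • ω = ω)).card =
        Nat.card (P : Subgroup G) := by
      intro ω
      have h3 := (stabilizer (P : Subgroup G) ω).card_mul_index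
      rw [hidx, mul_comm] at h3
      rw [← h3]
      congr 1
      rw [Nat.card_eq_fintype_card, Fintype.card_subtype]
      congr 1
    rw [h1, Finset.mul_sum, Finset.sum_congr rfl (fun ω _ => h2 ω)]
    simp [hΩ]
  have hcount' : ∑ x : (P : Subgroup G), fx x = m * Nat.card (P : Subgroup G) := by
    apply Nat.eq_of_mul_eq_mul_left hp.pos
    rw [hcount]; ring
  obtain ⟨x, hx⟩ : ∃ x : (P : Subgroup G), ∀ ω : Ω, x • ω ≠ ω := by
    by_contra hcon
    push Not at hcon
    have h1 : fx 1 = m * p := by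
      rw [hfx, ← hΩ]
      simp [Finset.card_univ]
    have h2 : ∑ x : (P : Subgroup G), fx x = fx 1 + ∑ x ∈ Finset.univ.erase (1 : (P : Subgroup G)), fx x := by
      rw [Finset.add_sum_erase _ _ (Finset.mem_univ _)]
    have h3 : (Finset.univ.erase (1 : (P : Subgroup G))).card • p ≤
        ∑ x ∈ Finset.univ.erase (1 : (P : Subgroup G)), fx x :=
      Finset.card_nsmul_le_sum _ _ _ (fun x _ => hfixp x (hcon x))
    rw [Finset.card_erase_of_mem (Finset.mem_univ _), Finset.card_univ, ← Nat.card_eq_fintype_card,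
      smul_eq_mul] at h3
    have hQ : 1 ≤ Nat.card (P : Subgroup G) := Nat.card_pos
    obtain ⟨c, hc⟩ : ∃ c, Nat.card (P : Subgroup G) = c + 1 := ⟨_, (Nat.sub_add_cancel hQ).symm⟩
    rw [hc] at h3 hcount'
    simp only [Nat.add_sub_cancel] at h3
    have h4 : m * (c + 1) ≥ m * p + c * p := by
      rw [← hcount', h2, h1]; omega
    have h5 : c * (m + 1) ≤ c * p := Nat.mul_le_mul_left c hlt
    have h6 : m * 2 ≤ m * p := Nat.mul_le_mul_left m hp.two_le
    nlinarith
  refine ⟨(x : G), ?_, hx⟩
  rw [Subgroup.orderOf_coe]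
  apply orderOf_eq_prime (hpow x)
  rintro rfl
  obtain ⟨ω⟩ := hΩne
  exact hx ω (one_smul _ ω)

end Cfsg.Agent.S5727
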