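import Cfsg.Statements.S5728

set_option autoImplicit false
open Cfsg

namespace Cfsg.Agent.S5728


theorem mem_range_of_pow_eq (p : ℕ) [Fact p.Prime] {K : Type*} [Field K] [Algebra (ZMod p) K]
    (a : K) (ha : a ^ p = a) : ∃ a' : ZMod p, algebraMap (ZMod p) K a' = a := by
  have : CharP K p := by
    have := (algebraMap (ZMod p) K).injective
    exact charP_of_injective_algebraMap this p
  have h1 : a ∈ (⊥ : Subfield K) := (Subfield.mem_bot_iff_pow_eq_self K p).mpr ha
  rw [← ZMod.fieldRange_castHom_eq_bot p] at h1
  obtain ⟨a', ha'⟩ := h1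
  refine ⟨a', ?_⟩
  rw [← ha']
  congr 1
  exact Subsingleton.elim _ _

/-- An elusive transitive action. Let p = 2^s − 1 be a prime and let F be the field with p² elements. Inside the group of affine maps x ↦ a·x + b of F (a ≠ 0), consider the subgroup of maps with both coefficients in the prime field. Then every element of prime order of the affine group is conjugate, within the affine group, to an element of that subgroup; equivalently, in the transitive action of the affine group on the cosets of that subgroup (of degree p(p + 1)) every element of prime order fixes a point. -/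
theorem result (p s : ℕ) [Fact p.Prime] (hs : p = 2 ^ s - 1)
    (g : Equiv.Perm (GaloisField p 2)) (hg : g ∈ Cfsg.affineGroup (GaloisField p 2)) (hord : (orderOf g).Prime) :
    ∃ x ∈ Cfsg.affineGroup (GaloisField p 2), ∃ a b : ZMod p, a ≠ 0 ∧
      ∀ y : GaloisField p 2, (x * g * x⁻¹) y = algebraMap (ZMod p) (GaloisField p 2) a * y + algebraMap (ZMod p) (GaloisField p 2) b := by
  obtain ⟨a, b, hab⟩ := hg
  have hp : p.Prime := Fact.out
  by_cases ha : a = 1
  · subst ha
    have hb : b ≠ 0 := by
      rintro rfl
      have : g = 1 := by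
        ext y; simp [hab]
      rw [this, orderOf_one] at hord
      exact Nat.not_prime_one hord
    refine ⟨Equiv.mulLeft₀ b⁻¹ (inv_ne_zero hb), ⟨Units.mk0 b⁻¹ (inv_ne_zero hb), 0, fun y => by simp⟩,
      1, 1, one_ne_zero, fun y => ?_⟩
    have hinv : (Equiv.mulLeft₀ b⁻¹ (inv_ne_zero hb))⁻¹ y = b * y := by
      rw [Equiv.Perm.inv_def, Equiv.symm_apply_eq]
      simp [hb]
    rw [Equiv.Perm.mul_apply, Equiv.Perm.mul_apply, hinv, hab]
    have hap : ∀ z, (Equiv.mulLeft₀ b⁻¹ (inv_ne_zero hb)) z = b⁻¹ * z := fun z => rfl
    rw [hap]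
    simp only [Units.val_one, one_mul, map_one]
    field_simp
  · have ha' : (1 : GaloisField p 2) - (a : GaloisField p 2) ≠ 0 := by
      intro h
      apply ha
      apply Units.ext
      rw [Units.val_one]
      exact (sub_eq_zero.mp h).symm
    set c : GaloisField p 2 := b / (1 - a) with hc
    have hcfix : (a : GaloisField p 2) * c + b = c := by
      rw [hc]; field_simp; ring
    set x : Equiv.Perm (GaloisField p 2) := Equiv.subRight c with hx
    have hxinv : ∀ y, x⁻¹ y = y + c := by
      intro y
      rw [Equiv.Perm.inv_def, Equiv.symm_apply_eq, hx]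
      simp
    have hh : ∀ y, (x * g * x⁻¹) y = (a : GaloisField p 2) * y := by
      intro y
      rw [Equiv.Perm.mul_apply, Equiv.Perm.mul_apply, hxinv, hab, hx]
      simp only [Equiv.subRight_apply]
      linear_combination hcfix
    have hpow : ∀ (k : ℕ) (y : GaloisField p 2), ((x * g * x⁻¹) ^ k) y = (a : GaloisField p 2) ^ k * y := by
      intro k
      induction k with
      | zero => intro y; simp
      | succ k ih =>
        intro y
        rw [pow_succ, Equiv.Perm.mul_apply, hh, ih, pow_succ, mul_assoc]
    have har : a ^ orderOf g = 1 := by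
      apply Units.ext
      have h1 := hpow (orderOf g) 1
      rw [conj_pow, pow_orderOf_eq_one] at h1
      simpa using h1.symm
    have : Fact (orderOf g).Prime := ⟨hord⟩
    have hoa : orderOf a = orderOf g := orderOf_eq_prime har ha
    have hdvd : orderOf g ∣ p ^ 2 - 1 := by
      rw [← hoa, ← GaloisField.card p 2 (by norm_num), ← Nat.card_units]
      exact orderOf_dvd_natCard a
    have hs : 1 ≤ s := by
      by_contra hcon
      have : s = 0 := by omega
      rw [this] at hs
      simp at hs
      exact hp.ne_zero hs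
    have h2s : 2 ≤ 2 ^ s := by
      calc 2 = 2 ^ 1 := by norm_num
        _ ≤ 2 ^ s := Nat.pow_le_pow_right (by norm_num) hs
    have hp1 : p + 1 = 2 ^ s := by omega
    have hfac : p ^ 2 - 1 = (p - 1) * 2 ^ s := by
      rw [← hp1]
      obtain ⟨k, rfl⟩ : ∃ k, p = k + 1 := ⟨p - 1, by have := hp.pos; omega⟩
      simp only [Nat.add_sub_cancel]
      have : (k + 1) ^ 2 = k * (k + 1 + 1) + 1 := by ring
      rw [this, Nat.add_sub_cancel]
    have hdvd' : orderOf g ∣ p - 1 := by
      rw [hfac] at hdvd
      rcases (Nat.Prime.dvd_mul hord).mp hdvd with h | h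
      · exact h
      · have h2 : orderOf g = 2 := (Nat.prime_dvd_prime_iff_eq hord Nat.prime_two).mp (hord.dvd_of_dvd_pow h)
        rw [h2]
        have : 2 ∣ 2 ^ s := dvd_pow_self 2 (by omega)
        omega
    have hap : (a : GaloisField p 2) ^ p = a := by
      obtain ⟨k, hk⟩ := hdvd'
      have h1 : a ^ (p - 1) = 1 := by rw [hk, pow_mul, har, one_pow]
      have h2 : (a : GaloisField p 2) ^ (p - 1) = 1 := by
        have := congrArg Units.val h1
        simpa using this
      calc (a : GaloisField p 2) ^ p = (a : GaloisField p 2) ^ (p - 1 + 1) := by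
            rw [Nat.sub_add_cancel hp.pos]
        _ = a := by rw [pow_succ, h2, one_mul]
    obtain ⟨a', ha''⟩ := mem_range_of_pow_eq p (a : GaloisField p 2) hap
    refine ⟨x, ⟨1, -c, fun y => by rw [hx]; simp [sub_eq_add_neg]⟩, a', 0, ?_, fun y => ?_⟩
    · rintro rfl
      rw [map_zero] at ha''
      exact a.ne_zero ha''.symm
    · rw [hh, ha'', map_zero, add_zero]

end Cfsg.Agent.S5728
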