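import Cfsg.Statements.S5904
-- import your own Cfsg.Agent.* helpers here

set_option autoImplicit false
open scoped Pointwise
open Cfsg

namespace Cfsg.Agent.S5904

/-- Let Ω be a finite set with more than two elements and O ⊆ Ω a subset with exactly as many elements as its complement. Then the setwise stabilizer of O in the symmetric group on Ω is not a maximal subgroup (it is properly contained in the stabilizer of the partition {O, Ω ∖ O}, which is proper). -/
theorem result {Ω : Type*} [Fintype Ω] [DecidableEq Ω] (hΩ : 2 < Fintype.card Ω)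
    (O : Set Ω) (hO : Nat.card O = Nat.card ↥Oᶜ) :
    ¬ IsCoatom (MulAction.stabilizer (Equiv.Perm Ω) O) := by
  classical
  intro hco
  have h1 : O.ncard + Oᶜ.ncard = Nat.card Ω := Set.ncard_add_ncard_compl O
  rw [Nat.card_coe_set_eq, Nat.card_coe_set_eq] at hO
  rw [Nat.card_eq_fintype_card] at h1
  have h2 : 1 < O.ncard := by omega
  have h3 : 0 < Oᶜ.ncard := by omega
  obtain ⟨a, a', ha, ha', haa'⟩ := (Set.one_lt_ncard_iff (Set.toFinite O)).1 h2
  obtain ⟨b, hb⟩ := (Set.ncard_pos (Set.toFinite _)).1 h3
  obtain ⟨e⟩ : Nonempty (O ≃ ↥Oᶜ) := Finite.card_eq.1 (by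
    rw [Nat.card_coe_set_eq, Nat.card_coe_set_eq]; exact hO)
  let σ : Equiv.Perm Ω := ((Equiv.Set.sumCompl O).symm.trans
    ((Equiv.sumCongr e e.symm).trans (Equiv.sumComm _ _))).trans (Equiv.Set.sumCompl O)
  have hσ : ∀ x, σ x ∈ O ↔ x ∉ O := by
    intro x
    by_cases hx : x ∈ O
    · have : σ x = (e ⟨x, hx⟩ : Ω) := by
        simp [σ, Equiv.Set.sumCompl_symm_apply_of_mem hx]
      rw [this]
      have h4 : (e ⟨x, hx⟩ : Ω) ∈ Oᶜ := (e ⟨x, hx⟩).2
      simp only [hx, not_true_eq_false, iff_false]
      exact h4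
    · have : σ x = (e.symm ⟨x, hx⟩ : Ω) := by
        simp [σ, Equiv.Set.sumCompl_symm_apply_of_notMem hx]
      rw [this]
      simp only [hx, not_false_eq_true, iff_true]
      exact (e.symm ⟨x, hx⟩).2
  let W : Subgroup (Equiv.Perm Ω) :=
    { carrier := {g | (∀ x, g x ∈ O ↔ x ∈ O) ∨ (∀ x, g x ∈ O ↔ x ∉ O)}
      mul_mem' := by
        rintro g h (hg | hg) (hh | hh)
        · left; intro x; rw [Equiv.Perm.mul_apply, hg, hh]
        · right; intro x; rw [Equiv.Perm.mul_apply, hg, hh]
        · right; intro x; rw [Equiv.Perm.mul_apply, hg, hh]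
        · left; intro x; rw [Equiv.Perm.mul_apply, hg, hh, not_not]
      one_mem' := Or.inl fun x => Iff.rfl
      inv_mem' := by
        rintro g (hg | hg)
        · left; intro x
          have := hg (g⁻¹ x)
          rw [show g (g⁻¹ x) = x by simp] at this
          tauto
        · right; intro x
          have := hg (g⁻¹ x)
          rw [show g (g⁻¹ x) = x by simp] at this
          tauto }
  have hlt : MulAction.stabilizer (Equiv.Perm Ω) O < W := by
    refine lt_of_le_of_ne ?_ ?_
    · intro g hg
      rw [MulAction.mem_stabilizer_set] at hg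
      exact Or.inl hg
    · intro heq
      have hσW : σ ∈ W := Or.inr hσ
      rw [← heq, MulAction.mem_stabilizer_set] at hσW
      have := (hσW a).2 ha
      exact (hσ a).1 this ha
  have htop := hco.2 W hlt
  have hsw : Equiv.swap a b ∈ W := by rw [htop]; trivial
  rcases hsw with h | h
  · have := (h a).2 ha
    rw [Equiv.swap_apply_left] at this
    exact hb this
  · have hne : a' ≠ b := fun h => hb (h ▸ ha')
    have := (h a').1 (by rw [Equiv.swap_apply_of_ne_of_ne (Ne.symm haa') hne]; exact ha')
    exact this ha'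

end Cfsg.Agent.S5904
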