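import Cfsg.Statements.S5894
import Cfsg.Agent.Lib.Helper29.Cov
import Cfsg.Agent.S5904

set_option autoImplicit false
open Cfsg

namespace Cfsg.Agent.S5894

open Cfsg.Agent.Lib.Helper29
open scoped Pointwise

/-- In `Perm Ω`, the stabilizer of a point `x0` covers its intersection with the stabilizer of a
set `A` avoiding `x0`, when `Ω` has an even number of points. -/
theorem stab_inf_covBy {Ω : Type*} [Fintype Ω] [DecidableEq Ω] (x0 : Ω) (A : Set Ω)
    (hx0 : x0 ∉ A) (hA : A.Nonempty) (hA' : ∃ x1, x1 ≠ x0 ∧ x1 ∉ A) (heven : Even (Fintype.card Ω)) :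
    MulAction.stabilizer (Equiv.Perm Ω) x0 ⊓ MulAction.stabilizer (Equiv.Perm Ω) A ⋖
      MulAction.stabilizer (Equiv.Perm Ω) x0 := by
  classical
  let φ : Equiv.Perm {x // x ≠ x0} →* Equiv.Perm Ω := Equiv.Perm.ofSubtype
  have hφ : Function.Injective φ := Equiv.Perm.ofSubtype_injective
  let A' : Set {x // x ≠ x0} := Subtype.val ⁻¹' A
  have hlift : ∀ g : Equiv.Perm Ω, g x0 = x0 → ∃ h : ∀ x, (g x ≠ x0) ↔ (x ≠ x0),
      φ (Equiv.Perm.subtypePerm g h) = g := by
    intro g hg
    have h : ∀ x, (g x ≠ x0) ↔ (x ≠ x0) := by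
      intro x
      rw [not_iff_not]
      constructor
      · intro hx; exact g.injective (hx.trans hg.symm)
      · intro hx; rw [hx, hg]
    refine ⟨h, Equiv.Perm.ofSubtype_subtypePerm h ?_⟩
    intro x hx hxx
    exact hx (by rw [hxx, hg])
  have hrange : (⊤ : Subgroup (Equiv.Perm {x // x ≠ x0})).map φ
      = MulAction.stabilizer (Equiv.Perm Ω) x0 := by
    ext g
    constructor
    · rintro ⟨f, -, rfl⟩
      exact Equiv.Perm.ofSubtype_apply_of_not_mem f (by simp)
    · intro hg
      obtain ⟨h, hh⟩ := hlift g hg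
      exact ⟨_, trivial, hh⟩
  have hmap : (MulAction.stabilizer (Equiv.Perm {x // x ≠ x0}) A').map φ
      = MulAction.stabilizer (Equiv.Perm Ω) x0 ⊓ MulAction.stabilizer (Equiv.Perm Ω) A := by
    ext g
    constructor
    · rintro ⟨f, hf, rfl⟩
      refine ⟨Equiv.Perm.ofSubtype_apply_of_not_mem f (by simp), ?_⟩
      rw [SetLike.mem_coe, MulAction.mem_stabilizer_set] at hf
      change φ f ∈ MulAction.stabilizer (Equiv.Perm Ω) A
      rw [MulAction.mem_stabilizer_set]
      intro x
      by_cases hx : x = x0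
      · subst hx
        have : φ f x = x := Equiv.Perm.ofSubtype_apply_of_not_mem f (by simp)
        rw [Equiv.Perm.smul_def, this]
      · have : φ f x = f ⟨x, hx⟩ := Equiv.Perm.ofSubtype_apply_of_mem f hx
        rw [Equiv.Perm.smul_def, this]
        exact hf ⟨x, hx⟩
    · rintro ⟨hg, hgA⟩
      obtain ⟨h, hh⟩ := hlift g hg
      refine ⟨_, ?_, hh⟩
      change g ∈ MulAction.stabilizer (Equiv.Perm Ω) A at hgA
      rw [MulAction.mem_stabilizer_set] at hgA
      rw [SetLike.mem_coe, MulAction.mem_stabilizer_set]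
      rintro ⟨x, hx⟩
      exact hgA x
  rw [← hmap, ← hrange, map_covBy_map_iff hφ, covBy_top_iff]
  apply Equiv.Perm.isCoatom_stabilizer
  · obtain ⟨a, ha⟩ := hA
    exact ⟨⟨a, fun h => hx0 (h ▸ ha)⟩, ha⟩
  · obtain ⟨x1, h1, h2⟩ := hA'
    exact ⟨⟨x1, h1⟩, h2⟩
  · have h1 : Nat.card {x // x ≠ x0} = Fintype.card Ω - 1 := by
      rw [Nat.card_eq_fintype_card, Fintype.card_subtype_compl, Fintype.card_subtype_eq]
    have h2 : 0 < Fintype.card Ω := Fintype.card_pos_iff.2 ⟨x0⟩
    obtain ⟨k, hk⟩ := heven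
    rw [h1]
    omega

/-- For every m ≥ 2 the symmetric group on 2m letters has a maximal subgroup M of index 2m together with a maximal subgroup H of M that is not second maximal: some maximal subgroup K of the symmetric group contains H without H being maximal in K. (One may take M the stabiliser of a letter, H ≅ S_m × S_{m−1} inside it, and K ≅ S_m ≀ S₂ the stabiliser of a partition into two m-sets, with H < S_m × S_m < K.) So the prime-index hypothesis in the second-maximality criterion cannot be relaxed to any even index ≥ 4. -/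
theorem result (m : ℕ) (hm : 2 ≤ m) :
    ∃ M H K : Subgroup (Equiv.Perm (Fin (2 * m))), IsCoatom M ∧ M.index = 2 * m ∧ H ≤ M ∧ IsCoatom (H.subgroupOf M) ∧
      IsCoatom K ∧ H ≤ K ∧ ¬ IsCoatom (H.subgroupOf K) := by
  have h2m : 0 < 2 * m := by omega
  let x0 : Fin (2 * m) := ⟨0, h2m⟩
  let x1 : Fin (2 * m) := ⟨1, by omega⟩
  let A : Set (Fin (2 * m)) := {x | m ≤ x.val}
  have hx0 : x0 ∉ A := by
    change ¬ (m ≤ 0); omega
  have hx1 : x1 ∉ A := by
    change ¬ (m ≤ 1); omega
  have hx10 : x1 ≠ x0 := by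
    intro h; have := congrArg Fin.val h; simp [x0, x1] at this
  have hA : A.Nonempty := ⟨⟨m, by omega⟩, le_refl m⟩
  have hcard : Nat.card A = Nat.card ↥Aᶜ := Nat.card_congr
    { toFun := fun x => ⟨⟨x.1.val - m, by have := x.1.isLt; omega⟩, by
        have h1 := x.1.isLt
        have h2 : m ≤ x.1.val := x.2
        change ¬ (m ≤ x.1.val - m); omega⟩
      invFun := fun y => ⟨⟨y.1.val + m, by
        have h2 : ¬ (m ≤ y.1.val) := y.2
        omega⟩, by change m ≤ y.1.val + m; omega⟩
      left_inv := fun x => by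
        have h2 : m ≤ x.1.val := x.2
        apply Subtype.ext; apply Fin.ext
        change x.1.val - m + m = x.1.val
        omega
      right_inv := fun y => by
        apply Subtype.ext; apply Fin.ext
        change y.1.val + m - m = y.1.val
        omega }
  have hnc : ¬ IsCoatom (MulAction.stabilizer (Equiv.Perm (Fin (2 * m))) A) :=
    Cfsg.Agent.S5904.result (by rw [Fintype.card_fin]; omega) A hcard
  have hne : MulAction.stabilizer (Equiv.Perm (Fin (2 * m))) A ≠ ⊤ :=
    Equiv.Perm.stabilizer_ne_top_of_nonempty_of_nonempty_compl hA ⟨x0, hx0⟩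
  obtain ⟨K, hK, hAK⟩ := (eq_top_or_exists_le_coatom _).resolve_left hne
  have hAK' : MulAction.stabilizer (Equiv.Perm (Fin (2 * m))) A < K :=
    lt_of_le_of_ne hAK (fun h => hnc (h ▸ hK))
  have : Nontrivial (Fin (2 * m)) := ⟨⟨x1, x0, hx10⟩⟩
  have hcov := stab_inf_covBy x0 A hx0 hA ⟨x1, hx10, hx1⟩ (by rw [Fintype.card_fin]; exact even_two_mul m)
  refine ⟨MulAction.stabilizer (Equiv.Perm (Fin (2 * m))) x0,
    MulAction.stabilizer (Equiv.Perm (Fin (2 * m))) x0 ⊓ MulAction.stabilizer (Equiv.Perm (Fin (2 * m))) A,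
    K, ?_, ?_, inf_le_left, ?_, hK, inf_le_right.trans hAK, ?_⟩
  · exact (MulAction.isCoatom_stabilizer_iff_preprimitive (Equiv.Perm (Fin (2 * m))) x0).2 inferInstance
  · rw [MulAction.index_stabilizer_of_transitive, Nat.card_eq_fintype_card, Fintype.card_fin]
  · exact (isCoatom_subgroupOf_iff inf_le_left).2 hcov
  · rw [isCoatom_subgroupOf_iff (inf_le_right.trans hAK)]
    intro h
    refine h.2 (lt_of_le_of_ne inf_le_right ?_) hAK'
    intro heq
    have hsw : Equiv.swap x0 x1 ∈ MulAction.stabilizer (Equiv.Perm (Fin (2 * m))) A := by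
      rw [MulAction.mem_stabilizer_set]
      intro x
      rw [Equiv.Perm.smul_def]
      by_cases h0 : x = x0
      · rw [h0, Equiv.swap_apply_left]; simp [hx0, hx1]
      · by_cases h1 : x = x1
        · rw [h1, Equiv.swap_apply_right]; simp [hx0, hx1]
        · rw [Equiv.swap_apply_of_ne_of_ne h0 h1]
    rw [← heq] at hsw
    have h3 : Equiv.swap x0 x1 x0 = x0 := hsw.1
    rw [Equiv.swap_apply_left] at h3
    exact hx10 h3

end Cfsg.Agent.S5894
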