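import Mathlib
import Cfsg.Statements.S5947
import Cfsg.Agent.S2904
import Cfsg.Agent.S2388
-- import your own Cfsg.Agent.* helpers here

set_option autoImplicit false
open Cfsg

namespace Cfsg.Agent.S5947

theorem odd_cofactor (t k : ℕ) : ∃ s, Odd s ∧ (2 * t + 1) ^ (2 * k + 1) + 1 = (2 * t + 1 + 1) * s := by
  induction k with
  | zero => exact ⟨1, odd_one, by ring⟩
  | succ k ih =>
    obtain ⟨s, hs, h⟩ := ih
    have hs1 : 1 ≤ s := hs.pos
    have hle : 2 * t ≤ (2 * t + 1) * (2 * t + 1) * s := by nlinarith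
    obtain ⟨s', hs'⟩ : ∃ s', (2 * t + 1) * (2 * t + 1) * s = s' + 2 * t :=
      ⟨(2 * t + 1) * (2 * t + 1) * s - 2 * t, by omega⟩
    refine ⟨s', ?_, ?_⟩
    · have h1 : Odd ((2 * t + 1) * (2 * t + 1) * s) := by
        have ho : Odd (2 * t + 1) := ⟨t, rfl⟩
        exact (ho.mul ho).mul hs
      rw [hs'] at h1
      by_contra h2
      rw [Nat.not_odd_iff_even] at h2
      have h3 : Even (s' + 2 * t) := h2.add (even_two_mul t)
      exact (Nat.not_odd_iff_even.2 h3) h1
    · have h1 : (2 * t + 1) ^ (2 * (k + 1) + 1) = (2 * t + 1) * (2 * t + 1) * (2 * t + 1) ^ (2 * k + 1) := by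
        ring
      have h2 : (2 * t + 1) * (2 * t + 1) * ((2 * t + 1) ^ (2 * k + 1) + 1) =
          (2 * t + 1 + 1) * (s' + 2 * t) := by
        rw [h, ← hs']; ring
      rw [h1]
      nlinarith

theorem mersenne (p f m : ℕ) (hp : p.Prime) (hf : 1 ≤ f) (h : p ^ f + 1 = 2 ^ m) : f = 1 := by
  have hp2 : p ≠ 2 := by
    rintro rfl
    have h1 : Even (2 ^ f) := (Nat.even_pow).2 ⟨even_two, by omega⟩
    have h2 : Odd (2 ^ f + 1) := h1.add_one
    rw [h] at h2
    have hm : m = 0 := by
      by_contra hm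
      exact (Nat.not_odd_iff_even.2 ((Nat.even_pow).2 ⟨even_two, hm⟩)) h2
    rw [hm, pow_zero] at h
    have : 0 < 2 ^ f := by positivity
    omega
  have hodd : Odd p := hp.odd_of_ne_two hp2
  obtain ⟨t, ht⟩ := hodd
  rcases Nat.even_or_odd' f with ⟨g, hg | hg⟩
  · exfalso
    -- p^f = (p^g)^2 ≡ 1 mod 4
    have h1 : Odd (p ^ g) := (hp.odd_of_ne_two hp2).pow
    obtain ⟨u, hu⟩ := h1
    have h2 : p ^ f = 4 * (u * u + u) + 1 := by
      rw [hg, pow_mul', hu]; ring
    rw [h2] at h
    have hm2 : m < 2 := by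
      by_contra hm
      obtain ⟨e, rfl⟩ : ∃ e, m = e + 2 := ⟨m - 2, by omega⟩
      rw [pow_add] at h
      omega
    have hpf : 2 ≤ p ^ f := by
      calc 2 ≤ p := hp.two_le
        _ = p ^ 1 := (pow_one p).symm
        _ ≤ p ^ f := Nat.pow_le_pow_right hp.pos hf
    interval_cases m <;> omega
  · obtain ⟨s, hs, h1⟩ := odd_cofactor t g
    rw [← ht, ← hg, h] at h1
    have h2 : s ∣ 2 ^ m := ⟨p + 1, by rw [h1]; ring⟩
    obtain ⟨j, _, hj⟩ := (Nat.dvd_prime_pow Nat.prime_two).1 h2
    have hj0 : j = 0 := by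
      by_contra hj0
      rw [hj] at hs
      exact (Nat.not_odd_iff_even.2 ((Nat.even_pow).2 ⟨even_two, hj0⟩)) hs
    rw [hj0, pow_zero] at hj
    rw [hj, mul_one, ← h] at h1
    have h3 : p ^ f = p ^ 1 := by rw [pow_one]; omega
    exact Nat.pow_right_injective hp.two_le h3


theorem irr_of_ppd {F : Type*} [Field F] [Fintype F] {V : Type*} [AddCommGroup V] [Module F V]
    [FiniteDimensional F V] (r : ℕ) (hr : r.Prime) (hrq : ¬ r ∣ Fintype.card F) (n : ℕ)
    (hV : Module.finrank F V = n)
    (H : ∀ i, 0 < i → i < n → ¬ r ∣ (Fintype.card F) ^ i - 1)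
    (T : Module.End F V) (hT : T ^ r = 1) (hT1 : T ≠ 1) : Cfsg.Agent.S2388.Irr T := by
  classical
  haveI : Fact r.Prime := ⟨hr⟩
  haveI : Finite V := Module.finite_of_finite F
  obtain ⟨q, hq⟩ : ∃ q, q = Fintype.card F := ⟨_, rfl⟩
  rw [← hq] at hrq H
  have hq1 : 1 ≤ q := by rw [hq]; exact Fintype.card_pos
  have hcardW : ∀ W : Submodule F V, Nat.card W = q ^ Module.finrank F W := by
    intro W
    rw [Module.natCard_eq_pow_finrank (K := F), Nat.card_eq_fintype_card, hq]
  obtain ⟨K, hK⟩ : ∃ K : Submodule F V, K = LinearMap.ker (T - 1) := ⟨_, rfl⟩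
  have hKmem : ∀ v, v ∈ K ↔ T v = v := by
    intro v
    rw [hK, LinearMap.mem_ker, LinearMap.sub_apply, sub_eq_zero]
    rfl
  have key : ∀ W : Submodule F V, (∀ w ∈ W, T w ∈ W) →
      Nat.card W ≡ Nat.card (W ⊓ K : Submodule F V) [MOD r] := by
    intro W hW
    haveI : Fintype W := Fintype.ofFinite _
    let f : Function.End W := fun w => ⟨T w.1, hW _ w.2⟩
    have hfk : ∀ k : ℕ, ∀ w : W, ((f ^ k) w : V) = (T ^ k) w.1 := by
      intro k
      induction k with
      | zero => intro w; rw [pow_zero, pow_zero]; rfl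
      | succ k ih =>
        intro w
        rw [pow_succ', pow_succ']
        show T ((f ^ k) w : V) = _
        rw [ih]
        rfl
    have hf : f ^ r ^ 1 = 1 := by
      rw [pow_one]
      funext w
      apply Subtype.ext
      rw [hfk, hT]
      rfl
    have h1 := Equiv.Perm.card_fixedPoints_modEq hf
    rw [← Nat.card_eq_fintype_card, ← Nat.card_eq_fintype_card] at h1
    refine h1.trans ?_
    have h2 : Nat.card (Function.fixedPoints f) = Nat.card (W ⊓ K : Submodule F V) := by
      refine Nat.card_congr ⟨fun w => ⟨w.1.1, ⟨w.1.2, ?_⟩⟩, fun v => ⟨⟨v.1, v.2.1⟩, ?_⟩, ?_, ?_⟩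
      · have h3 : f w.1 = w.1 := w.2
        have h4 : T w.1.1 = w.1.1 := congrArg Subtype.val h3
        exact (hKmem _).2 h4
      · have h3 : v.1 ∈ K := v.2.2
        rw [hKmem] at h3
        show f ⟨v.1, v.2.1⟩ = ⟨v.1, v.2.1⟩
        apply Subtype.ext
        exact h3
      · intro w; rfl
      · intro v; rfl
    rw [h2]
  have dich : ∀ W : Submodule F V, (∀ w ∈ W, T w ∈ W) →
      W ≤ K ∨ Module.finrank F (W ⊓ K : Submodule F V) + n ≤ Module.finrank F W := by
    intro W hW
    have h1 := key W hW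
    rw [hcardW, hcardW] at h1
    have h2 : Module.finrank F (W ⊓ K : Submodule F V) ≤ Module.finrank F W :=
      Submodule.finrank_mono inf_le_left
    obtain ⟨d, hd⟩ := Nat.exists_eq_add_of_le h2
    rw [hd, pow_add] at h1
    have hcop : Nat.Coprime r q := (Nat.Prime.coprime_iff_not_dvd hr).2 hrq
    have h3 : q ^ d ≡ 1 [MOD r] := by
      apply Nat.ModEq.cancel_left_of_coprime (c := q ^ Module.finrank F (W ⊓ K : Submodule F V))
      · exact Nat.Coprime.pow_right _ hcop
      · rw [mul_one]; exact h1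
    have h4 : r ∣ q ^ d - 1 := (Nat.modEq_iff_dvd' (Nat.one_le_pow _ _ hq1)).1 h3.symm
    rcases Nat.eq_zero_or_pos d with h5 | h5
    · left
      have h6 : (W ⊓ K : Submodule F V) = W :=
        Submodule.eq_of_le_of_finrank_eq inf_le_left (by omega)
      rw [← h6]
      exact inf_le_right
    · right
      by_contra h6
      exact H d h5 (by omega) h4
  have hKbot : K = ⊥ := by
    rcases dich ⊤ (fun _ _ => Submodule.mem_top) with h | h
    · exfalso
      apply hT1
      apply LinearMap.ext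
      intro v
      exact (hKmem v).1 (h Submodule.mem_top)
    · rw [top_inf_eq, finrank_top, hV] at h
      apply Submodule.finrank_eq_zero.1
      omega
  intro W hW
  rcases dich W hW with h | h
  · left
    rw [hKbot] at h
    exact le_bot_iff.1 h
  · right
    apply Submodule.eq_top_of_finrank_eq
    have := Submodule.finrank_le W
    omega

/-- Let F ⊆ K be finite fields with |F| = q and [K : F] = n ≥ 2, regard K as an n-dimensional F-vector space, and let M ≤ GL_F(K) be the Singer group of multiplications by non-zero elements of K (cyclic of order q^n − 1). Assume (n, q) ≠ (6, 2), and that it is not the case that n = 2 with q a prime such that q + 1 is a power of 2. Then every abelian subgroup of GL_F(K) of order q^n − 1 is conjugate to M. -/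
theorem result {F K : Type*} [Field F] [Fintype F] [Field K] [Fintype K] [Algebra F K] (n : ℕ) (hn : 2 ≤ n) (hdim : Module.finrank F K = n)
    (hex1 : ¬ (n = 6 ∧ Fintype.card F = 2))
    (hex2 : ¬ (n = 2 ∧ (Fintype.card F).Prime ∧ ∃ a : ℕ, Fintype.card F + 1 = 2 ^ a))
    (U : Subgroup (Module.End F K)ˣ) (hU : IsMulCommutative U) (hcard : Nat.card U = Fintype.card K - 1) :
    ∃ g : (Module.End F K)ˣ, U.map (MulAut.conj g).toMonoidHom = (Units.map ((Algebra.lmul F K : K →ₐ[F] Module.End F K) : K →* Module.End F K)).range := by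
  classical
  obtain ⟨q, hq⟩ : ∃ q, q = Fintype.card F := ⟨_, rfl⟩
  have hq1 : 1 < q := by rw [hq]; exact Fintype.one_lt_card
  haveI : FiniteDimensional F K := Module.Finite.of_finite
  have hcardK : Fintype.card K = q ^ n := by
    rw [← hdim, hq, ← Nat.card_eq_fintype_card, ← Nat.card_eq_fintype_card]
    exact Module.natCard_eq_pow_finrank
  obtain ⟨p, hpchar⟩ := CharP.exists F
  haveI := hpchar
  haveI : Fact p.Prime := ⟨CharP.char_is_prime F p⟩
  obtain ⟨f, hpp, hf⟩ := FiniteField.card F p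
  have hz2 : ¬ (n = 2 ∧ ∃ m : ℕ, q + 1 = 2 ^ m) := by
    rintro ⟨h2, m, hm⟩
    apply hex2
    refine ⟨h2, ?_, m, by rw [← hq]; exact hm⟩
    have h1 : (f : ℕ) = 1 := mersenne p f m hpp f.pos (by rw [← hf, ← hq]; exact hm)
    rw [hf, h1, pow_one]; exact hpp
  obtain ⟨r, hr, hrd, hrk⟩ := Cfsg.Agent.S2904.result q n hq1 (by omega)
    (by rintro ⟨h1, h2⟩; exact hex1 ⟨h2, by rw [← hq]; exact h1⟩) hz2
  have hqn1 : 1 ≤ q ^ n := Nat.one_le_pow _ _ (by omega)
  have hrq : ¬ r ∣ q := by
    intro h
    have h1 : r ∣ q ^ n := dvd_pow h (by omega)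
    have h2 := Nat.dvd_sub h1 hrd
    have h3 : q ^ n - (q ^ n - 1) = 1 := by omega
    rw [h3] at h2
    exact hr.one_lt.ne' (Nat.dvd_one.1 h2)
  haveI : Fact r.Prime := ⟨hr⟩
  have hUpos : Nat.card U ≠ 0 := by
    rw [hcard, hcardK]
    have h1 : q ^ 1 < q ^ n := Nat.pow_lt_pow_right hq1 (by omega)
    rw [pow_one] at h1
    omega
  haveI : Finite U := Nat.finite_of_card_ne_zero hUpos
  obtain ⟨x, hx⟩ := exists_prime_orderOf_dvd_card' (G := U) r (by rw [hcard, hcardK]; exact hrd)
  obtain ⟨T, hTdef⟩ : ∃ T : Module.End F K, T = x.1.val := ⟨_, rfl⟩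
  have hTr : T ^ r = 1 := by
    have h1 := pow_orderOf_eq_one x
    rw [hx] at h1
    have h2 : (x.1 : (Module.End F K)ˣ) ^ r = 1 := congrArg Subtype.val h1
    have h3 := congrArg Units.val h2
    rw [Units.val_pow_eq_pow_val, Units.val_one] at h3
    rw [hTdef]; exact h3
  have hT1 : T ≠ 1 := by
    intro h
    have h1 : x = 1 := Subtype.ext (Units.ext (by rw [← hTdef, h]; rfl))
    rw [h1, orderOf_one] at hx
    exact hr.one_lt.ne hx
  have hH : ∀ i, 0 < i → i < n → ¬ r ∣ (Fintype.card F) ^ i - 1 := by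
    rw [← hq]; exact hrk
  have hirrT : Cfsg.Agent.S2388.Irr T := irr_of_ppd r hr (by rw [← hq]; exact hrq) n hdim hH T hTr hT1
  have hfirr := Cfsg.Agent.S2388.irr_minpoly_irreducible hirrT
  have hfmon : (minpoly F T).Monic := minpoly.monic (Algebra.IsIntegral.isIntegral T)
  have hfdvd : minpoly F T ∣ (Polynomial.X ^ r - 1 : Polynomial F) := by
    apply minpoly.dvd
    simp [hTr]
  -- a root in K
  obtain ⟨ζ, hζ⟩ : ∃ ζ : K, Polynomial.aeval ζ (minpoly F T) = 0 := by
    have h1 : (Polynomial.X ^ r - 1 : Polynomial F) ∣ Polynomial.X ^ Fintype.card K - Polynomial.X := by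
      obtain ⟨c, hc⟩ := hrd
      have h2 : Fintype.card K = r * c + 1 := by rw [hcardK]; omega
      have h3 := sub_dvd_pow_sub_pow ((Polynomial.X : Polynomial F) ^ r) 1 c
      rw [one_pow, ← pow_mul] at h3
      rw [h2, pow_succ]
      have h4 : (Polynomial.X : Polynomial F) ^ (r * c) * Polynomial.X - Polynomial.X =
          (Polynomial.X ^ (r * c) - 1) * Polynomial.X := by ring
      rw [h4]
      exact Dvd.dvd.mul_right h3 _
    have h2 := Polynomial.IsSplittingField.splits K (Polynomial.X ^ Fintype.card K - Polynomial.X : Polynomial F)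
    have h3 : ((minpoly F T).map (algebraMap F K)) ∣
        ((Polynomial.X ^ Fintype.card K - Polynomial.X : Polynomial F).map (algebraMap F K)) :=
      Polynomial.map_dvd _ (hfdvd.trans h1)
    have h0 : ((Polynomial.X ^ Fintype.card K - Polynomial.X : Polynomial F).map (algebraMap F K)) ≠ 0 := by
      rw [Polynomial.map_sub, Polynomial.map_pow, Polynomial.map_X]
      exact FiniteField.X_pow_card_sub_X_ne_zero K Fintype.one_lt_card
    have h4 := Polynomial.Splits.of_dvd h2 h0 h3
    obtain ⟨ζ, hζ⟩ := h4.exists_eval_eq_zero (by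
      rw [Polynomial.degree_map]
      exact (Polynomial.degree_pos_of_irreducible hfirr).ne')
    refine ⟨ζ, ?_⟩
    rw [Polynomial.eval_map_algebraMap] at hζ
    exact hζ
  obtain ⟨T', hT'def⟩ : ∃ T' : Module.End F K, T' = Algebra.lmul F K ζ := ⟨_, rfl⟩
  have hlinj : Function.Injective (Algebra.lmul F K : K →ₐ[F] Module.End F K) := by
    intro a b hab
    have := congrArg (fun g : Module.End F K => g 1) hab
    simpa using this
  have hμ : minpoly F T = minpoly F T' := by
    rw [hT'def, minpoly.algHom_eq _ hlinj]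
    exact minpoly.eq_of_irreducible_of_monic hfirr hζ hfmon
  have hT'r : T' ^ r = 1 := by
    have h1 : Polynomial.aeval T' (Polynomial.X ^ r - 1 : Polynomial F) = 0 := by
      obtain ⟨c, hc⟩ := hfdvd
      rw [hc, map_mul, hμ, minpoly.aeval, zero_mul]
    simpa [sub_eq_zero] using h1
  have hT'1 : T' ≠ 1 := by
    intro h
    rw [h, minpoly.one] at hμ
    apply hT1
    have h1 := minpoly.aeval F T
    rw [hμ] at h1
    simpa [sub_eq_zero] using h1
  have hirrT' : Cfsg.Agent.S2388.Irr T' := irr_of_ppd r hr (by rw [← hq]; exact hrq) n hdim hH T' hT'r hT'1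
  obtain ⟨e, he⟩ := Cfsg.Agent.S2388.irr_iso hirrT hirrT' hμ
  have he' : ∀ y, e.symm (T' y) = T (e.symm y) := by
    intro y
    apply e.injective
    rw [he, e.apply_symm_apply, e.apply_symm_apply]
  let g : (Module.End F K)ˣ := ⟨e.toLinearMap, e.symm.toLinearMap, by ext; simp, by ext; simp⟩
  refine ⟨g, ?_⟩
  have hle : U.map (MulAut.conj g).toMonoidHom ≤
      (Units.map ((Algebra.lmul F K : K →ₐ[F] Module.End F K) : K →* Module.End F K)).range := by
    rintro _ ⟨u, hu, rfl⟩
    have hcomm : ∀ y, u.val (T y) = T (u.val y) := by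
      intro y
      have h1 := hU.is_comm.comm (⟨u, hu⟩ : U) x
      have h2 : u * x.1 = x.1 * u := congrArg Subtype.val h1
      have h3 := congrArg Units.val h2
      rw [Units.val_mul, Units.val_mul, ← hTdef] at h3
      exact congrArg (fun g : Module.End F K => g y) h3
    obtain ⟨w, hw⟩ : ∃ w : (Module.End F K)ˣ, w = g * u * g⁻¹ := ⟨_, rfl⟩
    have hwv : ∀ y, w.val y = e (u.val (e.symm y)) := by
      intro y
      rw [hw]
      rfl
    have hwT : ∀ y, w.val (T' y) = T' (w.val y) := by
      intro y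
      rw [hwv, hwv, he', hcomm, he]
    have hT'mul : ∀ y, T' y = ζ * y := by
      intro y
      rw [hT'def]
      rfl
    have hd : w.val = Algebra.lmul F K (w.val 1) := by
      have h1 : ∀ y ∈ LinearMap.ker (w.val - Algebra.lmul F K (w.val 1)),
          T' y ∈ LinearMap.ker (w.val - Algebra.lmul F K (w.val 1)) := by
        intro y hy
        rw [LinearMap.mem_ker, LinearMap.sub_apply, sub_eq_zero] at hy ⊢
        rw [hwT, hy, hT'mul, hT'mul]
        show ζ * (w.val 1 * y) = w.val 1 * (ζ * y)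
        ring
      rcases hirrT' _ h1 with h2 | h2
      · exfalso
        have h3 : (1 : K) ∈ LinearMap.ker (w.val - Algebra.lmul F K (w.val 1)) := by
          rw [LinearMap.mem_ker, LinearMap.sub_apply, sub_eq_zero]
          show w.val 1 = w.val 1 * 1
          rw [mul_one]
        rw [h2, Submodule.mem_bot] at h3
        exact one_ne_zero h3
      · rw [LinearMap.ker_eq_top, sub_eq_zero] at h2
        exact h2
    have hk0 : w.val 1 ≠ 0 := by
      intro h0
      rw [h0, map_zero] at hd
      exact w.ne_zero hd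
    refine ⟨Units.mk0 _ hk0, ?_⟩
    apply Units.ext
    show Algebra.lmul F K (w.val 1) = (g * u * g⁻¹).val
    rw [← hd, hw]
  haveI : Finite (Units.map ((Algebra.lmul F K : K →ₐ[F] Module.End F K) : K →* Module.End F K)).range :=
    Set.finite_range _
  apply Subgroup.eq_of_le_of_card_ge hle
  rw [Subgroup.card_map_of_injective (MulAut.conj g).injective, hcard]
  have hinj : Function.Injective
      (Units.map ((Algebra.lmul F K : K →ₐ[F] Module.End F K) : K →* Module.End F K)) := by
    intro a b hab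
    apply Units.ext
    apply hlinj
    exact congrArg Units.val hab
  rw [← Nat.card_congr (MonoidHom.ofInjective hinj).toEquiv, Nat.card_eq_fintype_card, Fintype.card_units]

end Cfsg.Agent.S5947
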